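import Cfsg.Agent.LargeFischer.MatPoints

/-! An automorphism preserving the pairs comes from a permutation preserving the code. -/

set_option autoImplicit false
set_option maxRecDepth 20000
set_option Elab.async false

open Finset Cfsg Cfsg.Agent

namespace Cfsg.Agent.LargeFischer

theorem self11 (w : W11) : w + w = 0 := funext fun _ => (show ∀ p : ZMod 2, p + p = 0 by decide) _

theorem eq_of_add11 {v w : W11} (h : v + w = 0) : v = w := by
  calc v = v + (w + w) := by rw [self11, add_zero]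
    _ = w := by rw [← add_assoc, h, zero_add]

theorem xor_lt11 {a b : ℕ} (ha : a < 2048) (hb : b < 2048) : a ^^^ b < 2048 := Nat.xor_lt_two_pow (n := 11) ha hb

theorem bv_zero : bv 0 = 0 := funext fun _ => by simp [bv, tb]

theorem pt_ne {i j : GolayPt} (h : i ≠ j) : pt i + pt j ≠ 0 := by
  obtain ⟨a, rfl⟩ := Compute.e24.surjective i
  obtain ⟨b, rfl⟩ := Compute.e24.surjective j
  have hab : a ≠ b := fun e => h (by rw [e])
  have hn : vp24 a ^^^ vp24 b ≠ 0 := by
    have hl : vp24 a ^^^ vp24 b < 2048 := xor_lt11 (pn_e24 a ▸ pn_lt _) (pn_e24 b ▸ pn_lt _)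
    exact ((tmask_spec hl).1 (duad_mem a b hab)).1
  rw [pt, pt, pn_e24, pn_e24, ← bv_xor, ← bv_zero]
  exact fun e => hn (bv_inj (xor_lt11 (pn_e24 a ▸ pn_lt _) (pn_e24 b ▸ pn_lt _)) (by norm_num) e)

theorem pt_inj {i j : GolayPt} (h : pt i = pt j) : i = j := by
  by_contra hne
  exact pt_ne hne (by rw [h]; exact self11 _)

/-- a pair of points as a vector -/
def IsDuad (w : W11) : Prop := ∃ i j : GolayPt, i ≠ j ∧ w = pt i + pt j

theorem four_ne {i j k l : GolayPt} (hij : i ≠ j) (hkl : k ≠ l) (hik : i ≠ k) (hil : i ≠ l) (hjk : j ≠ k)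
    (hjl : j ≠ l) : pt i + pt j + (pt k + pt l) ≠ 0 ∧ ¬IsDuad (pt i + pt j + (pt k + pt l)) := by
  obtain ⟨a, rfl⟩ := Compute.e24.surjective i
  obtain ⟨b, rfl⟩ := Compute.e24.surjective j
  obtain ⟨c, rfl⟩ := Compute.e24.surjective k
  obtain ⟨d, rfl⟩ := Compute.e24.surjective l
  have hl : ∀ u, vp24 u < 2048 := fun u => pn_e24 u ▸ pn_lt _
  have hlt := xor_lt11 (xor_lt11 (hl a) (hl b)) (xor_lt11 (hl c) (hl d))
  obtain ⟨h1, h2⟩ := duad_four (i := a) (j := b) (k := c) (l := d) (fun e => hij (by rw [e])) (fun e => hkl (by rw [e])) (fun e => hik (by rw [e]))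
    (fun e => hil (by rw [e])) (fun e => hjk (by rw [e])) (fun e => hjl (by rw [e]))
  rw [pt, pt, pt, pt, pn_e24, pn_e24, pn_e24, pn_e24, ← bv_xor, ← bv_xor, ← bv_xor]
  refine ⟨fun e => h1 (bv_inj hlt (by norm_num) (e.trans bv_zero.symm)), ?_⟩
  rintro ⟨p, q, hpq, e⟩
  obtain ⟨u, rfl⟩ := Compute.e24.surjective p
  obtain ⟨v, rfl⟩ := Compute.e24.surjective q
  rw [pt, pt, pn_e24, pn_e24, ← bv_xor] at e
  have := duad_mem u v fun e => hpq (by rw [e])
  rw [← bv_inj hlt (xor_lt11 (hl u) (hl v)) e, h2] at this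
  exact Bool.noConfusion this

theorem pair_eq {i j k l : GolayPt} (hij : i ≠ j) (hkl : k ≠ l) (h : pt i + pt j = pt k + pt l) :
    (i = k ∧ j = l) ∨ (i = l ∧ j = k) := by
  by_cases hik : i = k
  · exact Or.inl ⟨hik, pt_inj (add_left_cancel (hik ▸ h))⟩
  by_cases hil : i = l
  · subst hil
    exact Or.inr ⟨rfl, pt_inj (add_left_cancel (h.trans (add_comm _ _)))⟩
  by_cases hjk : j = k
  · subst hjk
    exact absurd (pt_inj (add_right_cancel (h.trans (add_comm _ _)))) hil
  by_cases hjl : j = l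
  · subst hjl
    exact absurd (pt_inj (add_right_cancel h)) hik
  exact absurd (by rw [h]; exact self11 _) (four_ne hij hkl hik hil hjk hjl).1

/-- two pairs with a pair as sum share a point -/
theorem share {i j k l : GolayPt} (hij : i ≠ j) (hkl : k ≠ l) (h : IsDuad (pt i + pt j + (pt k + pt l))) :
    i = k ∨ i = l ∨ j = k ∨ j = l := by
  by_contra hne
  push Not at hne
  exact (four_ne hij hkl hne.1 hne.2.1 hne.2.2.1 hne.2.2.2).2 h

variable {τ : W11 →+ W11} (hinj : Function.Injective τ) (hd : ∀ i j : GolayPt, i ≠ j → IsDuad (τ (pt i + pt j)))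
include hinj hd

theorem exists_image (i : GolayPt) : ∃ p, ∀ l, l ≠ i → ∃ q, q ≠ p ∧ τ (pt i + pt l) = pt p + pt q := by
  obtain ⟨j, k, hji, hki, hjk⟩ : ∃ j k : GolayPt, j ≠ i ∧ k ≠ i ∧ j ≠ k :=
    (show ∀ i : GolayPt, ∃ j k : GolayPt, j ≠ i ∧ k ≠ i ∧ j ≠ k by decide +kernel) i
  obtain ⟨a, b, hab, e1⟩ := hd i j hji.symm
  obtain ⟨c, d, hcd, e2⟩ := hd i k hki.symm
  have hsum : ∀ l m, τ (pt i + pt l) + τ (pt i + pt m) = τ (pt l + pt m) := fun l m => by
    rw [← map_add, show pt i + pt l + (pt i + pt m) = (pt i + pt i) + (pt l + pt m) by abel, self11, zero_add]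
  -- a common point
  obtain ⟨p, q, r, hqp, hrp, hqr, e1', e2'⟩ : ∃ p q r : GolayPt, q ≠ p ∧ r ≠ p ∧ q ≠ r ∧
      τ (pt i + pt j) = pt p + pt q ∧ τ (pt i + pt k) = pt p + pt r := by
    have hne : τ (pt i + pt j) ≠ τ (pt i + pt k) := fun e => hjk (pt_inj (add_left_cancel (hinj e)))
    have h : IsDuad (pt a + pt b + (pt c + pt d)) := by rw [← e1, ← e2, hsum]; exact hd j k hjk
    rcases share hab hcd h with rfl | rfl | rfl | rfl
    · exact ⟨a, b, d, hab.symm, hcd.symm, fun e => hne (by rw [e1, e2, e]), e1, e2⟩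
    · exact ⟨a, b, c, hab.symm, hcd, fun e => hne (by rw [e1, e2, e, add_comm]), e1, by rw [e2, add_comm]⟩
    · exact ⟨b, a, d, hab, hcd.symm, fun e => hne (by rw [e1, e2, e, add_comm]), by rw [e1, add_comm], e2⟩
    · exact ⟨b, a, c, hab, hcd, fun e => hne (by rw [e1, e2, e]), by rw [e1, add_comm], by rw [e2, add_comm]⟩
  refine ⟨p, fun l hl => ?_⟩
  obtain ⟨u, v, huv, e3⟩ := hd i l hl.symm
  by_cases hlj : l = j
  · exact ⟨q, hqp, hlj ▸ e1'⟩
  by_cases hlk : l = k
  · exact ⟨r, hrp, hlk ▸ e2'⟩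
  by_cases hup : u = p
  · exact ⟨v, hup ▸ huv.symm, hup ▸ e3⟩
  by_cases hvp : v = p
  · exact ⟨u, hup, by rw [e3, hvp, add_comm]⟩
  exfalso
  have s1 := share huv hqp.symm (by rw [← e3, ← e1', hsum]; exact hd l j hlj)
  have s2 := share huv hrp.symm (by rw [← e3, ← e2', hsum]; exact hd l k hlk)
  have hq : u = q ∨ v = q := by rcases s1 with h | h | h | h <;> [exact absurd h hup; exact Or.inl h; exact absurd h hvp; exact Or.inr h]
  have hr : u = r ∨ v = r := by rcases s2 with h | h | h | h <;> [exact absurd h hup; exact Or.inl h; exact absurd h hvp; exact Or.inr h]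
  have he : τ (pt i + pt l) = τ (pt j + pt k) := by
    rw [e3, ← hsum j k, e1', e2', show pt p + pt q + (pt p + pt r) = (pt p + pt p) + (pt q + pt r) by abel, self11, zero_add]
    rcases hq with rfl | rfl <;> rcases hr with rfl | rfl
    · exact absurd rfl hqr
    · rfl
    · exact add_comm _ _
    · exact absurd rfl hqr
  rcases pair_eq hl.symm hjk (hinj he) with ⟨h, -⟩ | ⟨h, -⟩
  · exact hji h.symm
  · exact hki h.symm

/-- the permutation behind an automorphism preserving pairs -/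
theorem exists_perm : ∃ π ∈ M24, ∀ i j : GolayPt, τ (pt i + pt j) = pt (π i) + pt (π j) := by
  choose p hp using exists_image hinj hd
  have hinjp : Function.Injective p := by
    intro i l hil
    by_contra hne
    obtain ⟨m, hmi, hml⟩ : ∃ m : GolayPt, m ≠ i ∧ m ≠ l :=
      (show ∀ i l : GolayPt, ∃ m : GolayPt, m ≠ i ∧ m ≠ l by decide +kernel) i l
    obtain ⟨q, hq, eq⟩ := hp i l (Ne.symm hne)
    obtain ⟨r, hr, er⟩ := hp i m hmi
    obtain ⟨s, hs, es⟩ := hp l m hml
    rw [← hil] at hs es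
    have e : pt (p i) + pt q = pt r + pt s := by
      rw [← eq, show pt i + pt l = (pt i + pt m) + (pt l + pt m) by
        rw [show pt i + pt m + (pt l + pt m) = pt i + pt l + (pt m + pt m) by abel, self11, add_zero], map_add, er, es,
        show pt (p i) + pt r + (pt (p i) + pt s) = (pt (p i) + pt (p i)) + (pt r + pt s) by abel, self11, zero_add]
    by_cases hrs : r = s
    · rw [hrs, self11] at e
      exact pt_ne hq.symm e
    rcases pair_eq hq.symm hrs e with ⟨h, -⟩ | ⟨h, -⟩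
    · exact hr h.symm
    · exact hs h.symm
  let π : Equiv.Perm GolayPt := Equiv.ofBijective p (Finite.injective_iff_bijective.1 hinjp)
  have hπ : ∀ i j, τ (pt i + pt j) = pt (π i) + pt (π j) := by
    intro i j
    change _ = pt (p i) + pt (p j)
    by_cases hij : i = j
    · subst hij
      rw [self11, self11, map_zero]
    obtain ⟨q, hq, eq⟩ := hp i j (Ne.symm hij)
    obtain ⟨r, hr, er⟩ := hp j i hij
    rw [add_comm] at er
    rcases pair_eq hq.symm hr.symm (eq.symm.trans er) with ⟨h, -⟩ | ⟨h, h'⟩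
    · exact absurd (hinjp h) hij
    · rw [eq, h']
  refine ⟨π, (Compute.mem_M24_iff_words π).2 fun w hw => ?_, hπ⟩
  refine code_of_psum ?_
  obtain ⟨h1, h2⟩ := Prod.ext_iff.1 (psum_code hw)
  simp only [psum, Prod.fst_zero, Prod.snd_zero] at h1 h2
  have hs : ∑ i, (w ∘ π.symm) i = 0 := by rw [← h2]; exact Equiv.sum_comp π.symm w
  have hv : ∑ i, (w ∘ π.symm) i • pt i = 0 := by
    rw [← Equiv.sum_comp π (fun i => (w ∘ π.symm) i • pt i)]
    simp only [Function.comp_apply, Equiv.symm_apply_apply]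
    have h3 : τ (∑ i, w i • (pt i + pt none)) = ∑ i, w i • (pt (π i) + pt (π none)) := by
      rw [map_sum]
      refine Finset.sum_congr rfl fun i _ => ?_
      rw [← hπ]
      exact ZMod.map_smul τ _ _
    simp only [smul_add, Finset.sum_add_distrib, ← Finset.sum_smul, h1, h2, zero_smul, add_zero, map_zero] at h3
    exact h3.symm
  exact Prod.ext hv hs

omit hinj hd in
theorem perm_unique {π π' : Equiv.Perm GolayPt} (h : ∀ i j, pt (π i) + pt (π j) = pt (π' i) + pt (π' j)) : π = π' := by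
  refine Equiv.ext fun i => ?_
  obtain ⟨j, k, hji, hki, hjk⟩ : ∃ j k : GolayPt, j ≠ i ∧ k ≠ i ∧ j ≠ k :=
    (show ∀ i : GolayPt, ∃ j k : GolayPt, j ≠ i ∧ k ≠ i ∧ j ≠ k by decide +kernel) i
  rcases pair_eq (π.injective.ne hji.symm) (π'.injective.ne hji.symm) (h i j) with ⟨e, -⟩ | ⟨e, -⟩
  · exact e
  rcases pair_eq (π.injective.ne hki.symm) (π'.injective.ne hki.symm) (h i k) with ⟨e', -⟩ | ⟨e', -⟩
  · exact e'
  exact absurd (π'.injective (e.symm.trans e')) hjk

omit hinj hd in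
theorem basis_points : ∀ j : Fin 11, ∀ i : Fin 11, (Pi.single j 1 : W11) i =
    ((![[0], [1], [0, 1, 4, 5, 7, 8, 9], [0, 1, 4, 5, 7, 8, 10], [2, 3, 4, 6, 8, 10], [1, 2, 4, 5, 6, 8, 9], [0, 1, 2], [0, 1, 2, 5, 6, 7, 9, 10], [2, 4, 5, 8, 9, 10], [0, 1, 2, 3, 6, 8, 10], [0, 1, 2, 3, 4, 5, 6, 7, 9]] : Fin 11 → List (Fin 24)) j |>.map
      fun k => (pt (Compute.e24 k) + pt none) i).sum := by decide +kernel

omit hinj hd in
theorem span_duads {K : AddSubgroup W11} (hK : ∀ i : GolayPt, pt i + pt none ∈ K) (w : W11) : w ∈ K := by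
  have hb : ∀ j, (Pi.single j 1 : W11) ∈ K := fun j => by
    set l := ((![[0], [1], [0, 1, 4, 5, 7, 8, 9], [0, 1, 4, 5, 7, 8, 10], [2, 3, 4, 6, 8, 10], [1, 2, 4, 5, 6, 8, 9], [0, 1, 2], [0, 1, 2, 5, 6, 7, 9, 10], [2, 4, 5, 8, 9, 10], [0, 1, 2, 3, 6, 8, 10], [0, 1, 2, 3, 4, 5, 6, 7, 9]] : Fin 11 → List (Fin 24)) j)
    have e : (Pi.single j 1 : W11) = (l.map fun k => pt (Compute.e24 k) + pt none).sum := funext fun i => by
      have hgen : ∀ l : List (Fin 24), (l.map fun k => pt (Compute.e24 k) + pt none).sum i =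
          (l.map fun k => (pt (Compute.e24 k) + pt none) i).sum := by
        intro l
        induction l with
        | nil => rfl
        | cons k l ih => rw [List.map_cons, List.sum_cons, Pi.add_apply, ih, List.map_cons, List.sum_cons]
      exact (basis_points j i).trans (hgen _).symm
    rw [e]
    exact list_sum_mem fun v hv => by
      obtain ⟨k, -, rfl⟩ := List.mem_map.1 hv
      exact hK _
  rw [show w = ∑ j, w j • (Pi.single j 1 : W11) from funext fun i => by simp [Pi.single_apply]]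
  refine sum_mem fun j _ => ?_
  rcases (show ∀ c : ZMod 2, c = 0 ∨ c = 1 by decide) (w j) with e | e <;> rw [e]
  · rw [zero_smul]; exact K.zero_mem
  · rw [one_smul]; exact hb j

end Cfsg.Agent.LargeFischer
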