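import Cfsg.Agent.LargeFischer.StabA

/-! The stabiliser of a class in the smaller orbit is the orthogonal group in dimension six. -/

set_option autoImplicit false
set_option maxRecDepth 20000
set_option Elab.async false

open Finset Cfsg Cfsg.Agent
open Cfsg.Agent.ThreeTrans.SU32 (F4)

namespace Cfsg.Agent.LargeFischer

theorem center_SU4 : Subgroup.center (Cfsg.SU 4 F4 2) = ⊥ :=
  Subgroup.eq_bot_of_card_eq _ (by
    rw [Classical.card_center_SU F4.frob_invol F4.frob_pow F4.card_fix (by norm_num)]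
    norm_num)

/-- the special unitary group is the simple one -/
noncomputable def su4Equiv : Cfsg.SU 4 F4 2 ≃* PSU 4 F4 2 :=
  MulEquiv.ofBijective (QuotientGroup.mk' (Subgroup.center (Cfsg.SU 4 F4 2)))
    ⟨(MonoidHom.ker_eq_bot_iff _).1 (by rw [QuotientGroup.ker_mk', center_SU4]), QuotientGroup.mk'_surjective _⟩

theorem card_SU4 : Nat.card (Cfsg.SU 4 F4 2) = 25920 := by
  rw [Nat.card_congr su4Equiv.toEquiv, ThreeTrans.card_psu_four F4.card_eq]

theorem simple_SU4 : IsSimpleGroup (Cfsg.SU 4 F4 2) := by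
  have := Classical.isSimpleGroup_psu (F := F4) (q := 2) (by rw [F4.card_eq]; norm_num) 4 (by norm_num) (by norm_num)
  exact su4Equiv.isSimpleGroup

namespace Data

variable {G : Type*} [Group G] [Finite G] {z : G}
  {Q : Subgroup (Subgroup.centralizer ({z} : Set G))} [Q.Normal] (D : Data z Q)
include D

theorem stab_iso_srep (hF : IsOfLargeFischerTypeAt z Q) :
    Nonempty (↥((D.fixer (srep 0)).map (QuotientGroup.mk' Q)) ≃*
      Cfsg.isometryGroup (ZMod 2) (Cfsg.quadFormMinus 2 (ZMod 2) 1 1)) := by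
  classical
  have hv0 : srep 0 ≠ 0 ∧ par (srep 0) = 0 := by decide +kernel
  have hA0 : InA D.c (srep 0) := Or.inl (sc_srep 0)
  set Sb := (D.fixer (srep 0)).map (QuotientGroup.mk' Q) with hSb
  have hSc : Nat.card ↥Sb = 51840 := D.card_fixerA hv0.1 hv0.2 hA0
  set L0 : Subgroup ↥Sb := (D.S0.map (QuotientGroup.mk' Q)).subgroupOf Sb with hL0
  have hle : D.S0.map (QuotientGroup.mk' Q) ≤ Sb := Subgroup.map_mono inf_le_left
  -- an element outside
  obtain ⟨a0, ha0, ha0L⟩ : ∃ a, a ∈ D.fixer (srep 0) ∧ a ∉ D.Lin := by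
    obtain ⟨h, hh⟩ := D.exists_anti hF
    have hL : h ∉ D.Lin := fun hl => by
      have hv : (srep 0 : Vec6) ≠ 0 := hv0.1
      have e := (hl (srep 0)).symm.trans (hh (srep 0))
      have e2 : cact D.F h (srep 0) = 0 := funext fun i =>
        (show ∀ p : W4, omk 1 p = omk 2 p → p = 0 by decide) _ (congrFun e i)
      exact hv (cact_inj D.F h (e2.trans (cact_zero D.F h).symm))
    have := D.norm
    obtain ⟨m, hm, hmv⟩ := (mem_orb D.F).1 ((D.orb_iff (cact D.F h (srep 0))
      (fun e => hv0.1 (cact_inj D.F h (e.trans (cact_zero D.F h).symm)))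
      ((cact_par D.b D.F h _).trans hv0.2) (srep 0)).2 ⟨hv0.1, hv0.2,
        (inA_cact D.b D.F D.hind D.orb_iff h hv0.1 hv0.2).symm⟩)
    exact ⟨m * h, show cact D.F (m * h) (srep 0) = srep 0 by rw [cact_mul, hmv],
      fun e => hL (by have := D.Lin.mul_mem (D.Lin.inv_mem (D.M_le_Lin hm)) e; rwa [inv_mul_cancel_left] at this)⟩
  have hmemL : ∀ h : Subgroup.centralizer ({z} : Set G), h ∈ D.fixer (srep 0) →
      ((h : _ ⧸ Q) ∈ D.S0.map (QuotientGroup.mk' Q) ↔ h ∈ D.Lin) := by
    intro h hh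
    refine ⟨?_, fun hl => ⟨h, ⟨hh, hl⟩, rfl⟩⟩
    rintro ⟨s, hs, e⟩
    have := QuotientGroup.eq.1 e
    have h2 := D.Lin.mul_mem hs.2 (D.Q_le_Lin this)
    rwa [mul_inv_cancel_left] at h2
  -- index two
  have hidx : L0.index = 2 := by
    rw [Subgroup.index_eq_two_iff]
    refine ⟨⟨(a0 : _ ⧸ Q), ⟨a0, ha0, rfl⟩⟩, fun b => ?_⟩
    obtain ⟨_, ⟨h, hh, rfl⟩⟩ := b
    simp only [hL0, Subgroup.mem_subgroupOf, Subgroup.coe_mul]
    rw [QuotientGroup.mk'_apply, ← QuotientGroup.mk_mul, hmemL _ ((D.fixer _).mul_mem hh ha0), hmemL h hh]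
    by_cases hl : h ∈ D.Lin
    · exact Or.inr ⟨hl, fun e => ha0L (by have := D.Lin.mul_mem (D.Lin.inv_mem hl) e; rwa [inv_mul_cancel_left] at this)⟩
    · exact Or.inl ⟨D.mul_Lin hl ha0L, hl⟩
  have hLc : Nat.card ↥L0 = 25920 := by
    have := L0.card_mul_index
    rw [hidx, hSc] at this
    omega
  have hLn : L0.Normal := Subgroup.normal_of_index_eq_two hidx
  -- the linear part
  let κ : ↥D.S0 →* ↥L0 := MonoidHom.mk' (fun h => ⟨⟨((h : Subgroup.centralizer ({z} : Set G)) : _ ⧸ Q),
      hle ⟨_, h.2, rfl⟩⟩, ⟨_, h.2, rfl⟩⟩) fun a b => rfl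
  have hκ : Function.Surjective κ := by
    rintro ⟨⟨x, hx⟩, s, hs, e⟩
    exact ⟨⟨s, hs⟩, Subtype.ext (Subtype.ext e)⟩
  have hker_le : κ.ker ≤ D.toSU.ker := by
    intro h hh
    have hq : (h : Subgroup.centralizer ({z} : Set G)) ∈ Q :=
      (QuotientGroup.eq_one_iff _).1 (congrArg (fun x : ↥L0 => ((x : ↥Sb) : _ ⧸ Q)) hh)
    have h1 : D.mat h = 1 := by
      rw [← D.mat_one]
      ext i j
      rw [mat, mat, Matrix.of_apply, Matrix.of_apply, cact_one, cact_eq D.F (a' := Pi.single (up j) (1, 0))]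
      rw [show actV Q (h : Subgroup.centralizer ({z} : Set G)) = 1 from
        MonoidHom.mem_ker.1 (by rw [actV_ker D.b]; exact hq)]
      rfl
    refine Subtype.ext (Subtype.ext ?_)
    show (D.mat h).det⁻¹ • D.mat h = 1
    rw [h1, Matrix.det_one, inv_one, one_smul]
  let ψ : ↥L0 →* Cfsg.SU 4 F4 2 := κ.liftOfSurjective hκ ⟨D.toSU, hker_le⟩
  have hψ : ∀ h, ψ (κ h) = D.toSU h := fun h => MonoidHom.liftOfRightInverse_comp_apply _ _ _ ⟨D.toSU, hker_le⟩ h
  have hψker : Nat.card ↥ψ.ker ≤ 2 := by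
    have hrep : ∀ x : ψ.ker, ∃ h : D.S0, κ h = x := fun x => hκ x
    choose r hr using hrep
    have hk : ∀ x, D.toSU (r x) = 1 := fun x => by rw [← hψ, hr]; exact x.2
    have hinj : Function.Injective fun x : ψ.ker =>
        decide (cact D.F (r x : Subgroup.centralizer ({z} : Set G)) (Pi.single (0 : Fin 6) ((1, 0) : W4)) = Pi.single (0 : Fin 6) ((1, 0) : W4)) := by
      intro x y h
      simp only [decide_eq_decide] at h
      refine Subtype.ext ?_
      rw [← hr x, ← hr y]
      refine Subtype.ext (Subtype.ext (QuotientGroup.eq.2 ?_))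
      refine (actV_ker D.b).le (MonoidHom.mem_ker.2 ?_)
      rw [map_mul, map_inv, inv_mul_eq_one]
      refine MulEquiv.ext fun v => ?_
      obtain ⟨c, rfl⟩ := D.F.bij.2 v
      rw [← co_cact, ← co_cact]
      congr 1
      obtain ⟨hx1, hx2⟩ := D.toSU_ker _ (hk x)
      obtain ⟨hy1, hy2⟩ := D.toSU_ker _ (hk y)
      have hne : (Pi.single (0 : Fin 6) ((1, 0) : W4) : Vec6) ≠ Pi.single (1 : Fin 6) ((1, 0) : W4) := by decide +kernel
      have hbase : ∀ i : Fin 6, cact D.F (r x : Subgroup.centralizer ({z} : Set G)) (Pi.single i (1, 0)) =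
          cact D.F (r y : Subgroup.centralizer ({z} : Set G)) (Pi.single i (1, 0)) := by
        intro i
        rcases (show ∀ i : Fin 6, i = 0 ∨ i = 1 ∨ ∃ k, i = up k by decide +kernel) i with rfl | rfl | ⟨k, rfl⟩
        · rcases hx2 with ⟨a1, -⟩ | ⟨a1, -⟩ <;> rcases hy2 with ⟨b1, -⟩ | ⟨b1, -⟩
          · rw [a1, b1]
          · exact absurd ((h.1 a1).symm.trans b1) hne
          · exact absurd ((h.2 b1).symm.trans a1) hne
          · rw [a1, b1]
        · rcases hx2 with ⟨a1, a2⟩ | ⟨a1, a2⟩ <;> rcases hy2 with ⟨b1, b2⟩ | ⟨b1, b2⟩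
          · rw [a2, b2]
          · exact absurd ((h.1 a1).symm.trans b1) hne
          · exact absurd ((h.2 b1).symm.trans a1) hne
          · rw [a2, b2]
        · rw [hx1, hy1]
      let A : D.S0 → Vec6 →+ Vec6 := fun g => AddMonoidHom.mk'
        (cact D.F (g : Subgroup.centralizer ({z} : Set G))) (cact_add D.F _)
      show A (r x) c = A (r y) c
      rw [← Finset.univ_sum_single c, map_sum, map_sum]
      refine sum_congr rfl fun i _ => ?_
      show cact D.F _ _ = cact D.F _ _
      rcases w4_facts.2.2.2.2 (c i) with e | e | e | e <;> rw [e]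
      · rw [Pi.single_zero, cact_zero, cact_zero]
      · exact hbase i
      · rw [(show ∀ i : Fin 6, (Pi.single i (om (1, 0)) : Vec6) = sm 1 (Pi.single i (1, 0)) by decide +kernel) i,
          D.mem_Lin.1 (r x).2.2, D.mem_Lin.1 (r y).2.2, hbase]
      · rw [(show ∀ i : Fin 6, (Pi.single i (om (om (1, 0))) : Vec6) = sm 1 (sm 1 (Pi.single i (1, 0))) by decide +kernel) i,
          D.mem_Lin.1 (r x).2.2, D.mem_Lin.1 (r y).2.2, D.mem_Lin.1 (r x).2.2, D.mem_Lin.1 (r y).2.2, hbase]
    exact (Nat.card_le_card_of_injective _ hinj).trans (by simp)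
  have hψbij : Function.Bijective ψ := by
    have hs := simple_SU4
    have h1 := ψ.ker.card_mul_index
    rw [Subgroup.index_ker, hLc] at h1
    have h2 := ψ.range.card_mul_index
    rw [card_SU4] at h2
    have hi : ψ.range.index ≤ 2 := by
      have := Nat.mul_le_mul hψker (le_refl (Nat.card ↥ψ.range))
      by_contra h
      have := Nat.mul_le_mul (le_refl (Nat.card ↥ψ.range)) (show 3 ≤ ψ.range.index by omega)
      omega
    have htop : ψ.range = ⊤ := by
      rcases (show ψ.range.index = 1 ∨ ψ.range.index = 2 by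
        have : ψ.range.index ≠ 0 := Subgroup.index_ne_zero_of_finite
        omega) with h | h
      · exact Subgroup.index_eq_one.1 h
      · rcases (Subgroup.normal_of_index_eq_two h).eq_bot_or_eq_top with e | e
        · rw [e, Subgroup.index_bot, card_SU4] at h; omega
        · exact e
    refine (Nat.bijective_iff_surjective_and_card ψ).2 ⟨MonoidHom.range_eq_top.1 htop, ?_⟩
    rw [hLc, card_SU4]
  let eL : ↥L0 ≃* PSU 4 F4 2 := (MulEquiv.ofBijective ψ hψbij).trans su4Equiv
  obtain ⟨eO⟩ := ThreeTrans.mulAut_psu_four_equiv F4.card_eq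
  let f : ↥Sb →* MulAut ↥L0 := MulAut.conjNormal
  have hinj : Function.Injective f := by
    refine (injective_iff_map_eq_one f).2 fun a ha => ?_
    have hcomm : ∀ l : ↥L0, a * (l : ↥Sb) = l * a := fun l => by
      have := congrArg Subtype.val (DFunLike.congr_fun ha l)
      rw [MulAut.one_apply, MulAut.conjNormal_apply] at this
      exact mul_inv_eq_iff_eq_mul.1 this
    have haL : a ∈ L0 := by
      by_contra hL
      obtain ⟨_, ⟨h, hh, rfl⟩⟩ := a
      have hl : h ∉ D.Lin := fun e => hL ((hmemL h hh).2 e)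
      obtain ⟨m, hm, hmc⟩ := D.F.diag (fun i => if i = 2 ∨ i = 3 ∨ i = 4 then 1 else 0) (by decide +kernel)
      have hmS : m ∈ D.S0 := ⟨cact_eq D.F ((hmc _).trans (congrArg D.F.co (by decide +kernel))), D.M_le_Lin hm⟩
      have h1 := congrArg (fun x : ↥Sb => (x : _ ⧸ Q)) (hcomm (κ ⟨m, hmS⟩))
      simp only [Subgroup.coe_mul] at h1
      have hq : actV Q (h * m) = actV Q (m * h) := by
        obtain ⟨Φ, -, hΦ⟩ := D.exists_faithful
        rw [← hΦ, ← hΦ]
        exact congrArg Φ h1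
      have hc : ∀ c, cact D.F h (cact D.F m c) = cact D.F m (cact D.F h c) := fun c => by
        rw [← cact_mul, ← cact_mul]
        exact D.F.bij.1 (by rw [co_cact, co_cact, hq])
      set x : Vec6 := Pi.single 2 (1, 0) with hx
      have e := hc x
      rw [cact_eq D.F (hmc x), cact_eq D.F (hmc _), show dg (fun i => if i = 2 ∨ i = 3 ∨ i = 4 then 1 else 0) x = sm 1 x by
        rw [hx]; decide +kernel, D.sm_two hl] at e
      have hy : cact D.F h x = 0 := funext fun i => by
        have := congrFun e i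
        simp only [sm, dg] at this
        split_ifs at this
        · exact (show ∀ p : W4, omk 2 p = omk 1 p → p = 0 by decide) _ this
        · exact (show ∀ p : W4, omk 2 p = omk 0 p → p = 0 by decide) _ this
      have : x = 0 := cact_inj D.F h (hy.trans (cact_zero D.F h).symm)
      exact absurd (congrFun this 2) (by simp [hx])
    have hc : (⟨a, haL⟩ : ↥L0) ∈ Subgroup.center ↥L0 :=
      Subgroup.mem_center_iff.2 fun l => Subtype.ext (hcomm l).symm
    have hbot : Subgroup.center ↥L0 = ⊥ := by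
      have := simple_SU4
      have hs : IsSimpleGroup ↥L0 := (MulEquiv.ofBijective ψ hψbij).isSimpleGroup
      rcases (inferInstance : (Subgroup.center ↥L0).Normal).eq_bot_or_eq_top with e | e
      · exact e
      · exfalso
        have hpr : (Nat.card ↥L0).Prime := by
          have hcm : ∀ x y : ↥L0, x * y = y * x := fun x y =>
            (Subgroup.mem_center_iff.1 (e ▸ Subgroup.mem_top x) y).symm
          letI : CommGroup ↥L0 := { (inferInstance : Group ↥L0) with mul_comm := hcm }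
          exact IsSimpleGroup.prime_card
        rw [hLc] at hpr
        norm_num at hpr
    rw [hbot, Subgroup.mem_bot] at hc
    exact congrArg Subtype.val hc
  have hAut : Nat.card (MulAut ↥L0) = 51840 := by
    rw [Nat.card_congr (MulAut.congr eL).toEquiv, ThreeTrans.card_mulAut_psu_four F4.card_eq]
  have : Finite (MulAut ↥L0) := Nat.finite_of_card_ne_zero (by rw [hAut]; norm_num)
  exact ⟨((MulEquiv.ofBijective f ((Nat.bijective_iff_injective_and_card f).2 ⟨hinj, by rw [hSc, hAut]⟩)).trans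
    (MulAut.congr eL)).trans eO⟩

/-- the second class: conjugates of `z` fill the larger orbit -/
theorem conj_of_not_inA (hF : IsOfLargeFischerTypeAt z Q) {t : Q} {w : Vec6}
    (ht : (t : ↥Q ⧸ Subgroup.center ↥Q) = D.F.co w) (hw : w ≠ 0) (hp : par w = 0) (hA : ¬InA D.c w) :
    IsConj z ((t : Subgroup.centralizer ({z} : Set G)) : G) := by
  obtain ⟨g, ⟨hsc, hsQ⟩, hs1⟩ := hF.1.2.2.2.2
  have hz2 : z * z = 1 := by rw [← sq, ← D.b.hz, pow_orderOf_eq_one]
  obtain ⟨v, hv, hvp, hmk⟩ := D.mem_class hsQ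
    (show g * z * g⁻¹ * (g * z * g⁻¹) = 1 by rw [LargeExtra.conjm, hz2, mul_one, mul_inv_cancel])
    (fun e => by
      change g * z * g⁻¹ = 1 at e
      have := D.b.hz
      rw [mul_inv_eq_one, mul_eq_left] at e
      rw [e, orderOf_one] at this
      omega) hs1
  have hB := D.not_inA hmk hv hvp (isConj_iff.2 ⟨g, rfl⟩)
  obtain ⟨h, hh⟩ := D.orbit_conj ((D.orb_iff v hv hvp w).2 ⟨hw, hp, iff_of_false hA hB⟩) hw hmk ht
  refine isConj_iff.2 ⟨(h : G) * g, ?_⟩
  have e := congrArg Subtype.val hh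
  simp only [Subgroup.coe_mul, Subgroup.coe_inv] at e
  rw [← e]
  group

/-- S5443 -/
theorem stabA_iso (hF : IsOfLargeFischerTypeAt z Q) (t : Subgroup.centralizer ({z} : Set G)) (htQ : t ∈ Q)
    (ht2 : orderOf t = 2) (ht : ¬IsConj z (t : G)) (S : Subgroup (Subgroup.centralizer ({z} : Set G)))
    (hS : ∀ h : Subgroup.centralizer ({z} : Set G), h ∈ S ↔
      (h * t * h⁻¹ = t ∨ ((h * t * h⁻¹ : Subgroup.centralizer ({z} : Set G)) : G) = t * z)) :
    Nonempty (↥(S.map (QuotientGroup.mk' Q)) ≃* Cfsg.isometryGroup (ZMod 2) (Cfsg.quadFormMinus 2 (ZMod 2) 1 1)) := by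
  have htt : t * t = 1 := by rw [← sq, ← ht2, pow_orderOf_eq_one]
  obtain ⟨w, hw, hp, hmk⟩ := D.mem_class htQ (congrArg Subtype.val htt)
    (fun e => by rw [show t = 1 from Subtype.ext e, orderOf_one] at ht2; omega)
    (fun e => ht (by rw [e]))
  have hA : InA D.c w := by
    by_contra h
    exact ht (D.conj_of_not_inA hF hmk hw hp h)
  obtain ⟨m, -, hm⟩ := (mem_orb D.F).1 ((D.orb_iff w hw hp (srep 0)).2
    ⟨(show srep 0 ≠ 0 by decide +kernel), (show par (srep 0) = 0 by decide +kernel), iff_of_true (Or.inl (sc_srep 0)) hA⟩)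
  have hSw : S = D.fixer w := by
    ext h
    rw [hS, D.mem_fixer]
    have hcl : ((MulAut.conjNormal h (⟨t, htQ⟩ : Q) : Q) : ↥Q ⧸ Subgroup.center ↥Q) = D.F.co (cact D.F h w) := by
      rw [← actV_mk, hmk, co_cact]
    constructor
    · intro hh
      refine D.F.bij.1 ?_
      rw [← hcl, ← hmk, QuotientGroup.eq, center_iff D.b]
      rcases hh with e | e
      · left
        rw [inv_mul_eq_one]
        exact Subtype.ext e
      · right
        refine Subtype.ext ?_
        simp only [Subgroup.coe_mul, Subgroup.coe_inv, MulAut.conjNormal_apply] at e ⊢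
        rw [e]
        show ((t : G) * z)⁻¹ * t = z
        have hzt := Subgroup.mem_centralizer_singleton_iff.1 t.2
        rw [mul_inv_rev, mul_assoc, inv_mul_cancel, mul_one]
        exact inv_eq_of_mul_eq_one_right (by rw [← sq, ← D.b.hz, pow_orderOf_eq_one])
    · intro hh
      rw [hh, ← hmk, QuotientGroup.eq, center_iff D.b] at hcl
      rcases hcl with e | e
      · exact Or.inl (congrArg Subtype.val (inv_mul_eq_one.1 e))
      · right
        have e' := congrArg Subtype.val e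
        simp only [Subgroup.coe_mul, Subgroup.coe_inv, MulAut.conjNormal_apply, zc] at e' ⊢
        have hzz : z⁻¹ = z := inv_eq_of_mul_eq_one_right (by rw [← sq, ← D.b.hz, pow_orderOf_eq_one])
        have e3 : (t : G) = (h : G) * t * (h : G)⁻¹ * z := inv_mul_eq_iff_eq_mul.1 e'
        exact (eq_mul_inv_of_mul_eq e3.symm).trans (congrArg ((t : G) * ·) hzz)
  rw [hSw]
  have hconj : ((D.fixer w).map (QuotientGroup.mk' Q)).map (MulAut.conj (m : _ ⧸ Q)).toMonoidHom =
      (D.fixer (srep 0)).map (QuotientGroup.mk' Q) := by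
    ext x
    simp only [Subgroup.mem_map]
    constructor
    · rintro ⟨_, ⟨h, hh, rfl⟩, rfl⟩
      exact ⟨m * h * m⁻¹, show cact D.F (m * h * m⁻¹) (srep 0) = srep 0 by
        rw [← hm, ← cact_mul, inv_mul_cancel_right, cact_mul, D.mem_fixer.1 hh], rfl⟩
    · rintro ⟨h, hh, rfl⟩
      refine ⟨_, ⟨m⁻¹ * h * m, show cact D.F (m⁻¹ * h * m) w = w by
        rw [cact_mul, hm, cact_mul, D.mem_fixer.1 hh, ← hm, ← cact_mul, inv_mul_cancel, cact_one], rfl⟩, ?_⟩
      simp [mul_assoc]
  obtain ⟨e⟩ := D.stab_iso_srep hF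
  exact ⟨(((MulEquiv.subgroupMap (MulAut.conj (m : _ ⧸ Q)) ((D.fixer w).map (QuotientGroup.mk' Q))).trans
    (MulEquiv.subgroupCongr hconj))).trans e⟩

end Data

end Cfsg.Agent.LargeFischer
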