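import Cfsg.Agent.LargeFischer.ThreeSplit
import Cfsg.Agent.Classical.UnitaryGroup

/-! The centraliser of the group of order three is quasisimple. -/

set_option autoImplicit false
set_option maxRecDepth 20000
set_option Elab.async false

open Finset Cfsg Cfsg.Agent
open scoped commutatorElement

namespace Cfsg.Agent.LargeFischer

/-- the permutation and the diagonal with scalar commutator -/
theorem dgpm_facts : ∃ (π : Equiv.Perm (Fin 6)) (d : Fin 6 → ZMod 3), Equiv.Perm.sign π = 1 ∧ ∑ i, d i = 0 ∧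
    ∀ i, d i = 1 + d (π⁻¹ i) := by
  refine ⟨Equiv.swap 0 1 * Equiv.swap 1 2 * (Equiv.swap 3 4 * Equiv.swap 4 5), ![0, 1, 2, 0, 1, 2], ?_, ?_, ?_⟩ <;>
    decide +kernel

theorem normal_of_index_two {P : Type*} [Group P] {H : Subgroup P} (h : H.index = 2) : H.Normal :=
  Subgroup.normal_of_index_eq_two h

namespace Data

variable {G : Type*} [Group G] [Finite G] {z : G}
  {Q : Subgroup (Subgroup.centralizer ({z} : Set G))} [Q.Normal] (D : Data z Q)
include D

theorem exists_notLin (hF : IsOfLargeFischerTypeAt z Q) : ∃ h, h ∉ D.Lin := by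
  obtain ⟨h, hh⟩ := D.exists_anti hF
  refine ⟨h, fun hl => ?_⟩
  set v : Vec6 := Pi.single 0 (1, 0) with hv
  have hv0 : v ≠ 0 := fun e => absurd (congrFun e 0) (by simp [hv])
  have hw : cact D.F h v ≠ 0 := fun e => hv0 (cact_inj D.F h (e.trans (cact_zero D.F h).symm))
  have e := congrArg (sm 2) ((hl v).symm.trans (hh v))
  rw [sm_sm, sm_sm, show (2 : ZMod 3) + 1 = 0 from rfl, show (2 : ZMod 3) + 2 = 1 from rfl, sm_zero] at e
  exact sm_ne hw e.symm

theorem Lin_index (hF : IsOfLargeFischerTypeAt z Q) : D.Lin.index = 2 := by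
  obtain ⟨a, ha⟩ := D.exists_notLin hF
  refine Subgroup.index_eq_two_iff.2 ⟨a, fun b => ?_⟩
  by_cases hb : b ∈ D.Lin
  · exact Or.inr ⟨hb, fun h => ha ((D.Lin.mul_mem_cancel_left hb).1 h)⟩
  · exact Or.inl ⟨D.mul_Lin hb ha, hb⟩

theorem core_iso (hF : IsOfLargeFischerTypeAt z Q) (X : Subgroup (Subgroup.centralizer ({z} : Set G)))
    (hX : Nat.card X = 3) (hXQ : (X ⊔ Q).Normal) :
    Cfsg.IsQuasisimple ↥(Subgroup.centralizer ((X : Subgroup (Subgroup.centralizer ({z} : Set G))) : Set (Subgroup.centralizer ({z} : Set G)))) ∧ IsCyclic ↥(Subgroup.center ↥(Subgroup.centralizer ((X : Subgroup (Subgroup.centralizer ({z} : Set G))) : Set (Subgroup.centralizer ({z} : Set G))))) ∧ Nat.card ↥(Subgroup.center ↥(Subgroup.centralizer ((X : Subgroup (Subgroup.centralizer ({z} : Set G))) : Set (Subgroup.centralizer ({z} : Set G))))) = 6 ∧ ∃ (K : Type) (_ : Field K) (_ : Fintype K), Fintype.card K = 9 ∧ Nonempty (↥(Subgroup.centralizer ((X : Subgroup (Subgroup.centralizer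 ({z} : Set G))) : Set (Subgroup.centralizer ({z} : Set G)))) ⧸ Subgroup.center ↥(Subgroup.centralizer ((X : Subgroup (Subgroup.centralizer ({z} : Set G))) : Set (Subgroup.centralizer ({z} : Set G)))) ≃* Cfsg.PSU 4 K 3) := by
  classical
  obtain ⟨x, hx3, rfl, hx⟩ := D.exists_gen hX hXQ
  obtain ⟨N, M', hN, hM', hQN, hNM', hcN, ⟨K, iK, iF, hK, ⟨e⟩⟩, hMi⟩ := hF.2
  haveI : IsSimpleGroup (PSU 4 K 3) :=
    Classical.isSimpleGroup_psu (q := 3) (by rw [hK]; norm_num) 4 (by norm_num) (by omega)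
  haveI hS : IsSimpleGroup (↥M' ⧸ N.subgroupOf M') := e.isSimpleGroup
  -- sizes
  have hq3 : Nat.card (↥N ⧸ Q.subgroupOf N) = 3 := by
    have h := Subgroup.card_eq_card_quotient_mul_card_subgroup (Q.subgroupOf N)
    rw [Nat.card_congr (Subgroup.subgroupOfEquivOfLe hQN).toEquiv, hcN] at h
    exact (Nat.eq_of_mul_eq_mul_right Nat.card_pos h).symm
  have hcard : Nat.card (↥M' ⧸ N.subgroupOf M') = 3265920 := by
    have h1 := Subgroup.relIndex_mul_index hQN
    have h2 := Subgroup.relIndex_mul_index hNM'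
    rw [Subgroup.relIndex, Subgroup.index_eq_card, hq3, ← h2, D.hind, hMi, Subgroup.relIndex,
      Subgroup.index_eq_card] at h1
    omega
  haveI : Fact (Nat.Prime 3) := ⟨Nat.prime_three⟩
  obtain ⟨y3, hy3⟩ := exists_prime_orderOf_dvd_card' (G := ↥M' ⧸ N.subgroupOf M') 3 (by rw [hcard]; norm_num)
  have hbot : Subgroup.center (↥M' ⧸ N.subgroupOf M') = ⊥ := by
    rcases (inferInstance : (Subgroup.center (↥M' ⧸ N.subgroupOf M')).Normal).eq_bot_or_eq_top with h | h
    · exact h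
    exfalso
    have hc : ∀ a b : ↥M' ⧸ N.subgroupOf M', a * b = b * a := fun a b =>
      Subgroup.mem_center_iff.1 (h.ge (Subgroup.mem_top b)) a
    have hn : (Subgroup.zpowers y3).Normal := ⟨fun a ha b => by rwa [hc b a, mul_inv_cancel_right]⟩
    rcases hn.eq_bot_or_eq_top with h' | h'
    · rw [Subgroup.zpowers_eq_bot] at h'
      rw [h', orderOf_one] at hy3
      norm_num at hy3
    · have h'' := Nat.card_zpowers y3
      rw [h', Subgroup.card_top, hcard, hy3] at h''
      norm_num at h''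
  -- the linear elements
  have hN3 : ∀ n ∈ N, n * n * n ∈ Q := fun n hn => by
    have h := pow_card_eq_one' (G := ↥N ⧸ Q.subgroupOf N) (x := (((⟨n, hn⟩ : ↥N)) : ↥N ⧸ Q.subgroupOf N))
    rw [hq3, ← QuotientGroup.mk_pow, QuotientGroup.eq_one_iff, Subgroup.mem_subgroupOf] at h
    simpa [pow_succ] using h
  have hNLin : N ≤ D.Lin := fun n hn => by
    have h := mul_mem (D.Lin.mul_mem (D.sq_mem_Lin n) (D.sq_mem_Lin n)) (inv_mem (D.Q_le_Lin (hN3 n hn)))
    rwa [show n * n * (n * n) * (n * n * n)⁻¹ = n by group] at h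
  have hLi := D.Lin_index hF
  haveI := normal_of_index_two hLi
  have hle : M' ≤ D.Lin := by
    rcases ((Subgroup.normal_subgroupOf (H := M') (N := D.Lin)).map (QuotientGroup.mk' (N.subgroupOf M'))
      (QuotientGroup.mk'_surjective _)).eq_bot_or_eq_top with h | h
    · exfalso
      have hsq : ∀ a : ↥M' ⧸ N.subgroupOf M', a * a = 1 := fun a => by
        obtain ⟨m, rfl⟩ := QuotientGroup.mk'_surjective _ a
        rw [← map_mul]
        exact h.le ⟨m * m, Subgroup.mem_subgroupOf.2 (D.sq_mem_Lin (m : Subgroup.centralizer ({z} : Set G))), rfl⟩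
      have := orderOf_dvd_of_pow_eq_one (show y3 ^ 2 = 1 by rw [sq]; exact hsq y3)
      rw [hy3] at this
      norm_num at this
    · intro m hm
      obtain ⟨l, hl, hlm⟩ := h.ge (Subgroup.mem_top (QuotientGroup.mk' (N.subgroupOf M') ⟨m, hm⟩))
      have h1 := Subgroup.mem_subgroupOf.1 (QuotientGroup.eq.1 hlm)
      have h2 := D.Lin.mul_mem (Subgroup.mem_subgroupOf.1 hl) (hNLin h1)
      simpa using h2
  have hML : M' = D.Lin := by
    refine le_antisymm hle ?_
    have h := Subgroup.relIndex_mul_index hle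
    rw [hLi, hMi] at h
    exact Subgroup.relIndex_eq_one.1 (by omega)
  subst hML
  -- the generator
  have hxQ : x ∉ Q := fun h => sm_ne (show (Pi.single 0 (1, 0) : Vec6) ≠ 0 from fun e => absurd (congrFun e 0) (by simp))
    ((hx _).symm.trans (D.cact_Q h _))
  have hxi : ∀ c, cact D.F x⁻¹ c = sm 2 c := fun c => by
    refine cact_inj D.F x ?_
    rw [← cact_mul, mul_inv_cancel, cact_one, hx, sm_sm, show (1 : ZMod 3) + 2 = 0 from rfl, sm_zero]
  have hxL : x ∈ D.Lin := fun c => by rw [hx, hx]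
  have hxN : x ∈ N := by
    have hc : QuotientGroup.mk' (N.subgroupOf D.Lin) ⟨x, hxL⟩ ∈ Subgroup.center _ := Subgroup.mem_center_iff.2 fun a => by
      obtain ⟨m, rfl⟩ := QuotientGroup.mk'_surjective _ a
      rw [← map_mul, ← map_mul]
      refine QuotientGroup.eq.2 (Subgroup.mem_subgroupOf.2 (hQN (D.mem_Q_of_act fun c => ?_)))
      simp only [Subgroup.coe_mul, Subgroup.coe_inv, mul_inv_rev]
      rw [cact_mul, cact_mul, cact_mul, hx, hxi, ← D.mem_Lin.1 m.2, show sm 2 (cact D.F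
        (m : Subgroup.centralizer ({z} : Set G))⁻¹ (cact D.F (m : Subgroup.centralizer ({z} : Set G)) (sm 1 c))) = c by
          rw [← cact_mul, inv_mul_cancel, cact_one, sm_sm, show (2 : ZMod 3) + 1 = 0 from rfl, sm_zero]]
    rw [hbot, Subgroup.mem_bot] at hc
    exact Subgroup.mem_subgroupOf.1 ((QuotientGroup.eq_one_iff _).1 hc)
  have hNel : ∀ n ∈ N, ∃ k : ℕ, ∃ q ∈ Q, n = x ^ k * q := fun n hn => by
    have hg : (((⟨x, hxN⟩ : ↥N)) : ↥N ⧸ Q.subgroupOf N) ≠ 1 := fun h =>
      hxQ (Subgroup.mem_subgroupOf.1 ((QuotientGroup.eq_one_iff _).1 h))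
    obtain ⟨k, hk⟩ := Submonoid.mem_powers_iff _ _ |>.1
      (mem_powers_of_prime_card hq3 hg (g' := (((⟨n, hn⟩ : ↥N)) : ↥N ⧸ Q.subgroupOf N)))
    rw [← QuotientGroup.mk_pow, QuotientGroup.eq, Subgroup.mem_subgroupOf] at hk
    exact ⟨k, _, hk, by simp⟩
  set C : Subgroup (Subgroup.centralizer ({z} : Set G)) :=
    Subgroup.centralizer ((Subgroup.zpowers x : Subgroup _) : Set (Subgroup.centralizer ({z} : Set G))) with hCdef
  have hC : ∀ c, c ∈ C ↔ c * x = x * c := fun c => mem_cent_gen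
  have hxC : x ∈ C := (hC x).2 rfl
  have hzC : zc z ∈ C := (hC _).2 (D.zc_comm x).symm
  have hzN : zc z ∈ N := hQN (zc_mem D.b)
  let π : C →* ↥D.Lin ⧸ N.subgroupOf D.Lin := (QuotientGroup.mk' _).comp
    (Subgroup.inclusion (show C ≤ D.Lin from fun c hc => D.comm_Lin hx ((hC c).1 hc)))
  have hπ : Function.Surjective π := fun a => by
    obtain ⟨m, rfl⟩ := QuotientGroup.mk'_surjective _ a
    obtain ⟨q, hq⟩ := D.lift_comm hx3 hx m.2
    refine ⟨⟨(q : Subgroup.centralizer ({z} : Set G)) * m, (hC _).2 hq⟩,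
      QuotientGroup.eq.2 (Subgroup.mem_subgroupOf.2 ?_)⟩
    have h := hN.conj_mem _ (inv_mem (hQN q.2)) (m : Subgroup.centralizer ({z} : Set G))⁻¹
    simpa [mul_assoc] using h
  have hπ1 : ∀ c : C, π c = 1 ↔ (c : Subgroup.centralizer ({z} : Set G)) ∈ N := fun c =>
    (QuotientGroup.eq_one_iff _).trans Subgroup.mem_subgroupOf
  have hxz : Commute x (zc z) := D.zc_comm x
  set y : C := ⟨x, hxC⟩ * ⟨zc z, hzC⟩ with hy
  have hy4 : y ^ 4 = ⟨x, hxC⟩ := Subtype.ext (by
    rw [hy, SubmonoidClass.coe_pow, Subgroup.coe_mul, hxz.mul_pow, show x ^ 4 = (x * x * x) * x by simp [pow_succ],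
      show (zc z) ^ 4 = (zc z * zc z) * (zc z * zc z) by simp [pow_succ, mul_assoc], hx3, zc_sq D.b, one_mul, one_mul, mul_one])
  have hyp3 : y ^ 3 = ⟨zc z, hzC⟩ := Subtype.ext (by
    rw [hy, SubmonoidClass.coe_pow, Subgroup.coe_mul, hxz.mul_pow, show x ^ 3 = x * x * x by simp [pow_succ],
      show (zc z) ^ 3 = (zc z * zc z) * zc z by simp [pow_succ], hx3, zc_sq D.b, one_mul, one_mul])
  have hker : π.ker = Subgroup.zpowers y := by
    refine le_antisymm (fun c hc => ?_) (Subgroup.zpowers_le.2 (MonoidHom.mem_ker.2 ((hπ1 y).2 (mul_mem hxN hzN))))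
    obtain ⟨k, q, hq, hcq⟩ := hNel _ ((hπ1 c).1 (MonoidHom.mem_ker.1 hc))
    have hqc : q * x = x * q := (hC q).1 (by
      have h := C.mul_mem (C.inv_mem (C.pow_mem hxC k)) c.2
      rwa [hcq, inv_mul_cancel_left] at h)
    have hyx : (⟨x, hxC⟩ : C) ∈ Subgroup.zpowers y := hy4 ▸ Subgroup.npow_mem_zpowers y 4
    rcases D.comm_Q hx (q := ⟨q, hq⟩) hqc with h | h
    · rw [show c = (⟨x, hxC⟩ : C) ^ k from Subtype.ext (by
        rw [SubmonoidClass.coe_pow, hcq, show q = 1 from congrArg Subtype.val h, mul_one])]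
      exact Subgroup.pow_mem _ hyx k
    · rw [show c = (⟨x, hxC⟩ : C) ^ k * y ^ 3 from Subtype.ext (by
        rw [hyp3, Subgroup.coe_mul, SubmonoidClass.coe_pow, hcq, show q = zc z from h])]
      exact Subgroup.mul_mem _ (Subgroup.pow_mem _ hyx k) (Subgroup.npow_mem_zpowers y 3)
  have hycen : y ∈ Subgroup.center C := Subgroup.mem_center_iff.2 fun c => Subtype.ext
    ((show Commute (c : Subgroup.centralizer ({z} : Set G)) x from (hC _).1 c.2).mul_right (D.zc_comm c))
  have hcen : Subgroup.center C = π.ker := by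
    refine le_antisymm (fun c hc => MonoidHom.mem_ker.2 ?_) (hker ▸ Subgroup.zpowers_le.2 hycen)
    rw [← Subgroup.mem_bot, ← hbot, Subgroup.mem_center_iff]
    intro a
    obtain ⟨d, rfl⟩ := hπ a
    rw [← map_mul, ← map_mul, Subgroup.mem_center_iff.1 hc d]
  have iso : ↥C ⧸ Subgroup.center ↥C ≃* PSU 4 K 3 := ((QuotientGroup.quotientMulEquivOfEq hcen).trans
    (QuotientGroup.quotientKerEquivOfSurjective π hπ)).trans e
  have hord : orderOf y = 6 := by
    rw [← orderOf_injective C.subtype C.subtype_injective y]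
    show orderOf (x * zc z) = 6
    have h1 : orderOf x = 3 := orderOf_eq_prime (by rw [pow_succ, sq]; exact hx3) (fun e => hxQ (e ▸ Q.one_mem))
    haveI : Fact (Nat.Prime 2) := ⟨Nat.prime_two⟩
    have h2 : orderOf (zc z) = 2 := orderOf_eq_prime (by rw [sq]; exact zc_sq D.b) (zc_ne_one D.b)
    rw [hxz.orderOf_mul_eq_mul_orderOf_of_coprime (by rw [h1, h2]; norm_num), h1, h2]
  -- perfection
  have hperf : commutator ↥C = ⊤ := by
    have hcm : ⟨x, hxC⟩ ∈ commutator ↥C := by
      obtain ⟨σ, d, hσ, hd, hdσ⟩ := dgpm_facts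
      obtain ⟨a, ha, hac⟩ := D.F.diag d hd
      obtain ⟨b, hb, hbc⟩ := D.F.perm σ hσ
      obtain ⟨qa, hqa⟩ := D.lift_comm hx3 hx (D.M_le_Lin ha)
      obtain ⟨qb, hqb⟩ := D.lift_comm hx3 hx (D.M_le_Lin hb)
      set a' : C := ⟨(qa : Subgroup.centralizer ({z} : Set G)) * a, (hC _).2 hqa⟩ with ha'
      set b' : C := ⟨(qb : Subgroup.centralizer ({z} : Set G)) * b, (hC _).2 hqb⟩ with hb'
      have ea : ∀ c, cact D.F (a' : Subgroup.centralizer ({z} : Set G)) c = dg d c := fun c => by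
        rw [ha', cact_mul, D.cact_Q qa.2, cact_eq D.F (hac c)]
      have eb : ∀ c, cact D.F (b' : Subgroup.centralizer ({z} : Set G)) c = pm σ c := fun c => by
        rw [hb', cact_mul, D.cact_Q qb.2, cact_eq D.F (hbc c)]
      set p : C := (⟨x, hxC⟩ * (b' * a'))⁻¹ * (a' * b') with hp
      have hpQ : (p : Subgroup.centralizer ({z} : Set G)) ∈ Q := D.mem_Q_of_act fun c => by
        have key : cact D.F ((a' * b' : C) : Subgroup.centralizer ({z} : Set G)) c =
            cact D.F ((⟨x, hxC⟩ * (b' * a') : C) : Subgroup.centralizer ({z} : Set G)) c := by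
          simp only [Subgroup.coe_mul, cact_mul, hx, ea, eb]
          funext i
          simp only [sm, dg, pm, omk_facts.2.2.1]
          rw [← hdσ]
        rw [hp, Subgroup.coe_mul, cact_mul, key, Subgroup.coe_inv, ← cact_mul, inv_mul_cancel, cact_one]
      have hp2 : p = 1 ∨ p = ⟨zc z, hzC⟩ := by
        rcases D.comm_Q hx (q := ⟨_, hpQ⟩) ((hC _).1 p.2) with h | h
        · exact Or.inl (Subtype.ext (by simpa using congrArg Subtype.val h))
        · exact Or.inr (Subtype.ext h)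
      have hcm' : ⁅a', b'⁆ = ⟨x, hxC⟩ * p := by
        have hpc : ∀ r : C, r * p = p * r := by
          intro r
          rcases hp2 with h | h <;> rw [h]
          · rw [mul_one, one_mul]
          · exact Subtype.ext (D.zc_comm r)
        calc ⁅a', b'⁆ = (a' * b') * (b' * a')⁻¹ := by rw [commutatorElement_def]; group
          _ = ⟨x, hxC⟩ * (b' * a') * p * (b' * a')⁻¹ := by rw [hp]; group
          _ = ⟨x, hxC⟩ * ((b' * a') * p) * (b' * a')⁻¹ := by group
          _ = ⟨x, hxC⟩ * p := by rw [hpc]; group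
      have hw : ⁅a', b'⁆ ^ 4 = ⟨x, hxC⟩ := by
        rw [hcm']
        rcases hp2 with h | h <;> rw [h]
        · refine Subtype.ext ?_
          rw [mul_one, SubmonoidClass.coe_pow]
          show x ^ 4 = x
          rw [show x ^ 4 = (x * x * x) * x by simp [pow_succ], hx3, one_mul]
        · exact hy4
      rw [← hw]
      exact Subgroup.pow_mem _ (Subgroup.commutator_mem_commutator (Subgroup.mem_top a') (Subgroup.mem_top b')) 4
    have hzm : ⟨zc z, hzC⟩ ∈ commutator ↥C := by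
      have h := D.zc_derived hF hx3 hx C hC
      rw [← Subgroup.map_subtype_commutator] at h
      obtain ⟨w, hw, hwz⟩ := h
      rwa [show (⟨zc z, hzC⟩ : C) = w from Subtype.ext hwz.symm]
    have hyc : π.ker ≤ commutator ↥C := hker ▸ Subgroup.zpowers_le.2 (mul_mem hcm hzm)
    rcases ((inferInstance : (commutator ↥C).Normal).map π hπ).eq_bot_or_eq_top with h | h
    · exfalso
      have : y3 ∈ Subgroup.center (↥D.Lin ⧸ N.subgroupOf D.Lin) := Subgroup.mem_center_iff.2 fun a => by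
        obtain ⟨c, rfl⟩ := hπ a
        obtain ⟨c', hc'⟩ := hπ y3
        rw [← hc', ← commutatorElement_eq_one_iff_mul_comm, ← map_commutatorElement]
        exact h.le ⟨_, Subgroup.commutator_mem_commutator (Subgroup.mem_top c) (Subgroup.mem_top c'), rfl⟩
      rw [hbot, Subgroup.mem_bot] at this
      rw [this, orderOf_one] at hy3
      omega
    · rw [eq_top_iff]
      intro c _
      obtain ⟨w, hw, hwc⟩ := h.ge (Subgroup.mem_top (π c))
      have hk : w⁻¹ * c ∈ π.ker := MonoidHom.mem_ker.2 (by rw [map_mul, map_inv, hwc, inv_mul_cancel])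
      have := mul_mem hw (hyc hk)
      rwa [mul_inv_cancel_left] at this
  refine ⟨⟨Group.isPerfect_def.2 hperf, iso.isSimpleGroup⟩, ?_, ?_, K, iK, iF, hK, ⟨iso⟩⟩
  · rw [hcen, hker]; infer_instance
  · rw [hcen, hker, Nat.card_zpowers, hord]

end Data
end Cfsg.Agent.LargeFischer
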