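import Cfsg.Agent.LargeFischer.Semi
import Cfsg.Agent.ThreeTrans.SU32
import Cfsg.Agent.ThreeTrans.OMinusSix
import Cfsg.Agent.ThreeTrans.ResidueM22

/-! The stabiliser of a class in the smaller orbit. -/

set_option autoImplicit false
set_option maxRecDepth 20000
set_option Elab.async false

open Finset Cfsg Cfsg.Agent
open scoped Matrix
open Cfsg.Agent.ThreeTrans.SU32 (F4)

namespace Cfsg.Agent.LargeFischer

/-- lines as the field -/
def toF (p : W4) : F4 :=
  if p = (1, 0) then F4.e else if p = (0, 1) then F4.w else if p = (1, 1) then F4.w' else F4.o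

/-- and back -/
def ofF : F4 → W4
  | F4.o => 0
  | F4.e => (1, 0)
  | F4.w => (0, 1)
  | F4.w' => (1, 1)

theorem toF_facts : (∀ p q, toF (p + q) = toF p + toF q) ∧ (∀ p, toF (omk 1 p) = F4.w * toF p) ∧
    (∀ x, toF (ofF x) = x) ∧ (∀ p, ofF (toF p) = p) ∧ toF 0 = 0 ∧
    (∀ k p, toF (omk k p) = toF (omk k (1, 0)) * toF p) := by decide +kernel

/-- the trace -/
def trF : F4 → ZMod 2
  | F4.o => 0
  | F4.e => 0
  | F4.w => 1
  | F4.w' => 1

theorem trF_facts : (∀ x y, trF (x + y) = trF x + trF y) ∧ trF 0 = 0 ∧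
    (∀ x y : F4, trF x = trF y → trF (F4.w * x) = trF (F4.w * y) → x = y) ∧
    ∀ p q : W4, ((if p + q = 0 then (0 : ZMod 2) else 1) + (if p = 0 then 0 else 1) + (if q = 0 then 0 else 1)) =
      trF (toF p * toF q ^ 2) := by decide +kernel

theorem f4_facts : (∀ x : F4, x + x = 0) ∧ (∀ x : F4, x ≠ 0 → x ^ 3 = 1) ∧
    (∀ x y : F4, x ^ 2 + y ^ 2 = 0 → x = y) ∧ (∀ x y : F4, (x + y) ^ 2 = x ^ 2 + y ^ 2) := by decide +kernel

/-- the hermitian form -/
def hf (a c : Vec6) : F4 := ∑ i, toF (a i) * toF (c i) ^ 2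

theorem hf_sm (a c : Vec6) : hf (sm 1 a) c = F4.w * hf a c := by
  simp only [hf, mul_sum, sm, dg, toF_facts.2.1, mul_assoc]

theorem perp_hf (a c : Vec6) : par (a + c) + par a + par c = trF (hf a c) := by
  rw [par_sum, par_sum, par_sum, ← sum_add_distrib, ← sum_add_distrib, hf,
    show trF (∑ i, toF (a i) * toF (c i) ^ 2) = ∑ i, trF (toF (a i) * toF (c i) ^ 2) from
      map_sum (AddMonoidHom.mk' trF trF_facts.1) _ _]
  exact sum_congr rfl fun i _ => trF_facts.2.2.2 _ _

/-- the four coordinates away from the first two -/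
def up (i : Fin 4) : Fin 6 := ⟨(i : ℕ) + 2, by omega⟩

/-- vectors supported away from the first two -/
def ext4 (u : Fin 4 → F4) : Vec6 := fun i =>
  if h : 2 ≤ (i : ℕ) then ofF (u ⟨(i : ℕ) - 2, by omega⟩) else 0

theorem ext4_up (u : Fin 4 → F4) (i : Fin 4) : ext4 u (up i) = ofF (u i) := by
  rw [ext4, dif_pos (show 2 ≤ (up i : ℕ) by simp [up])]
  congr 2

theorem ext4_low (u : Fin 4 → F4) : ext4 u 0 = 0 ∧ ext4 u 1 = 0 := ⟨rfl, rfl⟩

theorem ext4_single (j : Fin 4) : ext4 (Pi.single j 1) = Pi.single (up j) (1, 0) := by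
  revert j; decide +kernel

theorem sum_six {M : Type*} [AddCommMonoid M] (f : Fin 6 → M) :
    ∑ i, f i = f 0 + f 1 + ∑ i : Fin 4, f (up i) := by
  rw [Fin.sum_univ_succ, Fin.sum_univ_succ, add_assoc]
  rfl

theorem srep_zero_val : srep 0 0 = (1, 0) ∧ srep 0 1 = (1, 0) ∧ ∀ i, srep 0 (up i) = 0 := by decide +kernel

namespace Data

variable {G : Type*} [Group G] [Finite G] {z : G}
  {Q : Subgroup (Subgroup.centralizer ({z} : Set G))} [Q.Normal] (D : Data z Q)
include D

/-- the linear elements -/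
def Lin : Subgroup (Subgroup.centralizer ({z} : Set G)) where
  carrier := {h | ∀ c, cact D.F h (sm 1 c) = sm 1 (cact D.F h c)}
  one_mem' c := by rw [cact_one, cact_one]
  mul_mem' {a b} (ha : ∀ c, cact D.F a (sm 1 c) = sm 1 (cact D.F a c))
      (hb : ∀ c, cact D.F b (sm 1 c) = sm 1 (cact D.F b c)) c := by rw [cact_mul, hb, ha, cact_mul]
  inv_mem' {a} (ha : ∀ c, cact D.F a (sm 1 c) = sm 1 (cact D.F a c)) c := by
    refine cact_inj D.F a ?_
    rw [ha, ← cact_mul, ← cact_mul, mul_inv_cancel, cact_one, cact_one]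

theorem mem_Lin {h : Subgroup.centralizer ({z} : Set G)} :
    h ∈ D.Lin ↔ ∀ c, cact D.F h (sm 1 c) = sm 1 (cact D.F h c) := Iff.rfl

theorem M_le_Lin : D.M ≤ D.Lin := fun _ hm c => D.lin_M hm c

theorem Q_le_Lin : Q ≤ D.Lin := fun q hq c => by
  have h : ∀ c, cact D.F q c = c := fun c => cact_eq D.F (by
    rw [show actV Q q = 1 from MonoidHom.mem_ker.1 (by rw [actV_ker D.b]; exact hq)]; rfl)
  rw [h, h]

theorem sm_two {h : Subgroup.centralizer ({z} : Set G)} (hh : h ∉ D.Lin) (c : Vec6) :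
    cact D.F h (sm 1 c) = sm 2 (cact D.F h c) := by
  obtain ⟨k, hk, hkc⟩ := D.scalar_exp h
  rcases (show ∀ k : ZMod 3, k ≠ 0 → k = 1 ∨ k = 2 by decide) k hk with rfl | rfl
  · exact absurd hkc hh
  · exact hkc c

theorem mul_Lin {a b : Subgroup.centralizer ({z} : Set G)} (ha : a ∉ D.Lin) (hb : b ∉ D.Lin) :
    a * b ∈ D.Lin := fun c => by
  have h2 : ∀ c, cact D.F a (sm 2 c) = sm 1 (cact D.F a c) := fun c => by
    rw [show sm 2 c = sm 1 (sm 1 c) from (sm_sm 1 1 c).symm, D.sm_two ha, D.sm_two ha, sm_sm]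
    rfl
  rw [cact_mul, D.sm_two hb, h2, cact_mul]

theorem hf_cact {h : Subgroup.centralizer ({z} : Set G)} (hh : h ∈ D.Lin) (a c : Vec6) :
    hf (cact D.F h a) (cact D.F h c) = hf a c := by
  have key : ∀ a c, trF (hf (cact D.F h a) (cact D.F h c)) = trF (hf a c) := fun a c => by
    rw [← perp_hf, ← perp_hf, ← cact_add, cact_par D.b D.F, cact_par D.b D.F, cact_par D.b D.F]
  refine trF_facts.2.2.1 _ _ (key a c) ?_
  rw [← hf_sm, ← hf_sm, ← D.mem_Lin.1 hh, key]

/-- the stabiliser of a vector -/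
def fixer (v : Vec6) : Subgroup (Subgroup.centralizer ({z} : Set G)) where
  carrier := {h | cact D.F h v = v}
  one_mem' := cact_one D.F v
  mul_mem' {a c} (ha : cact D.F a v = v) (hc : cact D.F c v = v) :=
    show cact D.F (a * c) v = v by rw [cact_mul, hc, ha]
  inv_mem' {a} (ha : cact D.F a v = v) := show cact D.F a⁻¹ v = v by
    conv_lhs => rw [← ha, ← cact_mul, inv_mul_cancel, cact_one]

theorem mem_fixer {v : Vec6} {h : Subgroup.centralizer ({z} : Set G)} :
    h ∈ D.fixer v ↔ cact D.F h v = v := Iff.rfl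

theorem Q_le_fixer (v : Vec6) : Q ≤ D.fixer v := fun q hq => cact_eq D.F (by
  rw [show actV Q q = 1 from MonoidHom.mem_ker.1 (by rw [actV_ker D.b]; exact hq)]; rfl)

theorem card_fixerA {v : Vec6} (hv : v ≠ 0) (hp : par v = 0) (hA : InA D.c v) :
    Nat.card ↥((D.fixer v).map (QuotientGroup.mk' Q)) = 51840 := by
  classical
  let A : MulAction (Subgroup.centralizer ({z} : Set G)) Vec6 :=
    { smul := fun m c => cact D.F m c
      one_smul := cact_one D.F
      mul_smul := fun g h c => cact_mul D.F g h c }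
  letI := A
  have horb : MulAction.orbit (Subgroup.centralizer ({z} : Set G)) v =
      ((univ.filter fun w : Vec6 => w ≠ 0 ∧ par w = 0 ∧ InA D.c w : Finset Vec6) : Set Vec6) := by
    ext w
    simp only [coe_filter, mem_univ, true_and, Set.mem_setOf_eq]
    constructor
    · rintro ⟨h, rfl⟩
      have := D.norm
      exact ⟨fun e => hv (cact_inj D.F h (e.trans (cact_zero D.F h).symm)),
        (cact_par D.b D.F h v).trans hp, (inA_cact D.b D.F D.hind D.orb_iff h hv hp).2 hA⟩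
    · rintro ⟨h0, h1, h2⟩
      obtain ⟨m, -, hm⟩ := (mem_orb D.F).1 ((D.orb_iff v hv hp w).2 ⟨h0, h1, iff_of_true h2 hA⟩)
      exact ⟨m, hm⟩
  have hstab : MulAction.stabilizer (Subgroup.centralizer ({z} : Set G)) v = D.fixer v := by
    ext h; rfl
  have hi : (D.fixer v).index = 378 := by
    rw [← hstab, Subgroup.index, ← Nat.card_congr (MulAction.orbitEquivQuotientStabilizer _ v), horb,
      Nat.card_coe_set_eq, Set.ncard_coe_finset, (card_halves D.b D.c).1]
  have h := ((D.fixer v).map (QuotientGroup.mk' Q)).card_mul_index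
  rw [(D.fixer v).index_map_eq (QuotientGroup.mk'_surjective Q) (by
      rw [QuotientGroup.ker_mk']; exact D.Q_le_fixer v), hi, ← Subgroup.index_eq_card, D.hind] at h
  omega

/-- the linear stabiliser of the first class -/
def S0 : Subgroup (Subgroup.centralizer ({z} : Set G)) := D.fixer (srep 0) ⊓ D.Lin

/-- its matrices -/
noncomputable def mat (h : Subgroup.centralizer ({z} : Set G)) : Matrix (Fin 4) (Fin 4) F4 :=
  Matrix.of fun i j => toF (cact D.F h (Pi.single (up j) (1, 0)) (up i))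

theorem pos_pair {h : Subgroup.centralizer ({z} : Set G)} (hh : h ∈ D.S0) {x : Vec6} (hx : x 0 = x 1) :
    cact D.F h x 0 = cact D.F h x 1 := by
  have h1 := D.hf_cact hh.2 x (srep 0)
  rw [D.mem_fixer.1 hh.1] at h1
  have key : ∀ y : Vec6, hf y (srep 0) = toF (y 0) + toF (y 1) := fun y => by
    rw [hf, sum_six, srep_zero_val.1, srep_zero_val.2.1,
      sum_eq_zero fun i _ => by rw [srep_zero_val.2.2, toF_facts.2.2.2.2.1]; simp]
    simp [show toF (1, 0) = 1 from rfl]
  rw [key, key, hx, f4_facts.1] at h1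
  exact (show ∀ p q : W4, toF p + toF q = 0 → p = q by decide +kernel) _ _ h1

theorem mat_apply {h : Subgroup.centralizer ({z} : Set G)} (hh : h ∈ D.S0) {x : Vec6} (hx : x 0 = x 1)
    (i : Fin 4) : toF (cact D.F h x (up i)) = (D.mat h *ᵥ fun j => toF (x (up j))) i := by
  have hlin : ∀ k c, cact D.F h (sm k c) = sm k (cact D.F h c) := by
    intro k c
    rcases (show ∀ k : ZMod 3, k = 0 ∨ k = 1 ∨ k = 1 + 1 by decide) k with rfl | rfl | rfl
    · rw [sm_zero, sm_zero]
    · exact hh.2 c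
    · rw [← sm_sm, D.mem_Lin.1 hh.2, D.mem_Lin.1 hh.2, sm_sm]
  have hdec : x = (if x 0 = 0 then 0 else sm (lg (x 0) - lg (1, 0)) (srep 0)) +
      ∑ j, Pi.single (up j) (x (up j)) := by
    funext l
    simp only [Pi.add_apply, Finset.sum_apply, Pi.single_apply]
    have hl : l = 0 ∨ l = 1 ∨ ∃ j, l = up j :=
      (show ∀ l : Fin 6, l = 0 ∨ l = 1 ∨ ∃ j, l = up j by decide +kernel) l
    rcases hl with rfl | rfl | ⟨j, rfl⟩
    · rw [sum_eq_zero fun j _ => if_neg ((show ∀ j, (0 : Fin 6) ≠ up j by decide) j), add_zero]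
      split_ifs with h0
      · exact h0
      · rw [sm, dg, srep_zero_val.1, lg_facts.2 _ _ (by decide) h0]
    · rw [sum_eq_zero fun j _ => if_neg ((show ∀ j, (1 : Fin 6) ≠ up j by decide) j), add_zero, ← hx]
      split_ifs with h0
      · exact h0
      · rw [sm, dg, srep_zero_val.2.1, lg_facts.2 _ _ (by decide) h0]
    · rw [sum_eq_single j (fun i _ hij => if_neg fun e => hij ((show Function.Injective up by decide) e).symm)
        (by simp), if_pos rfl]
      split_ifs
      · simp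
      · rw [sm, dg, srep_zero_val.2.2, (omk_facts.1 _ _).2 rfl, zero_add]
  let A : Vec6 →+ Vec6 := AddMonoidHom.mk' (cact D.F h) (cact_add D.F h)
  have hsum : cact D.F h x (up i) = ∑ j, cact D.F h (Pi.single (up j) (x (up j))) (up i) := by
    conv_lhs => rw [hdec]
    show A _ (up i) = _
    rw [map_add, map_sum, Pi.add_apply, Finset.sum_apply]
    conv_rhs => rw [← zero_add (∑ j, cact D.F h (Pi.single (up j) (x (up j))) (up i))]
    congr 1
    split_ifs
    · rw [map_zero]; rfl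
    · show cact D.F h _ _ = _
      rw [hlin, D.mem_fixer.1 hh.1, sm, dg, srep_zero_val.2.2]
      exact (omk_facts.1 _ _).2 rfl
  rw [hsum, show toF (∑ j, cact D.F h (Pi.single (up j) (x (up j))) (up i)) =
    ∑ j, toF (cact D.F h (Pi.single (up j) (x (up j))) (up i)) from
      map_sum (AddMonoidHom.mk' toF toF_facts.1) _ _]
  simp only [Matrix.mulVec, dotProduct, mat, Matrix.of_apply]
  refine sum_congr rfl fun j _ => ?_
  by_cases h0 : x (up j) = 0
  · rw [h0, Pi.single_zero, cact_zero, Pi.zero_apply, toF_facts.2.2.2.2.1, mul_zero]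
  set k := lg (x (up j)) - lg (1, 0) with hk
  have hxk : x (up j) = omk k (1, 0) := (lg_facts.2 _ _ (by decide) h0).symm
  have e : (Pi.single (up j) (x (up j)) : Vec6) = sm k (Pi.single (up j) (1, 0)) := by
    rw [hxk]
    funext l
    by_cases hl : l = up j
    · subst hl; simp [sm, dg]
    · simp [sm, dg, hl, (omk_facts.1 _ _).2 rfl]
  rw [e, hlin, sm, dg, toF_facts.2.2.2.2.2, hxk, mul_comm]

theorem mat_mul {a b : Subgroup.centralizer ({z} : Set G)} (ha : a ∈ D.S0) (hb : b ∈ D.S0) :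
    D.mat (a * b) = D.mat a * D.mat b := by
  ext i j
  have hj : (Pi.single (up j) ((1, 0) : W4) : Vec6) 0 = (Pi.single (up j) ((1, 0) : W4) : Vec6) 1 := by
    revert j; decide +kernel
  rw [mat, Matrix.of_apply, cact_mul, D.mat_apply ha (D.pos_pair hb hj) i]
  rfl

theorem mat_one : D.mat 1 = 1 := by
  ext i j
  rw [mat, Matrix.of_apply, cact_one, Matrix.one_apply]
  revert i j
  decide +kernel

theorem mat_preserves {h : Subgroup.centralizer ({z} : Set G)} (hh : h ∈ D.S0) (u v : Fin 4 → F4) :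
    hermForm 4 F4 2 (D.mat h *ᵥ u) (D.mat h *ᵥ v) = hermForm 4 F4 2 u v := by
  have key : ∀ u : Fin 4 → F4, (fun i => toF (cact D.F h (ext4 u) (up i))) = D.mat h *ᵥ u := fun u =>
    funext fun i => by
      rw [D.mat_apply hh ((ext4_low u).1.trans (ext4_low u).2.symm)]
      simp only [ext4_up, toF_facts.2.2.1]
  have h1 := D.hf_cact hh.2 (ext4 u) (ext4 v)
  rw [hf, hf, sum_six, sum_six, (ext4_low u).1, (ext4_low u).2,
    ← D.pos_pair hh ((ext4_low u).1.trans (ext4_low u).2.symm),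
    ← D.pos_pair hh ((ext4_low v).1.trans (ext4_low v).2.symm), f4_facts.1, zero_add,
    toF_facts.2.2.2.2.1] at h1
  simp only [zero_mul, zero_add, ext4_up, toF_facts.2.2.1] at h1
  rw [← key, ← key]
  exact h1

theorem det_ne {h : Subgroup.centralizer ({z} : Set G)} (hh : h ∈ D.S0) : (D.mat h).det ≠ 0 := by
  intro e
  have h1 := congrArg Matrix.det (D.mat_mul hh (D.S0.inv_mem hh))
  rw [mul_inv_cancel, D.mat_one, Matrix.det_one, Matrix.det_mul, e, zero_mul] at h1
  exact one_ne_zero h1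

theorem det_norm (h : D.S0) : ((D.mat h).det⁻¹ • D.mat h).det = 1 := by
  rw [Matrix.det_smul, Fintype.card_fin]
  have h0 := D.det_ne h.2
  have h3 := f4_facts.2.1 _ h0
  field_simp
  rw [← h3]

/-- the map to the unitary group -/
noncomputable def toSU : D.S0 →* Cfsg.SU 4 F4 2 :=
  MonoidHom.mk' (fun h => ⟨⟨(D.mat h).det⁻¹ • D.mat h, D.det_norm h⟩, fun u v => by
      show hermForm 4 F4 2 (((D.mat h).det⁻¹ • D.mat h) *ᵥ u) (((D.mat h).det⁻¹ • D.mat h) *ᵥ v) = _
      have h3 := f4_facts.2.1 _ (inv_ne_zero (D.det_ne h.2))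
      rw [Matrix.smul_mulVec, Matrix.smul_mulVec, ← D.mat_preserves h.2 u v, hermForm, hermForm]
      refine sum_congr rfl fun i _ => ?_
      simp only [Pi.smul_apply, smul_eq_mul]
      linear_combination ((D.mat h *ᵥ u) i * (D.mat h *ᵥ v) i ^ 2) * h3⟩) fun a b =>
    Subtype.ext (Subtype.ext (by
      show (D.mat _).det⁻¹ • D.mat _ = ((D.mat a).det⁻¹ • D.mat a) * ((D.mat b).det⁻¹ • D.mat b)
      rw [Subgroup.coe_mul, D.mat_mul a.2 b.2, Matrix.det_mul, Matrix.smul_mul, Matrix.mul_smul, smul_smul,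
        mul_inv]))

theorem toSU_ker (h : D.S0) (hk : D.toSU h = 1) :
    (∀ j, cact D.F (h : Subgroup.centralizer ({z} : Set G)) (Pi.single (up j) (1, 0)) = Pi.single (up j) (1, 0)) ∧
    ((cact D.F (h : Subgroup.centralizer ({z} : Set G)) (Pi.single (0 : Fin 6) ((1, 0) : W4)) = Pi.single (0 : Fin 6) ((1, 0) : W4) ∧
      cact D.F (h : Subgroup.centralizer ({z} : Set G)) (Pi.single (1 : Fin 6) ((1, 0) : W4)) = Pi.single (1 : Fin 6) ((1, 0) : W4)) ∨
     (cact D.F (h : Subgroup.centralizer ({z} : Set G)) (Pi.single (0 : Fin 6) ((1, 0) : W4)) = Pi.single (1 : Fin 6) ((1, 0) : W4) ∧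
      cact D.F (h : Subgroup.centralizer ({z} : Set G)) (Pi.single (1 : Fin 6) ((1, 0) : W4)) = Pi.single (0 : Fin 6) ((1, 0) : W4))) := by
  obtain ⟨h, hh⟩ := h
  set f := cact D.F h with hfdef
  have hM : (D.mat h).det⁻¹ • D.mat h = 1 := congrArg (fun g : Cfsg.SU 4 F4 2 => g.1.1) hk
  set l := lg (ofF (D.mat h).det) with hl
  have hdet : toF (omk l (1, 0)) = (D.mat h).det :=
    (show ∀ x : F4, x ≠ 0 → toF (omk (lg (ofF x)) (1, 0)) = x by decide +kernel) _ (D.det_ne hh)
  have hmat : D.mat h = toF (omk l (1, 0)) • (1 : Matrix (Fin 4) (Fin 4) F4) := by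
    rw [← hM, smul_smul, hdet, mul_inv_cancel₀ (D.det_ne hh), one_smul]
  have hcoord : ∀ j i, f (Pi.single (up j) (1, 0)) (up i) = if i = j then omk l (1, 0) else 0 := by
    intro j i
    have e := congrFun (congrFun hmat i) j
    rw [mat, Matrix.of_apply, Matrix.smul_apply, Matrix.one_apply, smul_eq_mul] at e
    have := congrArg ofF e
    rw [toF_facts.2.2.2.1] at this
    rw [hfdef, this]
    split_ifs <;> simp [toF_facts.2.2.2.1]
    rfl
  choose a ha using fun j : Fin 4 => (⟨_, rfl⟩ : ∃ a, f (Pi.single (up j) (1, 0)) 0 = a)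
  have hdec : ∀ j, f (Pi.single (up j) (1, 0)) =
      fun i : Fin 6 => if (i : ℕ) < 2 then a j else if i = up j then omk l (1, 0) else 0 := by
    intro j
    funext i
    rcases (show ∀ i : Fin 6, i = 0 ∨ i = 1 ∨ ∃ k, i = up k by decide +kernel) i with rfl | rfl | ⟨k, rfl⟩
    · exact ha j
    · rw [if_pos (by norm_num)]
      rw [← ha]
      exact (D.pos_pair hh (show (Pi.single (up j) ((1, 0) : W4) : Vec6) 0 = (Pi.single (up j) ((1, 0) : W4) : Vec6) 1 by
        revert j; decide +kernel)).symm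
    · rw [if_neg (by simp [up]), hcoord]
      exact if_congr ((show Function.Injective up by decide).eq_iff).symm rfl rfl
  have hsm : ∀ c, f (sm 1 c) = sm 1 (f c) := hh.2
  have hadd : ∀ c d, f (c + d) = f c + f d := cact_add D.F h
  have hA : ∀ x : Vec6, x ≠ 0 → par x = 0 → (InA D.c (f x) ↔ InA D.c x) := fun x hx hp => by
    have := D.norm
    exact inA_cact D.b D.F D.hind D.orb_iff h hx hp
  have ha0 : ∀ i j : Fin 4, i ≠ j → ∀ k : ZMod 3, a i + omk k (a j) = 0 := by
    intro i j hij k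
    have hlin : f (sm k (Pi.single (up j) (1, 0))) = sm k (f (Pi.single (up j) (1, 0))) := by
      rcases (show ∀ k : ZMod 3, k = 0 ∨ k = 1 ∨ k = 1 + 1 by decide) k with rfl | rfl | rfl
      · rw [sm_zero, sm_zero]
      · exact hsm _
      · rw [← sm_sm, hsm, hsm, sm_sm]
    have hc : ∀ (i j : Fin 4), i ≠ j → ∀ k : ZMod 3,
        cls (Pi.single (up i) ((1, 0) : W4) + sm k (Pi.single (up j) (1, 0))) = (2, 0) ∧
        ∀ (b : W4) (l : ZMod 3), b ≠ 0 → cls (fun m : Fin 6 => if (m : ℕ) < 2 then b else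
          (if m = up i then omk l (1, 0) else 0) + if m = up j then omk (k + l) (1, 0) else 0) = (4, 0) := by
      decide +kernel
    by_contra hne
    obtain ⟨hc1, hc2⟩ := hc i j hij k
    have hx : (Pi.single (up i) ((1, 0) : W4) + sm k (Pi.single (up j) (1, 0)) : Vec6) ≠ 0 ∧
        par (Pi.single (up i) ((1, 0) : W4) + sm k (Pi.single (up j) (1, 0))) = 0 := by
      refine ⟨fun e => absurd (congrArg Prod.fst hc1) (by rw [e]; decide), ?_⟩
      rw [par, show wt _ = 2 from congrArg Prod.fst hc1]; decide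
    have h1 := (hA _ hx.1 hx.2).2 (Or.inl hc1)
    rw [hadd, hlin, hdec, hdec] at h1
    have e : ((fun m : Fin 6 => if (m : ℕ) < 2 then a i else if m = up i then omk l (1, 0) else 0) +
        sm k fun m : Fin 6 => if (m : ℕ) < 2 then a j else if m = up j then omk l (1, 0) else 0) =
        fun m : Fin 6 => if (m : ℕ) < 2 then a i + omk k (a j) else
          (if m = up i then omk l (1, 0) else 0) + if m = up j then omk (k + l) (1, 0) else 0 := by
      funext m
      simp only [Pi.add_apply, sm, dg]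
      split_ifs <;> simp [omk_facts.2.2.1, (omk_facts.1 _ _).2 rfl]
    rw [e, InA, hc2 _ l hne] at h1
    simp at h1
  have haz : ∀ j, a j = 0 := fun j => by
    obtain ⟨i, hi⟩ : ∃ i : Fin 4, i ≠ j := exists_ne j
    exact (show ∀ p q : W4, p + omk 0 q = 0 → p + omk 1 q = 0 → q = 0 by decide) _ _
      (ha0 i j hi 0) (ha0 i j hi 1)
  have hej : ∀ j, f (Pi.single (up j) (1, 0)) = Pi.single (up j) (omk l (1, 0)) := fun j => by
    rw [hdec, haz]
    funext i
    rcases (show ∀ i : Fin 6, i = 0 ∨ i = 1 ∨ ∃ k, i = up k by decide +kernel) i with rfl | rfl | ⟨k, rfl⟩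
    · rw [if_pos (by norm_num), Pi.single_eq_of_ne ((show ∀ j, (0 : Fin 6) ≠ up j by decide) j)]
    · rw [if_pos (by norm_num), Pi.single_eq_of_ne ((show ∀ j, (1 : Fin 6) ≠ up j by decide) j)]
    · rw [if_neg (by simp [up]), Pi.single_apply]
  have hlow : ∀ b : Fin 6, (b : ℕ) < 2 →
      (∀ j, f (Pi.single b (1, 0)) (up j) = 0) ∧
        hf (f (Pi.single b (1, 0))) (f (Pi.single b (1, 0))) = 1 := by
    intro b hb
    refine ⟨fun j => ?_, ?_⟩
    · have h1 := D.hf_cact hh.2 (Pi.single b (1, 0)) (Pi.single (up j) (1, 0))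
      rw [← hfdef, hej, (show ∀ b : Fin 6, (b : ℕ) < 2 → ∀ j, hf (Pi.single b ((1, 0) : W4))
        (Pi.single (up j) (1, 0)) = 0 by decide +kernel) b hb j, hf, sum_eq_single (up j) (fun i _ hi => by
          rw [Pi.single_eq_of_ne hi, toF_facts.2.2.2.2.1]; simp) (by simp), Pi.single_eq_same] at h1
      exact (show ∀ (p : W4) (l : ZMod 3), toF p * toF (omk l (1, 0)) ^ 2 = 0 → p = 0 by decide +kernel) _ l h1
    · rw [hfdef, D.hf_cact hh.2]
      revert b; decide +kernel
  obtain ⟨p0, q0, hp0⟩ : ∃ p q : W4, f (Pi.single (0 : Fin 6) ((1, 0) : W4)) = Pi.single (0 : Fin 6) p + Pi.single (1 : Fin 6) q := by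
    refine ⟨f (Pi.single (0 : Fin 6) ((1, 0) : W4)) 0, f (Pi.single (0 : Fin 6) ((1, 0) : W4)) 1, funext fun i => ?_⟩
    rcases (show ∀ i : Fin 6, i = 0 ∨ i = 1 ∨ ∃ k, i = up k by decide +kernel) i with rfl | rfl | ⟨k, rfl⟩
    · simp
    · simp
    · rw [(hlow 0 (by norm_num)).1]
      simp [(show ∀ j, (0 : Fin 6) ≠ up j by decide) k, (show ∀ j, (1 : Fin 6) ≠ up j by decide) k]
  have hu : f (Pi.single (1 : Fin 6) ((1, 0) : W4)) = srep 0 + f (Pi.single (0 : Fin 6) ((1, 0) : W4)) := by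
    have e : (Pi.single (1 : Fin 6) ((1, 0) : W4) : Vec6) = srep 0 + Pi.single (0 : Fin 6) ((1, 0) : W4) := by decide +kernel
    rw [e, hadd, hfdef, D.mem_fixer.1 hh.1]
  have hfin : ∀ p q : W4, hf (Pi.single (0 : Fin 6) p + Pi.single (1 : Fin 6) q) (Pi.single (0 : Fin 6) p + Pi.single (1 : Fin 6) q) = 1 →
      hf (srep 0 + (Pi.single (0 : Fin 6) p + Pi.single (1 : Fin 6) q)) (srep 0 + (Pi.single (0 : Fin 6) p + Pi.single (1 : Fin 6) q)) = 1 →
      (Pi.single (0 : Fin 6) p + Pi.single (1 : Fin 6) q : Vec6) = Pi.single (0 : Fin 6) ((1, 0) : W4) ∨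
        (Pi.single (0 : Fin 6) p + Pi.single (1 : Fin 6) q : Vec6) = Pi.single (1 : Fin 6) ((1, 0) : W4) ∨
        trF (hf (Pi.single (0 : Fin 6) p + Pi.single (1 : Fin 6) q) (srep 0)) ≠ 0 ∨
        hf (Pi.single (0 : Fin 6) p + Pi.single (1 : Fin 6) q) (srep 0) ≠ 1 := by
    decide +kernel
  have h01 := D.hf_cact hh.2 (Pi.single (0 : Fin 6) ((1, 0) : W4)) (srep 0)
  rw [D.mem_fixer.1 hh.1, ← hfdef, hp0, show hf (Pi.single (0 : Fin 6) ((1, 0) : W4)) (srep 0) = 1 by decide +kernel] at h01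
  have hsw : (f (Pi.single (0 : Fin 6) ((1, 0) : W4)) = Pi.single (0 : Fin 6) ((1, 0) : W4) ∧ f (Pi.single (1 : Fin 6) ((1, 0) : W4)) = Pi.single (1 : Fin 6) ((1, 0) : W4)) ∨
      (f (Pi.single (0 : Fin 6) ((1, 0) : W4)) = Pi.single (1 : Fin 6) ((1, 0) : W4) ∧ f (Pi.single (1 : Fin 6) ((1, 0) : W4)) = Pi.single (0 : Fin 6) ((1, 0) : W4)) := by
    have h2 := (hlow 1 (by norm_num)).2
    rw [hu, hp0] at h2
    have h3 := (hlow 0 (by norm_num)).2
    rw [hp0] at h3
    rcases hfin p0 q0 h3 h2 with e | e | e | e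
    · refine Or.inl ⟨hp0.trans e, ?_⟩
      rw [hu, hp0, e]; decide +kernel
    · refine Or.inr ⟨hp0.trans e, ?_⟩
      rw [hu, hp0, e]; decide +kernel
    · exact absurd (by rw [h01]; rfl) e
    · exact absurd h01 e
  refine ⟨fun j => ?_, hsw⟩
  suffices l = 0 by rw [hej, this, omk_facts.2.2.2]
  obtain ⟨k, hk, hkl⟩ : ∃ k : ZMod 3, cls ((fun i : Fin 6 => if i = 5 then omk k (1, 0) else (1, 0))) = (6, D.c) ∧
      (l ≠ 0 → cls (fun i : Fin 6 => if (i : ℕ) < 2 then (1, 0) else omk l (if i = 5 then omk k (1, 0) else (1, 0))) ≠ (6, D.c) ∧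
        wt (fun i : Fin 6 => if (i : ℕ) < 2 then (1, 0) else omk l (if i = 5 then omk k (1, 0) else (1, 0))) = 6) := by
    exact (show ∀ (c l : ZMod 3), ∃ k : ZMod 3, cls ((fun i : Fin 6 => if i = 5 then omk k (1, 0) else (1, 0))) = (6, c) ∧
      (l ≠ 0 → cls (fun i : Fin 6 => if (i : ℕ) < 2 then (1, 0) else omk l (if i = 5 then omk k (1, 0) else (1, 0))) ≠ (6, c) ∧
        wt (fun i : Fin 6 => if (i : ℕ) < 2 then (1, 0) else omk l (if i = 5 then omk k (1, 0) else (1, 0))) = 6) by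
      decide +kernel) D.c l
  by_contra hl0
  obtain ⟨hne, hw6⟩ := hkl hl0
  set x : Vec6 := fun i : Fin 6 => if i = 5 then omk k (1, 0) else (1, 0) with hx
  have hx0 : x ≠ 0 := fun e => absurd (congrFun e 0) (by simp [hx])
  have hxp : par x = 0 := by rw [par, show wt x = 6 from congrArg Prod.fst hk]; decide
  have h1 := (hA x hx0 hxp).2 (Or.inr hk)
  have himg : f x = fun i : Fin 6 => if (i : ℕ) < 2 then (1, 0) else omk l (if i = 5 then omk k (1, 0) else (1, 0)) := by
    have e : x = srep 0 + (Pi.single (up 0) ((1, 0) : W4) + Pi.single (up 1) (1, 0) + Pi.single (up 2) (1, 0) +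
        sm k (Pi.single (up 3) (1, 0))) := by
      rw [hx]
      exact (show ∀ k : ZMod 3, (fun i : Fin 6 => if i = 5 then omk k ((1, 0) : W4) else (1, 0)) =
        srep 0 + (Pi.single (up 0) ((1, 0) : W4) + Pi.single (up 1) (1, 0) + Pi.single (up 2) (1, 0) +
          sm k (Pi.single (up 3) (1, 0))) by decide +kernel) k
    have hlin : ∀ c, f (sm k c) = sm k (f c) := fun c => by
      rcases (show ∀ k : ZMod 3, k = 0 ∨ k = 1 ∨ k = 1 + 1 by decide) k with rfl | rfl | rfl
      · rw [sm_zero, sm_zero]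
      · exact hsm _
      · rw [← sm_sm, hsm, hsm, sm_sm]
    rw [e, hadd, hadd, hadd, hadd, hlin, hej, hej, hej, hej, hfdef, D.mem_fixer.1 hh.1]
    exact (show ∀ k l : ZMod 3, srep 0 + (Pi.single (up 0) (omk l ((1, 0) : W4)) + Pi.single (up 1) (omk l (1, 0)) +
        Pi.single (up 2) (omk l (1, 0)) + sm k (Pi.single (up 3) (omk l (1, 0)))) =
        fun i : Fin 6 => if (i : ℕ) < 2 then (1, 0) else omk l (if i = 5 then omk k (1, 0) else (1, 0)) by
      decide +kernel) k l
  rw [himg] at h1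
  rcases h1 with h1 | h1
  · have := congrArg Prod.fst h1
    rw [show (cls _).1 = wt _ from rfl, hw6] at this
    omega
  · exact hne h1

end Data

end Cfsg.Agent.LargeFischer
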