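import Cfsg.Agent.LargeFischer.UbarData
import Cfsg.Agent.LargeFischer.StabA

/-! The intersection of `Q` with a conjugate, in coordinates. -/

set_option autoImplicit false
set_option maxRecDepth 20000
set_option Elab.async false

open Finset Cfsg Cfsg.Agent

namespace Cfsg.Agent.LargeFischer

theorem oc_conj_iff {G : Type*} [Group G] [Finite G] (g : G) {x t : G} :
    g * t * g⁻¹ ∈ LargeExtra.oc (g * x * g⁻¹) ↔ t ∈ LargeExtra.oc x := by
  refine ⟨fun h => ?_, LargeExtra.conj_mem_oc⟩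
  have h' := LargeExtra.conj_mem_oc (g := g⁻¹) h
  rwa [show g⁻¹ * (g * t * g⁻¹) * g⁻¹⁻¹ = t by group, show g⁻¹ * (g * x * g⁻¹) * g⁻¹⁻¹ = x by group] at h'

theorem oc_map_conj {G : Type*} [Group G] [Finite G] (g x : G) :
    (LargeExtra.oc x).map (MulAut.conj g).toMonoidHom = LargeExtra.oc (g * x * g⁻¹) := by
  ext t
  rw [Subgroup.mem_map]
  constructor
  · rintro ⟨a, ha, rfl⟩; exact LargeExtra.conj_mem_oc ha
  · intro ht
    refine ⟨g⁻¹ * t * g, (oc_conj_iff g).1 ?_, by simp [mul_assoc]⟩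
    rwa [show g * (g⁻¹ * t * g) * g⁻¹ = t by group]

namespace Data

variable {G : Type*} [Group G] [Finite G] {z : G}
  {Q : Subgroup (Subgroup.centralizer ({z} : Set G))} [Q.Normal] (D : Data z Q)
include D

/-- a chosen element of the centraliser of a class fixes any lift up to `Q` -/
theorem fix_lift {h : Subgroup.centralizer ({z} : Set G)} {x : Q} {v : Vec6}
    (hx : (x : ↥Q ⧸ Subgroup.center ↥Q) = D.F.co v) (hv : v ≠ 0) (hh : cact D.F h v = v) :
    ∃ q : Q, (((q : Subgroup.centralizer ({z} : Set G)) * h : Subgroup.centralizer ({z} : Set G)) : G) ∈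
      Subgroup.centralizer ({((x : Subgroup.centralizer ({z} : Set G)) : G)} : Set G) := by
  have h1 : ((MulAut.conjNormal h x : Q) : ↥Q ⧸ Subgroup.center ↥Q) = D.F.co v := by
    rw [← actV_mk, hx, ← co_cact, hh]
  obtain ⟨q, hq⟩ := D.class_conj (D.notMem_center h1 hv) (h1.trans hx.symm)
  refine ⟨q, Subgroup.mem_centralizer_singleton_iff.2 (mul_inv_eq_iff_eq_mul.1 ?_)⟩
  have h2 := congrArg (fun q : Q => ((q : Subgroup.centralizer ({z} : Set G)) : G)) hq
  simp only [Subgroup.coe_mul, Subgroup.coe_inv, MulAut.conjNormal_apply] at h2 ⊢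
  rw [show ((q : Subgroup.centralizer ({z} : Set G)) : G) * (h : G) * ((x : Subgroup.centralizer ({z} : Set G)) : G) *
      (((q : Subgroup.centralizer ({z} : Set G)) : G) * (h : G))⁻¹ =
    ((q : Subgroup.centralizer ({z} : Set G)) : G) * ((h : G) * ((x : Subgroup.centralizer ({z} : Set G)) : G) * (h : G)⁻¹) *
      ((q : Subgroup.centralizer ({z} : Set G)) : G)⁻¹ by group]
  exact h2

theorem brep_props {k : Fin 5} (hk : BRep D.c k) :
    srep k ≠ 0 ∧ par (srep k) = 0 ∧ ¬InA D.c (srep k) := by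
  refine ⟨(show ∀ k, srep k ≠ 0 by decide +kernel) k, (show ∀ k, par (srep k) = 0 by decide +kernel) k, ?_⟩
  rw [inA_iff D.c (sc_srep k), hk.1]
  simp

/-- twisted permutations -/
theorem exists_tw (k : Fin 5) (π : Equiv.Perm (Fin 6)) (hπ : Equiv.Perm.sign π = 1) :
    ∃ h ∈ D.M, ∀ u, cact D.F h u = tw k π u := by
  obtain ⟨p, hp, hpc⟩ := D.F.perm π hπ
  obtain ⟨d, hd, hdc⟩ := D.F.diag (fun i => lg (srep k i) - lg (srep k (π⁻¹ i))) (by
    rw [sum_sub_distrib, Equiv.sum_comp π⁻¹ (fun i => lg (srep k i)), sub_self])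
  exact ⟨d * p, D.M.mul_mem hd hp, fun u => by rw [cact_mul, cact_eq D.F (hpc u), cact_eq D.F (hdc _)]; rfl⟩

theorem tw_rep {k : Fin 5} (hk : BRep D.c k) (π : Equiv.Perm (Fin 6)) : tw k π (srep k) = srep k := by
  have hf : ∀ i, srep k i ≠ 0 := fun i => full_of_wt ((congrArg Prod.fst (sc_srep k)).trans hk.2) i
  funext i
  exact lg_facts.2 _ _ (hf _) (hf i)

/-- the classes in the intersection -/
def img (s : G) : Set Vec6 :=
  {u | ∃ t : Q, ((t : Subgroup.centralizer ({z} : Set G)) : G) ∈ LargeExtra.oc s ∧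
    (t : ↥Q ⧸ Subgroup.center ↥Q) = D.F.co u}

/-- the coordinates of the intersection -/
theorem img_eq {k : Fin 5} (hk : BRep D.c k) {s : G} (hsc : s ∈ Subgroup.centralizer ({z} : Set G))
    (hsQ : (⟨s, hsc⟩ : Subgroup.centralizer ({z} : Set G)) ∈ Q)
    (hmk : ((⟨_, hsQ⟩ : Q) : ↥Q ⧸ Subgroup.center ↥Q) = D.F.co (srep k))
    {g : G} (hg : g * z * g⁻¹ = s) :
    Nat.card ↥(LargeExtra.oc z ⊓ LargeExtra.oc s) = 2 ^ 7 ∧
    (∀ u, u ∈ D.img s ↔ U6 D.c k u) ∧
    (∀ t : Q, ((t : Subgroup.centralizer ({z} : Set G)) : G) ∈ LargeExtra.oc s →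
      ∃ u, U6 D.c k u ∧ (t : ↥Q ⧸ Subgroup.center ↥Q) = D.F.co u) := by
  classical
  have S := D.setting
  obtain ⟨hv, hvp, hvA⟩ := D.brep_props hk
  have hz2 : z * z = 1 := S.sq_one
  have hs1 : s ≠ z := fun e => D.notMem_center hmk hv ((center_iff D.b).2 (Or.inr (Subtype.ext e)))
  obtain ⟨hU, hUc, -⟩ := D.stab_structure hg hsc hsQ hs1 _ _ rfl rfl
  have hoc : (LargeExtra.oc z).map (MulAut.conj g).toMonoidHom = LargeExtra.oc s := by rw [oc_map_conj, hg]
  rw [hoc] at hU hUc
  have hxP : g * z * g⁻¹ ∈ LargeExtra.oc z := D.mem_oc_iff.2 ⟨⟨_, hsQ⟩, hg.symm⟩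
  have hzs : z ∈ LargeExtra.oc s := by rw [← hg]; exact S.symm hxP
  have hsv : srep k ∈ D.img s := ⟨⟨_, hsQ⟩, by
    show s ∈ LargeExtra.oc s
    rw [← hg]
    exact LargeExtra.conj_mem_oc (LargeExtra.mem_oc_self S.ord), hmk⟩
  have iadd : ∀ a ∈ D.img s, ∀ c ∈ D.img s, a + c ∈ D.img s := fun a ⟨t, ht, e⟩ c ⟨t', ht', e'⟩ =>
    ⟨t * t', mul_mem ht ht', by rw [QuotientGroup.mk_mul, e, e', D.F.map_add]⟩
  have ipar : ∀ a ∈ D.img s, par a = 0 := fun a ⟨t, ht, e⟩ =>
    (sq_iff D.b D.F e).1 (Subtype.ext (Subtype.ext (by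
      have := hU.2 _ (show ((t : Subgroup.centralizer ({z} : Set G)) : G) ∈ LargeExtra.oc z ⊓ LargeExtra.oc s from
        ⟨D.mem_oc_iff.2 ⟨t, rfl⟩, ht⟩)
      simpa [sq] using this)))
  have hcommz : ∀ a ∈ LargeExtra.oc s, ∀ a' ∈ LargeExtra.oc s, a * a' = a' * a ∨ a * a' * a⁻¹ = s * a' := by
    intro a ha a' ha'
    rw [← hoc, Subgroup.mem_map] at ha ha'
    obtain ⟨p, hp, rfl⟩ := ha
    obtain ⟨p', hp', rfl⟩ := ha'
    rcases S.commutator_cases hp hp' with h | h
    · left
      show MulAut.conj g p * MulAut.conj g p' = MulAut.conj g p' * MulAut.conj g p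
      rw [← map_mul, ← map_mul, commutatorElement_eq_one_iff_mul_comm.1 h]
    · right
      show MulAut.conj g p * MulAut.conj g p' * (MulAut.conj g p)⁻¹ = s * MulAut.conj g p'
      rw [← hg, ← map_inv, ← map_mul, ← map_mul]
      show _ = MulAut.conj g z * MulAut.conj g p'
      rw [← map_mul, show p * p' * p⁻¹ = z * p' from mul_inv_eq_iff_eq_mul.1 h]
  -- moving
  have hgood : ∀ u ∈ D.img s, Good D.c k u := by
    intro u hu
    refine ⟨ipar u hu, ipar _ (iadd u hu _ hsv), ?_⟩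
    by_cases h0 : u = 0
    · exact Or.inl h0
    by_cases h1 : u = srep k
    · exact Or.inr (Or.inl h1)
    obtain ⟨t, ht, htc⟩ := hu
    refine Or.inr (Or.inr ?_)
    have hmove : ∃ h : Subgroup.centralizer ({z} : Set G), cact D.F h u = u + srep k := by
      by_contra hno
      push Not at hno
      set t' := g⁻¹ * ((t : Subgroup.centralizer ({z} : Set G)) : G) * g with ht'
      have ht'P : t' ∈ LargeExtra.oc z := by
        rw [← oc_conj_iff g, hg, show g * t' * g⁻¹ = ((t : Subgroup.centralizer ({z} : Set G)) : G) by rw [ht']; group]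
        exact ht
      have hwP : g⁻¹ * z * g ∈ LargeExtra.oc z := by
        rw [← oc_conj_iff g, hg, show g * (g⁻¹ * z * g) * g⁻¹ = z by group]
        exact hzs
      obtain ⟨tq, htq⟩ := D.mem_oc_iff.1 ht'P
      obtain ⟨w, hw⟩ := D.mem_oc_iff.1 hwP
      obtain ⟨a, ha⟩ := D.F.bij.2 (tq : ↥Q ⧸ Subgroup.center ↥Q)
      obtain ⟨b, hb⟩ := D.F.bij.2 (w : ↥Q ⧸ Subgroup.center ↥Q)
      have hd : a = 0 ∨ a = b := by
        refine D.B_dual fun c hc => ?_
        rw [B_eq D.b D.F hb.symm (mk_lift D.F c)] at hc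
        have hwc : w * lift D.F c = lift D.F c * w := commutatorElement_eq_one_iff_mul_comm.1 (by
          simpa [commutatorElement_def] using hc)
        set q := (((lift D.F c : Q) : Subgroup.centralizer ({z} : Set G)) : G) with hq
        have hwc' : g⁻¹ * z * g * q = q * (g⁻¹ * z * g) := by
          rw [← hw]; exact congrArg (fun q : Q => ((q : Subgroup.centralizer ({z} : Set G)) : G)) hwc
        have hkH : g * q * g⁻¹ ∈ Subgroup.centralizer ({z} : Set G) := by
          rw [Subgroup.mem_centralizer_singleton_iff]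
          calc g * q * g⁻¹ * z = g * (q * (g⁻¹ * z * g)) * g⁻¹ := by group
            _ = g * (g⁻¹ * z * g * q) * g⁻¹ := by rw [hwc']
            _ = z * (g * q * g⁻¹) := by group
        have hkP : g * q * g⁻¹ ∈ LargeExtra.oc s := by
          rw [← hg]; exact LargeExtra.conj_mem_oc (D.mem_oc_iff.2 ⟨_, rfl⟩)
        refine D.perp_B ha.symm (mk_lift D.F c) (Subtype.ext (Subtype.ext ?_))
        show ((tq : Subgroup.centralizer ({z} : Set G)) : G) * q = q * ((tq : Subgroup.centralizer ({z} : Set G)) : G)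
        rw [htq]
        rcases hcommz _ hkP _ ht with e | e
        · calc t' * q = g⁻¹ * (((t : Subgroup.centralizer ({z} : Set G)) : G) * (g * q * g⁻¹)) * g := by rw [ht']; group
            _ = g⁻¹ * (g * q * g⁻¹ * ((t : Subgroup.centralizer ({z} : Set G)) : G)) * g := by rw [e]
            _ = q * t' := by rw [ht']; group
        · exfalso
          refine hno ⟨_, hkH⟩ (cact_eq D.F ?_)
          rw [← htc, actV_mk, show MulAut.conjNormal (⟨_, hkH⟩ : Subgroup.centralizer ({z} : Set G)) t = ⟨_, hsQ⟩ * t from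
            Subtype.ext (Subtype.ext e), QuotientGroup.mk_mul, hmk, htc, add_comm, D.F.map_add]
      have hval : ∀ (q : Q), ((t : Subgroup.centralizer ({z} : Set G)) : G) =
          ((q : Subgroup.centralizer ({z} : Set G)) : G) → D.F.co u = (q : ↥Q ⧸ Subgroup.center ↥Q) := fun q e => by
        rw [← htc, show t = q from Subtype.ext (Subtype.ext e)]
      have hzQ : ((⟨zc z, zc_mem D.b⟩ : Q) : ↥Q ⧸ Subgroup.center ↥Q) = 1 :=
        (QuotientGroup.eq_one_iff _).2 ((center_iff D.b).2 (Or.inr rfl))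
      have hte : ((t : Subgroup.centralizer ({z} : Set G)) : G) = g * t' * g⁻¹ := by rw [ht']; group
      have hcz : ∀ q q' : Q, (q : ↥Q ⧸ Subgroup.center ↥Q) = (q' : ↥Q ⧸ Subgroup.center ↥Q) →
          ((q : Subgroup.centralizer ({z} : Set G)) : G) = ((q' : Subgroup.centralizer ({z} : Set G)) : G) ∨
          ((q : Subgroup.centralizer ({z} : Set G)) : G) = ((q' : Subgroup.centralizer ({z} : Set G)) : G) * z := by
        intro q q' e
        rcases (center_iff D.b).1 (QuotientGroup.eq.1 e.symm) with h | h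
        · exact Or.inl (congrArg (fun q : Q => ((q : Subgroup.centralizer ({z} : Set G)) : G)) (inv_mul_eq_one.1 h).symm)
        · have h' := congrArg Subtype.val h
          simp only [Subgroup.coe_mul, Subgroup.coe_inv, zc] at h'
          exact Or.inr (inv_mul_eq_iff_eq_mul.1 h')
      rcases hd with e | e
      · rcases hcz tq 1 (by rw [← ha, e, co_zero D.b D.F, QuotientGroup.mk_one]) with h | h
        · refine h0 (D.F.bij.1 ?_)
          rw [hval 1 (by rw [hte, ← htq, h]; simp), QuotientGroup.mk_one, co_zero D.b D.F]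
        · refine h1 (D.F.bij.1 ?_)
          rw [hval ⟨_, hsQ⟩ (by rw [hte, ← htq, h]; simp [hg]), hmk]
      · rcases hcz tq w (by rw [← ha, e, hb]) with h | h
        · refine h0 (D.F.bij.1 ?_)
          rw [hval ⟨zc z, zc_mem D.b⟩ (by rw [hte, ← htq, h, hw]; show g * (g⁻¹ * z * g) * g⁻¹ = z; group), hzQ,
            co_zero D.b D.F]
        · refine h1 (D.F.bij.1 ?_)
          rw [hval (⟨zc z, zc_mem D.b⟩ * ⟨_, hsQ⟩) (by
            rw [hte, ← htq, h, hw]
            show g * (g⁻¹ * z * g * z) * g⁻¹ = z * s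
            rw [← hg]; group), QuotientGroup.mk_mul, hzQ, one_mul, hmk]
    obtain ⟨h, hh⟩ := hmove
    rw [← hh]
    have := D.norm
    exact (inA_cact D.b D.F D.hind D.orb_iff h h0 ((sq_iff D.b D.F htc).1 (by
      refine Subtype.ext (Subtype.ext ?_)
      have := hU.2 _ (show ((t : Subgroup.centralizer ({z} : Set G)) : G) ∈ LargeExtra.oc z ⊓ LargeExtra.oc s from
        ⟨D.mem_oc_iff.2 ⟨t, rfl⟩, ht⟩)
      simpa [sq] using this))).symm
  have htau : ∀ u ∈ D.img s, ∀ b, tw k (tp b) u ∈ D.img s := by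
    rintro u ⟨t, ht, htc⟩ b
    obtain ⟨h, -, hh⟩ := D.exists_tw k (tp b) (tp_sign b)
    obtain ⟨q, hq⟩ := D.fix_lift hmk hv (by rw [hh, D.tw_rep hk])
    refine ⟨MulAut.conjNormal ((q : Subgroup.centralizer ({z} : Set G)) * h) t, LargeExtra.oc_conj_mem hq ht, ?_⟩
    rw [← actV_mk, map_mul, MulAut.mul_apply, htc, ← co_cact, hh,
      show actV Q (q : Subgroup.centralizer ({z} : Set G)) = 1 from
        MonoidHom.mem_ker.1 (by rw [actV_ker D.b]; exact q.2)]
    rfl
  have hle : ∀ u ∈ D.img s, U6 D.c k u := by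
    intro u hu
    obtain ⟨N, hN, rfl⟩ : ∃ N ∈ Finset.range 4096, vecN N = u := by
      have himg : (Finset.range 4096).image vecN = univ := by
        refine eq_univ_of_card _ ?_
        rw [card_image_of_injOn vecN_inj]
        simp
      have := himg.ge (mem_univ u)
      rwa [mem_image] at this
    exact good_range D.c k hk N hN (hgood _ hu) fun b => hgood _ (iadd _ hu _ (htau _ hu b))
  have h7 : ∀ t : Q, ((t : Subgroup.centralizer ({z} : Set G)) : G) ∈ LargeExtra.oc s →
      ∃ u, U6 D.c k u ∧ (t : ↥Q ⧸ Subgroup.center ↥Q) = D.F.co u := fun t ht => by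
    obtain ⟨u, hu⟩ := D.F.bij.2 (t : ↥Q ⧸ Subgroup.center ↥Q)
    exact ⟨u, hle u ⟨t, ht, hu.symm⟩, hu.symm⟩
  refine ⟨hUc, fun u => ⟨hle u, fun hu => ?_⟩, h7⟩
  -- counting
  let I : Finset Vec6 := univ.filter (· ∈ D.img s)
  let J : Finset Vec6 := univ.filter (U6 D.c k)
  have hJ : J.card ≤ 64 := by
    have himg : (Finset.range 4096).image vecN = univ := by
      refine eq_univ_of_card _ ?_
      rw [card_image_of_injOn vecN_inj]
      simp
    show (univ.filter (U6 D.c k)).card ≤ 64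
    rw [← himg, Finset.filter_image]
    exact card_image_le.trans (u6_range D.c k hk)
  have hI : 64 ≤ I.card := by
    have hmem : ∀ a : ↥(LargeExtra.oc z ⊓ LargeExtra.oc s), ∃ t : Q, ((t : Subgroup.centralizer ({z} : Set G)) : G) = (a : G) :=
      fun a => D.mem_oc_iff.1 a.2.1
    choose t ht using hmem
    choose w hw using fun a => D.F.bij.2 (t a : ↥Q ⧸ Subgroup.center ↥Q)
    have hwI : ∀ a, w a ∈ I := fun a => mem_filter.2 ⟨mem_univ _, t a, by rw [ht]; exact a.2.2, (hw a).symm⟩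
    have hinj : Function.Injective fun a => ((⟨w a, hwI a⟩ : ↥I), decide (t a = lift D.F (w a))) := by
      intro a c h
      simp only [Prod.mk.injEq, Subtype.mk.injEq, decide_eq_decide] at h
      obtain ⟨h0, hb⟩ := h
      refine Subtype.ext ?_
      rw [← ht, ← ht]
      congr 2
      by_cases e : t a = lift D.F (w a)
      · rw [e, hb.1 e, h0]
      · obtain ⟨x, hx, ex⟩ := exists_central D.b D.F (hw a).symm
        obtain ⟨y, hy, ey⟩ := exists_central D.b D.F (hw c).symm
        have h1 : x ≠ 1 := fun e1 => e (by rw [ex, e1, mul_one])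
        have h2 : y ≠ 1 := fun e1 => e (hb.2 (by rw [ey, e1, mul_one]))
        rw [ex, ey, center_two D.b hx h1 hy h2, h0]
    have h := Nat.card_le_card_of_injective _ hinj
    rw [hUc, Nat.card_prod, Nat.card_eq_finsetCard, Nat.card_eq_fintype_card, Fintype.card_bool] at h
    omega
  have heq : I = J := eq_of_subset_of_card_le
    (fun x hx => mem_filter.2 ⟨mem_univ _, hle x (mem_filter.1 hx).2⟩) (hJ.trans hI)
  exact (mem_filter.1 (heq.ge (mem_filter.2 ⟨mem_univ _, hu⟩))).2

end Data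

end Cfsg.Agent.LargeFischer
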