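import Cfsg.Agent.LargeFischer.Bilin
import Cfsg.Agent.LargeFischer.Ubar
import Cfsg.Agent.LargeFischer.StabAIso
import Cfsg.Agent.LargeFischer.ThreeIso

/-! The shears lie in the centraliser. -/

set_option autoImplicit false
set_option maxRecDepth 20000
set_option Elab.async false

open Finset Cfsg Cfsg.Agent
open scoped commutatorElement

namespace Cfsg.Agent.LargeFischer

theorem srep_two : srep 2 = v1 ∧ BRep 1 2 ∧ (∀ j, U6 1 2 (uu j)) ∧ v1 ≠ 0 ∧ par v1 = 0 ∧
    e6 1 = sm 2 (uu 0) + e6 0 ∧ (∀ j : Fin 5, e6 j.succ = sm 2 (uu j) + e6 0) ∧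
    sm 1 v1 = uu 0 + uu 1 + uu 2 + uu 3 + uu 4 := by decide +kernel

namespace Data

variable {G : Type*} [Group G] [Finite G] {z : G}
  {Q : Subgroup (Subgroup.centralizer ({z} : Set G))} [Q.Normal] (D : Data z Q)
include D

theorem bp_cact (h : Subgroup.centralizer ({z} : Set G)) (a c : Vec6) :
    bp (cact D.F h a) (cact D.F h c) = bp a c := by
  rw [bp_eq, bp_eq, ← cact_add, cact_par D.b D.F, cact_par D.b D.F, cact_par D.b D.F]

theorem isLin_cact {h : Subgroup.centralizer ({z} : Set G)} (hh : h ∈ D.Lin) : IsLin (cact D.F h) :=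
  ⟨cact_add D.F h, D.mem_Lin.1 hh⟩

/-- a linear map moving the intersection as a shear does is a shear -/
theorem pin (hc : D.c = 1) {h : Subgroup.centralizer ({z} : Set G)} (hh : h ∈ D.Lin)
    (hv : cact D.F h v1 = v1) (hu : ∀ j, cact D.F h (uu j) = uu j ∨ cact D.F h (uu j) = uu j + v1) :
    ∃ p, ∀ x, cact D.F h x = es (pr p) x := by
  obtain ⟨-, -, -, hv0, -, hx1, hxj, hsum⟩ := srep_two
  have hl := D.isLin_cact hh
  set φ : Fin 5 → Bool := fun j => decide (cact D.F h (uu j) = uu j + v1) with hφ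
  have himg : ∀ j, cact D.F h (uu j) = uu j + if φ j then v1 else 0 := by
    intro j
    by_cases e : cact D.F h (uu j) = uu j + v1
    · simp [hφ, e]
    · simp [hφ, e, (hu j).resolve_right e]
  have hev : (∑ j, if φ j then (1 : ZMod 2) else 0) = 0 := by
    have e : sm 1 v1 = sm 1 v1 + ∑ j, if φ j then v1 else 0 := by
      conv_lhs => rw [← hv, ← hl.smul, hsum, hl.add, hl.add, hl.add, hl.add, himg, himg, himg, himg, himg]
      rw [hsum, Fin.sum_univ_five]
      abel
    have e' : (∑ j, if φ j then v1 else 0) = 0 := left_eq_add.1 e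
    rcases zmod2_cases (∑ j, if φ j then (1 : ZMod 2) else 0) with e1 | e1
    · exact e1
    exfalso
    refine hv0 (funext fun i => ?_)
    have h2 := congrFun e' i
    rw [Finset.sum_apply] at h2
    simp only [apply_ite (fun f : Vec6 => f i), Pi.zero_apply] at h2
    have h3 := congrArg Prod.fst h2
    rw [Prod.fst_sum] at h3
    simp only [apply_ite Prod.fst, show v1 i = (1, 0) from rfl, Prod.fst_zero] at h3
    rw [e1] at h3
    exact absurd h3 (by decide)
  obtain ⟨p, hp⟩ := es_match φ hev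
  refine ⟨p, fun x => ?_⟩
  have he := isLin_es (pr p)
  have hagree : ∀ j, cact D.F h (uu j) = es (pr p) (uu j) := fun j => by rw [himg, hp]
  set d := cact D.F h (e6 0) + es (pr p) (e6 0) with hd
  have hperp : ∀ (y : Vec6), cact D.F h y = es (pr p) y →
      (Perp (es (pr p) (e6 0)) (es (pr p) y) ↔ Perp (e6 0) y) → bp d (es (pr p) y) = 0 := by
    intro y e1 e2
    rw [perp_bp, perp_bp] at e2
    rw [hd, bp_add_left]
    have e3 := D.bp_cact h (e6 0) y
    rw [e1] at e3
    rw [e3]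
    rcases zmod2_cases (bp (es (pr p) (e6 0)) (es (pr p) y)) with q | q <;>
      rcases zmod2_cases (bp (e6 0) y) with r | r <;> rw [q, r] <;> first | rfl | (rw [q, r] at e2; exact absurd e2 (by decide))
  have hdv : ∀ a, bp d (sm a v1) = 0 := fun a => by
    have h1 : cact D.F h (sm a v1) = es (pr p) (sm a v1) := by rw [hl.smul_all, he.smul_all, hv, es_v1]
    have := hperp _ h1 (by rw [he.smul_all, es_v1]; exact (es_perp p 0 a).2)
    rwa [he.smul_all, es_v1] at this
  have hdu : ∀ (j : Fin 5) (a : ZMod 3), bp d (sm a (uu j)) = 0 := fun j a => by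
    have h1 : cact D.F h (sm a (uu j)) = es (pr p) (sm a (uu j)) := by rw [hl.smul_all, he.smul_all, hagree]
    have h2 := hperp _ h1 (by rw [he.smul_all]; exact (es_perp p j a).1)
    rw [he.smul_all, hp] at h2
    split_ifs at h2
    · rwa [sm_add, bp_add_right, hdv, add_zero] at h2
    · rwa [add_zero] at h2
  have hd0 : d = 0 := by
    rcases perp_pairs hdu with e | ⟨a, e⟩
    · exact e
    exfalso
    obtain ⟨hw, hwp, hwA⟩ := es_witness p (a + 2)
    have e0 : cact D.F h (e6 0) = es (pr p) (e6 0) + sm a v1 := by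
      rw [← e, hd, ← add_assoc, add_comm (es _ _) (cact _ _ _), add_assoc, add_self6, add_zero]
    have ex : cact D.F h (sm 1 (e6 0) + e6 1) = es (pr p) (sm 1 (e6 0) + e6 1) + sm (a + 2) v1 := by
      rw [hl.add, hl.smul, hx1, hl.add, he.add, he.add, hl.smul_all, hagree, e0, ← he.smul_all, sm_add,
        sm_sm, show sm (a + 2) v1 = sm (1 + a) v1 + sm a v1 from funext fun _ =>
          (show ∀ a : ZMod 3, omk (a + 2) (1, 0) = omk (1 + a) (1, 0) + omk a (1, 0) by decide) a, he.smul]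
      abel
    have hne : sm 1 (e6 0) + e6 1 ≠ 0 := by decide +kernel
    have hinv := @inA_cact _ _ _ _ _ _ _ D.b D.F D.norm D.hind _ D.orb_iff h _ hne hwp
    rw [hc] at hinv
    refine hw ⟨?_, ?_⟩
    · rw [← ex, cact_par D.b D.F, hwp]
    · rw [← ex, hinv]; exact hwA
  have he0 : cact D.F h (e6 0) = es (pr p) (e6 0) := add_eq_zero6 hd0
  refine hl.ext he (fun i => ?_) x
  rcases Fin.eq_zero_or_eq_succ i with rfl | ⟨j, rfl⟩
  · exact he0
  · rw [hxj, hl.add, he.add, hl.smul_all, he.smul_all, hagree, he0]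

/-- the elementary group of order 32 with the sixteen shears -/
theorem exists_shears (hF : IsOfLargeFischerTypeAt z Q) (hc : D.c = 1) :
    ∃ E : Subgroup (Subgroup.centralizer ({z} : Set G) ⧸ Q), IsElementaryAbelian 2 E ∧ Nat.card E = 32 ∧
      (∀ h : Subgroup.centralizer ({z} : Set G), cact D.F h v1 = v1 → ∀ y ∈ E, (h : _ ⧸ Q) * y * (h : _ ⧸ Q)⁻¹ ∈ E) ∧
      (∀ h : Subgroup.centralizer ({z} : Set G), (h : _ ⧸ Q) ∈ E → cact D.F h v1 = v1 ∧
        ∀ j, cact D.F h (uu j) = uu j ∨ cact D.F h (uu j) = uu j + v1) ∧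
      ∀ p, ∃ h : Subgroup.centralizer ({z} : Set G), (h : _ ⧸ Q) ∈ E ∧ h ∈ D.Lin ∧ ∀ x, cact D.F h x = es (pr p) x := by
  classical
  have S := D.setting
  obtain ⟨hsr, hbr, hU, hv0, hvp, -, -, -⟩ := srep_two
  have hk : BRep D.c 2 := hc ▸ hbr
  obtain ⟨-, -, hvA⟩ := D.brep_props hk
  rw [hsr] at hvA
  set sQ := lift D.F v1 with hsQdef
  have hsmk : (sQ : ↥Q ⧸ Subgroup.center ↥Q) = D.F.co v1 := mk_lift D.F v1
  set s : G := ((sQ : Subgroup.centralizer ({z} : Set G)) : G) with hs
  have hsc : s ∈ Subgroup.centralizer ({z} : Set G) := sQ.1.2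
  have hsQ : (⟨s, hsc⟩ : Subgroup.centralizer ({z} : Set G)) ∈ Q := sQ.2
  have hs1 : s ≠ z := fun e => D.notMem_center hsmk hv0 ((center_iff D.b).2 (Or.inr (Subtype.ext e)))
  obtain ⟨g, hg'⟩ := isConj_iff.1 (D.conj_of_not_inA hF hsmk hv0 hvp hvA)
  have hg : g * z * g⁻¹ = s := hg'
  obtain ⟨-, himg, -⟩ := D.img_eq hk hsc hsQ (hsmk.trans (by rw [hsr])) hg
  obtain ⟨-, -, hEX, hconj, hEab, hEc, -⟩ := D.stab_structure hg hsc hsQ hs1 _ _ rfl rfl
  set X : Subgroup (Subgroup.centralizer ({z} : Set G) ⧸ Q) := ((Subgroup.centralizer ({z} : Set G) ⊓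
    Subgroup.centralizer ({s} : Set G)).subgroupOf (Subgroup.centralizer ({z} : Set G))).map (QuotientGroup.mk' Q) with hX
  set E : Subgroup (Subgroup.centralizer ({z} : Set G) ⧸ Q) := (((LargeExtra.oc z).map (MulAut.conj g).toMonoidHom ⊓
    Subgroup.centralizer ({z} : Set G)).subgroupOf (Subgroup.centralizer ({z} : Set G))).map (QuotientGroup.mk' Q) with hE
  have hmove : ∀ h : Subgroup.centralizer ({z} : Set G), (h : _ ⧸ Q) ∈ E → cact D.F h v1 = v1 ∧
      ∀ j, cact D.F h (uu j) = uu j ∨ cact D.F h (uu j) = uu j + v1 := by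
    intro h hh
    obtain ⟨kk, hkk, e⟩ := hh
    have hact : ∀ x, cact D.F h x = cact D.F kk x := fun x => D.act_congr e.symm x
    obtain ⟨q, hq, hqe⟩ := hkk.1
    have hqe' : (kk : G) = g * q * g⁻¹ := hqe.symm
    have hks : (kk : G) * s = s * (kk : G) := by
      rw [hqe', ← hg]
      have e := Subgroup.mem_centralizer_singleton_iff.1 (LargeExtra.oc_le z hq)
      calc g * q * g⁻¹ * (g * z * g⁻¹) = g * (q * z) * g⁻¹ := by group
        _ = g * (z * q) * g⁻¹ := by rw [e]
        _ = g * z * g⁻¹ * (g * q * g⁻¹) := by group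
    refine ⟨?_, fun j => ?_⟩
    · rw [hact]
      refine cact_eq D.F ?_
      rw [← hsmk, actV_mk]
      congr 1
      refine Subtype.ext (Subtype.ext ?_)
      rw [MulAut.conjNormal_apply]
      exact mul_inv_eq_iff_eq_mul.2 hks
    · obtain ⟨t, ht, htc⟩ := (himg (uu j)).2 (hc ▸ hU j)
      rw [← hg] at ht
      have hto : ∃ q', q' ∈ LargeExtra.oc z ∧ g * q' * g⁻¹ = ((t : Subgroup.centralizer ({z} : Set G)) : G) := by
        rw [← oc_map_conj] at ht
        obtain ⟨q', hq', e⟩ := ht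
        exact ⟨q', hq', e⟩
      obtain ⟨q', hq', hq'e⟩ := hto
      rw [hact]
      rcases S.commutator_cases hq hq' with c0 | c0
      · left
        refine cact_eq D.F ?_
        rw [← htc, actV_mk]
        congr 1
        refine Subtype.ext (Subtype.ext ?_)
        rw [MulAut.conjNormal_apply]
        show (kk : G) * ((t : Subgroup.centralizer ({z} : Set G)) : G) * (kk : G)⁻¹ = _
        rw [hqe', ← hq'e]
        calc g * q * g⁻¹ * (g * q' * g⁻¹) * (g * q * g⁻¹)⁻¹ = g * (q * q' * q⁻¹ * q'⁻¹) * q' * g⁻¹ := by group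
          _ = g * q' * g⁻¹ := by rw [c0, mul_one]
      · right
        refine cact_eq D.F ?_
        rw [← htc, actV_mk, add_comm, D.F.map_add, ← hsmk, ← htc, ← QuotientGroup.mk_mul]
        congr 1
        refine Subtype.ext (Subtype.ext ?_)
        rw [MulAut.conjNormal_apply]
        show (kk : G) * ((t : Subgroup.centralizer ({z} : Set G)) : G) * (kk : G)⁻¹ =
          s * ((t : Subgroup.centralizer ({z} : Set G)) : G)
        rw [hqe', ← hq'e, ← hg]
        calc g * q * g⁻¹ * (g * q' * g⁻¹) * (g * q * g⁻¹)⁻¹ = g * (q * q' * q⁻¹ * q'⁻¹) * q' * g⁻¹ := by group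
          _ = g * z * g⁻¹ * (g * q' * g⁻¹) := by rw [c0]; group
  refine ⟨E, hEab, hEc, fun h hh y hy => ?_, hmove, ?_⟩
  · have h0 : srep 2 ≠ 0 := hsr ▸ hv0
    obtain ⟨q, hq⟩ := D.fix_lift hsmk hv0 hh
    have hmem : (h : _ ⧸ Q) ∈ X := by
      refine ⟨(q : Subgroup.centralizer ({z} : Set G)) * h, ⟨((q : Subgroup.centralizer ({z} : Set G)) * h).2, hq⟩, ?_⟩
      show (((q : Subgroup.centralizer ({z} : Set G)) * h : _) : _ ⧸ Q) = _
      rw [QuotientGroup.mk_mul, (QuotientGroup.eq_one_iff _).2 q.2, one_mul]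
    exact hconj _ hmem _ hy
  · set L : Subgroup (Subgroup.centralizer ({z} : Set G) ⧸ Q) := D.Lin.map (QuotientGroup.mk' Q) with hL
    have hLi : L.index = 2 := by
      rw [hL, D.Lin.index_map_eq (QuotientGroup.mk'_surjective Q) (by rw [QuotientGroup.ker_mk']; exact D.Q_le_Lin)]
      exact D.Lin_index hF
    haveI := Subgroup.normal_of_index_eq_two hLi
    have hcard : 16 ≤ Nat.card ↥(L.subgroupOf E) := by
      have h1 := (L.subgroupOf E).card_mul_index
      have h2 : L.relIndex E ∣ L.index := Subgroup.relIndex_dvd_index_of_normal L E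
      rw [hLi] at h2
      have h3 := Nat.le_of_dvd (by norm_num) h2
      rw [hEc] at h1
      change Nat.card ↥(L.subgroupOf E) * L.relIndex E = 32 at h1
      nlinarith
    have hrep : ∀ y : ↥(L.subgroupOf E), ∃ p, ∃ h : Subgroup.centralizer ({z} : Set G),
        (h : _ ⧸ Q) = ((y : ↥E) : _ ⧸ Q) ∧ h ∈ D.Lin ∧ ∀ x, cact D.F h x = es (pr p) x := by
      intro y
      obtain ⟨h, hh, e⟩ := Subgroup.mem_subgroupOf.1 y.2
      have he : (h : _ ⧸ Q) = ((y : ↥E) : _ ⧸ Q) := e
      obtain ⟨h1, h2⟩ := hmove h (he ▸ (y : ↥E).2)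
      obtain ⟨p, hp⟩ := D.pin hc hh h1 h2
      exact ⟨p, h, he, hh, hp⟩
    choose P H he hlin hact using hrep
    have hinj : Function.Injective P := fun y y' e => by
      refine Subtype.ext (Subtype.ext ?_)
      rw [← he, ← he, QuotientGroup.eq]
      refine D.mem_Q_of_act fun c => cact_inj D.F (H y) ?_
      rw [← cact_mul, mul_inv_cancel_left, hact, hact, e]
    haveI := Fintype.ofFinite ↥(L.subgroupOf E)
    have hbij : Function.Bijective P := (Fintype.bijective_iff_injective_and_card P).2 ⟨hinj,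
      le_antisymm (Fintype.card_le_of_injective P hinj) (by
        rw [Fintype.card_fin, ← Nat.card_eq_fintype_card]; exact hcard)⟩
    intro p
    obtain ⟨y, rfl⟩ := hbij.2 p
    exact ⟨H y, (he y).symm ▸ (y : ↥E).2, hlin y, hact y⟩

end Data
end Cfsg.Agent.LargeFischer
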