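import Cfsg.Agent.LargeFischer.MatIso

/-! Surjectivity by counting, and the two statements. -/

set_option autoImplicit false
set_option maxRecDepth 20000
set_option Elab.async false

open Finset Cfsg Cfsg.Agent
open scoped Pointwise

namespace Cfsg.Agent.LargeFischer

theorem small_index_top {Γ : Type*} [Group Γ] [Finite Γ] [IsSimpleGroup Γ] (K : Subgroup Γ) (h6 : 6 < Nat.card Γ)
    (hK : K.index ≤ 3) : K = ⊤ := by
  rcases (IsSimpleGroup.eq_bot_or_eq_top_of_normal K.normalCore K.normalCore_normal) with h | h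
  · exfalso
    have hinj : Function.Injective (MulAction.toPermHom Γ (Γ ⧸ K)) := by
      rw [← MonoidHom.ker_eq_bot_iff, ← Subgroup.normalCore_eq_ker, h]
    have h1 := Nat.card_le_card_of_injective _ hinj
    rw [Nat.card_perm] at h1
    have h2 : (Nat.card (Γ ⧸ K)).factorial ≤ (3).factorial := Nat.factorial_le (by rwa [← Subgroup.index_eq_card])
    have h3 : (3).factorial = 6 := rfl
    omega
  · exact top_le_iff.1 (h.ge.trans K.normalCore_le)

theorem pt23 : Compute.rep24.pt 23 = none ∧ Compute.rep24.pt 0 = some 0 := by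
  rw [Compute.rep24_pt (i := 23) (by norm_num), Compute.rep24_pt (i := 0) (by norm_num)]
  decide

theorem pair_mem_stab {σ : Equiv.Perm GolayPt} :
    σ ∈ MulAction.stabilizer (Equiv.Perm GolayPt) ({none, some 0} : Set GolayPt) ↔
      pt (σ none) + pt (σ (some 0)) = pt none + pt (some 0) := by
  rw [MulAction.mem_stabilizer_iff, Set.smul_set_insert, Set.smul_set_singleton, Set.pair_eq_pair_iff]
  simp only [Equiv.Perm.smul_def]
  constructor
  · rintro (⟨h1, h2⟩ | ⟨h1, h2⟩) <;> rw [h1, h2]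
    exact add_comm _ _
  · intro h
    exact pair_eq (σ.injective.ne (by simp)) (by simp) h

namespace Data
namespace MaxData

variable {G : Type*} [Group G] [Finite G] {z : G}
  {Q : Subgroup (Subgroup.centralizer ({z} : Set G))} [Q.Normal] {D : Data z Q} (M : D.MaxData)
include M

theorem fortyfive_dvd (hF : IsOfLargeFischerTypeAt z Q) (hc : D.c = 1) :
    45 ∣ Nat.card ↥(Subgroup.normalizer (M.A : Set (Subgroup.centralizer ({z} : Set G)))) := by
  classical
  obtain ⟨E, -, -, -, -, hsh⟩ := D.exists_shears hF hc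
  have hP : ∀ p, ∃ h : Subgroup.centralizer ({z} : Set G), ∀ x, cact D.F h x = es (pr p) x := fun p => by
    obtain ⟨h, -, -, h'⟩ := hsh p
    exact ⟨h, h'⟩
  set NH := Subgroup.normalizer (M.A : Set (Subgroup.centralizer ({z} : Set G)))
  letI : MulAction ↥NH Vec6 :=
    { smul := fun h v => cact D.F h.1 v
      one_smul := fun v => cact_one D.F v
      mul_smul := fun a b v => cact_mul D.F a.1 b.1 v }
  have h5 : vecN 1365 ∈ F0 ∧ vecN 1365 ≠ 0 ∧ ¬InA 1 (vecN 1365) :=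
    ⟨by rw [mem_F0]; decide +kernel, by decide +kernel, by decide +kernel⟩
  have horb : MulAction.orbit ↥NH (vecN 1365) = {u : Vec6 | u ∈ F0 ∧ u ≠ 0 ∧ ¬InA 1 u} := by
    ext u
    constructor
    · rintro ⟨h, rfl⟩
      show cact D.F h.1 (vecN 1365) ∈ F0 ∧ cact D.F h.1 (vecN 1365) ≠ 0 ∧ ¬InA 1 (cact D.F h.1 (vecN 1365))
      set r := LargeFischer.lift D.F (vecN 1365)
      have hr := D.conj_coord (mk_lift D.F (vecN 1365)) h.1
      have hrA : ((MulAut.conjNormal h.1 r : Q) : Subgroup.centralizer ({z} : Set G)) ∈ M.A := by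
        rw [MulAut.conjNormal_apply]
        exact (Subgroup.mem_normalizer_iff.1 h.2 _).1 ((M.mem_Q_iff (mk_lift D.F _)).2 h5.1)
      have hu := (M.mem_Q_iff hr).1 hrA
      have hne : cact D.F h.1 (vecN 1365) ≠ 0 := fun e => h5.2.1 (cact_inj D.F h.1 (e.trans (cact_zero D.F h.1).symm))
      refine ⟨hu, hne, M.class_not_inA hc hr hne (F0_par hu) ?_⟩
      rw [MulAut.conjNormal_apply]
      exact (D.conj_of_not_inA hF (mk_lift D.F _) h5.2.1 (F0_par h5.1) (hc ▸ h5.2.2)).trans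
        (isConj_iff.2 ⟨(h.1 : G), by simp⟩)
    · rintro ⟨hu, hu0, huA⟩
      obtain ⟨h, hh, e⟩ := M.class_trans hP h5.1 h5.2.1 hu hu0 (iff_of_false h5.2.2 huA)
        (mk_lift D.F (vecN 1365)) (mk_lift D.F u)
      refine ⟨⟨h, hh⟩, ?_⟩
      refine D.F.bij.1 ?_
      show D.F.co (cact D.F h (vecN 1365)) = D.F.co u
      rw [← D.conj_coord (mk_lift D.F (vecN 1365)) h, e, mk_lift]
  have hcard : Nat.card (MulAction.orbit ↥NH (vecN 1365)) = 45 := by
    rw [horb, ← inA_count.2, ← Nat.card_eq_finsetCard]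
    refine (Nat.card_congr (Equiv.ofBijective (fun n => ⟨uv n.1, uv_mem _, (Finset.mem_filter.1 n.2).2⟩) ⟨?_, ?_⟩)).symm
    · intro a b e
      exact Subtype.ext (uv_inj _ _ (congrArg Subtype.val e))
    · rintro ⟨u, hu, hu'⟩
      obtain ⟨n, hn, rfl⟩ := uv_surj hu
      exact ⟨⟨⟨n, hn⟩, Finset.mem_filter.2 ⟨Finset.mem_univ _, hu'⟩⟩, rfl⟩
  have h := Nat.card_congr (MulAction.orbitEquivQuotientStabilizer ↥NH (vecN 1365))
  rw [hcard] at h
  exact h ▸ Subgroup.card_quotient_dvd_card _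

theorem theta_surjective (hF : IsOfLargeFischerTypeAt z Q) (hc : D.c = 1)
    (θ : ↥(Subgroup.normalizer (M.AG : Set G)) →* ↥M24)
    (hker : θ.ker = M.AG.subgroupOf (Subgroup.normalizer (M.AG : Set G))) : Function.Surjective θ := by
  haveI := Compute.isSimpleGroup_m24
  obtain ⟨C⟩ := M.exists_chart hF hc
  set NH := Subgroup.normalizer (M.A : Set (Subgroup.centralizer ({z} : Set G))) with hNH
  letI : MulAction ↥(Subgroup.normalizer (M.AG : Set G)) ↥M.AG := MulAction.compHom _ M.AG.normalizerMonoidHom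
  set a0 : ↥M.AG := ⟨z, M.z_mem_AG⟩
  have horb : MulAction.orbit ↥(Subgroup.normalizer (M.AG : Set G)) a0 = ({a | IsConj z (a : G)} : Set ↥M.AG) := by
    ext a
    constructor
    · rintro ⟨n, rfl⟩
      exact isConj_iff.2 ⟨(n : G), rfl⟩
    · intro ha
      obtain ⟨n, hn, e⟩ := M.fusion_z a.2 ha
      exact ⟨⟨n, hn⟩, Subtype.ext e⟩
  have h1 : Nat.card ↥(Subgroup.normalizer (M.AG : Set G)) = 1771 * Nat.card ↥(MulAction.stabilizer ↥(Subgroup.normalizer (M.AG : Set G)) a0) := by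
    have h := Nat.card_congr (MulAction.orbitEquivQuotientStabilizer ↥(Subgroup.normalizer (M.AG : Set G)) a0)
    rw [Nat.card_congr (Equiv.setCongr horb)] at h
    rw [← (MulAction.stabilizer ↥(Subgroup.normalizer (M.AG : Set G)) a0).index_mul_card, Subgroup.index_eq_card, ← h, ← C.card_z]
    rfl
  have h2 : Nat.card ↥NH ∣ Nat.card ↥(MulAction.stabilizer ↥(Subgroup.normalizer (M.AG : Set G)) a0) := by
    let ι : ↥NH →* ↥(MulAction.stabilizer ↥(Subgroup.normalizer (M.AG : Set G)) a0) := MonoidHom.mk' (fun h => ⟨⟨(h.1 : G), M.norm_AG h.2⟩, Subtype.ext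
      (mul_inv_eq_iff_eq_mul.2 (Subgroup.mem_centralizer_singleton_iff.1 h.1.2))⟩) fun _ _ => rfl
    exact Subgroup.card_dvd_of_injective ι fun a b e =>
      Subtype.ext (Subtype.ext (congrArg (fun s : ↥(MulAction.stabilizer ↥(Subgroup.normalizer (M.AG : Set G)) a0) => ((s.1 : ↥(Subgroup.normalizer (M.AG : Set G))) : G)) e))
  have h21 : 2 ^ 21 ∣ Nat.card ↥NH := by
    haveI : Fact (Nat.Prime 2) := ⟨Nat.prime_two⟩
    refine dvd_trans ?_ (Subgroup.card_dvd_of_le (H := (M.P : Subgroup (Subgroup.centralizer ({z} : Set G))))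
      fun p hp => M.P_norm hp)
    have hd : 2 ^ 21 ∣ Nat.card ↥(M.P : Subgroup (Subgroup.centralizer ({z} : Set G))) *
        (M.P : Subgroup (Subgroup.centralizer ({z} : Set G))).index := by
      rw [Subgroup.card_mul_index, ← Q.card_mul_index, D.b.card, D.hind]
      norm_num
    exact (Nat.Coprime.pow_left _ ((Nat.Prime.coprime_iff_not_dvd Nat.prime_two).2 M.P.not_dvd_index)).dvd_of_dvd_mul_right hd
  have h3 : 2 ^ 21 * 45 ∣ Nat.card ↥NH := Nat.Coprime.mul_dvd_of_dvd_of_dvd (by norm_num) h21 (M.fortyfive_dvd hF hc)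
  have h4 : Nat.card ↥(Subgroup.normalizer (M.AG : Set G)) = 2 ^ 11 * Nat.card ↥θ.range := by
    rw [← θ.ker.card_mul_index, Subgroup.index_ker, hker]
    congr 1
    rw [Nat.card_congr (Subgroup.subgroupOfEquivOfLe (Subgroup.le_normalizer)).toEquiv, M.card_AG]
  obtain ⟨k, hk⟩ := h3.trans h2
  rw [h1, hk] at h4
  have h5 := θ.range.card_mul_index
  rw [Compute.card_m24] at h5
  have h6 : Nat.card ↥θ.range = 81607680 * k := by omega
  refine MonoidHom.range_eq_top.1 (small_index_top _ (by rw [Compute.card_m24]; norm_num) ?_)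
  rw [h6] at h5
  rcases Nat.eq_zero_or_pos k with rfl | hk0
  · norm_num at h5
  · have : k * θ.range.index = 3 := by
      have h7 : 81607680 * (k * θ.range.index) = 81607680 * 3 := by rw [← mul_assoc, h5]
      omega
    exact Nat.le_of_dvd (by norm_num) ⟨k, by rw [mul_comm]; exact this.symm⟩

end MaxData
end Data

variable {G : Type*} [Group G] [Finite G] {z : G}
  {Q : Subgroup (Subgroup.centralizer ({z} : Set G))} [Q.Normal]

theorem conj_mem {γ g : G} {A : Subgroup G} :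
    g ∈ A.map (MulAut.conj γ).toMonoidHom ↔ γ⁻¹ * g * γ ∈ A := by
  rw [Subgroup.mem_map]
  constructor
  · rintro ⟨b, hb, rfl⟩; simpa [mul_assoc] using hb
  · exact fun h => ⟨_, h, by simp [mul_assoc]⟩

theorem conj_norm {γ g : G} {A : Subgroup G} :
    g ∈ Subgroup.normalizer ((A.map (MulAut.conj γ).toMonoidHom : Subgroup G) : Set G) ↔
      γ⁻¹ * g * γ ∈ Subgroup.normalizer (A : Set G) := by
  simp only [Subgroup.mem_normalizer_iff, conj_mem]
  constructor
  · intro h a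
    have h' := h (γ * a * γ⁻¹)
    simpa [mul_assoc] using h'
  · intro h a
    have h' := h (γ⁻¹ * a * γ)
    simpa [mul_assoc] using h'

theorem mathieu_quotient (hF : IsOfLargeFischerTypeAt z Q) (T : Sylow 2 G) (A M : Subgroup G)
    (hA : A = thompsonSubgroupOf 2 (T : Subgroup G)) (hM : M = Subgroup.normalizer (A : Set G)) :
    IsElementaryAbelian 2 A ∧ Nat.card A = 2 ^ 11 ∧
      ∃ _ : (A.subgroupOf M).Normal, Nonempty (↥M ⧸ A.subgroupOf M ≃* ↥M24) := by
  obtain ⟨D, hc⟩ := exists_data_param hF 1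
  obtain ⟨MD⟩ := D.exists_maxData hF hc
  obtain ⟨γ, hγ⟩ := MD.thompson T
  rw [hγ] at hA
  subst hM hA
  obtain ⟨R⟩ := MD.exists_pairs hF hc
  obtain ⟨θ, -, hker⟩ := MD.exists_theta R
  have hsur := MD.theta_surjective hF hc θ hker
  refine ⟨elementary_map _ MD.el_AG, by rw [Subgroup.card_map_of_injective (MulAut.conj γ).injective, MD.card_AG],
    Subgroup.normal_in_normalizer, ?_⟩
  set M' := Subgroup.normalizer ((MD.AG.map (MulAut.conj γ).toMonoidHom : Subgroup G) : Set G)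
  let τ : ↥M' →* ↥(Subgroup.normalizer (MD.AG : Set G)) :=
    MonoidHom.mk' (fun m => ⟨γ⁻¹ * (m : G) * γ, conj_norm.1 m.2⟩) fun a b => Subtype.ext (by simp [mul_assoc])
  have hs : Function.Surjective (θ.comp τ) := fun σ => by
    obtain ⟨n, rfl⟩ := hsur σ
    refine ⟨⟨γ * (n : G) * γ⁻¹, conj_norm.2 ?_⟩, congrArg θ (Subtype.ext ?_)⟩
    · rw [show γ⁻¹ * (γ * (n : G) * γ⁻¹) * γ = n by group]; exact n.2
    · show γ⁻¹ * (γ * (n : G) * γ⁻¹) * γ = n
      group
  have hk : (MD.AG.map (MulAut.conj γ).toMonoidHom).subgroupOf M' = (θ.comp τ).ker := by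
    ext m
    rw [Subgroup.mem_subgroupOf, conj_mem, MonoidHom.mem_ker, MonoidHom.comp_apply, ← MonoidHom.mem_ker, hker,
      Subgroup.mem_subgroupOf]
    rfl
  exact ⟨(QuotientGroup.quotientMulEquivOfEq hk).trans (QuotientGroup.quotientKerEquivOfSurjective _ hs)⟩

theorem duad_stabiliser (hF : IsOfLargeFischerTypeAt z Q) (T : Sylow 2 G) (A M : Subgroup G)
    (hA : A = thompsonSubgroupOf 2 (T : Subgroup G)) (hM : M = Subgroup.normalizer (A : Set G))
    (t : G) (htA : t ∈ A) (ht2 : orderOf t = 2) (ht : ¬IsConj z t) :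
    ∃ _ : (A.subgroupOf (M ⊓ Subgroup.centralizer ({t} : Set G))).Normal,
      Nonempty (↥(M ⊓ Subgroup.centralizer ({t} : Set G)) ⧸ A.subgroupOf (M ⊓ Subgroup.centralizer ({t} : Set G)) ≃*
        ↥(M24 ⊓ MulAction.stabilizer (Equiv.Perm GolayPt) ({none, some 0} : Set GolayPt))) := by
  obtain ⟨D, hc⟩ := exists_data_param hF 1
  obtain ⟨MD⟩ := D.exists_maxData hF hc
  obtain ⟨γ, hγ⟩ := MD.thompson T
  rw [hγ] at hA
  subst hM hA
  obtain ⟨R⟩ := MD.exists_pairs hF hc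
  obtain ⟨θ, hθ, hker⟩ := MD.exists_theta R
  have hsur := MD.theta_surjective hF hc θ hker
  set t' := γ⁻¹ * t * γ with ht'
  obtain ⟨w, hw⟩ := R.surj t' (conj_mem.1 htA)
  obtain ⟨a, b, hab, rfl⟩ := (R.duad w).1 ⟨fun e => by
      rw [hw] at e
      have : t = 1 := by
        calc t = γ * t' * γ⁻¹ := by rw [ht']; group
          _ = 1 := by rw [e]; group
      rw [this, orderOf_one] at ht2
      omega, fun e => ht (by
      rw [hw] at e
      exact e.trans (isConj_iff.2 ⟨γ, by rw [ht']; group⟩))⟩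
  obtain ⟨σ, hσ, hmap⟩ := Compute.exists_move5 [a, b] (by simp [hab]) (by simp)
  simp only [List.map_cons, List.map_nil, List.length_cons, List.length_nil, List.take_succ_cons, List.take_zero,
    List.cons.injEq, and_true, pt23.1, pt23.2] at hmap
  obtain ⟨m, hm⟩ := hsur ⟨σ, hσ⟩
  -- the composite conjugation
  set δ := γ * (m : G)⁻¹ with hδ
  have hd0 : δ⁻¹ * t * δ = R.ψ (pt none + pt (some 0)) := by
    have h := hθ m a b
    rw [hm] at h
    rw [← hmap.1, ← hmap.2, ← h, hw, hδ, ht']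
    group
  have hnorm : ∀ g, g ∈ Subgroup.normalizer ((MD.AG.map (MulAut.conj γ).toMonoidHom : Subgroup G) : Set G) ↔
      δ⁻¹ * g * δ ∈ Subgroup.normalizer (MD.AG : Set G) := fun g => by
    rw [conj_norm, hδ, show (γ * (m : G)⁻¹)⁻¹ * g * (γ * (m : G)⁻¹) = (m : G) * (γ⁻¹ * g * γ) * (m : G)⁻¹ by group,
      Subgroup.mul_mem_cancel_right _ (inv_mem m.2), Subgroup.mul_mem_cancel_left _ m.2]
  have hmemA : ∀ g, g ∈ MD.AG.map (MulAut.conj γ).toMonoidHom ↔ δ⁻¹ * g * δ ∈ MD.AG := fun g => by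
    rw [conj_mem, hδ, show (γ * (m : G)⁻¹)⁻¹ * g * (γ * (m : G)⁻¹) = (m : G) * (γ⁻¹ * g * γ) * (m : G)⁻¹ by group]
    exact Subgroup.mem_normalizer_iff.1 m.2 _
  set S := Subgroup.normalizer ((MD.AG.map (MulAut.conj γ).toMonoidHom : Subgroup G) : Set G) ⊓
    Subgroup.centralizer ({t} : Set G) with hS
  set K := M24 ⊓ MulAction.stabilizer (Equiv.Perm GolayPt) ({none, some 0} : Set GolayPt) with hK
  let τ : ↥S →* ↥(Subgroup.normalizer (MD.AG : Set G)) := MonoidHom.mk' (fun g => ⟨δ⁻¹ * (g : G) * δ, (hnorm _).1 g.2.1⟩) fun a b =>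
    Subtype.ext (by simp [mul_assoc])
  have hfix : ∀ (g : G) (hg : δ⁻¹ * g * δ ∈ Subgroup.normalizer (MD.AG : Set G)), g * t = t * g ↔
      ((θ ⟨_, hg⟩ : Equiv.Perm GolayPt)) ∈ MulAction.stabilizer (Equiv.Perm GolayPt) ({none, some 0} : Set GolayPt) := by
    intro g hg
    rw [pair_mem_stab]
    constructor
    · intro hgt
      refine R.inj ((hθ ⟨_, hg⟩ none (some 0)).symm.trans ?_)
      rw [← hd0]
      show δ⁻¹ * g * δ * (δ⁻¹ * t * δ) * (δ⁻¹ * g * δ)⁻¹ = δ⁻¹ * t * δ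
      calc δ⁻¹ * g * δ * (δ⁻¹ * t * δ) * (δ⁻¹ * g * δ)⁻¹ = δ⁻¹ * (g * t) * g⁻¹ * δ := by group
        _ = δ⁻¹ * t * δ := by rw [hgt]; group
    · intro he
      have h := hθ ⟨_, hg⟩ none (some 0)
      rw [he, ← hd0] at h
      change δ⁻¹ * g * δ * (δ⁻¹ * t * δ) * (δ⁻¹ * g * δ)⁻¹ = δ⁻¹ * t * δ at h
      calc g * t = δ * (δ⁻¹ * g * δ * (δ⁻¹ * t * δ) * (δ⁻¹ * g * δ)⁻¹) * δ⁻¹ * g := by group
        _ = t * g := by rw [h]; group
  let χ : ↥S →* ↥K := MonoidHom.mk' (fun g => ⟨(θ (τ g) : Equiv.Perm GolayPt), (θ (τ g)).2,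
      (hfix _ ((hnorm _).1 g.2.1)).1 (Subgroup.mem_centralizer_singleton_iff.1 g.2.2)⟩) fun a b =>
    Subtype.ext (by simp)
  have hs : Function.Surjective χ := fun σ' => by
    obtain ⟨n, hn⟩ := hsur ⟨σ'.1, σ'.2.1⟩
    have hg : δ⁻¹ * (δ * (n : G) * δ⁻¹) * δ = n := by group
    have hgN : δ⁻¹ * (δ * (n : G) * δ⁻¹) * δ ∈ Subgroup.normalizer (MD.AG : Set G) := hg.symm ▸ n.2
    have hθn : θ ⟨_, hgN⟩ = ⟨σ'.1, σ'.2.1⟩ := by rw [← hn]; exact congrArg θ (Subtype.ext hg)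
    refine ⟨⟨δ * (n : G) * δ⁻¹, (hnorm _).2 hgN, Subgroup.mem_centralizer_singleton_iff.2 ((hfix _ hgN).2 ?_)⟩,
      Subtype.ext (show (θ ⟨_, hgN⟩ : Equiv.Perm GolayPt) = σ'.1 from congrArg Subtype.val hθn)⟩
    rw [hθn]
    exact σ'.2.2
  have hk : (MD.AG.map (MulAut.conj γ).toMonoidHom).subgroupOf S = χ.ker := by
    ext g
    rw [Subgroup.mem_subgroupOf, hmemA, MonoidHom.mem_ker]
    have h1 : χ g = 1 ↔ τ g ∈ θ.ker := by
      rw [MonoidHom.mem_ker, Subtype.ext_iff, Subtype.ext_iff]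
      rfl
    rw [h1, hker, Subgroup.mem_subgroupOf]
    rfl
  refine ⟨hk ▸ MonoidHom.normal_ker χ, ?_⟩
  haveI : ((MD.AG.map (MulAut.conj γ).toMonoidHom).subgroupOf S).Normal := hk ▸ MonoidHom.normal_ker χ
  exact ⟨(QuotientGroup.quotientMulEquivOfEq hk).trans (QuotientGroup.quotientKerEquivOfSurjective χ hs)⟩

end Cfsg.Agent.LargeFischer
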