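import Cfsg.Agent.LargeFischer.PairLocal
import Cfsg.Agent.LargeFischer.MatMain
import Cfsg.Agent.U62Rec.ResultInner
import Cfsg.Agent.Classical.ExcU4Two
import Cfsg.Agent.LargeExtra.Quotient
import Cfsg.Agent.Classical.UnitaryGroup

/-! The centraliser of the four group modulo the four group. -/

set_option autoImplicit false
set_option maxRecDepth 20000
set_option Elab.async false

open Finset Cfsg Cfsg.Agent
open scoped commutatorElement
open Cfsg.Agent.ThreeTrans.SU32 (F4)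

namespace Cfsg.Agent.LargeFischer

/-- a code word with prescribed values at three points -/
theorem exists_word {a b c : GolayPt} (hab : a ≠ b) (hac : a ≠ c) (hbc : b ≠ c) :
    ∃ x ∈ golayCode, x a = 1 ∧ x b = 1 ∧ x c = 0 := by
  have hl : [Compute.e24 0, Compute.e24 1, Compute.e24 2].Nodup := by decide +kernel
  obtain ⟨g, hg, hgl⟩ := Compute.exists_move5 [a, b, c] (by simp [hab, hac, hbc]) (by simp)
  obtain ⟨h, hh, hhl⟩ := Compute.exists_move5 _ hl (by simp)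
  simp only [List.map_cons, List.map_nil, List.take_succ_cons, List.length_cons, List.length_nil,
    List.take_zero, List.cons.injEq, and_true] at hgl hhl
  set w := Compute.decW (Compute.cw (kword 0)) + Compute.decW (Compute.cw (kword 1)) with hw
  have hwc : w ∈ golayCode := add_mem (Compute.decW_cw_mem _ (kword_ok 0).1) (Compute.decW_cw_mem _ (kword_ok 1).1)
  have hval : w (Compute.e24 0) = 1 ∧ w (Compute.e24 1) = 1 ∧ w (Compute.e24 2) = 0 := by
    rw [hw]; decide +kernel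
  refine ⟨w ∘ (g⁻¹ * h).symm, (Compute.mem_M24_iff_words _).1 (mul_mem (inv_mem hg) hh) w hwc, ?_, ?_, ?_⟩
  · rw [Function.comp_apply, show (g⁻¹ * h).symm a = Compute.e24 0 by
      rw [Equiv.symm_apply_eq, Equiv.Perm.mul_apply, hhl.1, ← hgl.1]; simp]
    exact hval.1
  · rw [Function.comp_apply, show (g⁻¹ * h).symm b = Compute.e24 1 by
      rw [Equiv.symm_apply_eq, Equiv.Perm.mul_apply, hhl.2.1, ← hgl.2.1]; simp]
    exact hval.2.1
  · rw [Function.comp_apply, show (g⁻¹ * h).symm c = Compute.e24 2 by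
      rw [Equiv.symm_apply_eq, Equiv.Perm.mul_apply, hhl.2.2, ← hgl.2.2]; simp]
    exact hval.2.2

namespace Data
namespace MaxData
namespace Four

variable {G : Type*} [Group G] [Finite G] {z : G}
  {Q : Subgroup (Subgroup.centralizer ({z} : Set G))} [Q.Normal] {D : Data z Q} {M : D.MaxData}
  {R : M.Pairs} (K : M.Four R)
include K

/-- moving the fourth point -/
theorem exists_move (hF : IsOfLargeFischerTypeAt z Q) (hc : D.c = 1) {d' : GolayPt}
    (ha : d' ≠ K.a) (hb : d' ≠ K.b) (hcd : d' ≠ K.c) :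
    ∃ g ∈ Subgroup.centralizer (K.E : Set G),
      g * z * g⁻¹ = R.ψ (pt K.a + pt K.b + (pt K.c + pt d')) := by
  obtain ⟨θ, hθ, hker⟩ := M.exists_theta R
  obtain ⟨g1, hg1, e1⟩ := Compute.exists_move5 [K.a, K.b, K.c, K.d]
    (by simp [K.ab, K.ac, K.ad, K.bc, K.bd, K.cd]) (by simp)
  obtain ⟨g2, hg2, e2⟩ := Compute.exists_move5 [K.a, K.b, K.c, d']
    (by simp [K.ab, K.ac, K.bc, ha.symm, hb.symm, hcd.symm]) (by simp)
  simp only [List.map_cons, List.map_nil, List.take_succ_cons, List.length_cons, List.length_nil,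
    List.take_zero, List.cons.injEq, and_true] at e1 e2
  obtain ⟨n, hn⟩ := M.theta_surjective hF hc θ hker ⟨g2⁻¹ * g1, mul_mem (inv_mem hg2) hg1⟩
  have hp : ((θ n : Equiv.Perm GolayPt) K.a = K.a ∧ (θ n : Equiv.Perm GolayPt) K.b = K.b ∧
      (θ n : Equiv.Perm GolayPt) K.c = K.c ∧ (θ n : Equiv.Perm GolayPt) K.d = d') := by
    rw [hn]
    refine ⟨?_, ?_, ?_, ?_⟩ <;> rw [Equiv.Perm.mul_apply, Equiv.Perm.inv_eq_iff_eq]
    · rw [e1.1, e2.1]
    · rw [e1.2.1, e2.2.1]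
    · rw [e1.2.2.1, e2.2.2.1]
    · rw [e1.2.2.2, e2.2.2.2]
  have h1 := hθ n K.a K.b
  have h2 := hθ n K.a K.c
  have h3 := hθ n K.c K.d
  rw [hp.1, hp.2.1] at h1
  rw [hp.1, hp.2.2.1] at h2
  rw [hp.2.2.1, hp.2.2.2] at h3
  refine ⟨n, K.mem_cent.2 ⟨mul_inv_eq_iff_eq_mul.1 h1, mul_inv_eq_iff_eq_mul.1 h2⟩, ?_⟩
  rw [R.hom (pt K.a + pt K.b) (pt K.c + pt d'), ← h1, ← h3]
  have e : z = R.ψ (pt K.a + pt K.b) * R.ψ (pt K.c + pt K.d) := by rw [← R.hom, K.hz]
  refine (congrArg (fun t : G => (n : G) * t * (n : G)⁻¹) e).trans ?_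
  group

/-- the image of `z` -/
def zC : ↥(Subgroup.centralizer (K.E : Set G)) := ⟨z, Subgroup.mem_subgroupOf.1 K.z_mem_CH⟩

theorem normal_E : (K.E.subgroupOf (Subgroup.centralizer (K.E : Set G))).Normal :=
  ⟨fun n hn g => by
    rw [Subgroup.mem_subgroupOf] at hn ⊢
    simp only [Subgroup.coe_mul, Subgroup.coe_inv]
    rwa [(Subgroup.mem_centralizer_iff.1 g.2 _ hn).symm, mul_inv_cancel_right]⟩

theorem main (hF : IsOfLargeFischerTypeAt z Q) (hc : D.c = 1) :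
    IsQuasisimple ↥(Subgroup.centralizer (K.E : Set G)) ∧
    ∃ _ : (K.E.subgroupOf (Subgroup.centralizer (K.E : Set G))).Normal,
      Nonempty (↥(Subgroup.centralizer (K.E : Set G)) ⧸ K.E.subgroupOf (Subgroup.centralizer (K.E : Set G)) ≃*
        Cfsg.PSU 6 F4 2) := by
  classical
  haveI := K.normal_E
  set C := Subgroup.centralizer (K.E : Set G) with hC
  set N := K.E.subgroupOf C with hN
  set π := QuotientGroup.mk' N with hπ
  set zb : ↥C ⧸ N := π K.zC with hzb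
  have hz2 : z * z = 1 := D.setting.sq_one
  have hzbne : zb ≠ 1 := fun e => K.z_notMem
    (Subgroup.mem_subgroupOf.1 ((QuotientGroup.eq_one_iff _).1 e))
  have hzb2 : zb * zb = 1 := by
    rw [hzb, ← map_mul, show K.zC * K.zC = 1 from Subtype.ext hz2, map_one]
  have hzbo : orderOf zb = 2 := orderOf_eq_prime (by rw [pow_two, hzb2]) hzbne
  set Z0 := Subgroup.centralizer ({zb} : Set (↥C ⧸ N)) with hZ0
  have hf1m : ∀ h : ↥K.CH, π ⟨((h : Subgroup.centralizer ({z} : Set G)) : G), h.2⟩ ∈ Z0 := fun h => by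
    rw [hZ0, Subgroup.mem_centralizer_singleton_iff, hzb, ← map_mul, ← map_mul]
    exact congrArg π (Subtype.ext (Subgroup.mem_centralizer_singleton_iff.1 h.1.2))
  let f1 : ↥K.CH →* ↥Z0 := MonoidHom.mk' (fun h => ⟨_, hf1m h⟩) fun a b => Subtype.ext
    (map_mul π ⟨((a.1 : Subgroup.centralizer ({z} : Set G)) : G), a.2⟩ ⟨((b.1 : Subgroup.centralizer ({z} : Set G)) : G), b.2⟩ :)
  have hf1 : Function.Surjective f1 := by
    rintro ⟨x, hx⟩
    obtain ⟨g, rfl⟩ := QuotientGroup.mk'_surjective N x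
    rw [hZ0, Subgroup.mem_centralizer_singleton_iff, hzb, ← map_mul, ← map_mul] at hx
    have he : ((g * K.zC)⁻¹ * (K.zC * g) : ↥C) ∈ N := QuotientGroup.eq.1 hx
    obtain ⟨p, hp⟩ := Subgroup.mem_subgroupOf.1 he
    simp only [Subgroup.coe_mul, Subgroup.coe_inv] at hp
    have hgz : (g : G) * z = z * g := by
      by_cases hp0 : p = 0
      · rw [hp0, (ev_vals _ _ _).2.2.2, M.psi_zero] at hp
        exact inv_mul_eq_one.1 hp.symm
      · exfalso
        refine K.not_conj_mul hp0 (isConj_iff.2 ⟨(g : G)⁻¹, ?_⟩)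
        have hge : R.ψ (ev K.a K.b K.c p) * (g : G) = g * R.ψ (ev K.a K.b K.c p) :=
          Subgroup.mem_centralizer_iff.1 g.2 _ ⟨p, rfl⟩
        calc (g : G)⁻¹ * z * (g : G)⁻¹⁻¹ = z * ((((g : G) * z)⁻¹) * (z * g)) := by
              rw [inv_inv, mul_inv_rev, inv_eq_of_mul_eq_one_right hz2]
              simp only [← mul_assoc]
              rw [hz2, one_mul]
          _ = z * R.ψ (ev K.a K.b K.c p) := by rw [hp]; rfl
    exact ⟨⟨⟨g, Subgroup.mem_centralizer_singleton_iff.2 hgz⟩, g.2⟩, Subtype.ext rfl⟩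
  have hQS : Q ≤ D.S0 := le_inf (D.Q_le_fixer _) D.Q_le_Lin
  obtain ⟨hsu, hsk⟩ := D.toSU_iso hF
  let f2 : ↥K.CH →* Cfsg.SU 4 F4 2 := D.toSU.comp (Subgroup.inclusion K.CH_le)
  have hf2k : ∀ h : ↥K.CH, f2 h = 1 ↔ (h : Subgroup.centralizer ({z} : Set G)) ∈ Q := fun h => hsk _
  have hf2 : Function.Surjective f2 := by
    intro y
    obtain ⟨s, rfl⟩ := hsu y
    obtain ⟨r, hr, hrs⟩ := K.surj_CH s.2
    refine ⟨⟨r * s, hrs⟩, ?_⟩
    show D.toSU _ = _
    rw [show (Subgroup.inclusion K.CH_le ⟨r * (s : Subgroup.centralizer ({z} : Set G)), hrs⟩ : ↥D.S0) =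
      ⟨r, hQS hr⟩ * s from Subtype.ext rfl, map_mul, (hsk ⟨r, hQS hr⟩).2 hr, one_mul]
  have hk1 : ∀ h : ↥K.CH, f1 h = 1 ↔ ∃ p, h.1 = (K.q p : Subgroup.centralizer ({z} : Set G)) := by
    intro h
    constructor
    · intro e
      obtain ⟨p, hp⟩ := Subgroup.mem_subgroupOf.1 ((QuotientGroup.eq_one_iff _).1 (congrArg Subtype.val e))
      exact ⟨p, Subtype.ext ((K.hq p).trans hp).symm⟩
    · rintro ⟨p, hp⟩
      refine Subtype.ext ((QuotientGroup.eq_one_iff _).2 (Subgroup.mem_subgroupOf.2 ⟨p, ?_⟩))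
      show R.ψ _ = ((h.1 : Subgroup.centralizer ({z} : Set G)) : G)
      rw [hp, K.hq]
  have hle : f1.ker ≤ f2.ker := fun h hh => by
    obtain ⟨p, hp⟩ := (hk1 h).1 hh
    exact MonoidHom.mem_ker.2 ((hf2k h).2 (hp ▸ (K.q p).2))
  let f : ↥Z0 →* Cfsg.SU 4 F4 2 := f1.liftOfSurjective hf1 ⟨f2, hle⟩
  have hf : ∀ h, f (f1 h) = f2 h := fun h => MonoidHom.liftOfRightInverse_comp_apply _ _ _ ⟨f2, hle⟩ h
  have hfs : Function.Surjective f := fun y => by
    obtain ⟨h, rfl⟩ := hf2 y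
    exact ⟨f1 h, hf h⟩
  -- the kernel
  have hkmem : ∀ x, x ∈ f.ker ↔ ∃ h : ↥K.CH, h.1 ∈ Q ∧ f1 h = x := by
    intro x
    rw [MonoidHom.mem_ker]
    obtain ⟨h, rfl⟩ := hf1 x
    rw [hf]
    refine ⟨fun e => ⟨h, (hf2k h).1 e, rfl⟩, ?_⟩
    rintro ⟨k, hk, e⟩
    rw [← hf, ← e, hf]
    exact (hf2k k).2 hk
  have hf2kc : Nat.card ↥f2.ker = 2 ^ 11 := by
    rw [show f2.ker = Q.subgroupOf K.CH from Subgroup.ext fun h => hf2k h, ← K.card_CQ,
      ← Subgroup.inf_subgroupOf_left]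
    exact Nat.card_congr (Subgroup.subgroupOfEquivOfLe inf_le_left).toEquiv
  have hf1kc : Nat.card ↥f1.ker = 4 := by
    rw [← Nat.card_congr (Equiv.ofBijective (fun p : W4 =>
      (⟨⟨_, K.q_mem_CH p⟩, MonoidHom.mem_ker.2 ((hk1 _).2 ⟨p, rfl⟩)⟩ : ↥f1.ker)) ⟨fun p q h => ?_, fun x => ?_⟩),
      Nat.card_eq_fintype_card]
    · rfl
    · refine K.ev_inj (R.inj ?_)
      rw [← K.hq, ← K.hq]
      exact congrArg (fun x : ↥f1.ker => ((x.1.1 : Subgroup.centralizer ({z} : Set G)) : G)) h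
    · obtain ⟨p, hp⟩ := (hk1 x.1).1 x.2
      exact ⟨p, Subtype.ext (Subtype.ext hp.symm)⟩
  have hfkc : Nat.card ↥f.ker = 2 ^ 9 := by
    have a1 := f1.ker.card_mul_index
    rw [Subgroup.index_ker, MonoidHom.range_eq_top.2 hf1, Subgroup.card_top, hf1kc] at a1
    have a2 := f2.ker.card_mul_index
    rw [Subgroup.index_ker, MonoidHom.range_eq_top.2 hf2, Subgroup.card_top, hf2kc, card_SU4] at a2
    have a3 := f.ker.card_mul_index
    rw [Subgroup.index_ker, MonoidHom.range_eq_top.2 hfs, Subgroup.card_top, card_SU4] at a3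
    omega
  have hsimple := simple_SU4
  have hpc : pCore 2 ↥Z0 = f.ker := by
    refine le_antisymm ?_ (Core.le_pCore (IsPGroup.of_card hfkc))
    have hn : ((pCore 2 ↥Z0).map f).Normal := (Core.pCore_normal (p := 2)).map f hfs
    rcases hn.eq_bot_or_eq_top with e | e
    · exact (Subgroup.map_eq_bot_iff _).1 e
    · exfalso
      have hp : IsPGroup 2 ↥((pCore 2 ↥Z0).map f) := Core.pCore_isPGroup.map f
      rw [e] at hp
      obtain ⟨k, hk⟩ := (IsPGroup.iff_card (p := 2)).1 (hp.of_equiv Subgroup.topEquiv)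
      rw [card_SU4] at hk
      have : (3 : ℕ) ∣ 2 ^ k := hk ▸ (by norm_num)
      exact absurd ((show Nat.Prime 3 by norm_num).dvd_of_dvd_pow this) (by norm_num)
  -- coordinates of an element of the kernel
  have hkq : ∀ x ∈ f.ker, ∃ (h : ↥K.CH) (r : Q) (u : Vec6), (r : Subgroup.centralizer ({z} : Set G)) = h.1 ∧
      (r : ↥Q ⧸ Subgroup.center ↥Q) = D.F.co u ∧ u ∈ perpSub Uv ∧ f1 h = x := by
    intro x hx
    obtain ⟨h, hh, e⟩ := (hkmem x).1 hx
    obtain ⟨u, hu⟩ := D.F.bij.2 (((⟨h.1, hh⟩ : Q)) : ↥Q ⧸ Subgroup.center ↥Q)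
    exact ⟨h, ⟨h.1, hh⟩, u, rfl, hu.symm, (K.Q_mem_CH hu.symm).1 h.2, e⟩
  have hzf : f1 ⟨zc z, K.z_mem_CH⟩ = ⟨zb, Subgroup.mem_centralizer_singleton_iff.2 rfl⟩ := Subtype.ext rfl
  set w0 : ↥Z0 := ⟨zb, Subgroup.mem_centralizer_singleton_iff.2 rfl⟩ with hw0
  have hw0k : w0 ∈ f.ker := (hkmem _).2 ⟨_, zc_mem D.b, hzf⟩
  obtain ⟨x0, y0, hx0, hy0, hxy⟩ := perp_wit
  set qx := LargeFischer.lift D.F x0
  set qy := LargeFischer.lift D.F y0
  have hqx : (qx : Subgroup.centralizer ({z} : Set G)) ∈ K.CH := (K.Q_mem_CH (mk_lift D.F _)).2 (mem_perp_Uv.2 hx0)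
  have hqy : (qy : Subgroup.centralizer ({z} : Set G)) ∈ K.CH := (K.Q_mem_CH (mk_lift D.F _)).2 (mem_perp_Uv.2 hy0)
  have hzc1 : ∀ p, zc z ≠ (K.q p : Subgroup.centralizer ({z} : Set G)) := fun p e =>
    K.z_notMem ⟨p, (K.hq p).symm.trans (congrArg Subtype.val e.symm)⟩
  have hcomm1 : ∀ a b : ↥K.CH, a.1 ∈ Q → b.1 ∈ Q → Commute (f1 a) (f1 b) → a.1 * b.1 = b.1 * a.1 := by
    intro a b ha hb hab
    have e : f1 (a * b * a⁻¹ * b⁻¹) = 1 := by
      rw [map_mul, map_mul, map_mul, map_inv, map_inv, ← commutatorElement_def]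
      exact commutatorElement_eq_one_iff_commute.2 hab
    obtain ⟨p, hp⟩ := (hk1 _).1 e
    rcases (center_iff D.b).1 (comm_mem D.b ⟨a.1, ha⟩ ⟨b.1, hb⟩) with h | h
    · exact congrArg Subtype.val (commutatorElement_eq_one_iff_mul_comm.1
        (show ⁅(⟨a.1, ha⟩ : Q), ⟨b.1, hb⟩⁆ = 1 from h))
    · exact absurd (h.symm.trans hp) (hzc1 p)
  have hne0 : ¬ Commute (f1 ⟨_, hqx⟩) (f1 ⟨_, hqy⟩) := fun h => by
    have := (D.comm_bp (mk_lift D.F x0) (mk_lift D.F y0)).1 (Subtype.ext (hcomm1 _ _ qx.2 qy.2 h))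
    rw [hxy] at this
    exact absurd this (by decide)
  have hxk : f1 ⟨_, hqx⟩ ∈ f.ker := (hkmem _).2 ⟨_, qx.2, rfl⟩
  have hyk : f1 ⟨_, hqy⟩ ∈ f.ker := (hkmem _).2 ⟨_, qy.2, rfl⟩
  have hex : IsExtraspecial 2 ↥f.ker := by
    refine LargeExtra.extraspecial_of (IsPGroup.of_card hfkc) (w := ⟨w0, hw0k⟩)
      (fun e => hzbne (congrArg (fun t : ↥f.ker => ((t : ↥Z0) : ↥C ⧸ N)) e))
      (Subtype.ext (Subtype.ext hzb2))
      (Subgroup.mem_center_iff.2 fun x => Subtype.ext (Subtype.ext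
        (Subgroup.mem_centralizer_singleton_iff.1 x.1.2))) ?_ ?_ ?_
      ⟨⟨_, hxk⟩, ⟨_, hyk⟩, fun e => hne0 (congrArg Subtype.val e)⟩
    · rintro ⟨x, hx⟩ hc
      obtain ⟨h, r, u, hr, hu, -, rfl⟩ := hkq x hx
      have huU : u ∈ Uv := perp_perp_Uv fun v hv => by
        obtain ⟨r', hr'⟩ : ∃ r' : Q, (r' : ↥Q ⧸ Subgroup.center ↥Q) = D.F.co v := ⟨_, mk_lift D.F v⟩
        have hr'C : (r' : Subgroup.centralizer ({z} : Set G)) ∈ K.CH := (K.Q_mem_CH hr').2 hv
        refine (D.comm_bp hr' hu).1 (Subtype.ext ?_)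
        show (r' : Subgroup.centralizer ({z} : Set G)) * r = r * r'
        rw [hr]
        refine hcomm1 ⟨_, hr'C⟩ h r'.2 (hr ▸ r.2) ?_
        exact congrArg Subtype.val (Subgroup.mem_center_iff.1 hc ⟨f1 ⟨_, hr'C⟩, (hkmem _).2 ⟨_, r'.2, rfl⟩⟩)
      obtain ⟨p, rfl⟩ := huU
      rcases (center_iff D.b).1 (QuotientGroup.eq.1 ((K.hco p).trans hu.symm)) with e | e
      · left
        refine Subtype.ext ((hk1 h).2 ⟨p, ?_⟩)
        rw [← hr, ← inv_mul_eq_one.1 e]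
      · right
        refine Subtype.ext ?_
        show f1 h = w0
        have hh : h = ⟨_, K.q_mem_CH p⟩ * ⟨zc z, K.z_mem_CH⟩ := Subtype.ext (by
          show h.1 = (K.q p : Subgroup.centralizer ({z} : Set G)) * zc z
          rw [← hr]
          exact inv_mul_eq_iff_eq_mul.1 (by simpa using e))
        rw [hh, map_mul, (hk1 _).2 ⟨p, rfl⟩, one_mul, hzf]
    · rintro ⟨x, hx⟩ ⟨y, hy⟩
      obtain ⟨a, ha, rfl⟩ := (hkmem x).1 hx
      obtain ⟨b, hb, rfl⟩ := (hkmem y).1 hy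
      rcases (center_iff D.b).1 (comm_mem D.b ⟨a.1, ha⟩ ⟨b.1, hb⟩) with h | h
      · left
        refine Subtype.ext ?_
        show ⁅f1 a, f1 b⁆ = 1
        rw [← map_commutatorElement, show ⁅a, b⁆ = 1 from Subtype.ext (congrArg Subtype.val h :), map_one]
      · right
        refine Subtype.ext ?_
        show ⁅f1 a, f1 b⁆ = w0
        rw [← map_commutatorElement, show ⁅a, b⁆ = ⟨zc z, K.z_mem_CH⟩ from Subtype.ext h, hzf]
    · rintro ⟨x, hx⟩
      obtain ⟨a, ha, rfl⟩ := (hkmem x).1 hx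
      rcases (center_iff D.b).1 (sq_mem D.b ⟨a.1, ha⟩) with h | h
      · left
        refine Subtype.ext ?_
        show f1 a * f1 a = 1
        rw [← map_mul, show a * a = 1 from Subtype.ext (congrArg Subtype.val h :), map_one]
      · right
        refine Subtype.ext ?_
        show f1 a * f1 a = w0
        rw [← map_mul, show a * a = ⟨zc z, K.z_mem_CH⟩ from Subtype.ext h, hzf]
  -- self centralising
  have hCJ : Subgroup.centralizer (f.ker : Set ↥Z0) ≤ f.ker := by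
    have hn : ((Subgroup.centralizer (f.ker : Set ↥Z0)).map f).Normal :=
      (inferInstance : (Subgroup.centralizer (f.ker : Set ↥Z0)).Normal).map f hfs
    rcases hn.eq_bot_or_eq_top with e | e
    · exact (Subgroup.map_eq_bot_iff _).1 e
    exfalso
    obtain ⟨hdsum, hdfix, hu2, hdne⟩ := dg_wit
    obtain ⟨m, hm, hmc⟩ := D.F.diag _ hdsum
    have hmS : m ∈ D.S0 := ⟨cact_eq D.F ((hmc _).trans (congrArg D.F.co hdfix)), D.M_le_Lin hm⟩
    obtain ⟨r, hr, hrm⟩ := K.surj_CH hmS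
    set h0 : ↥K.CH := ⟨r * m, hrm⟩ with hh0
    set u2 : Vec6 := Pi.single 2 ((1, 0) : W4) with hu2'
    set q2 := LargeFischer.lift D.F u2
    have hq2 : (q2 : Subgroup.centralizer ({z} : Set G)) ∈ K.CH := (K.Q_mem_CH (mk_lift D.F _)).2 (mem_perp_Uv.2 hu2)
    obtain ⟨x, hx, hxf⟩ : f (f1 h0) ∈ (Subgroup.centralizer (f.ker : Set ↥Z0)).map f := e.ge (Subgroup.mem_top _)
    obtain ⟨k, hk, hkx⟩ := (hkmem (x⁻¹ * f1 h0)).1 (by
      rw [MonoidHom.mem_ker, map_mul, map_inv, hxf, inv_mul_cancel])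
    have hky : (k * ⟨_, hq2⟩ * k⁻¹ : ↥K.CH).1 ∈ Q := Q.mul_mem (Q.mul_mem hk q2.2) (Q.inv_mem hk)
    have hfix : f1 (h0 * ⟨_, hq2⟩ * h0⁻¹) = f1 (k * ⟨_, hq2⟩ * k⁻¹) := by
      have hxc := Subgroup.mem_centralizer_iff.1 hx _ ((hkmem _).2 ⟨_, hky, rfl⟩)
      have e0 : f1 h0 = x * f1 k := by rw [hkx, mul_inv_cancel_left]
      rw [map_mul, map_mul, map_inv, e0, mul_inv_rev]
      calc x * f1 k * f1 ⟨_, hq2⟩ * ((f1 k)⁻¹ * x⁻¹)
          = x * f1 (k * ⟨_, hq2⟩ * k⁻¹) * x⁻¹ := by simp only [map_mul, map_inv]; group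
        _ = f1 (k * ⟨_, hq2⟩ * k⁻¹) := by rw [← hxc, mul_inv_cancel_right]
    obtain ⟨p, hp⟩ := (hk1 ((k * ⟨_, hq2⟩ * k⁻¹)⁻¹ * (h0 * ⟨_, hq2⟩ * h0⁻¹))).1 (by
      rw [map_mul, map_inv, hfix, inv_mul_cancel])
    have hp' : (MulAut.conjNormal k.1 q2)⁻¹ * MulAut.conjNormal (r * m) q2 = K.q p := by
      refine Subtype.ext ?_
      simp only [Subgroup.coe_mul, Subgroup.coe_inv, MulAut.conjNormal_apply, hh0] at hp ⊢
      exact hp
    have h3 : ((MulAut.conjNormal (r * m) q2 : Q) : ↥Q ⧸ Subgroup.center ↥Q) =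
        D.F.co (dg (fun i => if i = 2 ∨ i = 3 ∨ i = 4 then 1 else 0) u2) := by
      rw [D.conj_coord (mk_lift D.F u2), cact_mul, D.cact_Q hr, cact_eq D.F (hmc u2)]
    have h4 : ((MulAut.conjNormal k.1 q2 : Q) : ↥Q ⧸ Subgroup.center ↥Q) = D.F.co u2 := by
      rw [D.conj_coord (mk_lift D.F u2), D.cact_Q hk]
    have h5 := congrArg (fun t : Q => (t : ↥Q ⧸ Subgroup.center ↥Q)) hp'
    simp only [QuotientGroup.mk_mul, QuotientGroup.mk_inv, h3, h4, K.hco, inv_mul_eq_iff_eq_mul] at h5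
    rw [← D.F.map_add] at h5
    refine hdne p ?_
    rw [D.F.bij.1 h5, add_right_comm, add_self6, zero_add]
  -- recognition
  obtain ⟨e4⟩ := Classical.U42.psu_four_two (F := F4) (K := ZMod 3) F4.card_eq (ZMod.card 3)
  let eS : (↥Z0 ⧸ pCore 2 ↥Z0) ≃* Cfsg.PSp 2 (ZMod 3) :=
    ((QuotientGroup.quotientMulEquivOfEq hpc).trans (QuotientGroup.quotientKerEquivOfSurjective f hfs)).trans
      (su4Equiv.trans e4)
  have hJc : Nat.card ↥(pCore 2 ↥Z0) = 2 ^ 9 := by rw [hpc]; exact hfkc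
  obtain ⟨eA⟩ : Nonempty (↥C ⧸ N ≃* Cfsg.PSU 6 F4 2) := by
    refine (U62Rec.recognise_inner (U62Rec.setting_of hzbo (hpc.symm ▸ hex) (hpc.symm ▸ hCJ))
      ((U62Rec.card_oc hJc).trans (by norm_num)) eS F4.card_eq).resolve_right fun htop => ?_
    obtain ⟨d', hd1, hd2, hd3, hd4⟩ : ∃ d' : GolayPt, d' ≠ K.a ∧ d' ≠ K.b ∧ d' ≠ K.c ∧ d' ≠ K.d := by
      by_contra hh
      push Not at hh
      have h1 : (Finset.univ : Finset GolayPt) ⊆ {K.a, K.b, K.c, K.d} := fun x _ => by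
        simp only [Finset.mem_insert, Finset.mem_singleton]
        by_contra hx
        push Not at hx
        exact hx.2.2.2 (hh x hx.1 hx.2.1 hx.2.2.1)
      have h2 := (Finset.card_le_card h1).trans Finset.card_le_four
      simp at h2
    obtain ⟨g, hg, hgz⟩ := K.exists_move hF hc hd1 hd2 hd3
    set gb : ↥C ⧸ N := π ⟨g, hg⟩
    have hz'A : g * z * g⁻¹ * z = z * (g * z * g⁻¹) :=
      congrArg Subtype.val (M.el_AG.1.is_comm.comm (⟨_, hgz ▸ R.mem _⟩ : ↥M.AG) ⟨_, M.z_mem_AG⟩)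
    have hne : gb * zb * gb⁻¹ ≠ zb := by
      intro e
      rw [hzb, ← map_inv, ← map_mul, ← map_mul] at e
      obtain ⟨p, hp⟩ := Subgroup.mem_subgroupOf.1 (QuotientGroup.eq.1 e)
      simp only [Subgroup.coe_mul, Subgroup.coe_inv] at hp
      change _ = (g * z * g⁻¹)⁻¹ * z at hp
      rw [hgz, inv_eq_of_mul_eq_one_right (by rw [← R.hom, self11, M.psi_zero])] at hp
      conv_rhs at hp => arg 2; rw [← K.hz]
      rw [← R.hom] at hp
      have e2 : ev K.a K.b K.c p = pt K.d + pt d' := (R.inj hp).trans (by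
        rw [show pt K.a + pt K.b + (pt K.c + pt d') + (pt K.a + pt K.b + (pt K.c + pt K.d)) =
          (pt K.a + pt K.a) + (pt K.b + pt K.b) + ((pt K.c + pt K.c) + (pt K.d + pt d')) by abel]
        simp only [self11, zero_add])
      obtain ⟨h1, h2, h3, h0⟩ := ev_vals K.a K.b K.c
      rcases (show ∀ p : W4, p = 0 ∨ p = (1, 0) ∨ p = (0, 1) ∨ p = (1, 1) by decide) p with rfl | rfl | rfl | rfl
      · exact pt_ne hd4.symm (e2.symm.trans h0)
      · rcases pair_eq K.ab hd4.symm (h1.symm.trans e2) with ⟨h, -⟩ | ⟨h, -⟩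
        exacts [K.ad h, hd1 h.symm]
      · rcases pair_eq K.ac hd4.symm (h2.symm.trans e2) with ⟨h, -⟩ | ⟨h, -⟩
        exacts [K.ad h, hd1 h.symm]
      · rcases pair_eq K.bc hd4.symm (h3.symm.trans e2) with ⟨h, -⟩ | ⟨h, -⟩
        exacts [K.bd h, hd2 h.symm]
    have hcomm : gb * zb * gb⁻¹ * zb = zb * (gb * zb * gb⁻¹) := by
      rw [hzb, ← map_inv, ← map_mul, ← map_mul, ← map_mul, ← map_mul]
      exact congrArg π (Subtype.ext hz'A)
    have hmem : gb ∈ oddCore (↥C ⧸ N) ⊔ Z0 := by rw [sup_comm, htop]; exact Subgroup.mem_top _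
    have hOn : (oddCore (↥C ⧸ N)).Normal := inferInstance
    obtain ⟨o, ho, c, hcz, hoc⟩ := Subgroup.mem_sup_of_normal_left.1 hmem
    have hgo : gb * zb * gb⁻¹ = o * zb * o⁻¹ := by
      rw [← hoc, mul_inv_rev]
      calc o * c * zb * (c⁻¹ * o⁻¹) = o * (c * zb * c⁻¹) * o⁻¹ := by group
        _ = _ := by rw [Subgroup.mem_centralizer_singleton_iff.1 hcz, mul_inv_cancel_right]
    rw [hgo] at hne hcomm
    set t := o * zb * o⁻¹ with ht
    have ht2 : t * t = 1 := by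
      rw [ht, show o * zb * o⁻¹ * (o * zb * o⁻¹) = o * (zb * zb) * o⁻¹ by group, hzb2, mul_one, mul_inv_cancel]
    have hzi : zb⁻¹ = zb := inv_eq_of_mul_eq_one_right hzb2
    have hm : t * zb ∈ oddCore (↥C ⧸ N) := by
      rw [ht, show o * zb * o⁻¹ * zb = o * (zb * o⁻¹ * zb⁻¹) by rw [hzi]; group]
      exact mul_mem ho (hOn.conj_mem _ (inv_mem ho) _)
    have hs : (t * zb) * (t * zb) = 1 := by
      calc t * zb * (t * zb) = t * (zb * t) * zb := by group
        _ = t * t * (zb * zb) := by rw [← hcomm]; group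
        _ = 1 := by rw [ht2, hzb2, mul_one]
    have hodd : Odd (Nat.card ↥(oddCore (↥C ⧸ N))) := Nat.coprime_two_right.1 Core.coprime_card_pPrimeCore
    have h1 : t * zb = 1 := by
      by_contra hne1
      have h2 : orderOf (t * zb) = 2 := orderOf_eq_prime (by rw [pow_two, hs]) hne1
      have := Subgroup.orderOf_dvd_natCard _ hm
      rw [h2] at this
      exact (Nat.not_even_iff_odd.2 hodd) (even_iff_two_dvd.2 this)
    exact hne (by rw [eq_inv_of_mul_eq_one_left h1, hzi])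
  have hAs : IsSimpleGroup (↥C ⧸ N) := by
    have := Classical.isSimpleGroup_psu (F := F4) (q := 2) (by rw [F4.card_eq]; norm_num) 6 (by norm_num) (by norm_num)
    exact eA.isSimpleGroup
  have hnab : ¬ ∀ x y : ↥C ⧸ N, x * y = y * x := fun h => hne0 (Subtype.ext (h _ _))
  have hcomA : commutator (↥C ⧸ N) = ⊤ := by
    rcases (inferInstance : (commutator (↥C ⧸ N)).Normal).eq_bot_or_eq_top with e | e
    · exact absurd (fun x y => commutatorElement_eq_one_iff_mul_comm.1 (Subgroup.mem_bot.1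
        (e ▸ Subgroup.commutator_mem_commutator (Subgroup.mem_top x) (Subgroup.mem_top y)))) hnab
    · exact e
  -- the four group consists of commutators
  set S := (commutator ↥C).map C.subtype with hS
  have hSn : ∀ g ∈ C, ∀ x ∈ S, g * x * g⁻¹ ∈ S := by
    rintro g hg _ ⟨x, hx, rfl⟩
    exact ⟨⟨g, hg⟩ * x * ⟨g, hg⟩⁻¹, (inferInstance : (commutator ↥C).Normal).conj_mem _ hx _, rfl⟩
  have hzS : z ∈ S := by
    rcases (center_iff D.b).1 (comm_mem D.b qx qy) with h | h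
    · have h' : qx * qy = qy * qx := commutatorElement_eq_one_iff_mul_comm.1 (show ⁅qx, qy⁆ = 1 from h)
      rw [(D.comm_bp (mk_lift D.F x0) (mk_lift D.F y0))] at h'
      rw [hxy] at h'
      exact absurd h' (by decide)
    · refine ⟨⁅(⟨_, hqx⟩ : ↥C), ⟨_, hqy⟩⁆, Subgroup.commutator_mem_commutator (Subgroup.mem_top _) (Subgroup.mem_top _), ?_⟩
      have := congrArg Subtype.val h
      simp only [Subgroup.coe_mul, Subgroup.coe_inv, zc] at this
      exact this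
  let Kw : AddSubgroup W11 :=
    { carrier := {w | R.ψ w ∈ S}
      zero_mem' := show R.ψ 0 ∈ S by rw [M.psi_zero]; exact one_mem _
      add_mem' := fun {v w} hv hw => show R.ψ (v + w) ∈ S by rw [R.hom]; exact mul_mem hv hw
      neg_mem' := fun {v} hv => by rwa [show -v = v from funext fun _ => (show ∀ p : ZMod 2, -p = p by decide) _] }
  have hdd : ∀ d', d' ≠ K.a → d' ≠ K.b → d' ≠ K.c → pt d' + pt K.d ∈ Kw := fun d' h1 h2 h3 => by
    obtain ⟨g, hg, hgz⟩ := K.exists_move hF hc h1 h2 h3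
    show R.ψ _ ∈ S
    rw [show pt d' + pt K.d = (pt K.a + pt K.b + (pt K.c + pt d')) + (pt K.a + pt K.b + (pt K.c + pt K.d)) by
      rw [show pt K.a + pt K.b + (pt K.c + pt d') + (pt K.a + pt K.b + (pt K.c + pt K.d)) =
        (pt K.a + pt K.a) + (pt K.b + pt K.b) + ((pt K.c + pt K.c) + (pt d' + pt K.d)) by abel]
      simp only [self11, zero_add], R.hom, K.hz, ← hgz]
    exact mul_mem (hSn g hg z hzS) hzS
  have hpair : ∀ i j k : GolayPt, i ≠ j → i ≠ k → j ≠ k → (∀ x, x ≠ i → x ≠ j → x ≠ k → pt x + pt K.d ∈ Kw) →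
      pt i + pt j ∈ Kw := by
    intro i j k hij hik hjk hK
    obtain ⟨x, hx, xi, xj, xk⟩ := exists_word hij hik hjk
    obtain ⟨h1, h2⟩ := Prod.ext_iff.1 (psum_code hx)
    simp only [psum, Prod.fst_zero, Prod.snd_zero] at h1 h2
    have h3 : ∑ l, x l • (pt l + pt K.d) = 0 := by
      simp only [smul_add, Finset.sum_add_distrib, ← Finset.sum_smul, h1, h2, zero_smul, add_zero]
    rw [← Finset.add_sum_erase _ _ (Finset.mem_univ i),
      ← Finset.add_sum_erase _ _ (Finset.mem_erase.2 ⟨hij.symm, Finset.mem_univ j⟩), xi, xj, one_smul, one_smul,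
      ← add_assoc, show pt i + pt K.d + (pt j + pt K.d) = pt i + pt j + (pt K.d + pt K.d) by abel, self11, add_zero] at h3
    rw [eq_of_add11 h3]
    refine sum_mem fun l hl => ?_
    obtain ⟨hlj, hli, -⟩ := Finset.mem_erase.1 hl |>.imp_right Finset.mem_erase.1
    rcases (show ∀ c : ZMod 2, c = 0 ∨ c = 1 by decide) (x l) with e | e <;> rw [e]
    · rw [zero_smul]; exact zero_mem _
    · rw [one_smul]
      exact hK l hli hlj fun ek => by rw [ek, xk] at e; exact absurd e (by decide)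
  have hab : pt K.a + pt K.b ∈ Kw := hpair _ _ _ K.ab K.ac K.bc hdd
  have hac : pt K.a + pt K.c ∈ Kw := hpair _ _ _ K.ac K.ab K.bc.symm fun x h1 h2 h3 => hdd x h1 h3 h2
  have hNle : N ≤ commutator ↥C := by
    intro n hn
    obtain ⟨p, hp⟩ := Subgroup.mem_subgroupOf.1 hn
    have hpK : ev K.a K.b K.c p ∈ Kw := by
      rw [ev]
      refine add_mem ?_ ?_
      · rcases (show ∀ c : ZMod 2, c = 0 ∨ c = 1 by decide) p.1 with e | e <;> rw [e] <;> simp [hab]
      · rcases (show ∀ c : ZMod 2, c = 0 ∨ c = 1 by decide) p.2 with e | e <;> rw [e] <;> simp [hac]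
    have : (n : G) ∈ S := by rw [← hp]; exact hpK
    obtain ⟨m, hm, e⟩ := this
    rwa [← Subtype.ext e]
  have hperf : commutator ↥C = ⊤ := by
    refine eq_top_iff.2 fun x _ => ?_
    have hm : π x ∈ (commutator ↥C).map π := by
      rw [commutator_def, Subgroup.map_commutator, Subgroup.map_top_of_surjective _ (QuotientGroup.mk'_surjective N),
        ← commutator_def, hcomA]
      exact Subgroup.mem_top _
    obtain ⟨y, hy, e⟩ := hm
    have := QuotientGroup.eq.1 (show ((y : ↥C) : ↥C ⧸ N) = (x : ↥C ⧸ N) from e)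
    simpa using mul_mem hy (hNle this)
  have hcen : Subgroup.center ↥C = N := by
    refine le_antisymm ?_ fun n hn => Subgroup.mem_center_iff.2 fun g => Subtype.ext ?_
    · have hn : ((Subgroup.center ↥C).map π).Normal :=
        (inferInstance : (Subgroup.center ↥C).Normal).map π (QuotientGroup.mk'_surjective N)
      rcases hn.eq_bot_or_eq_top with e | e
      · intro c hc
        exact (QuotientGroup.eq_one_iff c).1 (Subgroup.mem_bot.1 (e ▸ ⟨c, hc, rfl⟩))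
      · exfalso
        refine hnab fun x y => ?_
        obtain ⟨a, ha, rfl⟩ := e.ge (Subgroup.mem_top x)
        obtain ⟨b, -, rfl⟩ := e.ge (Subgroup.mem_top y)
        rw [← map_mul, ← map_mul, Subgroup.mem_center_iff.1 ha b]
    · exact (Subgroup.mem_centralizer_iff.1 g.2 _ (Subgroup.mem_subgroupOf.1 hn)).symm
  refine ⟨⟨⟨hperf⟩, ?_⟩, K.normal_E, ⟨eA⟩⟩
  exact ((QuotientGroup.quotientMulEquivOfEq hcen).isSimpleGroup)

end Four
end MaxData
end Data
end Cfsg.Agent.LargeFischer
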