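import Cfsg.Agent.LargeFischer.Unitary
import Cfsg.Agent.Classical.LinearBasic
import Cfsg.Agent.Classical.UnitaryThreeTwo

/-! Invariant forms and orbits for the subgroup of order 81 and the group `SL₂(9)` acting on it. -/

set_option autoImplicit false
set_option maxRecDepth 20000
set_option Elab.async false

open scoped Matrix

namespace Cfsg.Agent.LargeFischer

open Cfsg.Agent.U33 (F9)

/-- Seven elements of `SL₂(9)`, as rows. -/
def genE : Fin 7 → Fin 4 → F9 :=
  ![![fx 0 0, fx 1 0, fx 2 0, fx 0 0], ![fx 0 0, fx 1 1, fx 1 2, fx 0 0], ![fx 1 0, fx 0 0, fx 0 1, fx 1 0], ![fx 1 0, fx 1 0, fx 0 2, fx 1 2], ![fx 1 0, fx 0 1, fx 1 2, fx 2 1], ![fx 1 0, fx 1 1, fx 2 0, fx 0 2], ![fx 1 0, fx 0 2, fx 2 1, fx 2 1]]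

theorem genE_det : ∀ j, genE j 0 * genE j 3 - genE j 1 * genE j 2 = 1 := by decide +kernel

/-- Seven elements of `SL₂(9)`. -/
def gen (j : Fin 7) : Matrix.SpecialLinearGroup (Fin 2) F9 :=
  ⟨!![genE j 0, genE j 1; genE j 2, genE j 3], by
    rw [Matrix.det_fin_two]
    exact genE_det j⟩

/-- Images of the basis vectors under the seven elements. -/
def imgB : Fin 7 → Fin 4 → Vec :=
  ![![![0, 1, 0, 0], ![1, 0, 0, 0], ![0, 0, 1, 0], ![0, 0, 0, 2]],
  ![![0, 2, 0, 0], ![2, 0, 0, 0], ![0, 0, 0, 1], ![0, 0, 1, 0]],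
  ![![1, 1, 1, 0], ![0, 1, 0, 0], ![0, 2, 1, 0], ![0, 0, 0, 1]],
  ![![1, 1, 2, 0], ![1, 2, 2, 1], ![0, 1, 1, 0], ![2, 2, 1, 1]],
  ![![1, 2, 2, 1], ![1, 2, 1, 1], ![1, 0, 0, 1], ![0, 2, 0, 1]],
  ![![1, 1, 0, 2], ![2, 1, 2, 2], ![1, 1, 1, 2], ![2, 0, 0, 2]],
  ![![1, 2, 1, 2], ![1, 2, 2, 2], ![2, 0, 0, 1], ![0, 1, 0, 1]]]

/-- Action of the seven elements. -/
def actJ (j : Fin 7) (v : Vec) : Vec := fun k =>
  v 0 * imgB j 0 k + v 1 * imgB j 1 k + v 2 * imgB j 2 k + v 3 * imgB j 3 k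

theorem act_actJ : ∀ (j : Fin 7) (v : Vec),
    act (genE j 0) (genE j 1) (genE j 2) (genE j 3) v = actJ j v := by decide +kernel

/-- The abelian subgroup with its normalising group, in an abstract group. -/
structure Frame81 (G : Type*) [Group G] where
  /-- the subgroup of order 81 -/
  a : Multiplicative Vec →* G
  inj : Function.Injective a
  /-- the image of `SL₂(9)` -/
  l : Matrix.SpecialLinearGroup (Fin 2) F9 →* G
  norm : ∀ A v, l A * a v * (l A)⁻¹ ∈ a.range
  acts : ∀ (j : Fin 7) (v : Vec), l (gen j) * a (Multiplicative.ofAdd v) * (l (gen j))⁻¹ =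
    a (Multiplicative.ofAdd (actJ j v))

/-- transport along an isomorphism -/
def Frame81.map {G H : Type*} [Group G] [Group H] (T : Frame81 G) (e : G ≃* H) : Frame81 H where
  a := e.toMonoidHom.comp T.a
  inj := e.injective.comp T.inj
  l := e.toMonoidHom.comp T.l
  norm A v := by
    obtain ⟨w, hw⟩ := T.norm A v
    exact ⟨w, by simp [hw]⟩
  acts j v := by simp [← T.acts j v]

theorem uHom_lHom (A : Matrix.SpecialLinearGroup (Fin 2) F9) (v : Vec) :
    lHom A * uHom (Multiplicative.ofAdd v) =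
      uHom (Multiplicative.ofAdd (act (A.1 0 0) (A.1 0 1) (A.1 1 0) (A.1 1 1) v)) * lHom A := by
  have h := A.2
  rw [Matrix.det_fin_two] at h
  have hb := act_block _ _ _ _ h v
  rw [← Matrix.eta_fin_two A.1] at hb
  refine Subtype.ext (Subtype.ext ?_)
  show lMat A.1 * uMat v = uMat (act (A.1 0 0) (A.1 0 1) (A.1 1 0) (A.1 1 1) v) * lMat A.1
  rw [lMat, uMat, uMat, conj_mul, conj_mul, hb]

theorem uBlock_injective : ∀ v : Vec, uBlock v = 1 → v = 0 := by decide +kernel

theorem fixed_vec : ∀ v : Vec, (∀ j, actJ j v = v) → v = 0 := by decide +kernel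

theorem uHom_injective : Function.Injective uHom := (injective_iff_map_eq_one _).2 fun v hv => by
  have h : uMat v.toAdd = 1 := congrArg (fun g : Cfsg.SU 4 F9 3 => g.1.1) hv
  have h' : Pi' * uMat v.toAdd * Pm = 1 := by rw [h, mul_one, Pi_mul_P]
  rw [uMat, show Pi' * (Pm * uBlock v.toAdd * Pi') * Pm = Pi' * Pm * uBlock v.toAdd * (Pi' * Pm) by
    noncomm_ring, Pi_mul_P, one_mul, mul_one] at h'
  exact Multiplicative.toAdd.injective (uBlock_injective _ h')

theorem uHom_central {v : Vec} (h : uHom (Multiplicative.ofAdd v) ∈ Subgroup.center (Cfsg.SU 4 F9 3)) :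
    v = 0 := by
  refine fixed_vec v fun j => ?_
  have h1 := uHom_lHom (gen j) v
  rw [Subgroup.mem_center_iff.1 h (lHom (gen j))] at h1
  have h2 := uHom_injective (mul_right_cancel h1)
  rw [← act_actJ]
  exact (Multiplicative.ofAdd.injective h2).symm

/-- The model in `PSU₄(3)`. -/
def psuFrame : Frame81 (Cfsg.PSU 4 F9 3) where
  a := (QuotientGroup.mk' _).comp uHom
  inj := (injective_iff_map_eq_one _).2 fun v hv => by
    have h := (QuotientGroup.eq_one_iff (uHom v)).1 hv
    exact Multiplicative.toAdd.injective (uHom_central h)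
  l := (QuotientGroup.mk' _).comp lHom
  norm A v := by
    refine ⟨Multiplicative.ofAdd (act (A.1 0 0) (A.1 0 1) (A.1 1 0) (A.1 1 1) v.toAdd),
      eq_mul_inv_of_mul_eq ?_⟩
    rw [MonoidHom.comp_apply, MonoidHom.comp_apply, MonoidHom.comp_apply, ← map_mul, ← map_mul]
    exact congrArg _ (uHom_lHom A v.toAdd).symm
  acts j v := by
    refine mul_inv_eq_iff_eq_mul.2 ?_
    rw [MonoidHom.comp_apply, MonoidHom.comp_apply, MonoidHom.comp_apply, ← map_mul, ← map_mul,
      ← act_actJ]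
    exact congrArg _ (uHom_lHom (gen j) v)

theorem exists_frame81 {K : Type} [Field K] [Fintype K] (hK : Fintype.card K = 9) :
    Nonempty (Frame81 (Cfsg.PSU 4 K 3)) := by
  obtain ⟨e⟩ : Nonempty (F9 ≃+* K) :=
    ⟨FiniteField.ringEquivOfCardEq (U33.F9.card_eq.trans hK.symm)⟩
  obtain ⟨φ⟩ := Classical.U32.psu_congr (n := 4) (q := 3) e
  exact ⟨psuFrame.map φ⟩

/-- Values of an alternating form at pairs of basis vectors. -/
def altVal (c : Fin 6 → ZMod 3) (u v : Vec) : ZMod 3 :=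
  c 0 * (u 0 * v 1 - u 1 * v 0) + c 1 * (u 0 * v 2 - u 2 * v 0) + c 2 * (u 0 * v 3 - u 3 * v 0) +
    c 3 * (u 1 * v 2 - u 2 * v 1) + c 4 * (u 1 * v 3 - u 3 * v 1) + c 5 * (u 2 * v 3 - u 3 * v 2)

theorem alt_zero : ∀ c : Fin 6 → ZMod 3, (∀ (j : Fin 7) (i k : Fin 4),
    altVal c (imgB j i) (imgB j k) = altVal c (Pi.single i 1) (Pi.single k 1)) → c = 0 := by
  decide +kernel

/-- A functional from its coefficients. -/
def fval (c v : Vec) : ZMod 3 := c 0 * v 0 + c 1 * v 1 + c 2 * v 2 + c 3 * v 3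

theorem orbit_seven : ∀ c : Vec, c ≠ 0 →
    7 ≤ (Finset.univ.image fun j : Fin 7 => (fun i : Fin 4 => fval c (imgB j i))).card := by
  decide +kernel

theorem sl_image {P : Type*} [Group P] [Finite P] (f : Matrix.SpecialLinearGroup (Fin 2) F9 →* P)
    (hf : f ≠ 1) : 360 ≤ Nat.card ↥f.range := by
  have hx : ∃ x : F9, x ≠ 0 ∧ x ^ 2 ≠ 1 := ⟨fx 0 1, by decide +kernel, by decide +kernel⟩
  have hs : IsSimpleGroup (Matrix.SpecialLinearGroup (Fin 2) F9 ⧸
      Subgroup.center (Matrix.SpecialLinearGroup (Fin 2) F9)) :=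
    Classical.isSimpleGroup_psl (Or.inr ⟨by simp, hx⟩)
  have hperf := Classical.commutator_sl_eq_top (ι := Fin 2) (F := F9) (Or.inr hx)
  set Z := Subgroup.center (Matrix.SpecialLinearGroup (Fin 2) F9) with hZ
  have hker : f.ker ≤ Z := by
    rcases hs.eq_bot_or_eq_top_of_normal _
        ((inferInstance : f.ker.Normal).map (QuotientGroup.mk' Z) (QuotientGroup.mk'_surjective _))
      with h | h
    · rwa [Subgroup.map_eq_bot_iff, QuotientGroup.ker_mk'] at h
    · exfalso
      apply hf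
      have hsup : f.ker ⊔ Z = ⊤ := by
        have := congrArg (Subgroup.comap (QuotientGroup.mk' Z)) h
        rwa [Subgroup.comap_map_eq, QuotientGroup.ker_mk', Subgroup.comap_top] at this
      have hcomm : ∀ a b, f a * f b = f b * f a := by
        intro a b
        obtain ⟨k, hk, c, hc, rfl⟩ := Subgroup.mem_sup_of_normal_right.1 (hsup ▸ Subgroup.mem_top a)
        rw [map_mul, MonoidHom.mem_ker.1 hk, one_mul, ← map_mul, ← map_mul,
          Subgroup.mem_center_iff.1 hc b]
      refine MonoidHom.ext fun g => ?_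
      have : commutator (Matrix.SpecialLinearGroup (Fin 2) F9) ≤ f.ker := by
        rw [commutator_def, Subgroup.commutator_le]
        intro a _ b _
        rw [MonoidHom.mem_ker, map_commutatorElement, commutatorElement_eq_one_iff_mul_comm]
        exact hcomm a b
      rw [hperf] at this
      exact this (Subgroup.mem_top g)
  have h720 : Nat.card (Matrix.SpecialLinearGroup (Fin 2) F9) = 720 := by
    have := Classical.card_sl_mul (F := F9) (q := 9) U33.F9.card_eq 2 (by norm_num)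
    rw [Fin.prod_univ_two] at this
    simp only [Fin.val_zero, Fin.val_one, pow_zero, pow_one] at this
    omega
  have hZ2 : Nat.card ↥Z ≤ 2 := by
    rw [Nat.card_congr (Matrix.SpecialLinearGroup.center_equiv_rootsOfUnity).toEquiv,
      Fintype.card_fin, Classical.card_rootsOfUnity_field, U33.F9.card_eq]
    norm_num
  have h1 := f.ker.card_mul_index
  rw [Subgroup.index_ker, h720] at h1
  have h2 : Nat.card ↥f.ker ≤ 2 := (Subgroup.card_le_of_le hker).trans hZ2
  nlinarith

end Cfsg.Agent.LargeFischer
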