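import Mathlib
import Cfsg.Prelude.Def_MonsterType
import Cfsg.Agent.Layer.FStar
import Cfsg.Agent.Core.PCore
import Cfsg.Agent.Core.Fitting
import Cfsg.Agent.Core.Frattini
import Cfsg.Agent.LargeExtra.Singular
import Cfsg.Agent.Leech.UnitaryIso
import Cfsg.Agent.LargeFischer.Model
import Cfsg.Agent.Classical.UnitaryGroup

/-! The centraliser of the central involution in large Fischer type. -/

set_option autoImplicit false

namespace Cfsg.Agent.LargeFischer
open Cfsg Cfsg.Agent

variable {G : Type*} [Group G] [Finite G] {z : G}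
  {Q : Subgroup (Subgroup.centralizer ({z} : Set G))} [Q.Normal]

/-- Consequences of the hypothesis about `Q`. -/
structure Basic (z : G) (Q : Subgroup (Subgroup.centralizer ({z} : Set G))) : Prop where
  hz : orderOf z = 2
  es : IsExtraspecial 2 ↥Q
  card : Nat.card ↥Q = 2 ^ 13
  fstar : generalizedFittingSubgroup ↥(Subgroup.centralizer ({z} : Set G)) = Q

omit [Q.Normal] [Finite G] in
theorem basic_of (hF : IsExtraspecialCentralizerSetting z Q 6) : Basic z Q :=
  ⟨hF.1, hF.2.2.1, hF.2.2.2.1, hF.2.1⟩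

/-- `z` inside its centraliser -/
def zc (z : G) : Subgroup.centralizer ({z} : Set G) := ⟨z, Subgroup.mem_centralizer_singleton_iff.2 rfl⟩

section
variable (b : Basic z Q)
include b

omit [Q.Normal] in
theorem cent_le {c : Subgroup.centralizer ({z} : Set G)}
    (h : ∀ q ∈ Q, c * q = q * c) : c ∈ Q := by
  rw [← b.fstar]
  refine Layer.centralizer_generalizedFitting_le (Subgroup.mem_centralizer_iff.2 fun q hq => ?_)
  exact (h q (b.fstar ▸ hq)).symm

omit [Q.Normal] in
theorem zc_mem : zc z ∈ Q := cent_le b fun q _ =>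
  Subtype.ext (Subgroup.mem_centralizer_singleton_iff.1 q.2).symm

omit [Q.Normal] [Finite G] in
theorem zc_ne_one : zc z ≠ 1 := fun h => by
  have h1 : z = 1 := congrArg Subtype.val h
  have := b.hz
  rw [h1, orderOf_one] at this
  omega

omit [Q.Normal] [Finite G] in
theorem zc_sq : zc z * zc z = 1 := Subtype.ext (show z * z = 1 by
  rw [← sq, ← b.hz, pow_orderOf_eq_one])

omit [Q.Normal] in
theorem center_iff {x : Q} : x ∈ Subgroup.center ↥Q ↔ x = 1 ∨ (x : Subgroup.centralizer ({z} : Set G)) = zc z := by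
  have hzQ : (⟨zc z, zc_mem b⟩ : Q) ∈ Subgroup.center ↥Q := Subgroup.mem_center_iff.2 fun q =>
    Subtype.ext (Subtype.ext (Subgroup.mem_centralizer_singleton_iff.1 q.1.2))
  constructor
  · intro hx
    have hc : (Subgroup.center ↥Q : Set ↥Q) = {1, ⟨zc z, zc_mem b⟩} := by
      refine (Set.eq_of_subset_of_ncard_le ?_ ?_ (Set.toFinite _)).symm
      · rintro y (rfl | rfl)
        · exact Subgroup.one_mem _
        · exact hzQ
      · rw [Set.ncard_pair (fun e => zc_ne_one b (congrArg Subtype.val e).symm),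
          ← Nat.card_coe_set_eq]
        exact le_of_eq b.es.2
    rcases hc.le hx with h | h
    · exact Or.inl h
    · exact Or.inr (congrArg Subtype.val (show x = ⟨zc z, zc_mem b⟩ from h))
  · rintro (rfl | h)
    · exact Subgroup.one_mem _
    · rwa [show x = ⟨zc z, zc_mem b⟩ from Subtype.ext h]

omit [Q.Normal] [Finite G] in
theorem comm_mem (x y : Q) : x * y * x⁻¹ * y⁻¹ ∈ Subgroup.center ↥Q := by
  rw [← b.es.1.2.2]
  exact Subgroup.commutator_mem_commutator (Subgroup.mem_top _) (Subgroup.mem_top _)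

omit [Q.Normal] in
theorem sq_mem (x : Q) : x * x ∈ Subgroup.center ↥Q := by
  rw [← b.es.1.2.1, ← sq]
  exact Core.pow_mem_frattini b.es.1.1 x

end

/-- the action of the centraliser on `Q` modulo its centre -/
noncomputable def actV (Q : Subgroup (Subgroup.centralizer ({z} : Set G))) [Q.Normal] :
    Subgroup.centralizer ({z} : Set G) →* MulAut (↥Q ⧸ Subgroup.center ↥Q) :=
  MonoidHom.mk' (fun h => QuotientGroup.congr (Subgroup.center ↥Q) (Subgroup.center ↥Q) (MulAut.conjNormal h)
      (Subgroup.characteristic_iff_map_eq.1 inferInstance _)) fun g h => by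
    refine MulEquiv.ext fun v => ?_
    obtain ⟨x, rfl⟩ := QuotientGroup.mk_surjective v
    simp [map_mul]
    rfl

omit [Finite G] in
theorem actV_mk (h : Subgroup.centralizer ({z} : Set G)) (x : Q) :
    actV Q h (QuotientGroup.mk x) = QuotientGroup.mk (MulAut.conjNormal h x) := rfl

theorem actV_ker (b : Basic z Q) : (actV Q).ker = Q := by
  refine le_antisymm ?_ fun q hq => ?_
  · have hsq : ∀ c ∈ (actV Q).ker, c * c ∈ Q := by
      intro c hc
      refine cent_le b fun q hq => ?_
      set x : Q := ⟨q, hq⟩ with hx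
      have h1 : actV Q c (QuotientGroup.mk x) = QuotientGroup.mk x := by
        rw [MonoidHom.mem_ker.1 hc]; rfl
      rw [actV_mk, QuotientGroup.eq] at h1
      have h2 : MulAut.conjNormal c x = x * ((MulAut.conjNormal c x)⁻¹ * x)⁻¹ := by group
      have hcz : c * zc z = zc z * c := Subtype.ext (Subgroup.mem_centralizer_singleton_iff.1 c.2)
      rcases (center_iff b).1 (Subgroup.inv_mem _ h1) with e | e
      · rw [e, mul_one] at h2
        have h3 : c * q * c⁻¹ = q := congrArg Subtype.val h2
        rw [mul_inv_eq_iff_eq_mul] at h3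
        rw [mul_assoc, h3, ← mul_assoc, h3, mul_assoc]
      · have h3 : c * q * c⁻¹ = q * zc z := by
          have := congrArg Subtype.val h2
          rwa [Subgroup.coe_mul, e] at this
        have h4 : c * c * q * (c * c)⁻¹ = q := by
          calc c * c * q * (c * c)⁻¹ = c * (c * q * c⁻¹) * c⁻¹ := by group
            _ = c * q * (zc z * c⁻¹) := by rw [h3]; group
            _ = c * q * c⁻¹ * zc z := by rw [← (show Commute c (zc z) from hcz).inv_left.eq]; group
            _ = q := by rw [h3, mul_assoc, zc_sq b, mul_one]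
        exact mul_inv_eq_iff_eq_mul.1 h4
    have hQ2 : IsPGroup 2 ↥Q := b.es.1.1
    have hker : IsPGroup 2 ↥(actV Q).ker := by
      rintro ⟨c, hc⟩
      obtain ⟨k, hk⟩ := hQ2 ⟨c * c, hsq c hc⟩
      refine ⟨k + 1, Subtype.ext ?_⟩
      have := congrArg Subtype.val hk
      simp only [SubmonoidClass.coe_pow, OneMemClass.coe_one] at this ⊢
      rw [pow_succ', pow_mul, sq, this]
    have : Fact (Nat.Prime 2) := ⟨Nat.prime_two⟩
    calc (actV Q).ker ≤ pCore 2 _ := Core.le_pCore hker
      _ ≤ fittingSubgroup _ := Core.pCore_le_fittingSubgroup 2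
      _ ≤ generalizedFittingSubgroup _ := Layer.fitting_le_generalizedFitting
      _ = Q := b.fstar
  · refine MonoidHom.mem_ker.2 (MulEquiv.ext fun v => ?_)
    obtain ⟨x, rfl⟩ := QuotientGroup.mk_surjective v
    rw [actV_mk, MulAut.one_apply, QuotientGroup.eq]
    have hm := comm_mem b x (⟨q, hq⟩ : Q)
    have hv : ((MulAut.conjNormal q x : ↥Q)⁻¹ * x) =
        x⁻¹ * (x * ⟨q, hq⟩ * x⁻¹ * (⟨q, hq⟩ : Q)⁻¹) * x := Subtype.ext (by
      simp only [Subgroup.coe_mul, Subgroup.coe_inv, MulAut.conjNormal_apply]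
      group)
    rw [hv, Subgroup.mem_center_iff.1 hm x⁻¹, mul_assoc, inv_mul_cancel, mul_one]
    exact hm

/-- the order of the quotient -/
theorem card_quot (b : Basic z Q) {N M : Subgroup (Subgroup.centralizer ({z} : Set G))} [N.Normal]
    (hNM : N ≤ M) (hN : Nat.card ↥N = 3 * Nat.card ↥Q)
    {K : Type} [Field K] [Fintype K] (hK : Fintype.card K = 9) (e : ↥M ⧸ N.subgroupOf M ≃* PSU 4 K 3)
    (hM : M.index = 2) : Q.index = 19595520 := by
  have h := Leech.Model.card_PSU_mul (F := K) (q := 3) (n := 4) (by rw [hK]; norm_num) (by norm_num)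
  norm_num [Finset.prod_range_succ, Nat.gcd_eq_gcd_ab] at h
  have h1 := (N.subgroupOf M).card_mul_index
  rw [Nat.card_congr (Subgroup.subgroupOfEquivOfLe hNM).toEquiv, Subgroup.index_eq_card,
    Nat.card_congr e.toEquiv, hN] at h1
  have h2 := M.card_mul_index
  have h3 := Q.card_mul_index
  rw [hM] at h2
  rw [b.card] at h1 h3
  omega

end Cfsg.Agent.LargeFischer
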