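import Cfsg.Agent.LargeFischer.Frame
import Cfsg.Agent.LargeFischer.Setting

/-! The frame and the quadratic form on the Frattini quotient of `Q`. -/

set_option autoImplicit false
set_option maxRecDepth 20000
set_option Elab.async false

open Finset Cfsg Cfsg.Agent

namespace Cfsg.Agent.LargeFischer

variable {G : Type*} [Group G] [Finite G] {z : G}
  {Q : Subgroup (Subgroup.centralizer ({z} : Set G))} [Q.Normal]

/-- the two-element square map -/
theorem two_quot (b : Basic z Q) : ∀ v : ↥Q ⧸ Subgroup.center ↥Q, v * v = 1 := fun v => by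
  obtain ⟨x, rfl⟩ := QuotientGroup.mk_surjective v
  rw [← QuotientGroup.mk_mul, QuotientGroup.eq_one_iff]
  exact sq_mem b x

theorem comm_of_two {V : Type*} [Group V] (h : ∀ v : V, v * v = 1) (a b : V) : a * b = b * a := by
  have hi : ∀ v : V, v⁻¹ = v := fun v => inv_eq_of_mul_eq_one_right (h v)
  rw [← hi (a * b), mul_inv_rev, hi, hi]

theorem card_V (b : Basic z Q) : Nat.card (↥Q ⧸ Subgroup.center ↥Q) = 2 ^ 12 := by
  have h := Subgroup.card_eq_card_quotient_mul_card_subgroup (Subgroup.center ↥Q)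
  rw [b.card, b.es.2] at h
  omega

/-- A subgroup containing all squares is normal. -/
theorem normal_of_squares {P : Type*} [Group P] (C : Subgroup P) (h : ∀ p, p * p ∈ C) : C.Normal :=
  ⟨fun c hc g => by
    rw [show g * c * g⁻¹ = g * c * (g * c) * c⁻¹ * (g⁻¹ * g⁻¹) by group]
    exact C.mul_mem (C.mul_mem (h _) (C.inv_mem hc)) (h _)⟩

/-- The frame of the situation. -/
theorem exists_frame (hF : IsOfLargeFischerTypeAt z Q) :
    ∃ M : Subgroup (Subgroup.centralizer ({z} : Set G)), M.Normal ∧ Q.index = 19595520 ∧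
      Nat.card ↥(M.map (actV Q)) = 9797760 ∧ Nonempty (Frame6 (actV Q) M) := by
  obtain ⟨h1, N, M, hNn, hMn, hQN, hNM, hNc, ⟨K, fK, fiK, hK, ⟨e⟩⟩, hMi⟩ := hF
  have b := basic_of h1
  have hind := card_quot b hNM hNc hK e hMi
  refine ⟨M, hMn, hind, ?_, ?_⟩
  · have h := Subgroup.relIndex_mul_index (hQN.trans hNM)
    rw [hMi, hind] at h
    have h2 := ((actV Q).comp M.subtype).ker.index_eq_card
    have h3 : ((actV Q).comp M.subtype).ker = Q.subgroupOf M := by
      rw [← MonoidHom.comap_ker, actV_ker b]; rfl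
    have h4 : Q.relIndex M = Nat.card ↥(M.map (actV Q)) := by
      rw [Subgroup.relIndex, ← h3, Subgroup.index_ker, MonoidHom.range_comp, Subgroup.range_subtype]
    omega
  -- the group of order three
  obtain ⟨x0, hx0, hx0Q⟩ : ∃ x, x ∈ N ∧ x ∉ Q := by
    by_contra h
    push Not at h
    have := Subgroup.card_le_of_le (show N ≤ Q from h)
    rw [hNc, b.card] at this
    omega
  set ξ := actV Q x0 with hξ
  have hξ1 : ξ ≠ 1 := fun h => hx0Q (by rw [← actV_ker b]; exact h)
  have hNmap : Nat.card ↥(N.map (actV Q)) = 3 := by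
    have h3 : ((actV Q).comp N.subtype).ker = Q.subgroupOf N := by
      rw [← MonoidHom.comap_ker, actV_ker b]; rfl
    have h := (Q.subgroupOf N).card_mul_index
    rw [Nat.card_congr (Subgroup.subgroupOfEquivOfLe hQN).toEquiv, hNc, ← h3, Subgroup.index_ker,
      MonoidHom.range_comp, Subgroup.range_subtype, b.card] at h
    omega
  have hξ3 : ξ ^ 3 = 1 := by
    have := pow_card_eq_one' (G := ↥(N.map (actV Q))) (x := ⟨ξ, x0, hx0, rfl⟩)
    rw [hNmap] at this
    exact congrArg Subtype.val this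
  have hzp : Subgroup.zpowers ξ = N.map (actV Q) := by
    refine Subgroup.eq_of_le_of_card_ge (Subgroup.zpowers_le.2 ⟨x0, hx0, rfl⟩) ?_
    rw [hNmap, Nat.card_zpowers, orderOf_eq_prime hξ3 hξ1]
  have hNk : ∀ n ∈ N, ∃ k, actV Q n = kap ξ k := by
    intro n hn
    have hm : actV Q n ∈ Subgroup.zpowers ξ := hzp ▸ Subgroup.mem_map_of_mem _ hn
    rw [← (isOfFinOrder_of_finite ξ).mem_powers_iff_mem_zpowers, Submonoid.mem_powers_iff] at hm
    obtain ⟨i, hi⟩ := hm
    refine ⟨i, ?_⟩
    rw [kap, ZMod.val_natCast, ← pow_eq_pow_mod i hξ3, hi]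
  obtain ⟨T0⟩ := exists_frame81 hK
  have T : Frame81 (↥M ⧸ N.subgroupOf M) := T0.map e.symm
  have hsimple : IsSimpleGroup (↥M ⧸ N.subgroupOf M) := by
    have := Classical.isSimpleGroup_psu (F := K) (q := 3) (by rw [hK]; norm_num) 4 (by norm_num) (by norm_num)
    exact e.isSimpleGroup
  -- `M` centralises `ξ`
  have hcen : ∀ m ∈ M, Commute ξ (actV Q m) := by
    set C : Subgroup ↥M := (Subgroup.centralizer {ξ}).comap ((actV Q).comp M.subtype) with hC
    have hNC : N.subgroupOf M ≤ C := by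
      intro n hn
      obtain ⟨k, hk⟩ := hNk n hn
      refine Subgroup.mem_comap.2 (Subgroup.mem_centralizer_singleton_iff.2 ?_)
      show actV Q n * ξ = ξ * actV Q n
      rw [hk]
      exact ((Commute.refl ξ).pow_left _).eq
    have hsq : ∀ m : ↥M, m * m ∈ C := by
      intro m
      obtain ⟨k, hk⟩ := hNk ((m : Subgroup.centralizer ({z} : Set G)) * x0 * (m : Subgroup.centralizer ({z} : Set G))⁻¹)
        (hNn.conj_mem _ hx0 _)
      rw [map_mul, map_mul, map_inv] at hk
      set μ := actV Q (m : Subgroup.centralizer ({z} : Set G)) with hμ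
      refine Subgroup.mem_comap.2 (Subgroup.mem_centralizer_singleton_iff.2 ?_)
      show actV Q _ * ξ = ξ * actV Q _
      simp only [Subgroup.coe_subtype, Subgroup.coe_mul, map_mul, ← hμ]
      rcases (show ∀ k : ZMod 3, k = 0 ∨ k = 1 ∨ k = 2 by decide) k with rfl | rfl | rfl
      · rw [kap_zero, mul_inv_eq_one] at hk
        exact absurd (mul_eq_left.1 hk) hξ1
      · rw [kap_one, mul_inv_eq_iff_eq_mul] at hk
        rw [mul_assoc, hk, ← mul_assoc, hk, mul_assoc]
      · rw [kap_two] at hk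
        have h4 : μ * μ * ξ * (μ * μ)⁻¹ = ξ := by
          calc μ * μ * ξ * (μ * μ)⁻¹ = (μ * ξ * μ⁻¹) * (μ * ξ * μ⁻¹) * 1 * 1 := by
                rw [show μ * μ * ξ * (μ * μ)⁻¹ = μ * (μ * ξ * μ⁻¹) * μ⁻¹ by group, hk,
                  show μ * (ξ * ξ) * μ⁻¹ = μ * ξ * μ⁻¹ * (μ * ξ * μ⁻¹) by group, hk, mul_one, mul_one]
            _ = ξ := by
              rw [hk, mul_one, mul_one]
              rw [← mul_assoc, show ξ * ξ * ξ = 1 by rw [← hξ3, pow_succ, sq], one_mul]
        exact mul_inv_eq_iff_eq_mul.1 h4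
    set C' := C.map (QuotientGroup.mk' (N.subgroupOf M)) with hC'
    have hsq' : ∀ p, p * p ∈ C' := fun p => by
      obtain ⟨m, rfl⟩ := QuotientGroup.mk_surjective p
      exact ⟨m * m, hsq m, rfl⟩
    have : C'.Normal := normal_of_squares C' hsq'
    rcases hsimple.eq_bot_or_eq_top_of_normal C' this with h | h
    · exfalso
      have hab : ∀ p q : ↥M ⧸ N.subgroupOf M, p * q = q * p :=
        comm_of_two fun p => by
          have := hsq' p
          rwa [h, Subgroup.mem_bot] at this
      have hv := fixed_vec (Pi.single 0 1) fun j => by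
        have h' := T.acts j (Pi.single 0 1)
        rw [hab (T.l (gen j)), mul_inv_cancel_right] at h'
        exact (Multiplicative.ofAdd.injective (T.inj h')).symm
      exact absurd (congrFun hv 0) (by simp)
    · intro m hm
      obtain ⟨c, hc, hcm⟩ := h.ge (Subgroup.mem_top (QuotientGroup.mk (⟨m, hm⟩ : ↥M)))
      have hmC : (⟨m, hm⟩ : ↥M) ∈ C := by
        rw [show (⟨m, hm⟩ : ↥M) = c * (c⁻¹ * ⟨m, hm⟩) by group]
        exact C.mul_mem hc (hNC (QuotientGroup.eq.1 hcm))
      exact (Subgroup.mem_centralizer_singleton_iff.1 (Subgroup.mem_comap.1 hmC)).symm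
  -- lifts
  have hlift : ∀ m m' : ↥M, (QuotientGroup.mk m : ↥M ⧸ N.subgroupOf M) = QuotientGroup.mk m' →
      ∃ k, actV Q m' = kap ξ k * actV Q m := by
    intro m m' h
    have hn : (m⁻¹ * m' : ↥M) ∈ N.subgroupOf M := QuotientGroup.eq.1 h
    obtain ⟨k, hk⟩ := hNk _ (Subgroup.mem_subgroupOf.1 hn)
    refine ⟨k, ?_⟩
    rw [show kap ξ k * actV Q m = actV Q m * kap ξ k from ((hcen _ m.2).pow_left k.val).eq, ← hk, ← map_mul]
    simp
  choose γ hγ using fun v : Vec => QuotientGroup.mk_surjective (T.a (Multiplicative.ofAdd v))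
  choose lam hlam using fun A : SL9 => QuotientGroup.mk_surjective (T.l A)
  choose Tm hTm using fun A v => T.norm A (Multiplicative.ofAdd v)
  let L : LiftData (MulAut (↥Q ⧸ Subgroup.center ↥Q)) :=
    { ξ := ξ
      ξ3 := hξ3
      ξ1 := hξ1
      g := fun v => actV Q (γ v)
      R := fun A => actV Q (lam A)
      T := fun A v => (Tm A v).toAdd
      commg := fun v => hcen _ (γ v).2
      commR := fun A => hcen _ (lam A).2
      addg := fun u v => by
        obtain ⟨k, hk⟩ := hlift (γ u * γ v) (γ (u + v)) (by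
          rw [QuotientGroup.mk_mul, hγ, hγ, hγ, ofAdd_add, map_mul])
        exact ⟨k, by rw [hk, Subgroup.coe_mul, map_mul, mul_assoc]⟩
      injg := fun v k h => by
        have h1' : (γ v : Subgroup.centralizer ({z} : Set G)) ∈ N := by
          have hq : (γ v : Subgroup.centralizer ({z} : Set G)) * (x0 ^ k.val)⁻¹ ∈ (actV Q).ker := by
            rw [MonoidHom.mem_ker, map_mul, map_inv, map_pow]
            exact mul_inv_eq_one.2 h
          rw [actV_ker b] at hq
          simpa using N.mul_mem (hQN hq) (N.pow_mem hx0 k.val)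
        have h2 : T.a (Multiplicative.ofAdd v) = 1 := by
          rw [← hγ]; exact (QuotientGroup.eq_one_iff _).2 h1'
        exact Multiplicative.ofAdd.injective (T.inj (h2.trans (map_one T.a).symm))
      mulR := fun A B => by
        obtain ⟨k, hk⟩ := hlift (lam A * lam B) (lam (A * B)) (by
          rw [QuotientGroup.mk_mul, hlam, hlam, hlam, map_mul])
        exact ⟨k, by rw [hk, Subgroup.coe_mul, map_mul, mul_assoc]⟩
      conj := fun A v => by
        obtain ⟨k, hk⟩ := hlift (γ (Tm A v).toAdd) (lam A * γ v * (lam A)⁻¹) (by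
          rw [QuotientGroup.mk_mul, QuotientGroup.mk_mul, QuotientGroup.mk_inv, hlam, hγ, hγ, ofAdd_toAdd, hTm])
        exact ⟨k, by rw [← hk]; simp⟩
      gens := fun j => funext fun v => by
        have h := (hTm (gen j) v).trans (T.acts j v)
        exact congrArg Multiplicative.toAdd (T.inj h) }
  letI : CommGroup (↥Q ⧸ Subgroup.center ↥Q) :=
    { (inferInstance : Group (↥Q ⧸ Subgroup.center ↥Q)) with mul_comm := comm_of_two (two_quot b) }
  exact exists_frame6 (two_quot b) (card_V b) (actV Q) M L ⟨x0, hNM hx0, rfl⟩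
    (fun v => ⟨_, (γ v).2, rfl⟩) (fun A => ⟨_, (lam A).2, rfl⟩) hcen

end Cfsg.Agent.LargeFischer
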