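import Cfsg.Agent.LargeFischer.Conj
import Cfsg.Agent.Fg24.ExtraTwo
import Mathlib.GroupTheory.SpecificGroups.Alternating.Simple

/-! The stabiliser of a conjugate of the central involution. -/

set_option autoImplicit false
set_option maxRecDepth 20000
set_option Elab.async false

open Finset Cfsg Cfsg.Agent
open scoped commutatorElement

namespace Cfsg.Agent.LargeFischer

/-- an elementary abelian subgroup of an extraspecial group of order `2 ^ 13` has order at most `2 ^ 7` -/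
theorem card_elementary_le {E : Type*} [Group E] [Finite E] (hE : IsExtraspecial 2 E)
    (hc : Nat.card E = 2 ^ 13) (A : Subgroup E) (hA : IsElementaryAbelian 2 A) : Nat.card ↥A ≤ 2 ^ 7 := by
  haveI : Fact (Nat.Prime 2) := ⟨Nat.prime_two⟩
  obtain ⟨m, c, ⟨ε⟩⟩ := Fg24.ExtraTwo.exists_equiv_heis hE
  have h := Nat.card_congr ε.toEquiv
  rw [hc, LargeExtra.Heis.card] at h
  have hm := Nat.pow_right_injective le_rfl h
  have h1 : IsElementaryAbelian 2 (A.map ε.toMonoidHom) := by
    refine ⟨⟨⟨?_⟩⟩, ?_⟩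
    · rintro ⟨_, a, ha, rfl⟩ ⟨_, a', ha', rfl⟩
      refine Subtype.ext ?_
      show ε a * ε a' = ε a' * ε a
      rw [← map_mul, ← map_mul]
      exact congrArg ε (congrArg Subtype.val (hA.1.is_comm.comm (⟨a, ha⟩ : ↥A) ⟨a', ha'⟩))
    · rintro _ ⟨a, ha, rfl⟩
      rw [← map_pow, hA.2 a ha, map_one]
  obtain ⟨j, hj⟩ := IsPGroup.iff_card.1 (show IsPGroup 2 A from fun a => ⟨1, Subtype.ext (by
    rw [pow_one, SubmonoidClass.coe_pow, hA.2 a a.2, OneMemClass.coe_one])⟩)
  rw [hj]
  refine Nat.pow_le_pow_right (by norm_num) ?_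
  rcases Fg24.ExtraTwo.two_cases c with rfl | rfl
  · have := LargeExtra.Heis.rank_plus.2 ⟨_, h1, (Subgroup.card_map_of_injective ε.injective).trans hj⟩
    omega
  · have := LargeExtra.Heis.rank_minus.2 ⟨_, h1, (Subgroup.card_map_of_injective ε.injective).trans hj⟩
    omega

theorem pm_pm (π τ : Equiv.Perm (Fin 6)) (c : Vec6) : pm (π * τ) c = pm π (pm τ c) := rfl

theorem pm_injective {π : Equiv.Perm (Fin 6)} (h : ∀ c : Vec6, pm π c = c) : π = 1 := by
  refine Equiv.ext fun i => ?_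
  by_contra hne
  have h1 := congrFun (h (Pi.single i (1, 0))) (π i)
  rw [pm, show π⁻¹ (π i) = i from π.symm_apply_apply i, Pi.single_eq_same,
    Pi.single_eq_of_ne (fun e => hne (by simpa using e))] at h1
  exact absurd h1 (by decide)

theorem alt_not_comm : ∃ a b : alternatingGroup (Fin 6), a * b ≠ b * a := by
  refine ⟨⟨Equiv.swap 0 1 * Equiv.swap 2 3, Equiv.Perm.mem_alternatingGroup.2 (by decide +kernel)⟩,
    ⟨Equiv.swap 0 1 * Equiv.swap 0 2, Equiv.Perm.mem_alternatingGroup.2 (by decide +kernel)⟩, fun h => ?_⟩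
  exact absurd (DFunLike.congr_fun (congrArg Subtype.val h) 0) (by decide +kernel)

namespace Data

variable {G : Type*} [Group G] [Finite G] {z : G}
  {Q : Subgroup (Subgroup.centralizer ({z} : Set G))} [Q.Normal] (D : Data z Q)
include D

/-- the faithful action of the quotient -/
theorem exists_faithful : ∃ Φ : Subgroup.centralizer ({z} : Set G) ⧸ Q →*
    MulAut (↥Q ⧸ Subgroup.center ↥Q), Function.Injective Φ ∧ ∀ h : Subgroup.centralizer ({z} : Set G), Φ (h : _ ⧸ Q) = actV Q h := by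
  refine ⟨QuotientGroup.lift Q (actV Q) (actV_ker D.b).ge, ?_, fun h => rfl⟩
  refine (injective_iff_map_eq_one _).2 fun a ha => ?_
  obtain ⟨h, rfl⟩ := QuotientGroup.mk_surjective a
  exact (QuotientGroup.eq_one_iff _).2 (by rw [← actV_ker D.b]; exact MonoidHom.mem_ker.2 ha)

theorem rep_b : ∃ k, halfA D.c k = false ∧ (sc k).1 = 6 :=
  (show ∀ c, ∃ k, halfA c k = false ∧ (sc k).1 = 6 by decide +kernel) D.c

/-- Six letters permuted in the stabiliser of a class of the second orbit. -/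
theorem exists_alt {v : Vec6} (hv : v ≠ 0) (hp : par v = 0) (hA : ¬InA D.c v) :
    ∃ ψ : alternatingGroup (Fin 6) →* Subgroup.centralizer ({z} : Set G) ⧸ Q, Function.Injective ψ ∧
      ∀ π, ∃ h : Subgroup.centralizer ({z} : Set G), (h : _ ⧸ Q) = ψ π ∧ cact D.F h v = v := by
  obtain ⟨k, hk, hk6⟩ := D.rep_b
  set w := srep k with hw
  have hwf : ∀ i, w i ≠ 0 := fun i => full_of_wt ((congrArg Prod.fst (sc_srep k)).trans hk6) i
  have hw0 : w ≠ 0 := fun e => hwf 0 (congrFun e 0)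
  have hwp : par w = 0 := by rw [par, show wt w = 6 from (congrArg Prod.fst (sc_srep k)).trans hk6]; decide
  obtain ⟨m, -, hm⟩ := (mem_orb D.F).1 ((D.orb_iff v hv hp w).2
    ⟨hw0, hwp, iff_of_false (by rw [inA_iff D.c (sc_srep k)]; simp [hk]) hA⟩)
  set L : Fin 6 → ZMod 3 := fun i => lg (w i) with hL
  have hτ : ∀ π : alternatingGroup (Fin 6), ∃ h : Subgroup.centralizer ({z} : Set G),
      ∀ c, cact D.F h c = dg (fun i => L i - L ((π : Equiv.Perm (Fin 6))⁻¹ i)) (pm π c) := by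
    intro π
    obtain ⟨p, -, hp⟩ := D.F.perm π (Equiv.Perm.mem_alternatingGroup.1 π.2)
    obtain ⟨d, -, hd⟩ := D.F.diag (fun i => L i - L ((π : Equiv.Perm (Fin 6))⁻¹ i)) (by
      rw [sum_sub_distrib, Equiv.sum_comp ((π : Equiv.Perm (Fin 6))⁻¹) L, sub_self])
    exact ⟨d * p, fun c => by rw [cact_mul, cact_eq D.F (hp c), cact_eq D.F (hd _)]⟩
  choose f hf using hτ
  obtain ⟨Φ, hΦ, hΦh⟩ := D.exists_faithful
  have hmul : ∀ π τ, ((f (π * τ) : _) : _ ⧸ Q) = (f π : _ ⧸ Q) * (f τ : _ ⧸ Q) := by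
    intro π τ
    refine hΦ (MulEquiv.ext fun x => ?_)
    obtain ⟨c, rfl⟩ := D.F.bij.2 x
    rw [← QuotientGroup.mk_mul, hΦh, hΦh, ← co_cact, ← co_cact, cact_mul, hf, hf, hf]
    congr 1
    funext i
    simp only [dg, pm, Subgroup.coe_mul, omk_facts.2.2.1, mul_inv_rev, Equiv.Perm.mul_apply]
    congr 1
    ring
  let ψ0 : alternatingGroup (Fin 6) →* Subgroup.centralizer ({z} : Set G) ⧸ Q :=
    MonoidHom.mk' (fun π => (f π : _ ⧸ Q)) hmul
  refine ⟨(MulAut.conj (m⁻¹ : _ ⧸ Q)).toMonoidHom.comp ψ0, ?_, fun π => ⟨m⁻¹ * f π * m, ?_, ?_⟩⟩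
  · refine (MulAut.conj _).injective.comp ((injective_iff_map_eq_one ψ0).2 fun π hπ => Subtype.ext ?_)
    refine pm_injective fun c => funext fun i => ?_
    have h0 : ∀ c, cact D.F (f π) c = c := fun c => by
      refine cact_eq D.F ?_
      rw [← hΦh, show ((f π : _) : _ ⧸ Q) = 1 from hπ, map_one]
      rfl
    have h1 := congrFun ((hf π c).symm.trans (h0 c)) i
    have h2 := congrFun ((hf π (fun _ => (1, 0))).symm.trans (h0 (fun _ => (1, 0)))) i
    simp only [dg, pm] at h1 h2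
    have h3 := w4_facts.1 _ 0 (h2.trans (omk_facts.2.2.2 _).symm)
    rw [h3, omk_facts.2.2.2] at h1
    exact h1
  · simp [ψ0]
  · have hfix : cact D.F (f π) w = w := by
      rw [hf]
      funext i
      simp only [dg, pm, hL]
      exact lg_facts.2 _ _ (hwf _) (hwf i)
    rw [cact_mul, cact_mul, hm, hfix, ← hm, ← cact_mul, inv_mul_cancel, cact_one]

/-- the stabiliser of a class -/
theorem card_class_stab {v : Vec6} (hv : v ≠ 0) (hp : par v = 0) (hA : ¬InA D.c v)
    (S : Subgroup (Subgroup.centralizer ({z} : Set G))) (hS : ∀ h, h ∈ S ↔ cact D.F h v = v) :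
    Nat.card ↥(S.map (QuotientGroup.mk' Q)) = 11520 := by
  classical
  let A : MulAction (Subgroup.centralizer ({z} : Set G)) Vec6 :=
    { smul := fun m c => cact D.F m c
      one_smul := cact_one D.F
      mul_smul := fun g h c => cact_mul D.F g h c }
  letI := A
  have horb : MulAction.orbit (Subgroup.centralizer ({z} : Set G)) v =
      ((univ.filter fun w : Vec6 => w ≠ 0 ∧ par w = 0 ∧ ¬InA D.c w : Finset Vec6) : Set Vec6) := by
    ext w
    simp only [coe_filter, mem_univ, true_and, Set.mem_setOf_eq]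
    constructor
    · rintro ⟨h, rfl⟩
      have := D.norm
      exact ⟨fun e => hv (cact_inj D.F h (e.trans (cact_zero D.F h).symm)),
        (cact_par D.b D.F h v).trans hp, fun e => hA ((inA_cact D.b D.F D.hind D.orb_iff h hv hp).1 e)⟩
    · rintro ⟨h0, h1, h2⟩
      obtain ⟨m, -, hm⟩ := (mem_orb D.F).1 ((D.orb_iff v hv hp w).2 ⟨h0, h1, iff_of_false h2 hA⟩)
      exact ⟨m, hm⟩
  have hstab : MulAction.stabilizer (Subgroup.centralizer ({z} : Set G)) v = S := by
    ext h; rw [hS]; rfl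
  have hi : S.index = 1701 := by
    rw [← hstab, Subgroup.index, ← Nat.card_congr (MulAction.orbitEquivQuotientStabilizer _ v), horb,
      Nat.card_coe_set_eq, Set.ncard_coe_finset, (card_halves D.b D.c).2]
  have hQS : Q ≤ S := fun q hq => (hS q).2 (cact_eq D.F (by
    rw [show actV Q q = 1 from MonoidHom.mem_ker.1 (by rw [actV_ker D.b]; exact hq)]; rfl))
  have h := (S.map (QuotientGroup.mk' Q)).card_mul_index
  rw [S.index_map_eq (QuotientGroup.mk'_surjective Q) (by rw [QuotientGroup.ker_mk']; exact hQS), hi,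
    ← Subgroup.index_eq_card, D.hind] at h
  omega

/-- S5442 -/
theorem stab_structure {g s : G} (hg : g * z * g⁻¹ = s)
    (hsc : s ∈ Subgroup.centralizer ({z} : Set G))
    (hsQ : (⟨s, hsc⟩ : Subgroup.centralizer ({z} : Set G)) ∈ Q) (hs1 : s ≠ z)
    (X E : Subgroup (Subgroup.centralizer ({z} : Set G) ⧸ Q))
    (hX : X = ((Subgroup.centralizer ({z} : Set G) ⊓ Subgroup.centralizer ({s} : Set G)).subgroupOf
      (Subgroup.centralizer ({z} : Set G))).map (QuotientGroup.mk' Q))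
    (hE : E = (((LargeExtra.oc z).map (MulAut.conj g).toMonoidHom ⊓
      Subgroup.centralizer ({z} : Set G)).subgroupOf (Subgroup.centralizer ({z} : Set G))).map
        (QuotientGroup.mk' Q)) :
    IsElementaryAbelian 2 (LargeExtra.oc z ⊓ (LargeExtra.oc z).map (MulAut.conj g).toMonoidHom) ∧
      Nat.card ↥(LargeExtra.oc z ⊓ (LargeExtra.oc z).map (MulAut.conj g).toMonoidHom) = 2 ^ 7 ∧
      E ≤ X ∧ (∀ x ∈ X, ∀ y ∈ E, x * y * x⁻¹ ∈ E) ∧ IsElementaryAbelian 2 E ∧ Nat.card E = 32 ∧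
      ∃ _ : (E.subgroupOf X).Normal, Nonempty (↥X ⧸ E.subgroupOf X ≃* alternatingGroup (Fin 6)) := by
  classical
  have S := D.setting
  set P := LargeExtra.oc z with hP
  set P' := P.map (MulAut.conj g).toMonoidHom with hP'
  have hmemP' : ∀ a, a ∈ P' ↔ g⁻¹ * a * g ∈ P := fun a => by
    rw [hP', Subgroup.mem_map]
    constructor
    · rintro ⟨p, hp, rfl⟩; simpa [mul_assoc] using hp
    · exact fun h => ⟨_, h, by simp [mul_assoc]⟩
  have hz2 : z * z = 1 := S.sq_one
  have hsne : s ≠ 1 := fun e => S.ne_one (by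
    rw [e, mul_inv_eq_one] at hg; exact mul_eq_left.1 hg)
  have hs2 : s * s = 1 := by rw [← hg, LargeExtra.conjm, hz2, mul_one, mul_inv_cancel]
  have hxP : g * z * g⁻¹ ∈ P := D.mem_oc_iff.2 ⟨⟨_, hsQ⟩, hg.symm⟩
  have hzP' : z ∈ P' := by
    rw [hmemP']
    have h1 := LargeExtra.conj_mem_oc (g := g⁻¹) (S.symm hxP)
    rwa [show g⁻¹ * (g * z * g⁻¹) * g⁻¹⁻¹ = z by group, inv_inv] at h1
  -- values in both centres
  have hone : ∀ a, (a = 1 ∨ a = z) → (g⁻¹ * a * g = 1 ∨ g⁻¹ * a * g = z) → a = 1 := by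
    intro a h h'
    rcases h with h | h
    · exact h
    rcases h' with h' | h'
    · calc a = g * (g⁻¹ * a * g) * g⁻¹ := by group
        _ = 1 := by rw [h']; group
    · exfalso
      refine hs1 ?_
      rw [h] at h'
      calc s = g * z * g⁻¹ := hg.symm
        _ = g * (g⁻¹ * z * g) * g⁻¹ := by rw [h']
        _ = z := by group
  have hsqz : ∀ a ∈ P, a * a = 1 ∨ a * a = z := fun a ha => by
    obtain ⟨q, rfl⟩ := D.mem_oc_iff.1 ha
    rcases (center_iff D.b).1 (sq_mem D.b q) with e | e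
    · exact Or.inl (congrArg (fun q : Q => ((q : (Subgroup.centralizer ({z} : Set G))) : G)) e)
    · exact Or.inr (congrArg Subtype.val e)
  -- the intersection
  have hU : IsElementaryAbelian 2 (P ⊓ P') := by
    refine ⟨⟨⟨?_⟩⟩, ?_⟩
    · rintro ⟨a, ha, ha'⟩ ⟨a', hb, hb'⟩
      replace ha' := (hmemP' a).1 ha'
      replace hb' := (hmemP' a').1 hb'
      refine Subtype.ext (commutatorElement_eq_one_iff_mul_comm.1 (hone _ (S.commutator_cases ha hb) ?_))
      rw [show g⁻¹ * ⁅a, a'⁆ * g = (g⁻¹ * a * g) * (g⁻¹ * a' * g) * (g⁻¹ * a * g)⁻¹ * (g⁻¹ * a' * g)⁻¹ by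
        rw [commutatorElement_def]; group]
      exact S.commutator_cases ha' hb'
    · rintro a ⟨ha, ha'⟩
      replace ha' := (hmemP' a).1 ha'
      rw [sq]
      refine hone _ (hsqz a ha) ?_
      rw [show g⁻¹ * (a * a) * g = g⁻¹ * a * g * (g⁻¹ * a * g) by group]
      exact hsqz _ ha'
  have hUle : Nat.card ↥(P ⊓ P') ≤ 2 ^ 7 := by
    have hh := card_elementary_le S.es D.card_oc ((P ⊓ P').subgroupOf P) ⟨⟨⟨fun a a' => Subtype.ext (Subtype.ext
      (congrArg (fun x : ↥(P ⊓ P') => (x : G))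
        (hU.1.is_comm.comm (⟨((a : ↥P) : G), a.2⟩ : ↥(P ⊓ P')) ⟨((a' : ↥P) : G), a'.2⟩)))⟩⟩,
      fun a ha => Subtype.ext (hU.2 _ ha)⟩
    rwa [Nat.card_congr (Subgroup.subgroupOfEquivOfLe inf_le_left).toEquiv] at hh
  -- the part of the conjugate inside `C(z)`
  set K := P' ⊓ (Subgroup.centralizer ({z} : Set G)) with hK
  have hKc : 2 ^ 12 ≤ Nat.card ↥K := by
    obtain ⟨w, hw⟩ := D.mem_oc_iff.1 ((hmemP' z).1 hzP')
    let cm : ↥Q →* ↥(Subgroup.center ↥Q) := MonoidHom.mk' (fun q => ⟨w * q * w⁻¹ * q⁻¹, comm_mem D.b w q⟩)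
      fun p q => Subtype.ext (comm_mul_right D.b w p q)
    have h1 := cm.ker.card_mul_index
    rw [Subgroup.index_ker, D.b.card] at h1
    have h2 := Subgroup.card_le_card_group cm.range
    rw [D.b.es.2] at h2
    have h3 : Nat.card ↥cm.ker ≤ Nat.card ↥K := by
      have hin : ∀ q : cm.ker, g * (((q : Q) : (Subgroup.centralizer ({z} : Set G))) : G) * g⁻¹ ∈ K := fun q => by
        refine ⟨(hmemP' _).2 ?_, ?_⟩
        · rw [show g⁻¹ * (g * (((q : Q) : (Subgroup.centralizer ({z} : Set G))) : G) * g⁻¹) * g = (((q : Q) : (Subgroup.centralizer ({z} : Set G))) : G) by group]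
          exact D.mem_oc_iff.2 ⟨_, rfl⟩
        · refine Subgroup.mem_centralizer_singleton_iff.2 ?_
          have h := congrArg (fun q : Q => ((q : (Subgroup.centralizer ({z} : Set G))) : G))
            (commutatorElement_eq_one_iff_mul_comm.1 (congrArg Subtype.val (MonoidHom.mem_ker.1 q.2)))
          simp only [Subgroup.coe_mul, hw] at h
          calc g * (((q : Q) : (Subgroup.centralizer ({z} : Set G))) : G) * g⁻¹ * z
              = g * ((((q : Q) : (Subgroup.centralizer ({z} : Set G))) : G) * (g⁻¹ * z * g)) * g⁻¹ := by group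
            _ = g * (g⁻¹ * z * g * (((q : Q) : (Subgroup.centralizer ({z} : Set G))) : G)) * g⁻¹ := by rw [h]
            _ = z * (g * (((q : Q) : (Subgroup.centralizer ({z} : Set G))) : G) * g⁻¹) := by group
      exact Nat.card_le_card_of_injective (fun q => (⟨_, hin q⟩ : ↥K)) fun a c e =>
        Subtype.ext (Subtype.ext (Subtype.ext (mul_left_cancel (mul_right_cancel (congrArg Subtype.val e)))))
    nlinarith [Nat.mul_le_mul h3 h2]
  let κ : ↥K →* (Subgroup.centralizer ({z} : Set G)) ⧸ Q := (QuotientGroup.mk' Q).comp (Subgroup.inclusion inf_le_right)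
  have hEr : E = κ.range := by
    rw [hE, MonoidHom.range_comp, Subgroup.inclusion_range]
  have hker : Nat.card ↥κ.ker ≤ Nat.card ↥(P ⊓ P') := by
    have hin : ∀ k : κ.ker, ((k : ↥K) : G) ∈ P ⊓ P' := fun k =>
      ⟨D.mem_oc_iff.2 ⟨⟨_, (QuotientGroup.eq_one_iff _).1 k.2⟩, rfl⟩, k.1.2.1⟩
    exact Nat.card_le_card_of_injective (fun k => (⟨_, hin k⟩ : ↥(P ⊓ P'))) fun a c e =>
      Subtype.ext (Subtype.ext (congrArg (fun x : ↥(P ⊓ P') => (x : G)) e))
  have hprod : 2 ^ 12 ≤ Nat.card ↥(P ⊓ P') * Nat.card ↥E := by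
    have := κ.ker.card_mul_index
    rw [Subgroup.index_ker, ← hEr] at this
    nlinarith [Nat.mul_le_mul hker (le_refl (Nat.card ↥E))]
  have hKs : ∀ k ∈ K, k ∈ Subgroup.centralizer ({s} : Set G) := by
    intro k hk
    have h := Subgroup.mem_centralizer_singleton_iff.1 (LargeExtra.oc_le z ((hmemP' k).1 hk.1))
    rw [Subgroup.mem_centralizer_singleton_iff, ← hg]
    calc k * (g * z * g⁻¹) = g * (g⁻¹ * k * g * z) * g⁻¹ := by group
      _ = g * (z * (g⁻¹ * k * g)) * g⁻¹ := by rw [h]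
      _ = g * z * g⁻¹ * k := by group
  have hEX : E ≤ X := by
    rw [hE, hX]
    exact Subgroup.map_mono fun a ha => ⟨ha.2, hKs _ ha⟩
  have hconj : ∀ x ∈ X, ∀ y ∈ E, x * y * x⁻¹ ∈ E := by
    rw [hE, hX]
    rintro _ ⟨a, ha, rfl⟩ _ ⟨k, hk, rfl⟩
    refine ⟨a * k * a⁻¹, ⟨(hmemP' _).2 ?_, (a * k * a⁻¹).2⟩, by simp⟩
    have hc : g⁻¹ * (a : G) * g ∈ Subgroup.centralizer ({z} : Set G) := by
      have h : (a : G) * s = s * a := Subgroup.mem_centralizer_singleton_iff.1 ha.2
      rw [← hg] at h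
      rw [Subgroup.mem_centralizer_singleton_iff]
      calc g⁻¹ * (a : G) * g * z = g⁻¹ * ((a : G) * (g * z * g⁻¹)) * g := by group
        _ = g⁻¹ * (g * z * g⁻¹ * a) * g := by rw [h]
        _ = z * (g⁻¹ * (a : G) * g) := by group
    have h2 := LargeExtra.oc_conj_mem hc ((hmemP' _).1 hk.1)
    show g⁻¹ * ((a : G) * k * (a : G)⁻¹) * g ∈ P
    convert h2 using 1
    simp only [Subgroup.coe_subtype]
    group
  have hEab : IsElementaryAbelian 2 E := by
    have hin : ∀ k : (Subgroup.centralizer ({z} : Set G)), (k : G) ∈ P' → ((k : G) = 1 ∨ (k : G) = s) → (k : (Subgroup.centralizer ({z} : Set G)) ⧸ Q) = 1 := by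
      intro k _ h
      refine (QuotientGroup.eq_one_iff _).2 ?_
      rcases h with h | h
      · rw [show k = 1 from Subtype.ext h]; exact Subgroup.one_mem _
      · rw [show k = ⟨s, hsc⟩ from Subtype.ext h]; exact hsQ
    have htr : ∀ a, (g⁻¹ * a * g = 1 ∨ g⁻¹ * a * g = z) → a = 1 ∨ a = s := fun a h => h.imp
      (fun h => by calc a = g * (g⁻¹ * a * g) * g⁻¹ := by group
                     _ = 1 := by rw [h]; group)
      (fun h => by calc a = g * (g⁻¹ * a * g) * g⁻¹ := by group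
                     _ = s := by rw [h, hg])
    rw [hE]
    refine ⟨⟨⟨?_⟩⟩, ?_⟩
    · rintro ⟨_, a, ha, rfl⟩ ⟨_, a', hb, rfl⟩
      refine Subtype.ext (commutatorElement_eq_one_iff_mul_comm.1 ?_)
      rw [← map_commutatorElement]
      refine hin _ ?_ (htr _ ?_)
      · rw [commutatorElement_def]
        exact mul_mem (mul_mem (mul_mem ha.1 hb.1) (inv_mem ha.1)) (inv_mem hb.1)
      · have h := S.commutator_cases ((hmemP' _).1 ha.1) ((hmemP' _).1 hb.1)
        convert h using 2 <;> simp [commutatorElement_def, mul_assoc]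
    · rintro _ ⟨a, ha, rfl⟩
      rw [← map_pow]
      refine hin _ ?_ (htr _ ?_)
      · rw [sq]; exact mul_mem ha.1 ha.1
      · have h := hsqz _ ((hmemP' _).1 ha.1)
        convert h using 2 <;> simp [sq, mul_assoc]
  -- the class of `s`
  obtain ⟨v, hv, hp, hmk⟩ := D.mem_class hsQ hs2 hsne hs1
  have hA : ¬InA D.c v := D.not_inA hmk hv hp (isConj_iff.2 ⟨g, hg⟩)
  let St : Subgroup (Subgroup.centralizer ({z} : Set G)) :=
    { carrier := {h | cact D.F h v = v}
      one_mem' := cact_one D.F v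
      mul_mem' := fun {a c} (ha : cact D.F a v = v) (hc : cact D.F c v = v) =>
        show cact D.F (a * c) v = v by rw [cact_mul, hc, ha]
      inv_mem' := fun {a} (ha : cact D.F a v = v) => show cact D.F a⁻¹ v = v by
        conv_lhs => rw [← ha, ← cact_mul, inv_mul_cancel, cact_one] }
  have hlift : ∀ h : (Subgroup.centralizer ({z} : Set G)), cact D.F h v = v → (h : (Subgroup.centralizer ({z} : Set G)) ⧸ Q) ∈ X := by
    intro h hh
    have h1 : ((MulAut.conjNormal h (⟨_, hsQ⟩ : Q) : Q) : ↥Q ⧸ Subgroup.center ↥Q) = D.F.co v := by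
      rw [← actV_mk, hmk, ← co_cact, hh]
    obtain ⟨q, hq⟩ := D.class_conj (D.notMem_center h1 hv) (h1.trans hmk.symm)
    rw [hX]
    refine ⟨(q : (Subgroup.centralizer ({z} : Set G))) * h, ⟨((q : (Subgroup.centralizer ({z} : Set G))) * h).2, ?_⟩, ?_⟩
    · have h2 := congrArg (fun q : Q => ((q : (Subgroup.centralizer ({z} : Set G))) : G)) hq
      simp only [Subgroup.coe_mul, Subgroup.coe_inv, MulAut.conjNormal_apply] at h2
      show (((q : (Subgroup.centralizer ({z} : Set G))) * h : (Subgroup.centralizer ({z} : Set G))) : G) ∈ Subgroup.centralizer ({s} : Set G)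
      rw [Subgroup.mem_centralizer_singleton_iff]
      refine mul_inv_eq_iff_eq_mul.1 ?_
      simp only [Subgroup.coe_mul]
      rw [show (((q : (Subgroup.centralizer ({z} : Set G))) : G) * h) * s * (((q : (Subgroup.centralizer ({z} : Set G))) : G) * h)⁻¹ =
        ((q : (Subgroup.centralizer ({z} : Set G))) : G) * ((h : G) * s * (h : G)⁻¹) * ((q : (Subgroup.centralizer ({z} : Set G))) : G)⁻¹ by group]
      exact h2
    · rw [QuotientGroup.mk'_apply, QuotientGroup.mk_mul, (QuotientGroup.eq_one_iff _).2 q.2, one_mul]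
  have hXc : Nat.card ↥X = 11520 := by
    rw [← D.card_class_stab hv hp hA St fun _ => Iff.rfl]
    congr 2
    rw [hX]
    refine le_antisymm ?_ ?_
    · refine Subgroup.map_mono fun a ha => ?_
      refine (cact_eq D.F ?_ : cact D.F a v = v)
      rw [← hmk, actV_mk]
      congr 1
      refine Subtype.ext (Subtype.ext ?_)
      simp only [MulAut.conjNormal_apply, Subgroup.coe_mul, Subgroup.coe_inv]
      exact mul_inv_eq_iff_eq_mul.2 (Subgroup.mem_centralizer_singleton_iff.1 ha.2)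
    · rintro _ ⟨a, ha, rfl⟩
      rw [← hX]
      exact hlift a ha
  -- the alternating group
  obtain ⟨ψ, hψ, hψv⟩ := D.exists_alt hv hp hA
  have hψX : ∀ π, ψ π ∈ X := fun π => by
    obtain ⟨h, e, hh⟩ := hψv π
    rw [← e]; exact hlift h hh
  have hnE : (E.subgroupOf X).Normal := ⟨fun a ha x => hconj _ x.2 _ ha⟩
  let fX : alternatingGroup (Fin 6) →* ↥X := ψ.codRestrict X hψX
  have hdisj : ∀ π, ψ π ∈ E → π = 1 := by
    have hN : (E.comap ψ).Normal := ⟨fun a ha x => by
      rw [Subgroup.mem_comap, map_mul, map_mul, map_inv]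
      exact hconj _ (hψX x) _ ha⟩
    have : IsSimpleGroup (alternatingGroup (Fin 6)) := alternatingGroup.isSimpleGroup (by simp)
    rcases hN.eq_bot_or_eq_top with h | h
    · exact fun π hπ => Subgroup.mem_bot.1 (h ▸ (Subgroup.mem_comap.2 hπ))
    · exfalso
      obtain ⟨a, c, hac⟩ := alt_not_comm
      refine hac (hψ ?_)
      rw [map_mul, map_mul]
      exact congrArg Subtype.val (hEab.1.is_comm.comm
        (⟨ψ a, Subgroup.mem_comap.1 (h ▸ Subgroup.mem_top a)⟩ : ↥E) ⟨ψ c, Subgroup.mem_comap.1 (h ▸ Subgroup.mem_top c)⟩)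
  have hA6 : Nat.card (alternatingGroup (Fin 6)) = 360 := by
    rw [Nat.card_eq_fintype_card, card_alternatingGroup, Fintype.card_fin]; rfl
  have hEle : Nat.card ↥E ≤ 32 := by
    have h := Nat.card_le_card_of_injective
      (fun p : alternatingGroup (Fin 6) × ↥E => (⟨ψ p.1 * p.2, mul_mem (hψX _) (hEX p.2.2)⟩ : ↥X)) (by
        rintro ⟨π, e⟩ ⟨π', e'⟩ h
        have h1 : ψ π * (e : (Subgroup.centralizer ({z} : Set G)) ⧸ Q) = ψ π' * e' := congrArg Subtype.val h
        have h2 : π'⁻¹ * π = 1 := hdisj _ (by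
          rw [map_mul, map_inv, show ψ π = ψ π' * e' * (e : (Subgroup.centralizer ({z} : Set G)) ⧸ Q)⁻¹ by rw [← h1, mul_inv_cancel_right],
            ← mul_assoc, ← mul_assoc, inv_mul_cancel, one_mul]
          exact mul_mem e'.2 (inv_mem e.2))
        rw [inv_mul_eq_one] at h2
        subst h2
        exact Prod.ext rfl (Subtype.ext (mul_left_cancel h1)))
    rw [Nat.card_prod, hA6, hXc] at h
    omega
  have hEc : Nat.card ↥E = 32 := by
    refine le_antisymm hEle ?_
    by_contra h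
    have := Nat.mul_le_mul hUle (show Nat.card ↥E ≤ 31 by omega)
    omega
  refine ⟨hU, ?_, hEX, hconj, hEab, hEc, hnE, ?_⟩
  · refine le_antisymm hUle ?_
    rw [hEc] at hprod
    omega
  · let f := (QuotientGroup.mk' (E.subgroupOf X)).comp fX
    have hinj : Function.Injective f := (injective_iff_map_eq_one f).2 fun π h =>
      hdisj π (Subgroup.mem_subgroupOf.1 ((QuotientGroup.eq_one_iff (fX π)).1 h))
    refine ⟨(MulEquiv.ofBijective f ((Nat.bijective_iff_injective_and_card f).2 ⟨hinj, ?_⟩)).symm⟩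
    have h := Subgroup.card_eq_card_quotient_mul_card_subgroup (E.subgroupOf X)
    rw [Nat.card_congr (Subgroup.subgroupOfEquivOfLe hEX).toEquiv, hXc, hEc] at h
    rw [hA6]; omega

end Data

end Cfsg.Agent.LargeFischer
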