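import Cfsg.Agent.LargeFischer.UbarData

/-! The shears of the stabiliser of the representative, in coordinates. -/

set_option autoImplicit false
set_option maxRecDepth 20000
set_option Elab.async false

open Finset

namespace Cfsg.Agent.LargeFischer

/-- the shear of a pair of coordinates -/
def es (p : Fin 6 × Fin 6) (x : Vec6) : Vec6 :=
  if p.1 = p.2 then x else
    fun l => x l + omk 2 (x p.1 + x p.2) + (∑ i, x i) + if l = p.1 ∨ l = p.2 then omk 1 (∑ i, x i) else 0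

/-- the sixteen pairs -/
def pr : Fin 16 → Fin 6 × Fin 6 :=
  ![(0, 0), (0, 1), (0, 2), (0, 3), (0, 4), (0, 5), (1, 2), (1, 3), (1, 4), (1, 5), (2, 3), (2, 4), (2, 5), (3, 4),
    (3, 5), (4, 5)]

/-- eight permutations -/
def dp : Fin 8 → Equiv.Perm (Fin 6) :=
  ![1, Equiv.swap 0 1 * Equiv.swap 4 5, Equiv.swap 0 2 * Equiv.swap 1 3,
    Equiv.swap 0 2 * Equiv.swap 2 1 * Equiv.swap 1 3 * Equiv.swap 4 5,
    Equiv.swap 0 3 * Equiv.swap 3 1 * Equiv.swap 1 2 * Equiv.swap 4 5,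
    Equiv.swap 2 3 * Equiv.swap 4 5, Equiv.swap 0 3 * Equiv.swap 1 2, Equiv.swap 0 1 * Equiv.swap 2 3]

/-- the action of a code -/
def cd (c : Fin 16 × Fin 8) (x : Vec6) : Vec6 := es (pr c.1) (pm (dp c.2) x)

/-- unit vectors -/
def e6 (i : Fin 6) : Vec6 := Pi.single i (1, 0)

/-- the representative -/
def v1 : Vec6 := fun _ => (1, 0)

/-- generators of the intersection -/
def uu (j : Fin 5) : Vec6 := sm 1 (e6 0 + e6 j.succ)

/-- a basis of the fixed space -/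
def f0 (i : Fin 6) : Vec6 :=
  sm (if (i : ℕ) % 2 = 0 then 0 else 1) (e6 ⟨2 * ((i : ℕ) / 2), by omega⟩ + e6 ⟨2 * ((i : ℕ) / 2) + 1, by omega⟩)

/-- three normalising maps -/
def gn (g : Fin 3) (x : Vec6) : Vec6 :=
  if g = 0 then pm (Equiv.swap 0 2 * Equiv.swap 2 4 * (Equiv.swap 1 3 * Equiv.swap 3 5)) x
  else if g = 1 then es (0, 2) x else dg ![1, 1, 2, 2, 0, 0] x

/-- codes fixing the fixed space -/
def IsK (c : Fin 16 × Fin 8) : Prop := ∀ i, cd c (f0 i) = f0 i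

instance (c : Fin 16 × Fin 8) : Decidable (IsK c) := by unfold IsK; infer_instance

/-- the pairs commuting with a permutation -/
def fixp (t : Fin 8) : Finset (Fin 16) :=
  univ.filter fun p => ∀ i, pm (dp t) (es (pr p) (e6 i)) = es (pr p) (pm (dp t) (e6 i))

/-- a spanning tree -/
def edges : List (Fin 3 × (Fin 16 × Fin 8) × (Fin 16 × Fin 8)) :=
  [(0, (1, 0), (10, 0)), (2, (1, 0), (10, 7)), (0, (10, 0), (15, 0)), (2, (10, 0), (15, 5)),
    (1, (10, 7), (1, 7)), (2, (10, 7), (15, 1)), (2, (15, 0), (1, 1)), (1, (15, 5), (1, 5)),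
    (0, (1, 7), (10, 5)), (1, (15, 1), (10, 1)), (1, (1, 1), (0, 1)), (1, (10, 5), (0, 5)),
    (0, (10, 1), (15, 7)), (0, (0, 1), (0, 7))]

theorem dp_sign : ∀ t, Equiv.Perm.sign (dp t) = 1 := by decide +kernel

theorem dp_mul : ∀ a b, ∃ c, dp a * dp b = dp c := by decide +kernel

theorem dp_inj : ∀ t, (∀ j, pm (dp t) (uu j) = uu j ∨ pm (dp t) (uu j) = uu j + v1) → t = 0 := by decide +kernel

theorem cd_uu : ∀ (p : Fin 16) (j : Fin 5), es (pr p) (uu j) = uu j ∨ es (pr p) (uu j) = uu j + v1 := by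
  decide +kernel

theorem es_match : ∀ φ : Fin 5 → Bool, (∑ j, if φ j then (1 : ZMod 2) else 0) = 0 →
    ∃ p, ∀ j, es (pr p) (uu j) = uu j + if φ j then v1 else 0 := by decide +kernel

theorem es_v1 : ∀ p, es (pr p) v1 = v1 := by decide +kernel

theorem es_perp : ∀ (p : Fin 16) (j : Fin 5) (a : ZMod 3),
    (Perp (es (pr p) (e6 0)) (sm a (es (pr p) (uu j))) ↔ Perp (e6 0) (sm a (uu j))) ∧
    (Perp (es (pr p) (e6 0)) (sm a v1) ↔ Perp (e6 0) (sm a v1)) := by decide +kernel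

theorem es_witness : ∀ (p : Fin 16) (a : ZMod 3),
    ¬(par (es (pr p) (sm 1 (e6 0) + e6 1) + sm a v1) = 0 ∧
      InA 1 (es (pr p) (sm 1 (e6 0) + e6 1) + sm a v1)) ∧
    par (sm 1 (e6 0) + e6 1) = 0 ∧ InA 1 (sm 1 (e6 0) + e6 1) := by decide +kernel

theorem es_image_big : ∀ p : Fin 16, p ≠ 0 →
    4 < (univ.image fun (ai : ZMod 3 × Fin 6) => sm ai.1 (es (pr p) (e6 ai.2) + e6 ai.2)).card := by
  decide +kernel

theorem es_images : es (pr 1) (e6 0) + e6 0 = sm 1 (v1 + (e6 0 + e6 1)) ∧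
    es (pr 1) (e6 2) + e6 2 = v1 + sm 1 (e6 0 + e6 1) ∧
    es (pr 10) (e6 0) + e6 0 = v1 + sm 1 (e6 2 + e6 3) ∧ v1 = e6 0 + e6 1 + (e6 2 + e6 3) + (e6 4 + e6 5) := by
  decide +kernel

theorem proj_bound : ∀ s : Finset (Fin 8), (∀ a ∈ s, dp a * dp a = 1 ∧ ∀ b ∈ s, dp a * dp b = dp b * dp a) →
    (univ.filter fun p => ∀ t ∈ s, p ∈ fixp t).card * (insert 0 s).card ≤ 16 ∧
      ((univ.filter fun p => ∀ t ∈ s, p ∈ fixp t).card * (insert 0 s).card = 16 →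
        ∀ p ∈ univ.filter (fun p => ∀ t ∈ s, p ∈ fixp t),
          1 ∈ univ.filter (fun p => ∀ t ∈ s, p ∈ fixp t) ∧ 10 ∈ univ.filter (fun p => ∀ t ∈ s, p ∈ fixp t)) := by
  decide +kernel

theorem proj_small : ∀ s : Finset (Fin 8), (∀ a ∈ s, dp a * dp a = 1 ∧ ∀ b ∈ s, dp a * dp b = dp b * dp a) →
    (insert 0 s).card ≤ 4 := by decide +kernel

theorem isK_card : (univ.filter IsK).card = 16 := by decide +kernel

theorem isK_sq : ∀ c, IsK c → ∀ i, cd c (cd c (e6 i)) = e6 i := by decide +kernel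

theorem f0_props : (∀ i j, Perp (f0 i) (f0 j)) ∧ (∀ i, par (f0 i) = 0) := by decide +kernel

theorem gn_f0 : ∀ g i, (gn g (f0 i)) 0 = (gn g (f0 i)) 1 ∧ (gn g (f0 i)) 2 = (gn g (f0 i)) 3 ∧
    (gn g (f0 i)) 4 = (gn g (f0 i)) 5 := by decide +kernel

theorem edges_ok : ∀ e ∈ edges, IsK e.2.1 ∧ IsK e.2.2 ∧
    ∀ i, gn e.1 (cd e.2.1 (e6 i)) = cd e.2.2 (gn e.1 (e6 i)) := by decide +kernel

theorem edges_cover : ∀ c, IsK c → c ≠ (0, 0) → c = (1, 0) ∨ ∃ e ∈ edges, e.2.2 = c := by decide +kernel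

end Cfsg.Agent.LargeFischer
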