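import Cfsg.Agent.LargeFischer.StabA
import Cfsg.Agent.LargeFischer.ShearData

/-! The form in coordinates and linear maps. -/

set_option autoImplicit false
set_option maxRecDepth 20000
set_option Elab.async false

open Finset
open Cfsg.Agent.ThreeTrans.SU32 (F4)

namespace Cfsg.Agent.LargeFischer

theorem add_self6 (u : Vec6) : u + u = 0 := funext fun _ => (show ∀ p : W4, p + p = 0 by decide) _

theorem add_eq_zero6 {a c : Vec6} (h : a + c = 0) : a = c := funext fun i =>
  (show ∀ p q : W4, p + q = 0 → p = q by decide) _ _ (congrFun h i)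

/-- the bilinear form -/
def bp (a c : Vec6) : ZMod 2 := trF (hf a c)

theorem hf_add_right (a c c' : Vec6) : hf a (c + c') = hf a c + hf a c' := by
  simp only [hf, ← sum_add_distrib]
  refine sum_congr rfl fun i _ => ?_
  rw [Pi.add_apply, toF_facts.1, f4_facts.2.2.2, mul_add]

theorem hf_add_left (a a' c : Vec6) : hf (a + a') c = hf a c + hf a' c := by
  simp only [hf, ← sum_add_distrib]
  refine sum_congr rfl fun i _ => ?_
  rw [Pi.add_apply, toF_facts.1, add_mul]

theorem bp_add_right (a c c' : Vec6) : bp a (c + c') = bp a c + bp a c' := by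
  rw [bp, hf_add_right, trF_facts.1]; rfl

theorem bp_add_left (a a' c : Vec6) : bp (a + a') c = bp a c + bp a' c := by
  rw [bp, hf_add_left, trF_facts.1]; rfl

theorem bp_eq (a c : Vec6) : bp a c = par (a + c) + par a + par c := (perp_hf a c).symm

theorem bp_symm (a c : Vec6) : bp a c = bp c a := by
  rw [bp_eq, bp_eq, add_comm a c, add_right_comm]

theorem perp_bp (a c : Vec6) : Perp a c ↔ bp a c = 0 := by
  rw [bp_eq, Perp]
  exact (show ∀ p q r : ZMod 2, p = q + r ↔ p + q + r = 0 by decide) _ _ _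

theorem hf_single (a : Vec6) (i : Fin 6) (p : W4) : hf a (Pi.single i p) = toF (a i) * toF p ^ 2 := by
  rw [hf, sum_eq_single i]
  · simp
  · intro j _ hj
    rw [Pi.single_eq_of_ne hj, toF_facts.2.2.2.2.1, show (0 : F4) ^ 2 = 0 from rfl, mul_zero]
  · simp

theorem bp_nondeg {a : Vec6} (h : ∀ c, bp a c = 0) : a = 0 := funext fun i => by
  have h1 := h (Pi.single i (1, 0))
  have h2 := h (Pi.single i (0, 1))
  rw [bp, hf_single] at h1 h2
  exact (show ∀ p : W4, trF (toF p * toF (1, 0) ^ 2) = 0 → trF (toF p * toF (0, 1) ^ 2) = 0 → p = 0 by decide +kernel)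
    _ h1 h2

theorem w4_sm : ∀ p : W4, p = 0 ∨ ∃ a : ZMod 3, p = omk a (1, 0) := by decide

theorem perp_pairs {d : Vec6} (h : ∀ (j : Fin 5) (a : ZMod 3), bp d (sm a (uu j)) = 0) :
    d = 0 ∨ ∃ a, d = sm a v1 := by
  have hc : ∀ l, d l = d 0 := by
    intro l
    rcases Fin.eq_zero_or_eq_succ l with rfl | ⟨j, rfl⟩
    · rfl
    symm
    refine (show ∀ p q : W4, (∀ a : ZMod 3, trF (toF p * toF (omk a (1, 0)) ^ 2) +
      trF (toF q * toF (omk a (1, 0)) ^ 2) = 0) → p = q by decide +kernel) _ _ fun a => ?_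
    have h' := h j (a - 1)
    rw [show sm (a - 1) (uu j) = Pi.single 0 (omk a (1, 0)) + Pi.single j.succ (omk a (1, 0)) by
      rw [uu, sm_sm, sub_add_cancel, sm_add]
      congr 1 <;> funext i <;> simp only [sm, dg, e6, Pi.single_apply] <;> split_ifs <;>
        first
        | rfl
        | exact (omk_facts.1 _ _).2 rfl] at h'
    rw [bp_add_right, bp, bp, hf_single, hf_single] at h'
    exact h'
  rcases w4_sm (d 0) with e | ⟨a, e⟩
  · exact Or.inl (funext fun l => (hc l).trans e)
  · exact Or.inr ⟨a, funext fun l => (hc l).trans e⟩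

/-- linear maps -/
structure IsLin (f : Vec6 → Vec6) : Prop where
  add : ∀ a c, f (a + c) = f a + f c
  smul : ∀ c, f (sm 1 c) = sm 1 (f c)

namespace IsLin

variable {f g : Vec6 → Vec6}

theorem zero (hf : IsLin f) : f 0 = 0 := by
  have h := hf.add 0 0
  rw [add_zero] at h
  exact left_eq_add.1 h

theorem smul_all (hf : IsLin f) (a : ZMod 3) (c : Vec6) : f (sm a c) = sm a (f c) := by
  rcases (show ∀ a : ZMod 3, a = 0 ∨ a = 1 ∨ a = 1 + 1 by decide) a with rfl | rfl | rfl
  · rw [sm_zero, sm_zero]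
  · exact hf.smul c
  · rw [← sm_sm, hf.smul, hf.smul, sm_sm]

theorem comp (hf : IsLin f) (hg : IsLin g) : IsLin fun x => f (g x) :=
  ⟨fun a c => by rw [hg.add, hf.add], fun c => by rw [hg.smul, hf.smul]⟩

theorem ext (hf : IsLin f) (hg : IsLin g) (h : ∀ i, f (e6 i) = g (e6 i)) (x : Vec6) : f x = g x := by
  let F := AddMonoidHom.mk' f hf.add
  let G := AddMonoidHom.mk' g hg.add
  show F x = G x
  rw [← Finset.univ_sum_single x, map_sum, map_sum]
  refine sum_congr rfl fun i _ => ?_
  show f _ = g _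
  rcases w4_sm (x i) with e | ⟨a, e⟩
  · rw [e, Pi.single_zero, hf.zero, hg.zero]
  · have : (Pi.single i (x i) : Vec6) = sm a (e6 i) := by
      funext j
      simp only [sm, dg, e6, Pi.single_apply, e]
      split_ifs
      · rfl
      · exact ((omk_facts.1 _ _).2 rfl).symm
    rw [this, hf.smul_all, hg.smul_all, h]

end IsLin

theorem isLin_pm (π : Equiv.Perm (Fin 6)) : IsLin (pm π) := ⟨fun _ _ => rfl, fun _ => rfl⟩

theorem isLin_dg (d : Fin 6 → ZMod 3) : IsLin (dg d) :=
  ⟨fun _ _ => funext fun _ => omk_facts.2.1 _ _ _, fun c => (dg_sm_comm 1 d c).symm⟩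

theorem sum_sm (a : ZMod 3) (x : Vec6) : ∑ i, sm a x i = omk a (∑ i, x i) :=
  (map_sum (AddMonoidHom.mk' (omk a) (omk_facts.2.1 a)) x univ).symm

theorem isLin_es (p : Fin 6 × Fin 6) : IsLin (es p) := by
  by_cases h : p.1 = p.2
  · exact ⟨fun a c => by simp [es, h], fun c => by simp [es, h]⟩
  refine ⟨fun a c => funext fun l => ?_, fun c => funext fun l => ?_⟩
  · simp only [es, if_neg h, Pi.add_apply, sum_add_distrib]
    split_ifs <;> simp only [omk_facts.2.1] <;> abel
  · simp only [es, if_neg h, sum_sm]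
    simp only [sm, dg]
    split_ifs <;> simp only [omk_facts.2.1, omk_facts.2.2.1, (omk_facts.1 _ _).2, add_comm (1 : ZMod 3) 2]

theorem isLin_cd (c : Fin 16 × Fin 8) : IsLin (cd c) := (isLin_es _).comp (isLin_pm _)

theorem isLin_gn (g : Fin 3) : IsLin (gn g) := by
  unfold gn
  split_ifs
  · exact isLin_pm _
  · exact isLin_es _
  · exact isLin_dg _

/-- the orthogonal of an additive subgroup -/
def perpSub (U : AddSubgroup Vec6) : AddSubgroup Vec6 where
  carrier := {y | ∀ u ∈ U, bp u y = 0}
  zero_mem' u _ := by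
    have h := bp_add_right u 0 0
    rw [add_zero] at h
    exact left_eq_add.1 h
  add_mem' {a b} (ha : ∀ u ∈ U, bp u a = 0) (hb : ∀ u ∈ U, bp u b = 0) u hu := by
    rw [bp_add_right, ha u hu, hb u hu, add_zero]
  neg_mem' {a} ha := by rwa [show -a = a from funext fun _ => (show ∀ p : W4, -p = p by decide) _]

theorem mem_perpSub {U : AddSubgroup Vec6} {y : Vec6} : y ∈ perpSub U ↔ ∀ u ∈ U, bp u y = 0 := Iff.rfl

/-- sign -/
def sgn (b : ZMod 2) : ℤ := if b = 0 then 1 else -1

theorem sgn_succ : ∀ b, sgn (b + 1) = -sgn b := by decide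

theorem card_perpSub (U : AddSubgroup Vec6) : Nat.card ↥U * Nat.card ↥(perpSub U) = 4096 := by
  classical
  set S : Finset Vec6 := univ.filter fun u => u ∈ U
  set P : Finset Vec6 := univ.filter fun y => y ∈ perpSub U
  have hS : Nat.card ↥U = S.card := by
    rw [Nat.card_eq_fintype_card, Fintype.card_subtype]
  have hP : Nat.card ↥(perpSub U) = P.card := by
    rw [Nat.card_eq_fintype_card, Fintype.card_subtype]
  have h1 : ∑ y : Vec6, ∑ u ∈ S, sgn (bp u y) = (P.card : ℤ) * S.card := by
    have : ∀ y : Vec6, ∑ u ∈ S, sgn (bp u y) = if y ∈ P then (S.card : ℤ) else 0 := by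
      intro y
      by_cases hy : y ∈ perpSub U
      · rw [if_pos (by simp [P, hy]), sum_congr rfl fun u hu => by
          rw [show bp u y = 0 from hy u (mem_filter.1 hu).2, show sgn 0 = 1 from rfl]]
        simp
      · rw [if_neg (by simp [P, hy])]
        obtain ⟨u0, hu0, hne⟩ : ∃ u ∈ U, bp u y ≠ 0 := by
          by_contra h
          push Not at h
          exact hy h
        have h1 : bp u0 y = 1 := (zmod2_cases _).resolve_left hne
        have e : ∑ u ∈ S, sgn (bp u y) = ∑ u ∈ S, sgn (bp (u + u0) y) := by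
          refine sum_nbij' (fun u => u + u0) (fun u => u + u0) ?_ ?_ ?_ ?_ ?_
          · exact fun u hu => mem_filter.2 ⟨mem_univ _, U.add_mem (mem_filter.1 hu).2 hu0⟩
          · exact fun u hu => mem_filter.2 ⟨mem_univ _, U.add_mem (mem_filter.1 hu).2 hu0⟩
          · exact fun u _ => by simp only [add_assoc, add_self6, add_zero]
          · exact fun u _ => by simp only [add_assoc, add_self6, add_zero]
          · exact fun u _ => by simp only [add_assoc, add_self6, add_zero]
        simp only [bp_add_left, h1, sgn_succ, sum_neg_distrib] at e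
        omega
    rw [sum_congr rfl fun y _ => this y, sum_ite, sum_const_zero, add_zero, sum_const, nsmul_eq_mul]
    simp [P]
  have h2 : ∑ y : Vec6, ∑ u ∈ S, sgn (bp u y) = 4096 := by
    rw [sum_comm, sum_eq_single (0 : Vec6)]
    · have : ∀ y, bp 0 y = 0 := fun y => by
        have h := bp_add_left 0 0 y
        rw [add_zero] at h
        exact left_eq_add.1 h
      simp [this, sgn]
    · intro u _ hu
      obtain ⟨y0, hy0⟩ : ∃ y, bp u y = 1 := by
        by_contra h
        push Not at h
        exact hu (bp_nondeg fun c => (zmod2_cases _).resolve_right (h c))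
      have e : ∑ y : Vec6, sgn (bp u y) = ∑ y : Vec6, sgn (bp u (y + y0)) :=
        (Equiv.sum_comp (Equiv.addRight y0) (fun y => sgn (bp u y))).symm
      simp only [bp_add_right, hy0, sgn_succ, sum_neg_distrib] at e
      omega
    · exact fun h => absurd (mem_filter.2 ⟨mem_univ _, U.zero_mem⟩) h
  rw [h1] at h2
  rw [hS, hP, mul_comm]
  exact_mod_cast h2

end Cfsg.Agent.LargeFischer
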