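import Cfsg.Agent.LargeFischer.Semi

/-! The parameter of the two orbits may be chosen. -/

set_option autoImplicit false
set_option maxRecDepth 20000
set_option Elab.async false

open Finset Cfsg Cfsg.Agent

namespace Cfsg.Agent.LargeFischer

theorem cls_dg_gen (d : Fin 6 → ZMod 3) (v : Vec6) :
    cls (dg d v) = (wt v, if wt v = 6 then ∑ i, d i + ∑ i, lg (v i) else 0) := by
  simp only [cls, wt_dg]
  split_ifs with h
  · rw [Finset.sum_congr rfl (fun i _ => show lg (dg d v i) = d i + lg (v i) from
      lg_facts.1 _ _ (full_of_wt h i)), Finset.sum_add_distrib]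
  · rfl

theorem inA_dg (d : Fin 6 → ZMod 3) (c : ZMod 3) (v : Vec6) : InA c (dg d v) ↔ InA (c - ∑ i, d i) v := by
  rw [InA, InA, cls_dg_gen, cls]
  by_cases h : wt v = 6
  · simp only [h, if_true, Prod.mk.injEq, true_and]
    exact or_congr (iff_of_false (fun e => absurd e.1 (by norm_num)) (fun e => absurd e.1 (by norm_num)))
      (by rw [eq_sub_iff_add_eq, add_comm])
  · simp [h]

theorem par_dg (d : Fin 6 → ZMod 3) (v : Vec6) : par (dg d v) = par v := by rw [par, par, wt_dg]

theorem dg_zero (v : Vec6) : dg (0 : Fin 6 → ZMod 3) v = v := funext fun _ => omk_facts.2.2.2 _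

theorem dg_dg (d e : Fin 6 → ZMod 3) (v : Vec6) : dg d (dg e v) = dg (d + e) v :=
  funext fun _ => omk_facts.2.2.1 _ _ _

theorem dg_vec_add (d : Fin 6 → ZMod 3) (a c : Vec6) : dg d (a + c) = dg d a + dg d c :=
  funext fun _ => omk_facts.2.1 _ _ _

theorem dg_eq_zero (d : Fin 6 → ZMod 3) (v : Vec6) : dg d v = 0 ↔ v = 0 :=
  ⟨fun h => funext fun i => (omk_facts.1 _ _).1 (congrFun h i), fun h => funext fun i => by
    show omk (d i) (v i) = 0
    rw [h]; exact (omk_facts.1 _ _).2 rfl⟩

variable {G : Type*} [Group G] [Finite G] {z : G}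
  {Q : Subgroup (Subgroup.centralizer ({z} : Set G))} [Q.Normal]

/-- the frame seen through a diagonal map -/
theorem exists_data_param (hF : IsOfLargeFischerTypeAt z Q) (t : ZMod 3) : ∃ D : Data z Q, D.c = t := by
  obtain ⟨D⟩ := exists_data hF
  set δ : Fin 6 → ZMod 3 := Pi.single 0 (D.c - t) with hδ
  have hsum : ∑ i, δ i = D.c - t := by rw [hδ]; simp
  have hinv : ∀ v, dg (-δ) (dg δ v) = v := fun v => by rw [dg_dg, neg_add_cancel, dg_zero]
  have hinv' : ∀ v, dg δ (dg (-δ) v) = v := fun v => by rw [dg_dg, add_neg_cancel, dg_zero]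
  have hbij : Function.Bijective (dg δ) :=
    Function.bijective_iff_has_inverse.2 ⟨dg (-δ), hinv, hinv'⟩
  let F' : Frame6 (actV Q) D.M :=
    { co := fun c => D.F.co (dg δ c)
      bij := D.F.bij.comp hbij
      map_add := fun a c => by rw [dg_vec_add, D.F.map_add]
      diag := fun d hd => by
        obtain ⟨m, hm, h⟩ := D.F.diag d hd
        exact ⟨m, hm, fun c => by rw [h, dg_dg, dg_dg, add_comm]⟩
      perm := fun π hπ => by
        obtain ⟨m, hm, h⟩ := D.F.perm π hπ
        obtain ⟨n, hn, h'⟩ := D.F.diag (fun i => δ i - δ (π⁻¹ i)) (by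
          rw [sum_sub_distrib, Equiv.sum_comp π⁻¹ δ, sub_self])
        refine ⟨n * m, D.M.mul_mem hn hm, fun c => ?_⟩
        rw [map_mul]
        show actV Q n (actV Q m (D.F.co (dg δ c))) = _
        rw [h, h']
        congr 1
        funext i
        simp only [dg, pm, omk_facts.2.2.1]
        congr 1
        ring
      lin := fun m hm c c' h => by
        have h2 := D.F.lin m hm _ _ h
        rw [dg_dg] at h2 ⊢
        rw [dg_dg]
        rwa [dg_dg, add_comm _ δ] at h2 }
  refine ⟨⟨D.b, D.M, D.norm, D.hind, F', t, fun v hv hp w => ?_⟩, rfl⟩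
  have hA : ∀ u, InA D.c (dg δ u) ↔ InA t u := fun u => by rw [inA_dg, hsum, sub_sub_cancel]
  have horb : w ∈ orb F' v ↔ dg δ w ∈ orb D.F (dg δ v) := by
    rw [mem_orb, mem_orb]
    refine exists_congr fun m => and_congr_right fun _ => ?_
    constructor
    · intro h
      refine cact_eq D.F ?_
      have := co_cact F' m v
      rw [h] at this
      exact this.symm
    · intro h
      refine cact_eq F' ?_
      have := co_cact D.F m (dg δ v)
      rw [h] at this
      exact this.symm
  rw [horb, D.orb_iff _ (fun e => hv ((dg_eq_zero _ _).1 e)) (by rw [par_dg, hp]), hA, hA, par_dg, Ne, dg_eq_zero]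

end Cfsg.Agent.LargeFischer
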