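import Cfsg.Agent.LargeFischer.StabB

/-! The elements outside the subgroup of index two act semilinearly. -/

set_option autoImplicit false
set_option maxRecDepth 20000
set_option Elab.async false

open Finset Cfsg Cfsg.Agent
open scoped commutatorElement

namespace Cfsg.Agent.LargeFischer

/-- multiplication by a cube root of one -/
def sm (k : ZMod 3) (c : Vec6) : Vec6 := dg (fun _ => k) c

theorem sm_sm (a b : ZMod 3) (c : Vec6) : sm a (sm b c) = sm (a + b) c :=
  funext fun _ => omk_facts.2.2.1 _ _ _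

theorem sm_zero (c : Vec6) : sm 0 c = c := funext fun _ => omk_facts.2.2.2 _

theorem sm_add (k : ZMod 3) (a c : Vec6) : sm k (a + c) = sm k a + sm k c :=
  funext fun _ => omk_facts.2.1 _ _ _

theorem sm_sum (c : Vec6) : c + sm 1 c + sm 2 c = 0 := funext fun _ =>
  (show ∀ p : W4, p + omk 1 p + omk 2 p = 0 by decide) _

theorem sm_ne {c : Vec6} (h : c ≠ 0) : sm 1 c ≠ c := fun e => h (funext fun i =>
  (show ∀ p : W4, omk 1 p = p → p = 0 by decide) _ (congrFun e i))

theorem sm_eq_zero {k : ZMod 3} {c : Vec6} (h : sm k c = 0) : c = 0 :=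
  funext fun i => (omk_facts.1 _ _).1 (congrFun h i)

theorem dg_pm_comm (k : ZMod 3) (π : Equiv.Perm (Fin 6)) (c : Vec6) : sm k (pm π c) = pm π (sm k c) := rfl

theorem dg_sm_comm (k : ZMod 3) (d : Fin 6 → ZMod 3) (c : Vec6) : sm k (dg d c) = dg d (sm k c) :=
  funext fun i => by simp [sm, dg, omk_facts.2.2.1, add_comm]

/-- what commutes with the monomial group is scalar -/
theorem scalar_of_commute (f : Vec6 →+ Vec6) (hf : Function.Injective f)
    (hd : ∀ d : Fin 6 → ZMod 3, ∑ i, d i = 0 → ∀ c, f (dg d c) = dg d (f c))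
    (hπ : ∀ i, ∃ π : Equiv.Perm (Fin 6), π 0 = i ∧ ∀ c, f (pm π c) = pm π (f c)) :
    ∃ k, ∀ c, f c = sm k c := by
  have hsing : ∀ (d : Fin 6 → ZMod 3) (i : Fin 6) (p : W4),
      dg d (Pi.single i p) = Pi.single i (omk (d i) p) := fun d i p => funext fun j => by
    by_cases h : j = i
    · subst h; simp [dg]
    · simp [dg, h, (omk_facts.1 _ _).2 rfl]
  have hsupp : ∀ i p, f (Pi.single i p) = Pi.single i (f (Pi.single i p) i) := by
    intro i p
    funext j
    by_cases hj : j = i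
    · subst hj; simp
    rw [Pi.single_eq_of_ne hj]
    obtain ⟨k, hki, hkj⟩ := (show ∀ i j : Fin 6, ∃ k, k ≠ i ∧ k ≠ j by decide) i j
    have h := hd (Pi.single j 1 + Pi.single k 2) (by
      simp only [Pi.add_apply, sum_add_distrib, Finset.sum_pi_single', mem_univ, if_true]; rfl)
      (Pi.single i p)
    rw [hsing] at h
    simp only [Pi.add_apply, Pi.single_eq_of_ne (Ne.symm hj), Pi.single_eq_of_ne (Ne.symm hki), add_zero,
      omk_facts.2.2.2] at h
    have h' := congrFun h j
    simp only [dg, Pi.add_apply, Pi.single_eq_same, Pi.single_eq_of_ne (Ne.symm hkj), add_zero] at h'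
    exact (show ∀ q : W4, q = omk 1 q → q = 0 by decide) _ h'
  have hline : ∀ i p, f (Pi.single i (omk 1 p)) i = omk 1 (f (Pi.single i p) i) := by
    intro i p
    have h := congrFun (hd (fun _ => 1) (by simp; rfl) (Pi.single i p)) i
    rwa [hsing] at h
  set q := f (Pi.single 0 (1, 0)) 0 with hq
  have hq0 : q ≠ 0 := fun e => by
    have h := hsupp 0 (1, 0)
    rw [← hq, e, Pi.single_zero, ← map_zero f] at h
    exact absurd (congrFun (hf h) 0) (by simp)
  refine ⟨lg q - lg (1, 0), fun c => ?_⟩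
  rw [← Finset.univ_sum_single c, map_sum]
  funext j
  simp only [sm, dg, Finset.sum_apply]
  rw [sum_eq_single j (fun i _ hij => by rw [hsupp i, Pi.single_eq_of_ne (Ne.symm hij)]) (by simp),
    sum_eq_single j (fun i _ hij => Pi.single_eq_of_ne (Ne.symm hij) _) (by simp), Pi.single_eq_same]
  have h10 : f (Pi.single j (1, 0)) j = omk (lg q - lg (1, 0)) (1, 0) := by
    obtain ⟨π, hπ0, hπc⟩ := hπ j
    have e : pm π (Pi.single 0 (1, 0) : Vec6) = Pi.single j (1, 0) := funext fun l => by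
      simp only [pm, Pi.single_apply]
      exact if_congr (by rw [Equiv.Perm.inv_eq_iff_eq, hπ0]) rfl rfl
    rw [← e, hπc, pm, show π⁻¹ j = 0 by rw [Equiv.Perm.inv_eq_iff_eq, hπ0],
      lg_facts.2 _ _ (by decide) hq0]
  rcases w4_facts.2.2.2.2 (c j) with e | e | e | e <;> rw [e]
  · simp [(omk_facts.1 _ _).2 rfl]
  · exact h10
  · rw [← w4_facts.2.2.1, hline, h10, omk_facts.2.2.1, omk_facts.2.2.1, add_comm]
  · rw [← w4_facts.2.2.1, ← w4_facts.2.2.1, hline, hline, h10]
    simp only [omk_facts.2.2.1]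
    congr 1
    ring

namespace Data

variable {G : Type*} [Group G] [Finite G] {z : G}
  {Q : Subgroup (Subgroup.centralizer ({z} : Set G))} [Q.Normal] (D : Data z Q)
include D

theorem exists_scalar : ∃ x ∈ D.M, ∀ c, cact D.F x c = sm 1 c := by
  obtain ⟨m, hm, h⟩ := D.F.diag (fun _ => 1) (by simp; rfl)
  exact ⟨m, hm, fun c => cact_eq D.F (h c)⟩

theorem lin_M {m : Subgroup.centralizer ({z} : Set G)} (hm : m ∈ D.M) (c : Vec6) :
    cact D.F m (sm 1 c) = sm 1 (cact D.F m c) :=
  cact_eq D.F (D.F.lin m hm c _ (co_cact D.F m c).symm)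

/-- every element normalises the scalars -/
theorem scalar_exp (h : Subgroup.centralizer ({z} : Set G)) :
    ∃ k : ZMod 3, k ≠ 0 ∧ ∀ c, cact D.F h (sm 1 c) = sm k (cact D.F h c) := by
  obtain ⟨x, hx, hxc⟩ := D.exists_scalar
  have := D.norm
  set y := h * x * h⁻¹ with hy
  let f : Vec6 →+ Vec6 := AddMonoidHom.mk' (cact D.F y) (cact_add D.F y)
  have hc : ∀ m ∈ D.M, ∀ c, f (cact D.F m c) = cact D.F m (f c) := by
    intro m hm c
    show cact D.F y (cact D.F m c) = cact D.F m (cact D.F y c)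
    have hm' : h⁻¹ * m * h ∈ D.M := by
      simpa using (inferInstance : D.M.Normal).conj_mem m hm h⁻¹
    have hy' : ∀ c, cact D.F y c = cact D.F h (sm 1 (cact D.F h⁻¹ c)) := fun c => by
      rw [hy, cact_mul, cact_mul, hxc]
    rw [hy', hy', ← cact_mul D.F h⁻¹ m, show h⁻¹ * m = h⁻¹ * m * h * h⁻¹ by group, cact_mul,
      ← D.lin_M hm', ← cact_mul, show h * (h⁻¹ * m * h) = m * h by group, cact_mul]
  obtain ⟨k, hk⟩ := scalar_of_commute f (cact_inj D.F y) (fun d hd c => by
      obtain ⟨m, hm, e⟩ := D.F.diag d hd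
      rw [← cact_eq D.F (e c), hc m hm, cact_eq D.F (e _)])
    (fun i => by
      obtain ⟨π, hπ, hπ0⟩ : ∃ π : Equiv.Perm (Fin 6), Equiv.Perm.sign π = 1 ∧ π 0 = i := by
        revert i; decide +kernel
      obtain ⟨m, hm, e⟩ := D.F.perm π hπ
      exact ⟨π, hπ0, fun c => by rw [← cact_eq D.F (e c), hc m hm, cact_eq D.F (e _)]⟩)
  have hk' : ∀ c, cact D.F h (sm 1 c) = sm k (cact D.F h c) := fun c => by
    rw [← hk (cact D.F h c)]
    show _ = cact D.F y _
    rw [← cact_mul, hy, inv_mul_cancel_right, cact_mul, hxc]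
  refine ⟨k, fun e => ?_, hk'⟩
  subst e
  have hv : (Pi.single 0 (1, 0) : Vec6) ≠ 0 := fun e => absurd (congrFun e 0) (by simp)
  exact sm_ne hv (cact_inj D.F h ((hk' _).trans (sm_zero _)))

theorem perp_B {a c : Vec6} {x y : Q} (hx : (x : ↥Q ⧸ Subgroup.center ↥Q) = D.F.co a)
    (hy : (y : ↥Q ⧸ Subgroup.center ↥Q) = D.F.co c) (h : x * y = y * x) : B D.F a c = 0 := by
  rw [B_eq D.b D.F hx hy, if_pos]
  exact commutatorElement_eq_one_iff_mul_comm.2 h

theorem B_nondeg {a : Vec6} (h : ∀ c, B D.F a c = 0) : a = 0 := by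
  by_contra ha
  obtain ⟨i, hi⟩ : ∃ i, a i ≠ 0 := by
    by_contra h'
    push Not at h'
    exact ha (funext h')
  have h1 := (B_perp D.b D.F a (Pi.single i (omk 1 (a i)))).1 (h _)
  rw [Perp, par_sum, par_sum, par_sum, ← Finset.sum_add_distrib] at h1
  refine absurd h1 ?_
  rw [← sub_eq_zero.not, ← Finset.sum_sub_distrib, sum_eq_single i (fun j _ hj => by
    simp [Pi.single_eq_of_ne hj]) (by simp)]
  simp only [Pi.add_apply, Pi.single_eq_same]
  exact (show ∀ p : W4, p ≠ 0 → (if p + omk 1 p = 0 then (0 : ZMod 2) else 1) -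
    ((if p = 0 then 0 else 1) + if omk 1 p = 0 then 0 else 1) ≠ 0 by decide) _ hi

theorem B_dual {a b : Vec6} (h : ∀ c, B D.F b c = 0 → B D.F a c = 0) : a = 0 ∨ a = b := by
  by_cases hb : ∀ c, B D.F b c = 0
  · exact Or.inl (D.B_nondeg fun c => h c (hb c))
  push Not at hb
  obtain ⟨c0, hc0⟩ := hb
  replace hc0 : B D.F b c0 = 1 := (zmod2_cases _).resolve_left hc0
  have key : ∀ c, B D.F a c = B D.F b c * B D.F a c0 := by
    intro c
    rcases zmod2_cases (B D.F b c) with e | e
    · rw [e, zero_mul]; exact h c e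
    · have h1 := h (c + c0) (by rw [B_add D.b D.F, e, hc0]; rfl)
      rw [B_add D.b D.F] at h1
      rw [e, one_mul]
      exact (show ∀ p q : ZMod 2, p + q = 0 → p = q by decide) _ _ h1
  rcases zmod2_cases (B D.F a c0) with e | e
  · exact Or.inl (D.B_nondeg fun c => by rw [key, e, mul_zero])
  · refine Or.inr ?_
    have h0 : a + b = 0 := D.B_nondeg fun c => by
      rw [B_symm D.b D.F, B_add D.b D.F, B_symm D.b D.F c, B_symm D.b D.F c b, key c, e, mul_one]
      exact (show ∀ p : ZMod 2, p + p = 0 by decide) _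
    funext i
    exact (show ∀ p q : W4, p + q = 0 → p = q by decide) _ _ (congrFun h0 i)

/-- Some element inverts the scalars. -/
theorem exists_anti (hF : IsOfLargeFischerTypeAt z Q) :
    ∃ h : Subgroup.centralizer ({z} : Set G), ∀ c, cact D.F h (sm 1 c) = sm 2 (cact D.F h c) := by
  classical
  by_contra hcon
  have lin : ∀ (h : Subgroup.centralizer ({z} : Set G)) c, cact D.F h (sm 1 c) = sm 1 (cact D.F h c) := by
    intro h
    obtain ⟨k, hk, hkc⟩ := D.scalar_exp h
    rcases (show ∀ k : ZMod 3, k ≠ 0 → k = 1 ∨ k = 2 by decide) k hk with rfl | rfl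
    · exact hkc
    · exact absurd ⟨h, hkc⟩ hcon
  obtain ⟨g, ⟨hsc, hsQ⟩, hs1⟩ := hF.1.2.2.2.2
  have S := D.setting
  have hz2 : z * z = 1 := S.sq_one
  obtain ⟨s, hg⟩ : ∃ s, g * z * g⁻¹ = s := ⟨_, rfl⟩
  simp only [hg] at hsc hsQ hs1
  have hs2 : s * s = 1 := by rw [← hg, LargeExtra.conjm, hz2, mul_one, mul_inv_cancel]
  have hsne : s ≠ 1 := fun e => S.ne_one (by
    rw [e, mul_inv_eq_one] at hg; exact mul_eq_left.1 hg)
  obtain ⟨-, hUc, -, -, -, hEc, -⟩ := D.stab_structure hg hsc hsQ hs1 _ _ rfl rfl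
  obtain ⟨v, hv, -, hmk⟩ := D.mem_class hsQ hs2 hsne hs1
  set P := LargeExtra.oc z with hP
  set P' := P.map (MulAut.conj g).toMonoidHom with hP'
  have hmemP' : ∀ a, a ∈ P' ↔ g⁻¹ * a * g ∈ P := fun a => by
    rw [hP', Subgroup.mem_map]
    constructor
    · rintro ⟨p, hp, rfl⟩; simpa [mul_assoc] using hp
    · exact fun h => ⟨_, h, by simp [mul_assoc]⟩
  have hxP : g * z * g⁻¹ ∈ P := D.mem_oc_iff.2 ⟨⟨_, hsQ⟩, hg.symm⟩
  have hzP' : z ∈ P' := by
    rw [hmemP']
    have h1 := LargeExtra.conj_mem_oc (g := g⁻¹) (S.symm hxP)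
    rwa [show g⁻¹ * (g * z * g⁻¹) * g⁻¹⁻¹ = z by group, inv_inv] at h1
  have hcomm : ∀ a ∈ P', ∀ a' ∈ P', a * a' * a⁻¹ * a'⁻¹ = 1 ∨ a * a' * a⁻¹ * a'⁻¹ = s := by
    intro a ha a' ha'
    have h := S.commutator_cases ((hmemP' a).1 ha) ((hmemP' a').1 ha')
    have e : a * a' * a⁻¹ * a'⁻¹ = g * ((g⁻¹ * a * g) * (g⁻¹ * a' * g) * (g⁻¹ * a * g)⁻¹ * (g⁻¹ * a' * g)⁻¹) * g⁻¹ := by
      group
    rw [e]
    rcases h with h | h <;> rw [h]
    · exact Or.inl (by group)
    · exact Or.inr hg
  let img : Set Vec6 := {u | ∃ t : Q, ((t : Subgroup.centralizer ({z} : Set G)) : G) ∈ P' ∧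
    (t : ↥Q ⧸ Subgroup.center ↥Q) = D.F.co u}
  have iadd : ∀ a ∈ img, ∀ c ∈ img, a + c ∈ img := fun a ⟨t, ht, e⟩ c ⟨t', ht', e'⟩ =>
    ⟨t * t', mul_mem ht ht', by rw [QuotientGroup.mk_mul, e, e', D.F.map_add]⟩
  have iperp : ∀ a ∈ img, B D.F v a = 0 := by
    rintro a ⟨t, ht, e⟩
    refine D.perp_B hmk e (Subtype.ext (Subtype.ext ?_))
    have h := Subgroup.mem_centralizer_singleton_iff.1 (LargeExtra.oc_le z ((hmemP' _).1 ht))
    show s * _ = _ * s
    rw [← hg]
    calc g * z * g⁻¹ * ((t : Subgroup.centralizer ({z} : Set G)) : G)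
        = g * (z * (g⁻¹ * ((t : Subgroup.centralizer ({z} : Set G)) : G) * g)) * g⁻¹ := by group
      _ = g * (g⁻¹ * ((t : Subgroup.centralizer ({z} : Set G)) : G) * g * z) * g⁻¹ := by rw [h]
      _ = ((t : Subgroup.centralizer ({z} : Set G)) : G) * (g * z * g⁻¹) := by group
  -- the movement
  have hstep : ∀ k : Subgroup.centralizer ({z} : Set G), (k : G) ∈ P' → ∀ u ∈ img, ∀ t : Q,
      ((t : Subgroup.centralizer ({z} : Set G)) : G) ∈ P' → (t : ↥Q ⧸ Subgroup.center ↥Q) = D.F.co u →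
      (cact D.F k u = u ∧ MulAut.conjNormal k t = t) ∨ cact D.F k u = u + v := by
    intro k hk u _ t ht htc
    rcases hcomm _ hk _ ht with h | h
    · have e : MulAut.conjNormal k t = t := by
        refine Subtype.ext (Subtype.ext ?_)
        simp only [MulAut.conjNormal_apply, Subgroup.coe_mul, Subgroup.coe_inv]
        exact mul_inv_eq_one.1 h
      exact Or.inl ⟨cact_eq D.F (by rw [← htc, actV_mk, e]), e⟩
    · right
      have e : MulAut.conjNormal k t = (⟨_, hsQ⟩ : Q) * t := by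
        refine Subtype.ext (Subtype.ext ?_)
        simp only [MulAut.conjNormal_apply, Subgroup.coe_mul, Subgroup.coe_inv]
        exact mul_inv_eq_iff_eq_mul.1 h
      refine cact_eq D.F ?_
      rw [← htc, actV_mk, e, QuotientGroup.mk_mul, hmk, htc, add_comm, D.F.map_add]
  -- no scalar multiples
  have hfixed : ∀ u ∈ img, (∀ k : Subgroup.centralizer ({z} : Set G), (k : G) ∈ P' → cact D.F k u = u) →
      u = 0 ∨ u = v := by
    rintro u ⟨t, ht, htc⟩ hu
    obtain ⟨t', ht'⟩ := D.mem_oc_iff.1 ((hmemP' _).1 ht)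
    obtain ⟨w, hw⟩ := D.mem_oc_iff.1 ((hmemP' z).1 hzP')
    obtain ⟨a, ha⟩ := D.F.bij.2 (t' : ↥Q ⧸ Subgroup.center ↥Q)
    obtain ⟨b, hb⟩ := D.F.bij.2 (w : ↥Q ⧸ Subgroup.center ↥Q)
    have hd : a = 0 ∨ a = b := by
      refine D.B_dual fun c hc => ?_
      rw [B_eq D.b D.F hb.symm (mk_lift D.F c)] at hc
      have hwc : w * lift D.F c = lift D.F c * w := commutatorElement_eq_one_iff_mul_comm.1 (by
        simpa [commutatorElement_def] using hc)
      set q := (((lift D.F c : Q) : Subgroup.centralizer ({z} : Set G)) : G) with hq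
      have hwc' : g⁻¹ * z * g * q = q * (g⁻¹ * z * g) := by
        rw [← hw]; exact congrArg (fun q : Q => ((q : Subgroup.centralizer ({z} : Set G)) : G)) hwc
      have hkH : g * q * g⁻¹ ∈ Subgroup.centralizer ({z} : Set G) := by
        rw [Subgroup.mem_centralizer_singleton_iff]
        calc g * q * g⁻¹ * z = g * (q * (g⁻¹ * z * g)) * g⁻¹ := by group
          _ = g * (g⁻¹ * z * g * q) * g⁻¹ := by rw [hwc']
          _ = z * (g * q * g⁻¹) := by group
      have hkP : g * q * g⁻¹ ∈ P' := (hmemP' _).2 (by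
        rw [show g⁻¹ * (g * q * g⁻¹) * g = q by group]; exact D.mem_oc_iff.2 ⟨_, rfl⟩)
      set k : Subgroup.centralizer ({z} : Set G) := ⟨_, hkH⟩ with hk
      have hfix := hu k hkP
      have hcm : g * q * g⁻¹ * ((t : Subgroup.centralizer ({z} : Set G)) : G) =
          ((t : Subgroup.centralizer ({z} : Set G)) : G) * (g * q * g⁻¹) := by
        rcases hstep k hkP u ⟨t, ht, htc⟩ t ht htc with ⟨-, e⟩ | e
        · have := congrArg (fun q : Q => ((q : Subgroup.centralizer ({z} : Set G)) : G)) e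
          simp only [MulAut.conjNormal_apply, Subgroup.coe_mul, Subgroup.coe_inv] at this
          exact mul_inv_eq_iff_eq_mul.1 this
        · rw [hfix] at e
          exact absurd (left_eq_add.1 e) hv
      refine D.perp_B ha.symm (mk_lift D.F c) (Subtype.ext (Subtype.ext ?_))
      show ((t' : Subgroup.centralizer ({z} : Set G)) : G) * q = q * ((t' : Subgroup.centralizer ({z} : Set G)) : G)
      rw [ht']
      calc g⁻¹ * ((t : Subgroup.centralizer ({z} : Set G)) : G) * g * q
          = g⁻¹ * (((t : Subgroup.centralizer ({z} : Set G)) : G) * (g * q * g⁻¹)) * g := by group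
        _ = g⁻¹ * (g * q * g⁻¹ * ((t : Subgroup.centralizer ({z} : Set G)) : G)) * g := by rw [hcm]
        _ = q * (g⁻¹ * ((t : Subgroup.centralizer ({z} : Set G)) : G) * g) := by group
    have hzc : ∀ q q' : Q, (q : ↥Q ⧸ Subgroup.center ↥Q) = (q' : ↥Q ⧸ Subgroup.center ↥Q) →
        ((q : Subgroup.centralizer ({z} : Set G)) : G) = ((q' : Subgroup.centralizer ({z} : Set G)) : G) ∨
        ((q : Subgroup.centralizer ({z} : Set G)) : G) = ((q' : Subgroup.centralizer ({z} : Set G)) : G) * z := by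
      intro q q' e
      rcases (center_iff D.b).1 (QuotientGroup.eq.1 e.symm) with h | h
      · exact Or.inl (congrArg (fun q : Q => ((q : Subgroup.centralizer ({z} : Set G)) : G)) (inv_mul_eq_one.1 h).symm)
      · have h' := congrArg Subtype.val h
        simp only [Subgroup.coe_mul, Subgroup.coe_inv, zc] at h'
        exact Or.inr (inv_mul_eq_iff_eq_mul.1 h')
    have hzQ : ((⟨zc z, zc_mem D.b⟩ : Q) : ↥Q ⧸ Subgroup.center ↥Q) = 1 :=
      (QuotientGroup.eq_one_iff _).2 ((center_iff D.b).2 (Or.inr rfl))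
    have fin0 : ∀ q : Q, ((t : Subgroup.centralizer ({z} : Set G)) : G) = ((q : Subgroup.centralizer ({z} : Set G)) : G) →
        (q : ↥Q ⧸ Subgroup.center ↥Q) = 1 → u = 0 := fun q e e1 => D.F.bij.1 (by
      rw [← htc, co_zero D.b D.F, show t = q from Subtype.ext (Subtype.ext e), e1])
    have finv : ∀ q : Q, ((t : Subgroup.centralizer ({z} : Set G)) : G) = ((q : Subgroup.centralizer ({z} : Set G)) : G) →
        (q : ↥Q ⧸ Subgroup.center ↥Q) = D.F.co v → u = v := fun q e e1 => D.F.bij.1 (by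
      rw [← htc, show t = q from Subtype.ext (Subtype.ext e), e1])
    have ht_eq : ((t : Subgroup.centralizer ({z} : Set G)) : G) =
        g * ((t' : Subgroup.centralizer ({z} : Set G)) : G) * g⁻¹ := by rw [ht']; group
    rcases hd with e | e
    · rcases hzc t' 1 (by rw [← ha, e, co_zero D.b D.F, QuotientGroup.mk_one]) with h | h
      · exact Or.inl (fin0 1 (by rw [ht_eq, h]; simp) (QuotientGroup.mk_one _))
      · exact Or.inr (finv ⟨_, hsQ⟩ (by rw [ht_eq, h]; simp [hg]) hmk)
    · rcases hzc t' w (by rw [← ha, e, hb]) with h | h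
      · refine Or.inl (fin0 ⟨zc z, zc_mem D.b⟩ ?_ hzQ)
        rw [ht_eq, h, hw]
        show g * (g⁻¹ * z * g) * g⁻¹ = z
        group
      · refine Or.inr (finv (⟨zc z, zc_mem D.b⟩ * ⟨_, hsQ⟩) ?_ (by rw [QuotientGroup.mk_mul, hzQ, one_mul, hmk]))
        rw [ht_eq, h, hw]
        show g * (g⁻¹ * z * g * z) * g⁻¹ = z * s
        rw [← hg]; group
  have hsv : v ∈ img := by
    refine ⟨⟨_, hsQ⟩, (hmemP' s).2 ?_, hmk⟩
    rw [← hg, show g⁻¹ * (g * z * g⁻¹) * g = z by group]
    exact LargeExtra.mem_oc_self S.ord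
  have izero : (0 : Vec6) ∈ img := ⟨1, by simp, by rw [QuotientGroup.mk_one, co_zero D.b D.F]⟩
  have hcap : ∀ u ∈ img, sm 1 u ∈ img → u = 0 := by
    intro u hu hu'
    have key : ∀ k : Subgroup.centralizer ({z} : Set G), (k : G) ∈ P' → cact D.F k u = u := by
      intro k hk
      obtain ⟨t, ht, htc⟩ := hu
      obtain ⟨t', ht', htc'⟩ := hu'
      rcases hstep k hk u ⟨t, ht, htc⟩ t ht htc with ⟨h, -⟩ | h
      · exact h
      exfalso
      rcases hstep k hk _ ⟨t', ht', htc'⟩ t' ht' htc' with ⟨h', -⟩ | h'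
      all_goals rw [lin, h, sm_add] at h'
      · exact hv (sm_eq_zero (add_eq_left.1 h'))
      · exact sm_ne hv (add_left_cancel h')
    rcases hfixed u hu key with e | e
    · exact e
    subst e
    have hk2 : ∀ k : Subgroup.centralizer ({z} : Set G), (k : G) ∈ P' → cact D.F k (sm 1 u) = sm 1 u :=
      fun k hk => by rw [lin, key k hk]
    rcases hfixed _ hu' hk2 with e | e
    · exact sm_eq_zero e
    · exact absurd e (sm_ne hv)
  -- a real form
  let Imf : Finset Vec6 := univ.filter (· ∈ img)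
  have hImf : ∀ u, u ∈ Imf ↔ u ∈ img := fun u => by simp [Imf]
  have h64 : 64 ≤ Imf.card := by
    have hmem : ∀ a : ↥(P ⊓ P'), ∃ t : Q, ((t : Subgroup.centralizer ({z} : Set G)) : G) = (a : G) :=
      fun a => D.mem_oc_iff.1 a.2.1
    choose t ht using hmem
    choose u hu using fun a => D.F.bij.2 (t a : ↥Q ⧸ Subgroup.center ↥Q)
    have huI : ∀ a, u a ∈ Imf := fun a => (hImf _).2 ⟨t a, by rw [ht]; exact a.2.2, (hu a).symm⟩
    have hinj : Function.Injective fun a => ((⟨u a, huI a⟩ : ↥Imf), decide (t a = lift D.F (u a))) := by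
      intro a c h
      simp only [Prod.mk.injEq, Subtype.mk.injEq, decide_eq_decide] at h
      obtain ⟨h0, hb⟩ := h
      refine Subtype.ext ?_
      rw [← ht, ← ht]
      congr 2
      by_cases e : t a = lift D.F (u a)
      · rw [e, hb.1 e, h0]
      · obtain ⟨x, hx, ex⟩ := exists_central D.b D.F (hu a).symm
        obtain ⟨y, hy, ey⟩ := exists_central D.b D.F (hu c).symm
        have h1 : x ≠ 1 := fun e1 => e (by rw [ex, e1, mul_one])
        have h2 : y ≠ 1 := fun e1 => e (hb.2 (by rw [ey, e1, mul_one]))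
        rw [ex, ey, center_two D.b hx h1 hy h2, h0]
    have h := Nat.card_le_card_of_injective _ hinj
    rw [hUc, Nat.card_prod, Nat.card_eq_finsetCard, Nat.card_eq_fintype_card, Fintype.card_bool] at h
    omega
  have hspan : ∀ x : Vec6, ∃ a ∈ img, ∃ c ∈ img, a + sm 1 c = x := by
    have hcancel : ∀ p q : Vec6, p + q = 0 → p = q := fun p q h => funext fun i =>
      (show ∀ p q : W4, p + q = 0 → p = q by decide) _ _ (congrFun h i)
    have hinj : Set.InjOn (fun p : Vec6 × Vec6 => p.1 + sm 1 p.2) (Imf ×ˢ Imf : Finset _) := by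
      rintro ⟨a, c⟩ hp ⟨a', c'⟩ hp' h
      rw [coe_product, Set.mem_prod] at hp hp'
      have ha := iadd _ ((hImf _).1 hp.1) _ ((hImf _).1 hp'.1)
      have hc := iadd _ ((hImf _).1 hp.2) _ ((hImf _).1 hp'.2)
      have e : a + a' = sm 1 (c + c') := by
        rw [sm_add]
        refine hcancel _ _ ?_
        simp only at h
        calc a + a' + (sm 1 c + sm 1 c') = (a + sm 1 c) + (a' + sm 1 c') := by abel
          _ = 0 := by rw [h]; exact funext fun i => (show ∀ p : W4, p + p = 0 by decide) _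
      have hc0 : c + c' = 0 := hcap _ hc (e ▸ ha)
      have ha0 : a + a' = 0 := by rw [e, hc0]; exact funext fun i => show omk 1 (0 : W4) = 0 from (omk_facts.1 _ _).2 rfl
      exact Prod.ext (hcancel _ _ ha0) (hcancel _ _ hc0)
    have himg : (Imf ×ˢ Imf).image (fun p : Vec6 × Vec6 => p.1 + sm 1 p.2) = univ := by
      refine eq_univ_of_card _ (le_antisymm (card_le_univ _) ?_)
      rw [card_image_of_injOn hinj, card_product]
      calc Fintype.card Vec6 = 64 * 64 := by simp
        _ ≤ _ := Nat.mul_le_mul h64 h64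
    intro x
    have hx := himg.ge (mem_univ x)
    rw [mem_image] at hx
    obtain ⟨⟨a, c⟩, hp, e⟩ := hx
    rw [mem_product] at hp
    exact ⟨a, (hImf _).1 hp.1, c, (hImf _).1 hp.2, e⟩
  have hsmB : ∀ j a c, B D.F (sm j a) (sm j c) = B D.F a c := by
    intro j a c
    obtain ⟨m, -, hm⟩ := D.F.diag (fun _ => j) (by
      simp only [sum_const, card_univ, Fintype.card_fin]
      exact (show ∀ j : ZMod 3, (6 : ℕ) • j = 0 by decide) j)
    exact B_inv D.b D.F (hm a) (hm c)
  let f : Vec6 → ZMod 2 := fun u => B D.F (sm 1 v) u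
  have hswap : ∀ u ∈ img, B D.F (sm 1 u) v = f u := by
    intro u hu
    rw [B_symm D.b D.F, ← hsmB 2, sm_sm, show (2 : ZMod 3) + 1 = 0 from rfl, sm_zero]
    have e : sm 2 v = v + sm 1 v := funext fun i =>
      (show ∀ p : W4, omk 2 p = p + omk 1 p by decide) _
    rw [e, B_symm D.b D.F, B_add D.b D.F, B_symm D.b D.F u v, iperp u hu, zero_add, B_symm D.b D.F u]
  have hrel : ∀ k : Subgroup.centralizer ({z} : Set G), (k : G) ∈ P' → ∀ u ∈ img, ∀ u' ∈ img,
      (if cact D.F k u = u then 0 else 1) * f u' + (if cact D.F k u' = u' then 0 else 1) * f u = 0 := by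
    intro k hk u hu u' hu'
    have hpB : B D.F (cact D.F k (sm 1 u)) (cact D.F k u') = B D.F (sm 1 u) u' :=
      B_inv D.b D.F (co_cact D.F k _).symm (co_cact D.F k _).symm
    rw [lin] at hpB
    have hvv : B D.F (sm 1 v) v = 0 := (hswap v hsv).trans (by
      show B D.F (sm 1 v) v = 0
      rw [B_perp D.b D.F, Perp]
      have hp : par v = 0 := (sq_iff D.b D.F hmk).1 (Subtype.ext (Subtype.ext hs2))
      have e : sm 1 v + v = sm 2 v := funext fun i => (show ∀ p : W4, omk 1 p + p = omk 2 p by decide) _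
      rw [e]
      simp [par, sm, wt_dg, show ((wt v : ℕ) : ZMod 2) = 0 from hp])
    have add_left : ∀ a b c, B D.F (a + b) c = B D.F a c + B D.F b c := fun a b c => by
      rw [B_symm D.b D.F, B_add D.b D.F, B_symm D.b D.F c, B_symm D.b D.F c b]
    obtain ⟨t, ht, htc⟩ := hu
    obtain ⟨t', ht', htc'⟩ := hu'
    have hu : u ∈ img := ⟨t, ht, htc⟩
    have hu' : u' ∈ img := ⟨t', ht', htc'⟩
    by_cases h1 : cact D.F k u = u <;> by_cases h2 : cact D.F k u' = u'
    · simp [h1, h2]
    · have e2 := (hstep k hk u' hu' t' ht' htc').resolve_left (fun h => h2 h.1)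
      rw [h1, e2, B_add D.b D.F, add_eq_left, hswap u hu] at hpB
      rw [if_pos h1, if_neg h2, hpB]; simp
    · have e1 := (hstep k hk u hu t ht htc).resolve_left (fun h => h1 h.1)
      rw [e1, h2, sm_add, add_left, add_eq_left] at hpB
      have hf : f u' = 0 := hpB
      rw [if_neg h1, if_pos h2, hf]; simp
    · have e1 := (hstep k hk u hu t ht htc).resolve_left (fun h => h1 h.1)
      have e2 := (hstep k hk u' hu' t' ht' htc').resolve_left (fun h => h2 h.1)
      rw [e1, e2, sm_add, add_left, B_add D.b D.F, B_add D.b D.F, hvv, add_zero, add_assoc, add_eq_left,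
        hswap u hu] at hpB
      rw [if_neg h1, if_neg h2, one_mul, one_mul, add_comm]
      exact hpB
  have hfne : ∃ u ∈ img, f u ≠ 0 := by
    by_contra h
    push Not at h
    have h0 : sm 1 v = 0 := D.B_nondeg fun x => by
      obtain ⟨a, ha, c, hc, rfl⟩ := hspan x
      rw [B_add D.b D.F, hsmB, iperp c hc, add_zero]
      exact h a ha
    exact hv (sm_eq_zero h0)
  have hkey : ∀ k : Subgroup.centralizer ({z} : Set G), (k : G) ∈ P' →
      k ∈ Q ∨ ∀ u ∈ img, cact D.F k u = if f u = 0 then u else u + v := by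
    intro k hk
    by_cases hall : ∀ u ∈ img, cact D.F k u = u
    · left
      rw [← actV_ker D.b, MonoidHom.mem_ker]
      refine MulEquiv.ext fun x => ?_
      obtain ⟨c, rfl⟩ := D.F.bij.2 x
      obtain ⟨a, ha, b, hb, rfl⟩ := hspan c
      rw [← co_cact, cact_add, lin, hall a ha, hall b hb]
      rfl
    · push Not at hall
      obtain ⟨u0, hu0, hne⟩ := hall
      right
      have hf0 : f u0 = 1 := by
        rcases zmod2_cases (f u0) with e | e
        · exfalso
          obtain ⟨u, hu, hfu⟩ := hfne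
          have h := hrel k hk u0 hu0 u hu
          rw [if_neg hne, e, one_mul, mul_zero, add_zero] at h
          exact hfu h
        · exact e
      intro u hu
      have h := hrel k hk u0 hu0 u hu
      rw [if_neg hne, hf0, one_mul, mul_one] at h
      obtain ⟨t, ht, htc⟩ := hu
      rcases hstep k hk u ⟨t, ht, htc⟩ t ht htc with ⟨e, -⟩ | e
      · rw [if_pos e, add_zero] at h; rw [e, if_pos h]
      · by_cases e' : cact D.F k u = u
        · rw [e'] at e; exact absurd (left_eq_add.1 e) hv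
        · rw [if_neg e'] at h
          rw [e, if_neg ((show ∀ p : ZMod 2, p + 1 = 0 → p ≠ 0 by decide) _ h)]
  set E := (((LargeExtra.oc z).map (MulAut.conj g).toMonoidHom ⊓
      Subgroup.centralizer ({z} : Set G)).subgroupOf (Subgroup.centralizer ({z} : Set G))).map
        (QuotientGroup.mk' Q) with hE
  have h2 : Nat.card ↥E ≤ 2 := by
    have hrep : ∀ e : ↥E, ∃ k : Subgroup.centralizer ({z} : Set G), (k : G) ∈ P' ∧
        (k : _ ⧸ Q) = (e : _ ⧸ Q) := fun e => by
      obtain ⟨k, hk, h⟩ := e.2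
      exact ⟨k, hk.1, h⟩
    choose k hk hke using hrep
    have hinj : Function.Injective fun e => decide (k e ∈ Q) := by
      intro a c h
      simp only [decide_eq_decide] at h
      refine Subtype.ext ?_
      rw [← hke, ← hke]
      by_cases ha : k a ∈ Q
      · rw [(QuotientGroup.eq_one_iff _).2 ha, (QuotientGroup.eq_one_iff _).2 (h.1 ha)]
      · refine QuotientGroup.eq.2 ?_
        rw [← actV_ker D.b, MonoidHom.mem_ker, map_mul, map_inv, inv_mul_eq_one]
        refine MulEquiv.ext fun x => ?_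
        obtain ⟨y, rfl⟩ := D.F.bij.2 x
        obtain ⟨p, hp, q, hq, rfl⟩ := hspan y
        rw [← co_cact, ← co_cact, cact_add, cact_add, lin, lin,
          (hkey _ (hk a)).resolve_left ha p hp, (hkey _ (hk a)).resolve_left ha q hq,
          (hkey _ (hk c)).resolve_left (mt h.2 ha) p hp, (hkey _ (hk c)).resolve_left (mt h.2 ha) q hq]
    have := Nat.card_le_card_of_injective _ hinj
    simpa using this
  omega

end Data

end Cfsg.Agent.LargeFischer
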