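import Mathlib
import Cfsg.Agent.Classical.LinearBasic
import Cfsg.Agent.S4231
import Cfsg.Agent.Core.PCore

/-! Facts on the linear group of degree three over two elements and the alternating group of degree six. -/

set_option autoImplicit false
set_option maxRecDepth 20000
set_option Elab.async false

open Finset Cfsg Cfsg.Agent

namespace Cfsg.Agent.LargeFischer

theorem card_sl32 : Nat.card (Matrix.SpecialLinearGroup (Fin 3) (ZMod 2)) = 168 := by
  have h2 := Cfsg.Agent.Classical.card_sl_mul (F := ZMod 2) (ZMod.card 2) 3 (by norm_num)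
  rw [show (∏ i : Fin 3, (2 ^ 3 - 2 ^ (i : ℕ))) = 168 from by decide, show 2 - 1 = 1 from rfl,
    one_mul] at h2
  exact h2

theorem simple_sl32 : IsSimpleGroup (Matrix.SpecialLinearGroup (Fin 3) (ZMod 2)) := by
  have key : ∀ y : ZMod 2, y ^ 3 = 1 → y = 1 := by decide
  have hcen : Subgroup.center (Matrix.SpecialLinearGroup (Fin 3) (ZMod 2)) = ⊥ := by
    refine (Subgroup.eq_bot_iff_forall _).2 fun c hc => ?_
    obtain ⟨x, hx, hc'⟩ := Matrix.SpecialLinearGroup.mem_center_iff.1 hc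
    rw [Fintype.card_fin] at hx
    rw [key x hx, map_one] at hc'
    exact Subtype.ext hc'.symm
  have : Fact (Nat.Prime 2) := ⟨Nat.prime_two⟩
  have hsimp := Cfsg.Agent.Classical.isSimpleGroup_psl (ι := Fin 3) (F := ZMod 2) (Or.inl (by simp))
  let q : Matrix.ProjectiveSpecialLinearGroup (Fin 3) (ZMod 2) ≃* Matrix.SpecialLinearGroup (Fin 3) (ZMod 2) :=
    (QuotientGroup.quotientMulEquivOfEq hcen).trans QuotientGroup.quotientBot
  exact MulEquiv.isSimpleGroup q.symm

theorem transvection_cols_aux : ∀ i j p q : Fin 3,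
    (if q = j then (Pi.single j 1 + Pi.single i 1 : Fin 3 → ZMod 2) else Pi.single q 1) p =
      (if p = q then 1 else 0) + (if i = p ∧ j = q then (1 : ZMod 2) else 0) := by
  decide +kernel

theorem transvection_cols (i j p q : Fin 3) :
    (if q = j then (Pi.single j 1 + Pi.single i 1 : Fin 3 → ZMod 2) else Pi.single q 1) p =
      Matrix.transvection i j (1 : ZMod 2) p q := by
  rw [transvection_cols_aux, Matrix.transvection, Matrix.add_apply, Matrix.one_apply, Matrix.single_apply]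

theorem sl32_moves (j : Fin 3) : ∃ A : Matrix.SpecialLinearGroup (Fin 3) (ZMod 2),
    ∀ p : Fin 3, (A : Matrix (Fin 3) (Fin 3) (ZMod 2)) p 0 = (Pi.single j 1 : Fin 3 → ZMod 2) p := by
  fin_cases j
  · exact ⟨⟨!![1, 0, 0; 0, 1, 0; 0, 0, 1], by rw [Matrix.det_fin_three]; decide⟩, by decide⟩
  · exact ⟨⟨!![0, 0, 1; 1, 0, 0; 0, 1, 0], by rw [Matrix.det_fin_three]; decide⟩, by decide⟩
  · exact ⟨⟨!![0, 1, 0; 0, 0, 1; 1, 0, 0], by rw [Matrix.det_fin_three]; decide⟩, by decide⟩

/-- a nonabelian simple group has no central elements -/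
theorem conj_inj_of_simple {Γ : Type*} [Group Γ] [IsSimpleGroup Γ] (h : ∃ a b : Γ, a * b ≠ b * a) :
    Function.Injective (MulAut.conj : Γ →* MulAut Γ) := by
  refine (injective_iff_map_eq_one _).2 fun g hg => ?_
  have hc : g ∈ Subgroup.center Γ := Subgroup.mem_center_iff.2 fun y => by
    have h' := congrArg (fun e : MulAut Γ => e y) hg
    simp only [MulAut.conj_apply, MulAut.one_apply] at h'
    exact (mul_inv_eq_iff_eq_mul.1 h').symm
  rcases IsSimpleGroup.eq_bot_or_eq_top_of_normal (Subgroup.center Γ) inferInstance with e | e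
  · exact (Subgroup.eq_bot_iff_forall _).1 e g hc
  · obtain ⟨a, b, hab⟩ := h
    exact absurd (Subgroup.mem_center_iff.1 (show b ∈ Subgroup.center Γ from e ▸ Subgroup.mem_top b) a) hab

/-- A normal `p`-subgroup maps to nothing in a simple group of another order. -/
theorem pgroup_image_bot {L Γ : Type*} [Group L] [Finite L] [Group Γ] [Finite Γ] [IsSimpleGroup Γ] {p : ℕ} [Fact p.Prime]
    (f : L →* Γ) (hf : Function.Surjective f) (N : Subgroup L) [hN : N.Normal] (hp : IsPGroup p N)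
    (hΓ : ¬IsPGroup p Γ) : N ≤ f.ker := by
  have hn : (N.map f).Normal := hN.map f hf
  rcases hn.eq_bot_or_eq_top with e | e
  · exact (Subgroup.map_eq_bot_iff N).1 e
  · exfalso
    refine hΓ fun g => ?_
    obtain ⟨k, hk⟩ := hp.map f (⟨g, e ▸ Subgroup.mem_top g⟩ : ↥(N.map f))
    exact ⟨k, congrArg Subtype.val hk⟩

theorem not_pgroup_sl32 : ¬IsPGroup 2 (Matrix.SpecialLinearGroup (Fin 3) (ZMod 2)) := fun h => by
  have : Fact (Nat.Prime 2) := ⟨Nat.prime_two⟩
  obtain ⟨n, hn⟩ := h.exists_card_eq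
  rw [card_sl32] at hn
  have h7 : 7 ∣ 2 ^ n := hn ▸ (by norm_num)
  have := (Nat.Prime.dvd_of_dvd_pow (by norm_num) h7)
  norm_num at this

theorem card_alt6 : Nat.card ↥(alternatingGroup (Fin 6)) = 360 := by
  rw [Nat.card_eq_fintype_card, card_alternatingGroup, Fintype.card_fin]; rfl

theorem not_pgroup_alt6 : ¬IsPGroup 2 ↥(alternatingGroup (Fin 6)) := fun h => by
  have : Fact (Nat.Prime 2) := ⟨Nat.prime_two⟩
  obtain ⟨n, hn⟩ := h.exists_card_eq
  rw [card_alt6] at hn
  have h5 : 5 ∣ 2 ^ n := hn ▸ (by norm_num)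
  have := (Nat.Prime.dvd_of_dvd_pow (by norm_num) h5)
  norm_num at this

/-- An extension of `A₆` by the linear group is a direct product. -/
theorem prod_of_kernel {L : Type*} [Group L] [Finite L]
    (Θ : L →* Matrix.SpecialLinearGroup (Fin 3) (ZMod 2)) (hΘ : Function.Surjective Θ)
    (ψ : ↥Θ.ker →* ↥(alternatingGroup (Fin 6))) (hψ : Function.Surjective ψ)
    (hnc : ∃ a b : ↥(alternatingGroup (Fin 6)), a * b ≠ b * a) :
    pCore 2 ↥Θ.ker ≤ ψ.ker ∧ (IsPGroup 2 ↥ψ.ker → pCore 2 L = ψ.ker.map Θ.ker.subtype ∧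
      Nonempty (L ⧸ pCore 2 L ≃* Matrix.SpecialLinearGroup (Fin 3) (ZMod 2) × ↥(alternatingGroup (Fin 6)))) := by
  classical
  have : Fact (Nat.Prime 2) := ⟨Nat.prime_two⟩
  have := simple_sl32
  have : IsSimpleGroup ↥(alternatingGroup (Fin 6)) := alternatingGroup.isSimpleGroup (by simp)
  have h0 : pCore 2 ↥Θ.ker ≤ ψ.ker :=
    pgroup_image_bot ψ hψ (pCore 2 _) Core.pCore_isPGroup not_pgroup_alt6
  refine ⟨h0, fun hp => ?_⟩
  have hK : ψ.ker = pCore 2 ↥Θ.ker := le_antisymm (Core.le_pCore hp) h0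
  have hL : pCore 2 L ≤ Θ.ker := pgroup_image_bot Θ hΘ (pCore 2 _) Core.pCore_isPGroup not_pgroup_sl32
  have heq : pCore 2 L = ψ.ker.map Θ.ker.subtype := by
    rw [hK, Core.map_pCore_normal, inf_eq_left.2 hL]
  refine ⟨heq, ?_⟩
  -- conjugation on the simple group
  have hwd : ∀ (l : L) (k k' : ↥Θ.ker), ψ k = ψ k' → ψ (MulAut.conjNormal l k) = ψ (MulAut.conjNormal l k') := by
    intro l k k' e
    have hk : k⁻¹ * k' ∈ ψ.ker := by rw [MonoidHom.mem_ker, map_mul, map_inv, e, inv_mul_cancel]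
    have h1 : MulAut.conjNormal l (k⁻¹ * k') ∈ ψ.ker := by
      have h2 : ((k⁻¹ * k' : ↥Θ.ker) : L) ∈ pCore 2 L := heq ▸ ⟨_, hk, rfl⟩
      have h3 := (inferInstance : (pCore 2 L).Normal).conj_mem _ h2 l
      rw [heq] at h3
      obtain ⟨q, hq, hqe⟩ := h3
      have hq' : MulAut.conjNormal l (k⁻¹ * k') = q := by
        refine Subtype.ext ?_
        rw [MulAut.conjNormal_apply]
        exact hqe.symm
      exact hq' ▸ hq
    rw [map_mul, map_inv, MonoidHom.mem_ker, map_mul, map_inv, inv_mul_eq_one] at h1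
    exact h1
  obtain ⟨s, hs⟩ := hψ.hasRightInverse
  let act : L → ↥(alternatingGroup (Fin 6)) → ↥(alternatingGroup (Fin 6)) := fun l y => ψ (MulAut.conjNormal l (s y))
  have hact : ∀ l k, act l (ψ k) = ψ (MulAut.conjNormal l k) := fun l k => hwd l _ _ (hs _)
  have hmul : ∀ l l' y, act (l * l') y = act l (act l' y) := fun l l' y => by
    show ψ (MulAut.conjNormal (l * l') (s y)) = act l (act l' y)
    rw [map_mul, MulAut.mul_apply, ← hact]
  have hone : ∀ y, act 1 y = y := fun y => by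
    show ψ (MulAut.conjNormal (1 : L) (s y)) = y
    rw [map_one, MulAut.one_apply, hs]
  let aut : L → MulAut ↥(alternatingGroup (Fin 6)) := fun l =>
    { toFun := act l
      invFun := act l⁻¹
      left_inv := fun y => by rw [← hmul, inv_mul_cancel, hone]
      right_inv := fun y => by rw [← hmul, mul_inv_cancel, hone]
      map_mul' := fun y y' => by
        obtain ⟨k, rfl⟩ := hψ y
        obtain ⟨k', rfl⟩ := hψ y'
        rw [← map_mul, hact, hact, hact, map_mul, map_mul] }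
  let α : L →* MulAut ↥(alternatingGroup (Fin 6)) := MonoidHom.mk' aut fun l l' => MulEquiv.ext fun y => hmul l l' y
  have hαK : ∀ k : ↥Θ.ker, α k = MulAut.conj (ψ k) := fun k => MulEquiv.ext fun y => by
    obtain ⟨k', rfl⟩ := hψ y
    show act k (ψ k') = _
    rw [hact, MulAut.conj_apply, ← map_inv, ← map_mul, ← map_mul]
    exact congrArg ψ (Subtype.ext (by rw [MulAut.conjNormal_apply]; rfl))
  set I : Subgroup (MulAut ↥(alternatingGroup (Fin 6))) := (MulAut.conj : ↥(alternatingGroup (Fin 6)) →* _).range with hI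
  have hIn : I.Normal := ⟨by
    rintro _ ⟨y, rfl⟩ β
    refine ⟨β y, MulEquiv.ext fun w => ?_⟩
    simp [MulAut.conj_apply, MulAut.mul_apply]⟩
  set J := I.comap α with hJ
  have hKJ : Θ.ker ≤ J := fun k hk => ⟨ψ ⟨k, hk⟩, (hαK ⟨k, hk⟩).symm⟩
  have hJtop : J = ⊤ := by
    rcases ((hIn.comap α).map Θ hΘ).eq_bot_or_eq_top with e | e
    · exfalso
      have hJK : J = Θ.ker := le_antisymm ((Subgroup.map_eq_bot_iff J).1 e) hKJ
      have h1 : J.index ∣ Nat.card (MulAut ↥(alternatingGroup (Fin 6))) := by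
        rw [hJ, Subgroup.index_comap]
        exact (Subgroup.relIndex_dvd_index_of_normal I α.range).trans I.index_dvd_card
      rw [hJK, Subgroup.index_ker, MonoidHom.range_eq_top.2 hΘ, Subgroup.card_top, card_sl32] at h1
      have h2 := h1.trans (Cfsg.Agent.S4231.card_aut_dvd 6 (by norm_num))
      rw [card_alt6] at h2
      norm_num at h2
    · refine top_le_iff.1 fun l _ => ?_
      obtain ⟨j, hj, hje⟩ := e.ge (Subgroup.mem_top (Θ l))
      have : l * j⁻¹ ∈ Θ.ker := by rw [MonoidHom.mem_ker, map_mul, map_inv, hje, mul_inv_cancel]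
      simpa using mul_mem (hKJ this) hj
  have hinj := conj_inj_of_simple hnc
  choose χ hχ using fun l : L => show ∃ y, MulAut.conj y = α l from (hJtop.ge (Subgroup.mem_top l) : l ∈ I.comap α)
  let Φ : L →* Matrix.SpecialLinearGroup (Fin 3) (ZMod 2) × ↥(alternatingGroup (Fin 6)) :=
    Θ.prod (MonoidHom.mk' χ fun a b => hinj (by rw [map_mul, hχ, hχ, hχ, map_mul]))
  have hχK : ∀ k : ↥Θ.ker, χ k = ψ k := fun k => hinj (by rw [hχ, hαK])
  have hΦ : Function.Surjective Φ := by
    rintro ⟨a, y⟩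
    obtain ⟨l, rfl⟩ := hΘ a
    obtain ⟨k, hk⟩ := hψ ((χ l)⁻¹ * y)
    refine ⟨l * k, Prod.ext ?_ ?_⟩
    · show Θ (l * k) = Θ l
      rw [map_mul, MonoidHom.mem_ker.1 k.2, mul_one]
    · refine hinj ?_
      show MulAut.conj (χ (l * k)) = MulAut.conj y
      rw [hχ, map_mul, ← hχ, hαK, hk, ← map_mul, mul_inv_cancel_left]
  have hker : pCore 2 L = Φ.ker := by
    rw [heq]
    ext l
    rw [MonoidHom.mem_ker, Subgroup.mem_map]
    constructor
    · rintro ⟨k, hk, rfl⟩
      exact Prod.ext (MonoidHom.mem_ker.1 k.2) ((hχK k).trans hk)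
    · intro h
      refine ⟨⟨l, congrArg Prod.fst h⟩, ?_, rfl⟩
      exact (hχK ⟨l, congrArg Prod.fst h⟩).symm.trans (congrArg Prod.snd h)
  exact ⟨(QuotientGroup.quotientMulEquivOfEq hker).trans (QuotientGroup.quotientKerEquivOfSurjective Φ hΦ)⟩

end Cfsg.Agent.LargeFischer
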