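import Cfsg.Agent.LargeFischer.CodeTypes

/-! The two classes have 276 and 1771 members. -/

set_option autoImplicit false
set_option maxRecDepth 20000
set_option Elab.async false

open Finset Cfsg Cfsg.Agent

namespace Cfsg.Agent.LargeFischer

/-- a prime dividing the order of a group of automorphisms of an elementary abelian group of order 2^11 -/
theorem no_prime_aut {A : Type*} [Group A] [Finite A] (hA : Nat.card A = 2 ^ 11) (R : Subgroup (MulAut A)) {p : ℕ}
    (hp : p.Prime) (hbad : ∀ j < 11, ¬(2 ^ 11 ≡ 2 ^ j [MOD p])) : ¬p ∣ Nat.card R := by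
  intro hd
  haveI : Finite (MulAut A) := Finite.of_injective (fun f => (f : A → A)) DFunLike.coe_injective
  haveI : Fact p.Prime := ⟨hp⟩
  obtain ⟨g, hg⟩ := exists_prime_orderOf_dvd_card' p hd
  let Z : Subgroup (MulAut A) := Subgroup.zpowers (g : MulAut A)
  have hZ : Nat.card Z = p ^ 1 := by rw [Nat.card_zpowers, pow_one, Subgroup.orderOf_coe, hg]
  have hmod := (IsPGroup.of_card hZ).card_modEq_card_fixedPoints A
  let F : Subgroup A := MonoidHom.eqLocus (g : MulAut A).toMonoidHom (MonoidHom.id A)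
  have hfix : MulAction.fixedPoints Z A = (F : Set A) := by
    ext a
    constructor
    · intro h
      exact h ⟨_, Subgroup.mem_zpowers _⟩
    · rintro h ⟨f, hf⟩
      obtain ⟨n, rfl⟩ := Subgroup.mem_zpowers_iff.1 hf
      have hs : (g : MulAut A) ∈ MulAction.stabilizer (MulAut A) a := h
      exact (zpow_mem hs n : (g : MulAut A) ^ n ∈ MulAction.stabilizer (MulAut A) a)
  have hcard : Nat.card (MulAction.fixedPoints Z A) = Nat.card F :=
    Nat.card_congr (Equiv.setCongr hfix)
  rw [hcard, hA] at hmod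
  obtain ⟨j, hj, e⟩ := (Nat.dvd_prime_pow Nat.prime_two).1 (hA ▸ F.card_subgroup_dvd_card)
  rcases Nat.lt_or_eq_of_le hj with hj' | rfl
  · exact hbad j hj' (e ▸ hmod)
  have htop : F = ⊤ := F.eq_top_of_card_eq (e.trans hA.symm)
  have h1 : (g : MulAut A) = 1 := MulEquiv.ext fun a => show a ∈ F from htop ▸ Subgroup.mem_top a
  rw [← Subgroup.orderOf_coe, h1, orderOf_one] at hg
  exact hp.ne_one hg.symm

/-- the part inside `Q` conjugate to the central involution -/
def zset (n : Fin 64) (e : ZMod 2) : Prop := (uv n = 0 ∧ e = 1) ∨ (uv n ≠ 0 ∧ ¬InA 1 (uv n))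

instance (n : Fin 64) (e : ZMod 2) : Decidable (zset n e) := by unfold zset; infer_instance

theorem zset_count : (univ.filter fun q : Fin 64 × ZMod 2 => zset q.1 q.2).card = 91 := by decide +kernel

theorem bad_primes : (Nat.Prime 13 ∧ Nat.Prime 331 ∧ Nat.Prime 571 ∧ Nat.Prime 1531 ∧ Nat.Prime 2011) ∧
    ∀ j < 11, ∀ p ∈ [13, 331, 571, 1531, 2011], ¬(2 ^ 11 ≡ 2 ^ j [MOD p]) := by
  refine ⟨⟨by norm_num, by norm_num, by norm_num, by norm_num, by norm_num⟩, ?_⟩
  unfold Nat.ModEq
  decide +kernel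

theorem k_forced : ∀ α β γ : Bool, (¬13 ∣ 91 + 15 * (128 - ((if α then 16 else 0) + (if β then 16 else 0) + if γ then 96 else 0))) →
    (¬331 ∣ 91 + 15 * (128 - ((if α then 16 else 0) + (if β then 16 else 0) + if γ then 96 else 0))) →
    (¬571 ∣ 91 + 15 * (128 - ((if α then 16 else 0) + (if β then 16 else 0) + if γ then 96 else 0))) →
    (¬1531 ∣ 91 + 15 * (128 - ((if α then 16 else 0) + (if β then 16 else 0) + if γ then 96 else 0))) →
    (¬2011 ∣ 91 + 15 * (128 - ((if α then 16 else 0) + (if β then 16 else 0) + if γ then 96 else 0))) →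
    γ = false ∧ α = !β := by
  intro α β γ
  cases α <;> cases β <;> cases γ <;> decide

theorem k_value : ∀ α β γ : Bool, ((if α then 16 else 0) + (if β then 16 else 0) + if γ then 96 else 0) = 16 →
    γ = false ∧ α = !β := by decide +kernel

namespace Data
namespace MaxData

variable {G : Type*} [Group G] [Finite G] {z : G}
  {Q : Subgroup (Subgroup.centralizer ({z} : Set G))} [Q.Normal] {D : Data z Q} (M : D.MaxData)
include M

/-- coordinates on the subgroup -/
structure Chart where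
  /-- the scalar -/
  x : Subgroup.centralizer ({z} : Set G)
  /-- representatives of the cosets -/
  L : Fin 16 → Subgroup.centralizer ({z} : Set G)
  x3 : x * x * x = 1
  hx : ∀ c, cact D.F x c = sm 1 c
  L0 : L 0 = 1
  memL : ∀ c, L c ∈ M.A
  cactL : ∀ c v, cact D.F (L c) v = cd (kc c) v
  fixL : ∀ c, x * L c * x⁻¹ = L c
  TT_iff : ∀ c, c ≠ 0 → ∀ (n : Fin 64) (e : ZMod 2),
    TT (elt D x (L c) (uv n) e) ↔ ∃ p ∈ sigL c, p.2.1 = n.val ∧ p.2.2 = e
  TT0 : ∀ (n : Fin 64) (e : ZMod 2), TT (elt D x (L 0) (uv n) e) ↔ ¬zset n e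
  card_z : Nat.card {a : ↥M.AG // IsConj z (a : G)} = 1771

theorem card_z_dvd {a : ℕ} (ha : Nat.card {a : ↥M.AG // IsConj z (a : G)} = a) :
    ∀ p ∈ [13, 331, 571, 1531, 2011], ¬p ∣ a := by
  intro p hp hd
  have hprime : p.Prime := by
    simp only [List.mem_cons, List.not_mem_nil, or_false] at hp
    obtain ⟨h1, h2, h3, h4, h5⟩ := bad_primes.1
    rcases hp with rfl | rfl | rfl | rfl | rfl <;> assumption
  set R := (Subgroup.normalizerMonoidHom M.AG).range
  haveI : Finite (MulAut ↥M.AG) := Finite.of_injective (fun f => (f : ↥M.AG → ↥M.AG)) DFunLike.coe_injective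
  refine no_prime_aut M.card_AG R hprime (fun j hj => bad_primes.2 j hj p hp) (hd.trans ?_)
  have horb : MulAction.orbit R (⟨z, M.z_mem_AG⟩ : ↥M.AG) = ({a | IsConj z (a : G)} : Set ↥M.AG) := by
    ext a
    constructor
    · rintro ⟨⟨_, n, rfl⟩, rfl⟩
      exact isConj_iff.2 ⟨(n : G), rfl⟩
    · intro ha'
      obtain ⟨n, hn, e⟩ := M.fusion_z a.2 ha'
      exact ⟨⟨_, ⟨n, hn⟩, rfl⟩, Subtype.ext e⟩
  have h := Nat.card_congr (MulAction.orbitEquivQuotientStabilizer R (⟨z, M.z_mem_AG⟩ : ↥M.AG))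
  rw [Nat.card_congr (Equiv.setCongr horb)] at h
  rw [← ha]
  exact h ▸ Subgroup.card_quotient_dvd_card _

theorem exists_chart (hF : IsOfLargeFischerTypeAt z Q) (hc : D.c = 1) : Nonempty M.Chart := by
  classical
  obtain ⟨E, -, -, -, -, hsh⟩ := D.exists_shears hF hc
  have hP : ∀ p, ∃ h : Subgroup.centralizer ({z} : Set G), ∀ x, cact D.F h x = es (pr p) x := fun p => by
    obtain ⟨h, -, -, h'⟩ := hsh p
    exact ⟨h, h'⟩
  obtain ⟨x, hx3, hx⟩ := M.exists_scalar3
  have hex : ∀ c : Fin 16, ∃ ℓ ∈ M.A, (∀ v, cact D.F ℓ v = cd (kc c) v) ∧ x * ℓ * x⁻¹ = ℓ ∧ (c = 0 → ℓ = 1) := by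
    intro c
    by_cases h : c = 0
    · exact ⟨1, M.A.one_mem, fun v => by rw [cact_one, h, kc_zero.1, cd_zero_apply], by group, fun _ => rfl⟩
    · obtain ⟨ℓ, h1, h2, h3⟩ := M.exists_fixed_lift hx hx3 c
      exact ⟨ℓ, h1, h2, h3, fun e => absurd e h⟩
  choose L hL hLc hLx hL0 using hex
  let S : Fin 16 → Finset (Fin 64 × ZMod 2) := fun c => univ.filter fun q => TT (elt D x (L c) (uv q.1) q.2)
  have hle : ∀ a b : Fin 16, ∀ h ∈ Subgroup.normalizer (M.A : Set (Subgroup.centralizer ({z} : Set G))),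
      (∀ v, cact D.F h (cd (kc a) v) = cd (kc b) (cact D.F h v)) → (S a).card ≤ (S b).card := by
    intro a b h hh hab
    have hmap : ∀ q : Fin 64 × ZMod 2, ∃ q' : Fin 64 × ZMod 2,
        elt D x (L b) (uv q'.1) q'.2 = h * elt D x (L a) (uv q.1) q.2 * h⁻¹ := fun q => by
      obtain ⟨n, e, he⟩ := M.el_surj hx (hL b) (hLc b) (a := h * elt D x (L a) (uv q.1) q.2 * h⁻¹)
        ((Subgroup.mem_normalizer_iff.1 hh _).1 (M.el_mem hx (hL a) (uv_mem _) _)) (fun v => by
          rw [cact_mul, cact_mul, cact_el hx, hLc, hab, ← cact_mul, mul_inv_cancel, cact_one])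
      exact ⟨(n, e), he⟩
    choose f hf using hmap
    refine Finset.card_le_card_of_injOn f (fun q hq => ?_) fun q _ q' _ e => ?_
    · simp only [S, Finset.coe_filter, Finset.mem_univ, true_and, Set.mem_ofPred_eq] at hq ⊢
      rw [hf, TT_conj]
      exact hq
    · have e' := hf q
      rw [e, hf q'] at e'
      obtain ⟨e1, e2⟩ := M.el_inj hx (hL a) (hLc a) (mul_left_cancel (mul_right_cancel e'))
      exact Prod.ext (uv_inj _ _ e1).symm e2.symm
  have hk : ∀ c : Fin 16, c ≠ 0 → (S c).card = (S 1).card := by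
    intro c hc0
    have hne : kc c ≠ (0, 0) := fun e => hc0 (kc_eq_of_act fun v => by rw [e, kc_zero.1])
    obtain ⟨h, hh, hv⟩ := M.code_trans hP (kc_isK c) hne
    refine le_antisymm (hle c 1 h⁻¹ (inv_mem hh) fun v => ?_) (hle 1 c h hh fun v => by rw [kc_zero.2]; exact hv v)
    refine cact_inj D.F h ?_
    rw [← cact_mul, mul_inv_cancel, cact_one, kc_zero.2, hv, ← cact_mul, mul_inv_cancel, cact_one]
  have h0 : ∀ (n : Fin 64) (e : ZMod 2), TT (elt D x (L 0) (uv n) e) ↔ ¬zset n e := by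
    intro n e
    rw [TT, hL0 0 rfl]
    refine not_congr ?_
    have hcoord : ((D.W x (uv n) * ⟨_, D.zp_mem_Q e⟩ : Q) : ↥Q ⧸ Subgroup.center ↥Q) = D.F.co (uv n) := by
      rw [QuotientGroup.mk_mul, D.W_coord hx, (QuotientGroup.eq_one_iff _).2 ((center_iff D.b).2 (by
        rcases (show ∀ a : ZMod 2, a = 0 ∨ a = 1 by decide) e with rfl | rfl
        · exact Or.inl (Subtype.ext zp_zero)
        · exact Or.inr zp_one)), mul_one]
    have he : elt D x 1 (uv n) e = ((D.W x (uv n) * ⟨_, D.zp_mem_Q e⟩ : Q) : Subgroup.centralizer ({z} : Set G)) := by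
      simp [elt]
    unfold zset
    by_cases hu : uv n = 0
    · have he' : elt D x 1 (uv n) e = zp z e := by rw [elt, hu, D.W_zero hx M]; simp
      rw [he']
      rcases (show ∀ a : ZMod 2, a = 0 ∨ a = 1 by decide) e with rfl | rfl
      · simp only [hu, zp_zero, OneMemClass.coe_one, isConj_one_left, true_and, not_true, false_and, or_false]
        exact iff_of_false D.setting.ne_one (by decide)
      · exact iff_of_true (by rw [zp_one]; exact IsConj.refl _) (Or.inl ⟨hu, rfl⟩)
    · rw [he]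
      constructor
      · exact fun h => Or.inr ⟨hu, M.class_not_inA hc hcoord hu (F0_par (uv_mem _)) h⟩
      · rintro (⟨h1, -⟩ | ⟨-, h2⟩)
        · exact absurd h1 hu
        · exact D.conj_of_not_inA hF hcoord hu (F0_par (uv_mem _)) (hc ▸ h2)
  -- counting the conjugates of the central involution
  let ψ : Fin 16 × (Fin 64 × ZMod 2) → ↥M.AG := fun q =>
    ⟨(elt D x (L q.1) (uv q.2.1) q.2.2 : G), M.coe_mem_AG.2 (M.el_mem hx (hL _) (uv_mem _) _)⟩
  have hψ : Function.Bijective ψ := by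
    constructor
    · intro q q' h
      have h' : elt D x (L q.1) (uv q.2.1) q.2.2 = elt D x (L q'.1) (uv q'.2.1) q'.2.2 :=
        Subtype.ext (congrArg Subtype.val h :)
      have hcq : q.1 = q'.1 := kc_eq_of_act fun v => by
        rw [← hLc, ← hLc, ← cact_el hx (ℓ := L q.1), h', cact_el hx]
      rw [← hcq] at h'
      obtain ⟨e1, e2⟩ := M.el_inj hx (hL _) (hLc _) h'
      exact Prod.ext hcq (Prod.ext (uv_inj _ _ e1) e2)
    · rintro ⟨g, hg⟩
      obtain ⟨a, ha, rfl⟩ := M.mem_AG.1 hg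
      obtain ⟨c', hc', hac⟩ := M.code a ha
      obtain ⟨c, rfl⟩ := kc_surj c' hc'
      obtain ⟨n, e, he⟩ := M.el_surj hx (hL c) (hLc c) ha hac
      exact ⟨(c, n, e), Subtype.ext (by rw [show (ψ (c, n, e) : G) = (elt D x (L c) (uv n) e : G) from rfl, he])⟩
  have hcz : Nat.card {a : ↥M.AG // IsConj z (a : G)} =
      ∑ c, (univ.filter fun q : Fin 64 × ZMod 2 => ¬TT (elt D x (L c) (uv q.1) q.2)).card := by
    rw [← Nat.card_congr ((Equiv.ofBijective ψ hψ).subtypeEquiv (p := fun q => IsConj z (ψ q : G))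
      (fun _ => Iff.rfl)), Nat.card_eq_fintype_card, Fintype.card_subtype, Finset.card_filter, Fintype.sum_prod_type]
    refine Finset.sum_congr rfl fun c _ => ?_
    rw [Finset.card_filter]
    refine Finset.sum_congr rfl fun q _ => ?_
    exact if_congr (not_not.symm) rfl rfl
  set k := (S 1).card with hkdef
  have hsum : Nat.card {a : ↥M.AG // IsConj z (a : G)} = 91 + 15 * (128 - k) := by
    rw [hcz, Fin.sum_univ_succ]
    congr 1
    · rw [← zset_count]
      congr 1
      exact Finset.filter_congr fun q _ => by rw [h0, not_not]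
    · rw [Finset.sum_congr rfl (g := fun _ => 128 - k) fun c _ => ?_]
      · simp
      · rw [← hk c.succ (Fin.succ_ne_zero c)]
        have h := Finset.card_filter_add_card_filter_not (s := (univ : Finset (Fin 64 × ZMod 2)))
          (fun q => TT (elt D x (L c.succ) (uv q.1) q.2))
        simp only [Finset.card_univ, Fintype.card_prod, Fintype.card_fin, ZMod.card] at h
        simp only [S]
        omega
  have hcount : ∀ c : Fin 16, c ≠ 0 → k = (if decide (TT (elt D x (L c) 0 0)) then 16 else 0) +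
      (if decide (TT (elt D x (L c) 0 1)) then 16 else 0) + if decide (TT (elt D x (L c) (uv (rr c)) 0)) then 96 else 0 := by
    intro c hc0
    rw [← hk c hc0, ← tfun_count c hc0]
    simp only [S]
    congr 1
    exact Finset.filter_congr fun q _ => by
      convert M.TT_el_iff hx (hL c) (hLc c) hc0 (hLx c) q.1 q.2 using 4
  have hdvd := M.card_z_dvd hsum
  have h16 : k = 16 := by
    rw [hcount 1 (by decide)] at hdvd ⊢
    obtain ⟨e1, e2⟩ := k_forced _ _ _ (hdvd 13 (by simp)) (hdvd 331 (by simp)) (hdvd 571 (by simp))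
      (hdvd 1531 (by simp)) (hdvd 2011 (by simp))
    rw [e1, e2]
    cases decide (TT (elt D x (L 1) 0 1)) <;> rfl
  let L' : Fin 16 → Subgroup.centralizer ({z} : Set G) := fun c =>
    if c = 0 then 1 else if TT (elt D x (L c) 0 0) then L c else L c * zp z 1
  have hL'A : ∀ c, L' c ∈ M.A := fun c => by
    simp only [L']
    split_ifs
    · exact M.A.one_mem
    · exact hL c
    · exact mul_mem (hL c) (M.zp_mem_A 1)
  have hL'c : ∀ c v, cact D.F (L' c) v = cd (kc c) v := fun c v => by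
    simp only [L']
    split_ifs with h1
    · rw [cact_one, h1, kc_zero.1, cd_zero_apply]
    · exact hLc c v
    · rw [cact_mul, D.cact_Q (D.zp_mem_Q 1), hLc]
  have hL'x : ∀ c, x * L' c * x⁻¹ = L' c := fun c => by
    simp only [L']
    split_ifs
    · group
    · exact hLx c
    · calc x * (L c * zp z 1) * x⁻¹ = (x * L c * x⁻¹) * (x * zp z 1 * x⁻¹) := by group
        _ = _ := by rw [hLx, zp_comm, mul_inv_cancel_right]
  refine ⟨⟨x, L', hx3, hx, by simp [L'], hL'A, hL'c, hL'x, fun c hc0 n e => ?_, fun n e => ?_,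
    by rw [hsum, h16]⟩⟩
  · have hval := k_value _ _ _ ((hcount c hc0).symm.trans h16)
    have hγ : ¬TT (elt D x (L c) (uv (rr c)) 0) := fun h => by simp [h] at hval
    have hαβ : TT (elt D x (L c) 0 0) ↔ ¬TT (elt D x (L c) 0 1) := by
      by_cases h1 : TT (elt D x (L c) 0 0) <;> by_cases h2 : TT (elt D x (L c) 0 1) <;> simp_all
    have hshift : ∀ u e, elt D x (L c * zp z 1) u e = elt D x (L c) u (1 + e) := fun u e => by
      simp only [elt, D.zp_add]
      calc L c * zp z 1 * (D.W x u : Subgroup.centralizer ({z} : Set G)) * zp z e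
          = L c * (zp z 1 * (D.W x u : Subgroup.centralizer ({z} : Set G))) * zp z e := by group
        _ = _ := by rw [← zp_comm]; group
    have h1 : TT (elt D x (L' c) 0 0) ∧ ¬TT (elt D x (L' c) 0 1) ∧ ¬TT (elt D x (L' c) (uv (rr c)) 0) := by
      simp only [L', if_neg hc0]
      split_ifs with ha
      · exact ⟨ha, hαβ.1 ha, hγ⟩
      · rw [hshift, hshift, hshift, show (1 : ZMod 2) + 1 = 0 from rfl, add_zero]
        refine ⟨not_not.1 fun h => ha (hαβ.2 h), ha, fun h => hγ ?_⟩
        obtain ⟨h1, h2⟩ := yk_facts c hc0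
        have hm := M.el_move hx (hL c) (hLc c) (hLx c) (vecN (yk c)) (uv (rr c)) 0 (uv_mem _)
        rw [show cd (kc c) (vecN (yk c)) + vecN (yk c) = 0 from by
          rw [show cd (kc c) (vecN (yk c)) = vecN (yk c) from funext fun i => h1 i]; exact add_self6 _, zero_add, h2,
          show sm 2 (0 : Vec6) = 0 from funext fun _ => rfl, bp_zero_right, zero_add, add_zero] at hm
        exact hm.1 h
    rw [M.TT_el_iff hx (hL'A c) (hL'c c) hc0 (hL'x c)]
    simp [h1.1, h1.2.1, h1.2.2, tfun]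
  · have : L' 0 = L 0 := by simp [L', hL0 0 rfl]
    rw [this]
    exact h0 n e

end MaxData
end Data
end Cfsg.Agent.LargeFischer
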