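import Cfsg.Agent.LargeFischer.MatChecks

/-! The group law in coordinates. -/

set_option autoImplicit false
set_option maxRecDepth 20000
set_option Elab.async false

open Finset Cfsg Cfsg.Agent

namespace Cfsg.Agent.LargeFischer

theorem gTab_diag (p q : ZMod 2) (a : Fin 16) :
    gTab p q 0 + gTab p q a + gTab p q (ka 0 a) = 0 ∧ gTab p q a + gTab p q a + gTab p q (ka a a) = 0 := by
  rw [ka_facts.1 a, ka_facts.2.2.1 a, (gTab_facts.1 p q).1]
  exact (show ∀ x : ZMod 2, 0 + x + x = 0 ∧ x + x + 0 = 0 by decide) _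

namespace Data
namespace MaxData

variable {G : Type*} [Group G] [Finite G] {z : G}
  {Q : Subgroup (Subgroup.centralizer ({z} : Set G))} [Q.Normal] {D : Data z Q} {M : D.MaxData}

namespace Chart

variable (C : M.Chart)
include C

theorem el_mul (a b : Fin 16) : ∃ f : ZMod 2, C.L a * C.L b = C.L (ka a b) * zp z f := by
  obtain ⟨n, e, he⟩ := M.el_surj C.hx (C.memL (ka a b)) (C.cactL _) (mul_mem (C.memL a) (C.memL b)) (fun v => by
    rw [cact_mul, C.cactL, C.cactL, cd_ka])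
  have hfix : C.x * (C.L a * C.L b) * C.x⁻¹ = C.L a * C.L b := by
    calc C.x * (C.L a * C.L b) * C.x⁻¹ = (C.x * C.L a * C.x⁻¹) * (C.x * C.L b * C.x⁻¹) := by group
      _ = _ := by rw [C.fixL, C.fixL]
  have h2 : elt D C.x (C.L (ka a b)) (sm 1 (uv n)) e = C.x * elt D C.x (C.L (ka a b)) (uv n) e * C.x⁻¹ := by
    simp only [elt, ← D.W_smul C.hx, MulAut.conjNormal_apply]
    set A2 := (D.W C.x (uv n) : Subgroup.centralizer ({z} : Set G))
    calc C.L (ka a b) * (C.x * A2 * C.x⁻¹) * zp z e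
        = (C.x * C.L (ka a b) * C.x⁻¹) * (C.x * A2 * C.x⁻¹) * zp z e := by rw [C.fixL]
      _ = C.x * C.L (ka a b) * A2 * (C.x⁻¹ * zp z e) := by group
      _ = _ := by rw [zp_comm]; group
  rw [he, hfix, ← he] at h2
  have hu : uv n = 0 := by
    by_contra h
    exact sm_ne h (M.el_inj C.hx (C.memL _) (C.cactL _) h2).1
  refine ⟨e, ?_⟩
  rw [← he, elt, hu, D.W_zero C.hx M]
  simp

/-- the cocycle -/
noncomputable def f (a b : Fin 16) : ZMod 2 := Classical.choose (C.el_mul a b)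

theorem f_spec (a b : Fin 16) : C.L a * C.L b = C.L (ka a b) * zp z (C.f a b) := Classical.choose_spec (C.el_mul a b)

theorem f_eq {a b : Fin 16} {e : ZMod 2} (h : C.L a * C.L b = C.L (ka a b) * zp z e) : C.f a b = e :=
  D.zp_inj (mul_left_cancel ((C.f_spec a b).symm.trans h))

theorem f_symm (a b : Fin 16) : C.f b a = C.f a b :=
  C.f_eq (by rw [M.comm (C.memL b) (C.memL a), ka_facts.2.1 b a, C.f_spec])

theorem f_diag (a : Fin 16) : C.f a a = 0 ∧ C.f 0 a = 0 :=
  ⟨C.f_eq (by rw [M.sq (C.memL a), ka_facts.2.2.1 a, C.L0, zp_zero, one_mul]),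
    C.f_eq (by rw [ka_facts.1 a, C.L0, zp_zero, one_mul, mul_one])⟩

theorem elt_mul {u v : Vec6} (hu : u ∈ F0) (hv : v ∈ F0) (a b : Fin 16) (e d : ZMod 2) :
    elt D C.x (C.L a) u e * elt D C.x (C.L b) v d =
      elt D C.x (C.L (ka a b)) (u + v) (e + d + C.f a b) := by
  simp only [elt, D.W_add C.hx M hu hv, D.zp_add, Subgroup.coe_mul]
  set A1 := (D.W C.x u : Subgroup.centralizer ({z} : Set G))
  set A2 := (D.W C.x v : Subgroup.centralizer ({z} : Set G))
  have hc : A1 * C.L b = C.L b * A1 := M.comm (D.W_mem C.hx M hu) (C.memL b)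
  calc C.L a * A1 * zp z e * (C.L b * A2 * zp z d) = C.L a * A1 * (zp z e * (C.L b * A2)) * zp z d := by group
    _ = C.L a * (A1 * C.L b) * A2 * zp z e * zp z d := by rw [← zp_comm]; group
    _ = (C.L a * C.L b) * A1 * A2 * zp z e * zp z d := by rw [hc]; group
    _ = C.L (ka a b) * (zp z (C.f a b) * (A1 * A2 * zp z e * zp z d)) := by rw [C.f_spec]; group
    _ = _ := by rw [← zp_comm]; group

/-- some product of members of the larger class stays there -/
def PP (a b : Fin 16) : Prop := ∃ n m : Fin 64, ∃ e d : ZMod 2,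
  TT (elt D C.x (C.L a) (uv n) e) ∧ TT (elt D C.x (C.L b) (uv m) d) ∧
    TT (elt D C.x (C.L a) (uv n) e * elt D C.x (C.L b) (uv m) d)

theorem f_iff {a b : Fin 16} (ha : a ≠ 0) (hb : b ≠ 0) (hab : a ≠ b) : C.f a b = 0 ↔ C.PP a b := by
  have hc : ka a b ≠ 0 := fun h => hab (ka_facts.2.2.2.2 _ _ h)
  constructor
  · intro hf
    have h0 : ∀ c, c ≠ 0 → TT (elt D C.x (C.L c) (uv (0 : Fin 64)) 0) := fun c hc => by
      obtain ⟨p, hp, h1, h2⟩ := sig_zero c hc
      exact (C.TT_iff c hc 0 0).2 ⟨p, hp, h1, h2⟩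
    refine ⟨0, 0, 0, 0, h0 a ha, h0 b hb, ?_⟩
    rw [C.elt_mul (uv_mem _) (uv_mem _), hf, ← uv_xor]
    exact h0 _ hc
  · rintro ⟨n, m, e, d, h1, h2, h3⟩
    obtain ⟨p, hp, p1, p2⟩ := (C.TT_iff a ha n e).1 h1
    obtain ⟨q, hq, q1, q2⟩ := (C.TT_iff b hb m d).1 h2
    have hlt : n.val ^^^ m.val < 64 := Nat.xor_lt_two_pow (n := 6) n.2 m.2
    rw [C.elt_mul (uv_mem _) (uv_mem _), ← uv_xor] at h3
    obtain ⟨r, hr, r1, r2⟩ := (C.TT_iff _ hc ⟨_, hlt⟩ _).1 h3
    have h := sig_sum a b ha hb hab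
    simp only [List.all_eq_true] at h
    have h' := h p hp q hq r hr
    simp only [Bool.or_eq_true, bne_iff_ne, ne_eq, beq_iff_eq] at h'
    rcases h' with h' | h'
    · exact absurd (by rw [p1, q1, r1]; rfl) h'
    · rw [p2, q2, r2] at h'
      exact (show ∀ x y : ZMod 2, x = x + y → y = 0 by decide) _ _ h'

theorem PP_map {g : Fin 3} {h : Subgroup.centralizer ({z} : Set G)}
    (hh : h ∈ Subgroup.normalizer (M.A : Set (Subgroup.centralizer ({z} : Set G)))) (hhc : ∀ v, cact D.F h v = gn g v)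
    {a b : Fin 16} (H : C.PP a b) : C.PP (kperm g a) (kperm g b) := by
  have hmap : ∀ (c : Fin 16) (n : Fin 64) (e : ZMod 2), ∃ n' : Fin 64, ∃ e' : ZMod 2,
      elt D C.x (C.L (kperm g c)) (uv n') e' = h * elt D C.x (C.L c) (uv n) e * h⁻¹ := fun c n e =>
    M.el_surj C.hx (C.memL _) (C.cactL _)
      ((Subgroup.mem_normalizer_iff.1 hh _).1 (M.el_mem C.hx (C.memL c) (uv_mem _) _)) (fun v => by
        have e1 : ∀ w, gn g (cd (kc c) w) = cd (kc (kperm g c)) (gn g w) := fun w =>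
          IsLin.ext ((isLin_gn g).comp (isLin_cd _)) ((isLin_cd _).comp (isLin_gn g)) (kperm_ok g c) w
        rw [cact_mul, cact_mul, cact_el C.hx, C.cactL, hhc, e1, ← hhc, ← cact_mul, mul_inv_cancel, cact_one])
  obtain ⟨n, m, e, d, h1, h2, h3⟩ := H
  obtain ⟨n', e', he⟩ := hmap a n e
  obtain ⟨m', d', hd⟩ := hmap b m d
  refine ⟨n', m', e', d', ?_, ?_, ?_⟩
  · rw [he, TT_conj]; exact h1
  · rw [hd, TT_conj]; exact h2
  · rw [he, hd, show h * elt D C.x (C.L a) (uv n) e * h⁻¹ * (h * elt D C.x (C.L b) (uv m) d * h⁻¹) =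
      h * (elt D C.x (C.L a) (uv n) e * elt D C.x (C.L b) (uv m) d) * h⁻¹ by group, TT_conj]
    exact h3

theorem f_perm (hP : ∀ p, ∃ h : Subgroup.centralizer ({z} : Set G), ∀ x, cact D.F h x = es (pr p) x) (g : Fin 3)
    {a b : Fin 16} (ha : a ≠ 0) (hb : b ≠ 0) (hab : a ≠ b) : C.f (kperm g a) (kperm g b) = C.f a b := by
  obtain ⟨h, hh, hhc⟩ := M.exists_gn hP g
  have hne : kperm g a ≠ kperm g b := fun e => by
    have h0 : kperm g (ka a b) = 0 := by rw [← (kperm_ne g a).2 b, e, ka_facts.2.2.1 _]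
    exact (kperm_ne g _).1 (fun e' => hab (ka_facts.2.2.2.2 _ _ e')) h0
  by_cases hf : C.f a b = 0
  · rw [hf]
    exact (C.f_iff ((kperm_ne g a).1 ha) ((kperm_ne g b).1 hb) hne).2 (C.PP_map hh hhc ((C.f_iff ha hb hab).1 hf))
  · have h1 : ¬C.PP (kperm g a) (kperm g b) := fun H => hf ((C.f_iff ha hb hab).2 (by
      obtain ⟨k, hk, hperm⟩ : ∃ k : Subgroup.centralizer ({z} : Set G),
          k ∈ Subgroup.normalizer (M.A : Set (Subgroup.centralizer ({z} : Set G))) ∧
          ∀ c v, cact D.F k (cd (kc (kperm g c)) v) = cd (kc c) (cact D.F k v) := ⟨h⁻¹, inv_mem hh, fun c v => by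
        refine cact_inj D.F h ?_
        have e1 : ∀ w, gn g (cd (kc c) w) = cd (kc (kperm g c)) (gn g w) := fun w =>
          IsLin.ext ((isLin_gn g).comp (isLin_cd _)) ((isLin_cd _).comp (isLin_gn g)) (kperm_ok g c) w
        rw [← cact_mul, mul_inv_cancel, cact_one, hhc, e1, ← hhc, ← cact_mul, mul_inv_cancel, cact_one]⟩
      obtain ⟨n, m, e, d, g1, g2, g3⟩ := H
      have hmap : ∀ (c : Fin 16) (n : Fin 64) (e : ZMod 2), ∃ n' : Fin 64, ∃ e' : ZMod 2,
          elt D C.x (C.L c) (uv n') e' = k * elt D C.x (C.L (kperm g c)) (uv n) e * k⁻¹ := fun c n e =>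
        M.el_surj C.hx (C.memL _) (C.cactL _)
          ((Subgroup.mem_normalizer_iff.1 hk _).1 (M.el_mem C.hx (C.memL _) (uv_mem _) _)) (fun v => by
            rw [cact_mul, cact_mul, cact_el C.hx, C.cactL, hperm, ← cact_mul, mul_inv_cancel, cact_one])
      obtain ⟨n', e', he⟩ := hmap a n e
      obtain ⟨m', d', hd⟩ := hmap b m d
      refine ⟨n', m', e', d', ?_, ?_, ?_⟩
      · rw [he, TT_conj]; exact g1
      · rw [hd, TT_conj]; exact g2
      · rw [he, hd, show k * elt D C.x (C.L (kperm g a)) (uv n) e * k⁻¹ * (k * elt D C.x (C.L (kperm g b)) (uv m) d * k⁻¹) =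
          k * (elt D C.x (C.L (kperm g a)) (uv n) e * elt D C.x (C.L (kperm g b)) (uv m) d) * k⁻¹ by group, TT_conj]
        exact g3))
    have h2 : C.f (kperm g a) (kperm g b) ≠ 0 := fun e =>
      h1 ((C.f_iff ((kperm_ne g a).1 ha) ((kperm_ne g b).1 hb) hne).1 e)
    revert hf h2
    generalize C.f a b = x
    generalize C.f (kperm g a) (kperm g b) = y
    revert x y
    decide

theorem exists_trivialisation (hP : ∀ p, ∃ h : Subgroup.centralizer ({z} : Set G), ∀ x, cact D.F h x = es (pr p) x) :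
    ∃ p q : ZMod 2, ∀ a b, C.f a b = gTab p q a + gTab p q b + gTab p q (ka a b) := by
  set p := C.f (pairOf 18).1 (pairOf 18).2
  set q := C.f (pairOf 20).1 (pairOf 20).2
  refine ⟨p, q, fun a b => ?_⟩
  by_cases ha : a = 0
  · subst ha
    rw [(C.f_diag b).2, (gTab_diag p q b).1]
  by_cases hb : b = 0
  · subst hb
    rw [C.f_symm, (C.f_diag a).2, ka_facts.2.1 a 0, add_comm (gTab p q a), (gTab_diag p q a).1]
  by_cases hab : a = b
  · subst hab
    rw [(C.f_diag a).1, (gTab_diag p q a).2]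
  have hstep : ∀ (r : ZMod 2), ∀ e ∈ pairTree, C.f (pairOf e.2.1).1 (pairOf e.2.1).2 = r →
      C.f (pairOf e.2.2).1 (pairOf e.2.2).2 = r := by
    intro r e he h
    obtain ⟨⟨h1, h2, h3⟩, h4⟩ := tree_pairs.2.2 e he
    rcases h4 with ⟨-, e1⟩ | ⟨g, e1⟩ <;> rw [e1]
    · rw [C.f_symm]; exact h
    · rw [C.f_perm hP g h1 h2 h3]; exact h
  have t1 := tree4 (P := fun n => C.f (pairOf n).1 (pairOf n).2 = p) tree_pairs.1
    (by simp [p]) fun e he => hstep p e (List.mem_of_mem_take he)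
  have t2 := tree4 (P := fun n => C.f (pairOf n).1 (pairOf n).2 = q) tree_pairs.2.1
    (by simp [q]) fun e he => hstep q e (List.mem_of_mem_drop he)
  rcases tree_pairs_cover a b ha hb hab with e | e | ⟨e, he, e'⟩ | ⟨e, he, e'⟩
  · obtain ⟨ea, eb⟩ := Prod.ext_iff.1 e
    change a = _ at ea
    change b = _ at eb
    rw [ea, eb]
    exact ((gTab_facts.2 p q).1).symm
  · obtain ⟨ea, eb⟩ := Prod.ext_iff.1 e
    change a = _ at ea
    change b = _ at eb
    rw [ea, eb]
    exact ((gTab_facts.2 p q).2).symm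
  · have h := (gTab_pairs p q).1 e he
    rw [e'] at h
    have h' := t1 e he
    rw [show pairOf e.2.2 = (a, b) from e'] at h'
    rw [h, h']
  · have h := (gTab_pairs p q).2 e he
    rw [e'] at h
    have h' := t2 e he
    rw [show pairOf e.2.2 = (a, b) from e'] at h'
    rw [h, h']

end Chart
end MaxData
end Data
end Cfsg.Agent.LargeFischer
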