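import Cfsg.Agent.LargeFischer.CodeLaw
import Cfsg.Agent.LargeFischer.MatPerm

/-! The subgroup as even sets of the twenty-four points modulo the code. -/

set_option autoImplicit false
set_option maxRecDepth 20000
set_option Elab.async false

open Finset Cfsg Cfsg.Agent

namespace Cfsg.Agent.LargeFischer

theorem num_coords : ∀ (c : Fin 16) (n : Fin 64) (e : ZMod 2),
    n.val + 64 * e.val + 128 * c.val < 2048 ∧ cn (n.val + 64 * e.val + 128 * c.val) = c ∧
      (∀ i, uv (n.val + 64 * e.val + 128 * c.val) i = uv n i) ∧ tb (n.val + 64 * e.val + 128 * c.val) 6 = e := by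
  decide +kernel

theorem bv_surj (w : W11) : ∃ n < 2048, bv n = w := by
  have h : Function.Bijective (fun n : Fin 2048 => bv n.val) := by
    refine (Fintype.bijective_iff_injective_and_card _).2 ⟨fun a b e => Fin.ext (bv_inj a.2 b.2 e), ?_⟩
    simp [W11]
  obtain ⟨n, hn⟩ := h.2 w
  exact ⟨n.val, n.2, hn⟩

theorem cn_192 : uv 192 = 0 ∧ uv 64 = 0 ∧ tb 64 6 = 1 ∧ gTab 1 0 0 = 0 :=
  ⟨funext (by decide +kernel), funext (by decide +kernel), by decide +kernel, by decide +kernel⟩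

namespace Data
namespace MaxData

variable {G : Type*} [Group G] [Finite G] {z : G}
  {Q : Subgroup (Subgroup.centralizer ({z} : Set G))} [Q.Normal] {D : Data z Q} (M : D.MaxData)
include M

/-- identification of the subgroup with the model -/
structure Pairs where
  /-- the map -/
  ψ : W11 → G
  mem : ∀ w, ψ w ∈ M.AG
  hom : ∀ v w, ψ (v + w) = ψ v * ψ w
  inj : Function.Injective ψ
  surj : ∀ a ∈ M.AG, ∃ w, ψ w = a
  duad : ∀ w, (ψ w ≠ 1 ∧ ¬IsConj z (ψ w)) ↔ IsDuad w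
  base : ∃ x : Subgroup.centralizer ({z} : Set G), (∀ c, cact D.F x c = sm 1 c) ∧
    ∀ n < 128, ψ (bv n) = (elt D x 1 (uv n) (tb n 6) : G)

theorem exists_pairs (hF : IsOfLargeFischerTypeAt z Q) (hc : D.c = 1) : Nonempty M.Pairs := by
  classical
  obtain ⟨E, -, -, -, -, hsh⟩ := D.exists_shears hF hc
  have hP : ∀ p, ∃ h : Subgroup.centralizer ({z} : Set G), ∀ x, cact D.F h x = es (pr p) x := fun p => by
    obtain ⟨h, -, -, h'⟩ := hsh p
    exact ⟨h, h'⟩
  obtain ⟨C⟩ := M.exists_chart hF hc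
  obtain ⟨p, q, hf⟩ := C.exists_trivialisation hP
  set g := gTab p q with hg
  have hg0 : g 0 = 0 := (gTab_facts.1 p q).1
  let φ : ℕ → Subgroup.centralizer ({z} : Set G) := fun n => elt D C.x (C.L (cn n)) (uv n) (tb n 6 + g (cn n))
  have φmem : ∀ n, (φ n : G) ∈ M.AG := fun n => M.coe_mem_AG.2 (M.el_mem C.hx (C.memL _) (uv_mem n) _)
  have φmul : ∀ a b, φ (a ^^^ b) = φ a * φ b := fun a b => by
    simp only [φ]
    rw [C.elt_mul (uv_mem a) (uv_mem b), hf, uv_xor, cn_xor, tb_xor]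
    congr 1
    exact (show ∀ x y u v w : ZMod 2, x + y + w = x + u + (y + v) + (u + v + w) by decide) _ _ _ _ _
  have φsurj : ∀ a ∈ M.AG, ∃ n < 2048, (φ n : G) = a := by
    intro a ha
    obtain ⟨h, hh, rfl⟩ := M.mem_AG.1 ha
    obtain ⟨c', hc', hac⟩ := M.code h hh
    obtain ⟨c, rfl⟩ := kc_surj c' hc'
    obtain ⟨n, e, he⟩ := M.el_surj C.hx (C.memL c) (C.cactL c) hh hac
    obtain ⟨h1, h2, h3, h4⟩ := num_coords c n (e + g c)
    refine ⟨_, h1, ?_⟩
    simp only [φ, h2, h4]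
    rw [show uv (n.val + 64 * (e + g c).val + 128 * c.val) = uv n from funext h3,
      show e + g c + g c = e from (show ∀ x y : ZMod 2, x + y + y = x by decide) _ _, he]
  have φT : ∀ n, TT (φ n) ↔ tm g n = true := fun n => by
    have hn : uv n = uv (Fin.ofNat 64 n).val := (uv_mod n).symm
    by_cases h0 : cn n = 0
    · simp only [φ, tm, h0, if_true, hn]
      rw [C.TT0]
      simp
    · simp only [φ, tm, if_neg h0, hn]
      rw [C.TT_iff _ h0]
      simp only [List.any_eq_true, Bool.and_eq_true, beq_iff_eq]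
      rfl
  let e2 : Fin 2048 → ↥M.AG := fun n => ⟨_, φmem n⟩
  have he2 : Function.Bijective e2 := by
    refine Function.Surjective.bijective_of_nat_card_le (fun a => ?_) (by rw [M.card_AG, Nat.card_fin]; norm_num)
    obtain ⟨n, hn, e⟩ := φsurj a a.2
    exact ⟨⟨n, hn⟩, Subtype.ext e⟩
  -- the count for a conjugate of the central involution
  let S : ↥M.AG → Type _ := fun y => {a : ↥M.AG // ¬IsConj z (a : G) ∧ ¬IsConj z ((a : G) * y)}
  have hS : ∀ k, k < 2048 → Nat.card (S ⟨_, φmem k⟩) =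
      (univ.filter fun n : Fin 2048 => tm g n.val = true ∧ tm g (Nat.xor n.val k) = true).card := by
    intro k hk
    rw [← Fintype.card_subtype, ← Nat.card_eq_fintype_card]
    refine (Nat.card_congr ((Equiv.ofBijective e2 he2).subtypeEquiv fun n => ?_)).symm
    show _ ↔ ¬IsConj z (φ n.val : G) ∧ ¬IsConj z ((φ n.val : G) * (φ k : G))
    rw [← Subgroup.coe_mul, ← φmul]
    exact and_congr (φT _).symm (φT (n.val ^^^ k)).symm
  have hz64 : (φ 64 : G) = z := by
    simp only [φ, tm_special p q |>.2.2, cn_192.2.1, cn_192.2.2.1, hg0, elt, C.L0, D.W_zero C.hx M]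
    simp [zp_one, zc]
  have h192 : IsConj z (φ 192 : G) := by
    by_contra h
    have h' := (φT 192).1 h
    rw [(tm_special p q).1] at h'
    exact Bool.noConfusion h'
  have hpq : p = 1 ∧ q = 0 := by
    obtain ⟨m, hm, hmz⟩ := M.fusion_z (φmem 192) h192
    refine tm_count p q ?_
    rw [← hS 192 (by norm_num), ← hS 64 (by norm_num)]
    have hmA : ∀ b, b ∈ M.AG ↔ m * b * m⁻¹ ∈ M.AG := Subgroup.mem_normalizer_iff.1 hm
    have hcj : ∀ b, IsConj z (m * b * m⁻¹) ↔ IsConj z b := fun b =>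
      ⟨fun e => e.trans (isConj_iff.2 ⟨m⁻¹, by group⟩), fun e => e.trans (isConj_iff.2 ⟨m, rfl⟩)⟩
    have hx0 : m * (φ 64 : G) * m⁻¹ = (φ 192 : G) := by rw [hz64, hmz]
    let f : S ⟨_, φmem 64⟩ → S ⟨_, φmem 192⟩ := fun a => ⟨⟨m * (a.1 : G) * m⁻¹, (hmA _).1 a.1.2⟩,
      fun e => a.2.1 ((hcj _).1 e), fun e => a.2.2 ((hcj _).1 (by
        rw [show m * ((a.1 : G) * ((⟨_, φmem 64⟩ : ↥M.AG) : G)) * m⁻¹ =
          m * (a.1 : G) * m⁻¹ * (m * (φ 64 : G) * m⁻¹) by group, hx0]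
        exact e))⟩
    refine (Nat.card_congr (Equiv.ofBijective f ⟨fun a b e => ?_, fun b => ?_⟩)).symm
    · have e' : m * (a.1 : G) * m⁻¹ = m * (b.1 : G) * m⁻¹ := congrArg (fun s : S _ => (s.1 : G)) e
      exact Subtype.ext (Subtype.ext (mul_left_cancel (mul_right_cancel e')))
    · have hb : m⁻¹ * (b.1 : G) * m ∈ M.AG := (hmA _).2 (by
        rw [show m * (m⁻¹ * (b.1 : G) * m) * m⁻¹ = (b.1 : G) by group]; exact b.1.2)
      refine ⟨⟨⟨_, hb⟩, fun e => b.2.1 ?_, fun e => b.2.2 ?_⟩, Subtype.ext (Subtype.ext (by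
        show m * (m⁻¹ * (b.1 : G) * m) * m⁻¹ = (b.1 : G)
        group))⟩
      · rw [show (b.1 : G) = m * (m⁻¹ * (b.1 : G) * m) * m⁻¹ by group]
        exact (hcj _).2 e
      · rw [show (b.1 : G) * ((⟨_, φmem 192⟩ : ↥M.AG) : G) = m * (m⁻¹ * (b.1 : G) * m * (φ 64 : G)) * m⁻¹ by
          rw [hz64, show m * (m⁻¹ * (b.1 : G) * m * z) * m⁻¹ = (b.1 : G) * (m * z * m⁻¹) by group, hmz]]
        exact (hcj _).2 e
  obtain ⟨rfl, rfl⟩ := hpq
  choose enc henc henc' using bv_surj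
  have φinj : ∀ {a b}, a < 2048 → b < 2048 → (φ a : G) = φ b → a = b := fun {a b} ha hb e =>
    congrArg Fin.val (he2.1 (a₁ := ⟨a, ha⟩) (a₂ := ⟨b, hb⟩) (Subtype.ext e))
  have φ0 : (φ 0 : G) = 1 := by
    have h := φmul 0 0
    rw [Nat.xor_self] at h
    rw [mul_eq_left.1 h.symm]
    rfl
  refine ⟨⟨fun w => (φ (enc w) : G), fun w => φmem _, fun v w => ?_, fun v w e => ?_, fun a ha => ?_, fun w => ?_,
    C.x, C.hx, fun n hn => ?_⟩⟩
  · have he : enc (v + w) = enc v ^^^ enc w :=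
      bv_inj (henc _) (xor_lt11 (henc _) (henc _)) (by rw [bv_xor, henc', henc', henc'])
    show (φ (enc (v + w)) : G) = _
    rw [he, φmul]
    rfl
  · rw [← henc' v, ← henc' w, φinj (henc _) (henc _) e]
  · obtain ⟨n, hn, rfl⟩ := φsurj a ha
    exact ⟨bv n, by show (φ (enc (bv n)) : G) = _; rw [bv_inj (henc _) hn (henc' _)]⟩
  · have hk : tmask.testBit (enc w) = true ↔ ((φ (enc w) : G) ≠ 1 ∧ ¬IsConj z (φ (enc w) : G)) := by
      rw [tmask_spec (henc w)]
      refine and_congr ⟨fun h e => h (φinj (henc _) (by norm_num) (e.trans φ0.symm)), fun h e => h (by rw [e]; exact φ0)⟩ ?_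
      exact (φT _).symm
    rw [← hk]
    constructor
    · intro h
      obtain ⟨i, j, e⟩ := duad_cover (henc w) h
      refine ⟨Compute.e24 i, Compute.e24 j, fun e' => ?_, ?_⟩
      · rw [Compute.e24.injective e', Nat.xor_self] at e
        rw [e] at h
        exact absurd ((tmask_spec (by norm_num)).1 h).1 (by simp)
      · rw [← henc' w, e, bv_xor, pt, pt, pn_e24, pn_e24]
    · rintro ⟨i, j, hij, e⟩
      obtain ⟨a, rfl⟩ := Compute.e24.surjective i
      obtain ⟨b, rfl⟩ := Compute.e24.surjective j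
      have hl : ∀ u, vp24 u < 2048 := fun u => pn_e24 u ▸ pn_lt _
      rw [pt, pt, pn_e24, pn_e24, ← bv_xor] at e
      rw [bv_inj (henc w) (xor_lt11 (hl a) (hl b)) ((henc' w).trans e)]
      exact duad_mem a b fun e' => hij (by rw [e'])
  · show (φ (enc (bv n)) : G) = _
    have hn0 : cn n = 0 := by
      simp only [cn, Nat.shiftRight_eq_div_pow, Nat.div_eq_of_lt (show n < 2 ^ 7 from hn)]
      rfl
    rw [bv_inj (henc _) (by omega) (henc' _)]
    simp only [φ, hn0, C.L0, (gTab_facts.1 _ _).1, hg, add_zero]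

end MaxData
end Data
end Cfsg.Agent.LargeFischer
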