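import Cfsg.Agent.LargeFischer.Cover
import Cfsg.Agent.LargeFischer.Twist

/-! The normaliser controls fusion in the Thompson subgroup and has two orbits. -/

set_option autoImplicit false
set_option maxRecDepth 20000
set_option Elab.async false

open Finset Cfsg Cfsg.Agent

namespace Cfsg.Agent.LargeFischer
namespace Data
namespace MaxData

variable {G : Type*} [Group G] [Finite G] {z : G}
  {Q : Subgroup (Subgroup.centralizer ({z} : Set G))} [Q.Normal] {D : Data z Q} (M : D.MaxData)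
include M

theorem thompson (T : Sylow 2 G) :
    ∃ γ : G, thompsonSubgroupOf 2 (T : Subgroup G) = M.AG.map (MulAut.conj γ).toMonoidHom := by
  haveI : Fact (Nat.Prime 2) := ⟨Nat.prime_two⟩
  obtain ⟨R, hR⟩ := M.exists_sylow
  obtain ⟨γ, rfl⟩ := MulAction.exists_smul_eq G R T
  refine ⟨γ, ?_⟩
  set TS : Subgroup G := ↑(γ • R) with hTS
  have hT : TS = (R : Subgroup G).map (MulAut.conj γ).toMonoidHom := rfl
  set A' := M.AG.map (MulAut.conj γ).toMonoidHom with hA'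
  have hAR : M.AG ≤ (R : Subgroup G) := hR.symm ▸ Subgroup.map_mono M.le
  have hA'T : A' ≤ TS := hT ▸ Subgroup.map_mono hAR
  set A'' := A'.subgroupOf TS with hA''
  have hback : A''.map TS.subtype = A' := by
    rw [hA'', Subgroup.subgroupOf_map_subtype, inf_eq_left.2 hA'T]
  have hA''c : Nat.card ↥A'' = 2 ^ 11 := by
    rw [← Subgroup.card_map_of_injective (K := A'') TS.subtype_injective, hback, hA',
      Subgroup.card_map_of_injective (MulAut.conj γ).injective, M.card_AG]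
  have hA''el : IsElementaryAbelian 2 A'' := elementary_subgroupOf (elementary_map _ M.el_AG)
  have hbig : ∀ B : Subgroup ↥TS, IsElementaryAbelian 2 B → 2 ^ 11 ≤ Nat.card B → B = A'' := by
    intro B hB hBc
    set B1 := (B.map TS.subtype).map (MulAut.conj γ).symm.toMonoidHom with hB1
    have hB1R : B1 ≤ (R : Subgroup G) := by
      rintro _ ⟨_, ⟨b, hb, rfl⟩, rfl⟩
      obtain ⟨p, hp, e⟩ := hT.le b.2
      show (MulAut.conj γ).symm (b : G) ∈ (R : Subgroup G)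
      rw [← e]
      show (MulAut.conj γ).symm (MulAut.conj γ p) ∈ (R : Subgroup G)
      rw [MulEquiv.symm_apply_apply]
      exact hp
    have hB1H : B1 ≤ Subgroup.centralizer ({z} : Set G) := fun b hb => by
      obtain ⟨h, -, rfl⟩ := hR.le (hB1R hb)
      exact h.2
    have hB1c : 2 ^ 11 ≤ Nat.card ↥B1 := by
      rw [hB1, Subgroup.card_map_of_injective (MulAut.conj γ).symm.injective,
        Subgroup.card_map_of_injective TS.subtype_injective]
      exact hBc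
    have h0 : B1.subgroupOf (Subgroup.centralizer ({z} : Set G)) = M.A := M.uniq _ (fun h hh => by
        obtain ⟨p, hp, e⟩ := hR.le (hB1R (Subgroup.mem_subgroupOf.1 hh))
        rwa [← Subtype.ext e])
      (elementary_subgroupOf (elementary_map _ (elementary_map _ hB)))
      (by rw [Nat.card_congr (Subgroup.subgroupOfEquivOfLe hB1H).toEquiv]; exact hB1c)
    have h1 : B1 = M.AG := by
      rw [AG, ← h0, Subgroup.subgroupOf_map_subtype, inf_eq_left.2 hB1H]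
    have h2 : B.map TS.subtype = A' := by
      rw [hA', ← h1, hB1, Subgroup.map_map]
      convert (Subgroup.map_id (B.map TS.subtype)).symm using 2
      ext b
      simp
    exact Subgroup.map_injective TS.subtype_injective (h2.trans hback.symm)
  have hmax : maxElementaryAbelianSubgroups 2 ↥TS = {A''} := by
    ext B
    constructor
    · intro hB
      exact hbig B hB.1 (hA''c ▸ hB.2 A'' hA''el)
    · rintro rfl
      refine ⟨hA''el, fun B hB => ?_⟩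
      by_contra hlt
      have := hbig B hB (by omega)
      rw [this] at hlt
      exact hlt le_rfl
  rw [thompsonSubgroupOf, thompsonSubgroup, hmax, sSup_singleton]
  exact hback

theorem orbits (hF : IsOfLargeFischerTypeAt z Q) (hc : D.c = 1) :
    (∃ a ∈ M.AG, a ≠ 1 ∧ IsConj z a) ∧ (∃ a ∈ M.AG, a ≠ 1 ∧ ¬ IsConj z a) ∧
      ∀ a ∈ M.AG, ∀ b ∈ M.AG, a ≠ 1 → b ≠ 1 → (IsConj z a ↔ IsConj z b) →
        ∃ m ∈ Subgroup.normalizer (M.AG : Set G), m * a * m⁻¹ = b := by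
  have S := D.setting
  set N := Subgroup.normalizer (M.AG : Set G) with hN
  obtain ⟨E, -, -, -, -, hsh⟩ := D.exists_shears hF hc
  have hP : ∀ p, ∃ h : Subgroup.centralizer ({z} : Set G), ∀ x, cact D.F h x = es (pr p) x := fun p => by
    obtain ⟨h, -, -, h'⟩ := hsh p
    exact ⟨h, h'⟩
  have h5 : vecN 5 ∈ F0 ∧ vecN 5 ≠ 0 := ⟨by rw [mem_F0]; decide +kernel, by decide +kernel⟩
  set t0 := LargeFischer.lift D.F (vecN 5)
  have ht0c : (t0 : ↥Q ⧸ Subgroup.center ↥Q) = D.F.co (vecN 5) := mk_lift D.F _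
  set t : G := ((t0 : Subgroup.centralizer ({z} : Set G)) : G) with ht
  have htA : t ∈ M.AG := M.coe_mem_AG.2 ((M.mem_Q_iff ht0c).2 h5.1)
  have htnz : ¬ IsConj z t := fun h =>
    M.class_not_inA hc ht0c h5.2 (F0_par h5.1) h u6_f0_large.2.2.2
  have ht1 : t ≠ 1 := fun e => D.notMem_center ht0c h5.2 ((center_iff D.b).2 (Or.inl (Subtype.ext (Subtype.ext e))))
  have hinQ : ∀ a ∈ M.AG, a ∈ LargeExtra.oc z → a ≠ 1 → ¬ IsConj z a → ∃ m ∈ N, m * a * m⁻¹ = t := by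
    intro a ha hao ha1 haz
    obtain ⟨q, rfl⟩ := D.mem_oc_iff.1 hao
    have hqA := M.coe_mem_AG.1 ha
    obtain ⟨u, hu, hqc⟩ := M.coord_of hqA q.2
    have hqc' : (q : ↥Q ⧸ Subgroup.center ↥Q) = D.F.co u := hqc
    have hu0 : u ≠ 0 := fun e => by
      rw [e, co_zero D.b D.F] at hqc'
      rcases (center_iff D.b).1 ((QuotientGroup.eq_one_iff _).1 hqc') with h | h
      · exact ha1 (by rw [h]; rfl)
      · exact haz (by rw [h]; exact IsConj.refl _)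
    have huA : InA 1 u := by
      by_contra hA
      exact haz (D.conj_of_not_inA hF hqc' hu0 (F0_par hu) (hc ▸ hA))
    obtain ⟨h, hh, hhq⟩ := M.class_trans hP hu hu0 h5.1 h5.2 (iff_of_true huA u6_f0_large.2.2.2) hqc' ht0c
    refine ⟨(h : G), M.norm_AG hh, ?_⟩
    rw [ht, ← hhq, MulAut.conjNormal_apply]
    rfl
  have hall : ∀ a ∈ M.AG, a ≠ 1 → ¬ IsConj z a → ∃ m ∈ N, m * a * m⁻¹ = t := by
    intro a ha ha1 haz
    obtain ⟨h, hh, rfl⟩ := M.mem_AG.1 ha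
    by_cases hQ : h ∈ Q
    · exact hinQ _ ha (D.mem_oc_iff.2 ⟨⟨h, hQ⟩, rfl⟩) ha1 haz
    obtain ⟨σ, hσA, hσc, hσ⟩ := M.cover hF hc hh hQ
    obtain ⟨n, hn, hns⟩ := M.fusion_z (M.coe_mem_AG.2 hσA) hσc
    have hb : n⁻¹ * (h : G) * n ∈ LargeExtra.oc z := by
      have h' := oc_conj_mem n⁻¹ hσ
      rwa [inv_inv, show n⁻¹ * ((σ : Subgroup.centralizer ({z} : Set G)) : G) * n = z by rw [← hns]; group] at h'
    obtain ⟨m, hm, e⟩ := hinQ (n⁻¹ * (h : G) * n)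
      ((Subgroup.mem_normalizer_iff.1 hn _).2 (by rwa [show n * (n⁻¹ * (h : G) * n) * n⁻¹ = (h : G) by group])) hb
      (fun e => ha1 (by
        calc (h : G) = n * (n⁻¹ * (h : G) * n) * n⁻¹ := by group
          _ = 1 := by rw [e]; group))
      (fun e => haz (e.trans (isConj_iff.2 ⟨n, by group⟩)))
    exact ⟨m * n⁻¹, mul_mem hm (inv_mem hn), by rw [← e]; group⟩
  refine ⟨⟨z, M.z_mem_AG, S.ne_one, IsConj.refl z⟩, ⟨t, htA, ht1, htnz⟩, fun a ha b hb ha1 hb1 hab => ?_⟩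
  by_cases hz : IsConj z a
  · obtain ⟨n, hn, e⟩ := M.fusion_z ha hz
    obtain ⟨n', hn', e'⟩ := M.fusion_z hb (hab.1 hz)
    exact ⟨n' * n⁻¹, mul_mem hn' (inv_mem hn), by rw [← e, ← e']; group⟩
  · obtain ⟨n, hn, e⟩ := hall a ha ha1 hz
    obtain ⟨n', hn', e'⟩ := hall b hb hb1 (fun h => hz (hab.2 h))
    refine ⟨n'⁻¹ * n, mul_mem (inv_mem hn') hn, ?_⟩
    calc n'⁻¹ * n * a * (n'⁻¹ * n)⁻¹ = n'⁻¹ * (n * a * n⁻¹) * n' := by group
      _ = b := by rw [e, ← e']; group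

end MaxData
end Data

theorem fusion_and_orbits {G : Type*} [Group G] [Finite G] {z : G}
    {Q : Subgroup (Subgroup.centralizer ({z} : Set G))} [Q.Normal] (hF : IsOfLargeFischerTypeAt z Q)
    (T : Sylow 2 G) (A M : Subgroup G) (hA : A = thompsonSubgroupOf 2 (T : Subgroup G))
    (hM : M = Subgroup.normalizer (A : Set G)) :
    (∀ a ∈ A, ∀ g : G, g * a * g⁻¹ ∈ A → ∃ m ∈ M, m * a * m⁻¹ = g * a * g⁻¹) ∧ (∃ a ∈ A, a ≠ 1 ∧ IsConj z a) ∧
      (∃ a ∈ A, a ≠ 1 ∧ ¬ IsConj z a) ∧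
      ∀ a ∈ A, ∀ b ∈ A, a ≠ 1 → b ≠ 1 → (IsConj z a ↔ IsConj z b) → ∃ m ∈ M, m * a * m⁻¹ = b := by
  obtain ⟨D, hc⟩ := exists_data_param hF 1
  obtain ⟨MD⟩ := D.exists_maxData hF hc
  obtain ⟨γ, hγ⟩ := MD.thompson T
  rw [hγ] at hA
  obtain ⟨⟨a1, ha1, ha1', ha1''⟩, ⟨a2, ha2, ha2', ha2''⟩, horb⟩ := MD.orbits hF hc
  have hmem : ∀ a, a ∈ A ↔ γ⁻¹ * a * γ ∈ MD.AG := fun a => by
    rw [hA, Subgroup.mem_map]
    constructor
    · rintro ⟨b, hb, rfl⟩; simpa [mul_assoc] using hb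
    · exact fun h => ⟨_, h, by simp [mul_assoc]⟩
  have hconj : ∀ a, IsConj z (γ⁻¹ * a * γ) ↔ IsConj z a := fun a =>
    ⟨fun h => h.trans (isConj_iff.2 ⟨γ, by group⟩), fun h => h.trans (isConj_iff.2 ⟨γ⁻¹, by group⟩)⟩
  have hone : ∀ a : G, a ≠ 1 → γ⁻¹ * a * γ ≠ 1 := fun a ha e => ha (by
    calc a = γ * (γ⁻¹ * a * γ) * γ⁻¹ := by group
      _ = 1 := by rw [e]; group)
  have hfour : ∀ a ∈ A, ∀ b ∈ A, a ≠ 1 → b ≠ 1 → (IsConj z a ↔ IsConj z b) → ∃ m ∈ M, m * a * m⁻¹ = b := by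
    intro a ha b hb h1 h2 hab
    obtain ⟨n, hn, e⟩ := horb _ ((hmem a).1 ha) _ ((hmem b).1 hb) (hone a h1) (hone b h2)
      (by rw [hconj, hconj]; exact hab)
    refine ⟨γ * n * γ⁻¹, hM ▸ Subgroup.mem_normalizer_iff.2 fun c => ?_, ?_⟩
    · show c ∈ A ↔ γ * n * γ⁻¹ * c * (γ * n * γ⁻¹)⁻¹ ∈ A
      rw [hmem, hmem, show γ⁻¹ * (γ * n * γ⁻¹ * c * (γ * n * γ⁻¹)⁻¹) * γ = n * (γ⁻¹ * c * γ) * n⁻¹ by group]
      exact Subgroup.mem_normalizer_iff.1 hn _
    · calc γ * n * γ⁻¹ * a * (γ * n * γ⁻¹)⁻¹ = γ * (n * (γ⁻¹ * a * γ) * n⁻¹) * γ⁻¹ := by group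
        _ = b := by rw [e]; group
  have hne : ∀ b : G, b ≠ 1 → γ * b * γ⁻¹ ≠ 1 := fun b hb e => hb (by
    calc b = γ⁻¹ * (γ * b * γ⁻¹) * γ := by group
      _ = 1 := by rw [e]; group)
  have hback : ∀ b : G, γ⁻¹ * (γ * b * γ⁻¹) * γ = b := fun b => by group
  refine ⟨fun a ha g hg => ?_, ⟨γ * a1 * γ⁻¹, (hmem _).2 (by rwa [hback]), hne _ ha1', (hconj _).1 (by rwa [hback])⟩,
    ⟨γ * a2 * γ⁻¹, (hmem _).2 (by rwa [hback]), hne _ ha2', fun h => ha2'' (by have := (hconj _).2 h; rwa [hback] at this)⟩,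
    hfour⟩
  by_cases h1 : a = 1
  · exact ⟨1, one_mem _, by rw [h1]; group⟩
  · refine hfour a ha _ hg h1 (fun e => h1 ?_) ⟨fun h => h.trans (isConj_iff.2 ⟨g, rfl⟩),
      fun h => h.trans (isConj_iff.2 ⟨g⁻¹, by group⟩)⟩
    calc a = g⁻¹ * (g * a * g⁻¹) * g := by group
      _ = 1 := by rw [e]; group

end Cfsg.Agent.LargeFischer
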