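import Cfsg.Agent.LargeFischer.MatFacts
import Cfsg.Agent.LargeFischer.FusionMain

/-! Orbits of the group `Q` on a coset in the largest elementary abelian subgroup. -/

set_option autoImplicit false
set_option maxRecDepth 20000
set_option Elab.async false

open Finset Cfsg Cfsg.Agent

namespace Cfsg.Agent.LargeFischer

theorem bp_sm_one (a c : Vec6) : bp (sm 1 a) (sm 1 c) = bp a c := by
  rw [bp_eq, bp_eq, ← sm_add, sm, sm, sm, par_dg, par_dg, par_dg]

theorem bp_zero_right (a : Vec6) : bp a 0 = 0 := by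
  have h := bp_add_right a 0 0
  rw [add_zero] at h
  exact (show ∀ p : ZMod 2, p = p + p → p = 0 by decide) _ h

section
variable {G : Type*} [Group G] {z : G}

/-- a power of the central involution -/
def zp (z : G) (e : ZMod 2) : Subgroup.centralizer ({z} : Set G) := if e = 0 then 1 else zc z

theorem zp_comm (e : ZMod 2) (h : Subgroup.centralizer ({z} : Set G)) : h * zp z e = zp z e * h := by
  unfold zp
  split_ifs
  · rw [mul_one, one_mul]
  · exact Subtype.ext (Subgroup.mem_centralizer_singleton_iff.1 h.2)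

theorem zp_zero : zp z 0 = 1 := if_pos rfl

theorem zp_one : zp z 1 = zc z := if_neg (by decide)

end

namespace Data

variable {G : Type*} [Group G] [Finite G] {z : G}
  {Q : Subgroup (Subgroup.centralizer ({z} : Set G))} [Q.Normal] (D : Data z Q)
include D

theorem zp_add (a c : ZMod 2) : zp z (a + c) = zp z a * zp z c := by
  rcases (show ∀ a : ZMod 2, a = 0 ∨ a = 1 by decide) a with rfl | rfl <;>
    rcases (show ∀ a : ZMod 2, a = 0 ∨ a = 1 by decide) c with rfl | rfl
  · simp [zp_zero]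
  · simp [zp_zero]
  · simp [zp_zero]
  · rw [show (1 : ZMod 2) + 1 = 0 from rfl, zp_zero, zp_one, zc_sq D.b]

theorem zp_inj {a c : ZMod 2} (h : zp z a = zp z c) : a = c := by
  have h1 := zc_ne_one D.b
  rcases (show ∀ a : ZMod 2, a = 0 ∨ a = 1 by decide) a with rfl | rfl <;>
    rcases (show ∀ a : ZMod 2, a = 0 ∨ a = 1 by decide) c with rfl | rfl
  · rfl
  · rw [zp_zero, zp_one] at h; exact absurd h.symm h1
  · rw [zp_zero, zp_one] at h; exact absurd h h1
  · rfl

theorem zp_mem_Q (e : ZMod 2) : zp z e ∈ Q := by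
  unfold zp
  split_ifs
  · exact Q.one_mem
  · exact zc_mem D.b

theorem conj_coord {q : Q} {u : Vec6} (hq : (q : ↥Q ⧸ Subgroup.center ↥Q) = D.F.co u)
    (h : Subgroup.centralizer ({z} : Set G)) :
    ((MulAut.conjNormal h q : Q) : ↥Q ⧸ Subgroup.center ↥Q) = D.F.co (cact D.F h u) := by
  rw [← actV_mk, hq, ← co_cact]

/-- two elements over the same coordinates -/
theorem exists_zp {q r : Q} {u : Vec6} (hq : (q : ↥Q ⧸ Subgroup.center ↥Q) = D.F.co u)
    (hr : (r : ↥Q ⧸ Subgroup.center ↥Q) = D.F.co u) :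
    ∃ e, (r : Subgroup.centralizer ({z} : Set G)) = (q : Subgroup.centralizer ({z} : Set G)) * zp z e := by
  rcases (center_iff D.b).1 (QuotientGroup.eq.1 (hq.trans hr.symm)) with e | e
  · exact ⟨0, by rw [zp_zero, mul_one, inv_mul_eq_one.1 e]⟩
  · refine ⟨1, ?_⟩
    rw [zp_one]
    exact inv_mul_eq_iff_eq_mul.1 (by simpa using e)

/-- conjugation inside `Q` -/
theorem conj_sign {q r : Q} {y u : Vec6} (hq : (q : ↥Q ⧸ Subgroup.center ↥Q) = D.F.co y)
    (hr : (r : ↥Q ⧸ Subgroup.center ↥Q) = D.F.co u) :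
    (q : Subgroup.centralizer ({z} : Set G)) * r * (q : Subgroup.centralizer ({z} : Set G))⁻¹ =
      (r : Subgroup.centralizer ({z} : Set G)) * zp z (bp y u) := by
  rcases (show ∀ p : ZMod 2, p = 0 ∨ p = 1 by decide) (bp y u) with h | h <;> rw [h]
  · rw [zp_zero, mul_one]
    exact mul_inv_eq_iff_eq_mul.2 (congrArg Subtype.val ((D.comm_bp hq hr).2 h) :)
  · have hne : ¬ q * r = r * q := fun e => absurd ((D.comm_bp hq hr).1 e) (by rw [h]; decide)
    rcases (center_iff D.b).1 (comm_mem D.b q r) with e | e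
    · exact absurd (commutatorElement_eq_one_iff_mul_comm.1 e) hne
    · rw [zp_one]
      simp only [Subgroup.coe_mul, Subgroup.coe_inv] at e
      rw [D.zc_comm]
      exact mul_inv_eq_iff_eq_mul.1 e

/-- the section over the fixed space given by a scalar -/
noncomputable def W (x : Subgroup.centralizer ({z} : Set G)) (u : Vec6) : Q :=
  MulAut.conjNormal x (LargeFischer.lift D.F (sm 1 u)) * (LargeFischer.lift D.F (sm 1 u))⁻¹

variable {x : Subgroup.centralizer ({z} : Set G)} (hx : ∀ c, cact D.F x c = sm 1 c)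
include hx

theorem W_coord (u : Vec6) : ((D.W x u : Q) : ↥Q ⧸ Subgroup.center ↥Q) = D.F.co u := by
  rw [W, QuotientGroup.mk_mul, QuotientGroup.mk_inv, D.conj_coord (mk_lift D.F _), hx, mk_lift]
  have hinv : ∀ a, (D.F.co a)⁻¹ = D.F.co a := fun a => inv_eq_of_mul_eq_one_right (by
    rw [← D.F.map_add, add_self6, co_zero D.b D.F])
  rw [hinv, ← D.F.map_add, sm_sm]
  congr 1
  funext i
  exact (show ∀ p : W4, omk (1 + 1) p + omk 1 p = p by decide) _

omit hx in
theorem W_eq {r : Q} {u : Vec6} (hr : (r : ↥Q ⧸ Subgroup.center ↥Q) = D.F.co (sm 1 u)) :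
    D.W x u = MulAut.conjNormal x r * r⁻¹ := by
  obtain ⟨e, he⟩ := D.exists_zp (mk_lift D.F (sm 1 u)) hr
  refine Subtype.ext ?_
  simp only [W, Subgroup.coe_mul, MulAut.conjNormal_apply, Subgroup.coe_inv, he]
  calc _ = x * ((LargeFischer.lift D.F (sm 1 u) : Q) : Subgroup.centralizer ({z} : Set G)) * (zp z e * (zp z e)⁻¹) * x⁻¹ *
        ((LargeFischer.lift D.F (sm 1 u) : Q) : Subgroup.centralizer ({z} : Set G))⁻¹ := by group
    _ = x * ((LargeFischer.lift D.F (sm 1 u) : Q) : Subgroup.centralizer ({z} : Set G)) * zp z e * (x⁻¹ * (zp z e)⁻¹) *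
        ((LargeFischer.lift D.F (sm 1 u) : Q) : Subgroup.centralizer ({z} : Set G))⁻¹ := by
      have h1 : (zp z e)⁻¹ * x⁻¹ = x⁻¹ * (zp z e)⁻¹ := by rw [← mul_inv_rev, ← mul_inv_rev, zp_comm e x]
      rw [← h1]; group
    _ = _ := by group

variable (M : D.MaxData)

theorem W_mem {u : Vec6} (hu : u ∈ F0) : (D.W x u : Subgroup.centralizer ({z} : Set G)) ∈ M.A :=
  (M.mem_Q_iff (D.W_coord hx u)).2 hu

include M in
theorem W_add {u v : Vec6} (hu : u ∈ F0) (hv : v ∈ F0) : D.W x (u + v) = D.W x u * D.W x v := by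
  set a := LargeFischer.lift D.F (sm 1 u)
  set c := LargeFischer.lift D.F (sm 1 v)
  rw [D.W_eq (r := a * c) (by rw [QuotientGroup.mk_mul, mk_lift, mk_lift, sm_add, D.F.map_add])]
  have hcomm : Commute (a : Subgroup.centralizer ({z} : Set G)) (D.W x v : Subgroup.centralizer ({z} : Set G)) :=
    M.comm ((M.mem_Q_iff (mk_lift D.F _)).2 (F0_sm hu 1)) (D.W_mem hx M hv)
  refine Subtype.ext ?_
  simp only [W, Subgroup.coe_mul, Subgroup.coe_inv, MulAut.conjNormal_apply] at hcomm ⊢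
  rw [mul_inv_rev]
  calc x * ((a : Subgroup.centralizer ({z} : Set G)) * c) * x⁻¹ * ((c : Subgroup.centralizer ({z} : Set G))⁻¹ * (a : Subgroup.centralizer ({z} : Set G))⁻¹)
      = x * a * x⁻¹ * ((x * c * x⁻¹ * (c : Subgroup.centralizer ({z} : Set G))⁻¹) * (a : Subgroup.centralizer ({z} : Set G))⁻¹) := by group
    _ = x * a * x⁻¹ * ((a : Subgroup.centralizer ({z} : Set G))⁻¹ * (x * c * x⁻¹ * (c : Subgroup.centralizer ({z} : Set G))⁻¹)) := by
      rw [hcomm.symm.inv_right.eq]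
    _ = _ := by simp only [a, c]; group

theorem W_smul (u : Vec6) : MulAut.conjNormal x (D.W x u) = D.W x (sm 1 u) := by
  rw [D.W_eq (u := sm 1 u) (r := MulAut.conjNormal x (LargeFischer.lift D.F (sm 1 u)))
    (by rw [D.conj_coord (mk_lift D.F _), hx]), W, map_mul, map_inv]

include M in
theorem W_zero : D.W x 0 = 1 := by
  have h := D.W_add hx M F0.zero_mem F0.zero_mem
  rw [add_zero] at h
  exact mul_eq_left.1 h.symm

variable {ℓ : Subgroup.centralizer ({z} : Set G)} {c : Fin 16 × Fin 8} (hℓ : ℓ ∈ M.A)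
  (hℓc : ∀ a, cact D.F ℓ a = cd c a)

include M hℓ hℓc

theorem move_ex (q : Q) {y : Vec6} (hq : (q : ↥Q ⧸ Subgroup.center ↥Q) = D.F.co y) :
    cd c y + y ∈ F0 ∧ ∃ e, (q : Subgroup.centralizer ({z} : Set G)) * ℓ * (q : Subgroup.centralizer ({z} : Set G))⁻¹ =
      ℓ * (D.W x (cd c y + y) : Subgroup.centralizer ({z} : Set G)) * zp z e := by
  set r : Q := MulAut.conjNormal ℓ⁻¹ q * q⁻¹ with hr
  have hinv : ℓ⁻¹ = ℓ := inv_eq_of_mul_eq_one_right (M.sq hℓ)
  have hcy : (r : ↥Q ⧸ Subgroup.center ↥Q) = D.F.co (cd c y + y) := by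
    rw [hr, QuotientGroup.mk_mul, QuotientGroup.mk_inv, D.conj_coord hq, hinv, hℓc, hq,
      inv_eq_of_mul_eq_one_right (show D.F.co y * D.F.co y = 1 by rw [← D.F.map_add, add_self6, co_zero D.b D.F]),
      D.F.map_add]
  have hrA : (r : Subgroup.centralizer ({z} : Set G)) ∈ M.A := by
    have h1 : (q : Subgroup.centralizer ({z} : Set G)) * ℓ * (q : Subgroup.centralizer ({z} : Set G))⁻¹ ∈ M.A :=
      (Subgroup.mem_normalizer_iff.1 (M.norm_Q q.2) ℓ).1 hℓ
    have h2 : (r : Subgroup.centralizer ({z} : Set G)) =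
        ℓ⁻¹ * ((q : Subgroup.centralizer ({z} : Set G)) * ℓ * (q : Subgroup.centralizer ({z} : Set G))⁻¹) := by
      simp only [hr, Subgroup.coe_mul, MulAut.conjNormal_apply, Subgroup.coe_inv, inv_inv]
      group
    rw [h2]
    exact mul_mem (inv_mem hℓ) h1
  refine ⟨(M.mem_Q_iff hcy).1 hrA, ?_⟩
  obtain ⟨e, he⟩ := D.exists_zp (D.W_coord hx _) hcy
  refine ⟨e, ?_⟩
  rw [mul_assoc ℓ, ← he]
  simp only [hr, Subgroup.coe_mul, MulAut.conjNormal_apply, Subgroup.coe_inv, inv_inv]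
  group

theorem move (hclin : ∀ a v, cd c (sm a v) = sm a (cd c v)) (hℓx : x * ℓ * x⁻¹ = ℓ) (q : Q) {y : Vec6}
    (hq : (q : ↥Q ⧸ Subgroup.center ↥Q) = D.F.co y) :
    (q : Subgroup.centralizer ({z} : Set G)) * ℓ * (q : Subgroup.centralizer ({z} : Set G))⁻¹ =
      ℓ * (D.W x (cd c y + y) : Subgroup.centralizer ({z} : Set G)) * zp z (bp y (sm 2 (cd c y + y))) := by
  have hex : ∀ y, ∃ e, ∀ q : Q, (q : ↥Q ⧸ Subgroup.center ↥Q) = D.F.co y →
      (q : Subgroup.centralizer ({z} : Set G)) * ℓ * (q : Subgroup.centralizer ({z} : Set G))⁻¹ =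
      ℓ * (D.W x (cd c y + y) : Subgroup.centralizer ({z} : Set G)) * zp z e := fun y => by
    obtain ⟨e, he⟩ := (D.move_ex hx M hℓ hℓc _ (mk_lift D.F y)).2
    refine ⟨e, fun q hq => ?_⟩
    obtain ⟨d, hd⟩ := D.exists_zp (mk_lift D.F y) hq
    rw [hd, ← he]
    calc _ = ((LargeFischer.lift D.F y : Q) : Subgroup.centralizer ({z} : Set G)) * (zp z d * ℓ) * (zp z d)⁻¹ *
          ((LargeFischer.lift D.F y : Q) : Subgroup.centralizer ({z} : Set G))⁻¹ := by group
      _ = _ := by rw [← zp_comm d ℓ]; group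
  choose τ hτ using hex
  have hi : ∀ y, cd c y + y ∈ F0 := fun y => (D.move_ex hx M hℓ hℓc _ (mk_lift D.F y)).1
  have hadd : ∀ y y', cd c (y + y') + (y + y') = (cd c y + y) + (cd c y' + y') := fun y y' => by
    rw [(isLin_cd c).add]; abel
  have cancel : ∀ u a b, ℓ * (D.W x u : Subgroup.centralizer ({z} : Set G)) * zp z a =
      ℓ * (D.W x u : Subgroup.centralizer ({z} : Set G)) * zp z b → a = b := fun u a b e =>
    D.zp_inj (mul_left_cancel e)
  have h1 : ∀ y y', τ (y + y') = τ y + τ y' + bp y (cd c y' + y') := fun y y' => by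
    set a := LargeFischer.lift D.F y
    set a' := LargeFischer.lift D.F y'
    have e := hτ (y + y') (a * a') (by rw [QuotientGroup.mk_mul, mk_lift, mk_lift, D.F.map_add])
    rw [hadd, D.W_add hx M (hi y) (hi y')] at e
    refine D.zp_inj (mul_left_cancel (a := ℓ * ((D.W x (cd c y + y) * D.W x (cd c y' + y') : Q) : Subgroup.centralizer ({z} : Set G))) ?_)
    rw [← e, D.zp_add, D.zp_add]
    simp only [Subgroup.coe_mul]
    have ea := hτ y a (mk_lift D.F y)
    have ea' := hτ y' a' (mk_lift D.F y')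
    have ew := D.conj_sign (mk_lift D.F y) (D.W_coord hx (cd c y' + y'))
    have hz := zp_comm (z := z) (τ y')
    calc (a : Subgroup.centralizer ({z} : Set G)) * a' * ℓ * ((a : Subgroup.centralizer ({z} : Set G)) * a')⁻¹
        = (a : Subgroup.centralizer ({z} : Set G)) * ((a' : Subgroup.centralizer ({z} : Set G)) * ℓ * (a' : Subgroup.centralizer ({z} : Set G))⁻¹) * (a : Subgroup.centralizer ({z} : Set G))⁻¹ := by group
      _ = ((a : Subgroup.centralizer ({z} : Set G)) * ℓ * (a : Subgroup.centralizer ({z} : Set G))⁻¹) *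
            ((a : Subgroup.centralizer ({z} : Set G)) * (D.W x (cd c y' + y') : Subgroup.centralizer ({z} : Set G)) * (a : Subgroup.centralizer ({z} : Set G))⁻¹) *
            zp z (τ y') := by
          rw [ea', show (a : Subgroup.centralizer ({z} : Set G)) * (ℓ * (D.W x (cd c y' + y') : Subgroup.centralizer ({z} : Set G)) * zp z (τ y')) * (a : Subgroup.centralizer ({z} : Set G))⁻¹ =
            (a : Subgroup.centralizer ({z} : Set G)) * (ℓ * (D.W x (cd c y' + y') : Subgroup.centralizer ({z} : Set G))) * (zp z (τ y') * (a : Subgroup.centralizer ({z} : Set G))⁻¹) by group, ← hz]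
          group
      _ = ℓ * (D.W x (cd c y + y) : Subgroup.centralizer ({z} : Set G)) * (zp z (τ y) * (D.W x (cd c y' + y') : Subgroup.centralizer ({z} : Set G))) *
            (zp z (bp y (cd c y' + y')) * zp z (τ y')) := by rw [ea, ew]; group
      _ = _ := by rw [← zp_comm, ← zp_comm (bp y _)]; group
  have h2 : ∀ y, τ (sm 1 y) = τ y := fun y => by
    have hs : cd c (sm 1 y) + sm 1 y = sm 1 (cd c y + y) := by rw [hclin, sm_add]
    have e := hτ (sm 1 y) (MulAut.conjNormal x (LargeFischer.lift D.F y)) (by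
      rw [D.conj_coord (mk_lift D.F y), hx])
    rw [hs, ← D.W_smul hx] at e
    refine D.zp_inj (mul_left_cancel (a := ℓ * ((MulAut.conjNormal x (D.W x (cd c y + y)) : Q) : Subgroup.centralizer ({z} : Set G))) ?_)
    rw [← e]
    simp only [MulAut.conjNormal_apply]
    set a := ((LargeFischer.lift D.F y : Q) : Subgroup.centralizer ({z} : Set G))
    calc x * a * x⁻¹ * ℓ * (x * a * x⁻¹)⁻¹ = x * a * x⁻¹ * (x * ℓ * x⁻¹) * (x * a * x⁻¹)⁻¹ := by rw [hℓx]
      _ = x * (a * ℓ * a⁻¹) * x⁻¹ := by group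
      _ = (x * ℓ * x⁻¹) * (x * (D.W x (cd c y + y) : Subgroup.centralizer ({z} : Set G)) * (zp z (τ y) * x⁻¹)) := by
          rw [hτ y _ (mk_lift D.F y)]; group
      _ = _ := by rw [hℓx, ← zp_comm]; group
  have h0 : τ 0 = 0 := by
    have h := h1 0 0
    rw [add_zero, (isLin_cd c).zero, add_zero, bp_zero_right] at h
    exact (show ∀ p : ZMod 2, p = p + p + 0 → p = 0 by decide) _ h
  rw [hτ y q hq]
  congr 2
  have hss : sm 1 (sm 1 y) = sm 2 y := sm_sm 1 1 y
  have hτ2 : τ (sm 2 y) = τ y := by rw [← hss, h2, h2]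
  have hi2 : ∀ a, cd c (sm a y) + sm a y = sm a (cd c y + y) := fun a => by rw [hclin, sm_add]
  have hsum := h1 (y + sm 1 y) (sm 2 y)
  rw [sm_sum, h0, h1, h2, hτ2, hi2, hi2, bp_add_left] at hsum
  have hb : bp (sm 1 y) (sm 2 (cd c y + y)) = bp y (sm 1 (cd c y + y)) := by
    rw [← bp_sm_one y, sm_sm]; rfl
  rw [hb] at hsum
  exact (show ∀ a b d : ZMod 2, 0 = a + a + b + a + (d + b) → a = d by decide) _ _ _ hsum

end Data
end Cfsg.Agent.LargeFischer
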