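import Cfsg.Agent.LargeFischer.CodeOrbit

/-! Classes in a coset of the part inside `Q`. -/

set_option autoImplicit false
set_option maxRecDepth 20000
set_option Elab.async false

open Finset Cfsg Cfsg.Agent

namespace Cfsg.Agent.LargeFischer

theorem cd_kc_smul (c : Fin 16) (a : ZMod 3) (v : Vec6) : cd (kc c) (sm a v) = sm a (cd (kc c) v) :=
  (isLin_cd _).smul_all a v

theorem cd_zero_apply (v : Vec6) : cd (0, 0) v = v :=
  (congrArg (fun t => es (pr 0) (pm t v)) dp_zero.1).trans (es_zero v)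

theorem cd_ka (a b : Fin 16) (v : Vec6) : cd (kc a) (cd (kc b) v) = cd (kc (ka a b)) v :=
  IsLin.ext ((isLin_cd _).comp (isLin_cd _)) (isLin_cd _) (kc_ka a b) v

theorem kc_eq_of_act {a b : Fin 16} (h : ∀ v, cd (kc a) v = cd (kc b) v) : a = b := kc_inj a b fun _ => h _

namespace Data
namespace MaxData

variable {G : Type*} [Group G] [Finite G] {z : G}
  {Q : Subgroup (Subgroup.centralizer ({z} : Set G))} [Q.Normal] {D : Data z Q} (M : D.MaxData)
include M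

theorem exists_scalar3 : ∃ x : Subgroup.centralizer ({z} : Set G), x * x * x = 1 ∧ ∀ c, cact D.F x c = sm 1 c := by
  obtain ⟨m, -, hm⟩ := D.exists_scalar
  refine ⟨m * m * (m * m), ?_, fun c => by
    rw [cact_mul, cact_mul, cact_mul, hm, hm, hm, hm, sm_sm, sm_sm, sm_sm]; rfl⟩
  have hq : m * m * m ∈ Q := D.mem_Q_of_act fun c => by
    rw [cact_mul, cact_mul, hm, hm, hm, sm_sm, sm_sm, show (1 : ZMod 3) + 1 + 1 = 0 from rfl, sm_zero]
  have h4 : (⟨_, hq⟩ : Q) * ⟨_, hq⟩ * ((⟨_, hq⟩ : Q) * ⟨_, hq⟩) = 1 := by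
    rcases (center_iff D.b).1 (sq_mem D.b (⟨_, hq⟩ : Q)) with e | e
    · rw [e, one_mul]
    · exact Subtype.ext (by rw [Subgroup.coe_mul, e, zc_sq D.b]; rfl)
  have h4' := congrArg Subtype.val h4
  simp only [Subgroup.coe_mul, OneMemClass.coe_one] at h4'
  rw [← h4']
  group

theorem zp_mem_A (e : ZMod 2) : zp z e ∈ M.A := by
  unfold zp
  split_ifs
  · exact M.A.one_mem
  · exact M.zc_mem_A

variable {x : Subgroup.centralizer ({z} : Set G)} (hx : ∀ c, cact D.F x c = sm 1 c)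
include hx

theorem exists_fixed_lift (hx3 : x * x * x = 1) (c : Fin 16) :
    ∃ ℓ ∈ M.A, (∀ v, cact D.F ℓ v = cd (kc c) v) ∧ x * ℓ * x⁻¹ = ℓ := by
  have hxN := M.norm_scalar hx
  have hxA : ∀ {b}, b ∈ M.A → x * b * x⁻¹ ∈ M.A := fun {b} hb => (Subgroup.mem_normalizer_iff.1 hxN b).1 hb
  have hxi : ∀ c, cact D.F x⁻¹ c = sm 2 c := fun c => by
    refine cact_inj D.F x ?_
    rw [← cact_mul, mul_inv_cancel, cact_one, hx, sm_sm, show (1 : ZMod 3) + 2 = 0 from rfl, sm_zero]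
  obtain ⟨a0, ha0, ha0c⟩ := M.lift (kc c) (kc_isK c)
  have hq : a0⁻¹ * (x * a0 * x⁻¹) ∈ Q := D.mem_Q_of_act fun v => cact_inj D.F a0 (by
    rw [← cact_mul, mul_inv_cancel_left, cact_mul, cact_mul, ha0c, hxi, cd_kc_smul, hx, sm_sm,
      show (1 : ZMod 3) + 2 = 0 from rfl, sm_zero, ha0c])
  obtain ⟨d, hd, hdc⟩ := M.coord_of (mul_mem (inv_mem ha0) (hxA ha0)) hq
  set p := LargeFischer.lift D.F (sm 1 d)
  have hpA : (p : Subgroup.centralizer ({z} : Set G)) ∈ M.A := (M.mem_Q_iff (mk_lift D.F _)).2 (F0_sm hd 1)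
  set ℓ := a0 * (p : Subgroup.centralizer ({z} : Set G)) with hℓ
  refine ⟨ℓ, mul_mem ha0 hpA, fun v => by rw [hℓ, cact_mul, D.cact_Q p.2, ha0c], ?_⟩
  set δ : Q := (⟨_, hq⟩ : Q) * MulAut.conjNormal x p with hδ
  have hδc : (δ : ↥Q ⧸ Subgroup.center ↥Q) = (p : ↥Q ⧸ Subgroup.center ↥Q) := by
    rw [hδ, QuotientGroup.mk_mul, hdc, D.conj_coord (mk_lift D.F _), hx, sm_sm, ← D.F.map_add, mk_lift]
    congr 1
    funext i
    exact (show ∀ q : W4, q + omk (1 + 1) q = omk 1 q by decide) _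
  have hx' : x * ℓ * x⁻¹ = a0 * (δ : Subgroup.centralizer ({z} : Set G)) := by
    rw [hℓ, hδ]
    simp only [Subgroup.coe_mul, MulAut.conjNormal_apply]
    group
  rcases (center_iff D.b).1 (QuotientGroup.eq.1 hδc.symm) with e | e
  · rw [hx', ← inv_mul_eq_one.1 e]
  exfalso
  have e' : (δ : Subgroup.centralizer ({z} : Set G)) = (p : Subgroup.centralizer ({z} : Set G)) * zc z :=
    inv_mul_eq_iff_eq_mul.1 (by simpa using e)
  rw [e', ← mul_assoc a0, ← hℓ] at hx'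
  have h3 : x * (x * (x * ℓ * x⁻¹) * x⁻¹) * x⁻¹ = ℓ * (zc z * zc z * zc z) := by
    have hstep : ∀ r, x * (r * zc z) * x⁻¹ = x * r * x⁻¹ * zc z := fun r => by
      calc x * (r * zc z) * x⁻¹ = x * r * x⁻¹ * (x * zc z * x⁻¹) := by group
        _ = _ := by rw [D.zc_comm x, mul_inv_cancel_right]
    rw [hx', hstep, hx', hstep, hstep, hx']
    group
  rw [show x * (x * (x * ℓ * x⁻¹) * x⁻¹) * x⁻¹ = (x * x * x) * ℓ * (x * x * x)⁻¹ by group, hx3, zc_sq D.b, one_mul,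
    one_mul, inv_one, mul_one, left_eq_mul] at h3
  exact zc_ne_one D.b h3

omit hx M in
/-- the element with given coordinates -/
noncomputable def elt (D : Data z Q) (x ℓ : Subgroup.centralizer ({z} : Set G)) (u : Vec6) (e : ZMod 2) :
    Subgroup.centralizer ({z} : Set G) :=
  ℓ * (D.W x u : Subgroup.centralizer ({z} : Set G)) * zp z e

omit hx M in
/-- conjugates of `z` -/
def TT (a : Subgroup.centralizer ({z} : Set G)) : Prop := ¬IsConj z (a : G)

omit hx M in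
theorem TT_conj (a h : Subgroup.centralizer ({z} : Set G)) : TT (h * a * h⁻¹) ↔ TT a :=
  not_congr ⟨fun e => e.trans (isConj_iff.2 ⟨(h : G)⁻¹, by simp [mul_assoc]⟩),
    fun e => e.trans (isConj_iff.2 ⟨(h : G), by simp⟩)⟩

variable {ℓ : Subgroup.centralizer ({z} : Set G)} {c : Fin 16} (hℓ : ℓ ∈ M.A)
  (hℓc : ∀ v, cact D.F ℓ v = cd (kc c) v)
include hℓ

theorem el_mem {u : Vec6} (hu : u ∈ F0) (e : ZMod 2) : elt D x ℓ u e ∈ M.A :=
  mul_mem (mul_mem hℓ (D.W_mem hx M hu)) (M.zp_mem_A e)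

omit M hℓ in
theorem cact_el (u : Vec6) (e : ZMod 2) (v : Vec6) : cact D.F (elt D x ℓ u e) v = cact D.F ℓ v := by
  rw [elt, cact_mul, cact_mul, D.cact_Q (D.zp_mem_Q e), D.cact_Q (D.W x u).2]

include hℓc

theorem el_inj {u u' : Vec6} {e e' : ZMod 2} (h : elt D x ℓ u e = elt D x ℓ u' e') : u = u' ∧ e = e' := by
  simp only [elt, mul_assoc] at h
  have h' := mul_left_cancel h
  set q : Q := D.W x u * ⟨_, D.zp_mem_Q e⟩
  set q' : Q := D.W x u' * ⟨_, D.zp_mem_Q e'⟩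
  have hq : q = q' := Subtype.ext h'
  have hz : ∀ e : ZMod 2, ((⟨_, D.zp_mem_Q e⟩ : Q) : ↥Q ⧸ Subgroup.center ↥Q) = 1 := fun e =>
    (QuotientGroup.eq_one_iff _).2 ((center_iff D.b).2 (by
      rcases (show ∀ a : ZMod 2, a = 0 ∨ a = 1 by decide) e with rfl | rfl
      · exact Or.inl (Subtype.ext zp_zero)
      · exact Or.inr zp_one))
  have hc := congrArg (fun q : Q => (q : ↥Q ⧸ Subgroup.center ↥Q)) hq
  simp only [q, q', QuotientGroup.mk_mul, D.W_coord hx, hz, mul_one] at hc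
  obtain rfl := D.F.bij.1 hc
  exact ⟨rfl, D.zp_inj (mul_left_cancel h')⟩

theorem el_surj {a : Subgroup.centralizer ({z} : Set G)} (ha : a ∈ M.A) (hac : ∀ v, cact D.F a v = cd (kc c) v) :
    ∃ n : Fin 64, ∃ e, elt D x ℓ (uv n) e = a := by
  have hq : ℓ⁻¹ * a ∈ Q := D.mem_Q_of_act fun v => cact_inj D.F ℓ (by
    rw [← cact_mul, mul_inv_cancel_left, hac, hℓc])
  obtain ⟨u, hu, huc⟩ := M.coord_of (mul_mem (inv_mem hℓ) ha) hq
  obtain ⟨n, hn, rfl⟩ := uv_surj hu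
  obtain ⟨e, he⟩ := D.exists_zp (D.W_coord hx (uv n)) huc
  refine ⟨⟨n, hn⟩, e, ?_⟩
  rw [elt, mul_assoc, ← he]
  simp

theorem el_move (hℓx : x * ℓ * x⁻¹ = ℓ) (y u : Vec6) (e : ZMod 2) (hu : u ∈ F0) :
    TT (elt D x ℓ (cd (kc c) y + y + u) (bp y (sm 2 (cd (kc c) y + y)) + bp y u + e)) ↔ TT (elt D x ℓ u e) := by
  set q := LargeFischer.lift D.F y
  have hm := D.move hx M hℓ hℓc (cd_kc_smul c) hℓx q (mk_lift D.F y)
  have hi := (D.move_ex hx M hℓ hℓc q (mk_lift D.F y)).1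
  rw [← TT_conj (elt D x ℓ u e) (q : Subgroup.centralizer ({z} : Set G))]
  refine iff_of_eq (congrArg _ ?_)
  have hw := D.conj_sign (mk_lift D.F y) (D.W_coord hx u)
  simp only [elt, D.W_add hx M hi hu, D.zp_add, Subgroup.coe_mul]
  set A1 := (D.W x (cd (kc c) y + y) : Subgroup.centralizer ({z} : Set G))
  set A2 := (D.W x u : Subgroup.centralizer ({z} : Set G))
  set τ := bp y (sm 2 (cd (kc c) y + y))
  symm
  calc (q : Subgroup.centralizer ({z} : Set G)) * (ℓ * A2 * zp z e) * (q : Subgroup.centralizer ({z} : Set G))⁻¹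
      = ((q : Subgroup.centralizer ({z} : Set G)) * ℓ * (q : Subgroup.centralizer ({z} : Set G))⁻¹) *
        ((q : Subgroup.centralizer ({z} : Set G)) * A2 * (zp z e * (q : Subgroup.centralizer ({z} : Set G))⁻¹)) := by group
    _ = ((q : Subgroup.centralizer ({z} : Set G)) * ℓ * (q : Subgroup.centralizer ({z} : Set G))⁻¹) *
        ((q : Subgroup.centralizer ({z} : Set G)) * A2 * (q : Subgroup.centralizer ({z} : Set G))⁻¹) * zp z e := by
      rw [← zp_comm]; group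
    _ = ℓ * A1 * (zp z τ * A2) * (zp z (bp y u) * zp z e) := by rw [hm, hw]; group
    _ = _ := by rw [← zp_comm]; group

theorem el_scal (hℓx : x * ℓ * x⁻¹ = ℓ) (k : ZMod 3) (u : Vec6) (e : ZMod 2) :
    TT (elt D x ℓ (sm k u) e) ↔ TT (elt D x ℓ u e) := by
  have h1 : ∀ u, TT (elt D x ℓ (sm 1 u) e) ↔ TT (elt D x ℓ u e) := fun u => by
    rw [← TT_conj (elt D x ℓ u e) x]
    refine iff_of_eq (congrArg _ ?_)
    simp only [elt, ← D.W_smul hx, MulAut.conjNormal_apply]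
    set A2 := (D.W x u : Subgroup.centralizer ({z} : Set G))
    calc ℓ * (x * A2 * x⁻¹) * zp z e = (x * ℓ * x⁻¹) * (x * A2 * x⁻¹) * zp z e := by rw [hℓx]
      _ = x * ℓ * A2 * (x⁻¹ * zp z e) := by group
      _ = _ := by rw [zp_comm]; group
  rcases (show ∀ k : ZMod 3, k = 0 ∨ k = 1 ∨ k = 2 by decide) k with rfl | rfl | rfl
  · rw [sm_zero]
  · exact h1 u
  · rw [show sm 2 u = sm 1 (sm 1 u) from (sm_sm 1 1 u).symm, h1, h1]

/-- the three unknowns decide the coset -/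
theorem TT_el_iff (hc : c ≠ 0) (hℓx : x * ℓ * x⁻¹ = ℓ) (n : Fin 64) (e : ZMod 2) :
    TT (elt D x ℓ (uv n) e) ↔ tfun c (@decide (TT (elt D x ℓ 0 0)) (_root_.Classical.propDecidable _)) (@decide (TT (elt D x ℓ 0 1)) (_root_.Classical.propDecidable _))
      (@decide (TT (elt D x ℓ (uv (rr c)) 0)) (_root_.Classical.propDecidable _)) n e = true := by
  have hp : ∀ p ∈ sigL c, ∀ u ∈ F0, ∀ e, TT (elt D x ℓ (uv p.2.1 + u) (p.2.2 + bp (vecN p.1) u + e)) ↔
      TT (elt D x ℓ u e) := fun p hp u hu e => by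
    obtain ⟨-, h2, h3⟩ := sig_move c hc p hp
    have h2' : cd (kc c) (vecN p.1) + vecN p.1 = uv p.2.1 := funext fun i => h2 i
    rw [← M.el_move hx hℓ hℓc hℓx (vecN p.1) u e hu, h2', h3]
  have h0 : ∀ p ∈ sigL c, ∀ e, TT (elt D x ℓ (uv p.2.1) (p.2.2 + e)) ↔ TT (elt D x ℓ 0 e) := fun p hp' e => by
    rw [← hp p hp' 0 F0.zero_mem e, add_zero, bp_zero_right, add_zero]
  have hsw : ∀ e, TT (elt D x ℓ (uv (rr c)) (1 + e)) ↔ TT (elt D x ℓ (uv (rr c)) e) := fun e => by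
    obtain ⟨h1, h2⟩ := yk_facts c hc
    have h := M.el_move hx hℓ hℓc hℓx (vecN (yk c)) (uv (rr c)) e (uv_mem _)
    rw [show cd (kc c) (vecN (yk c)) + vecN (yk c) = 0 from by
      rw [show cd (kc c) (vecN (yk c)) = vecN (yk c) from funext fun i => h1 i]; exact add_self6 _, zero_add, h2,
      show sm 2 (0 : Vec6) = 0 from funext fun _ => rfl, bp_zero_right, zero_add] at h
    exact h
  classical
  unfold tfun
  simp only [List.any_eq_true, Bool.and_eq_true, beq_iff_eq]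
  split_ifs with ha hb
  · obtain ⟨p, hp', e1, rfl⟩ := ha
    rw [decide_eq_true_eq, ← h0 p hp' 0, e1, add_zero]
  · obtain ⟨p, hp', e1⟩ := hb
    have e2 : e = p.2.2 + 1 := by
      have h : p.2.2 ≠ e := fun h => ha ⟨p, hp', e1, h⟩
      exact (show ∀ a e : ZMod 2, a ≠ e → e = a + 1 by decide) _ _ h
    rw [decide_eq_true_eq, ← h0 p hp' 1, e1, e2]
  · rcases rr_cover c hc n with ⟨p, hp', e1⟩ | ⟨k, p, hp', e1⟩
    · exact absurd ⟨p, hp', e1⟩ hb
    rw [decide_eq_true_eq]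
    have e1' : uv n = sm k (uv (rr c)) + uv p.2.1 := funext fun i => e1 i
    rw [e1', add_comm]
    have hu := F0_sm (uv_mem (rr c)) k
    have h := hp p hp' _ hu (e + (p.2.2 + bp (vecN p.1) (sm k (uv (rr c)))))
    rw [show p.2.2 + bp (vecN p.1) (sm k (uv (rr c))) + (e + (p.2.2 + bp (vecN p.1) (sm k (uv (rr c))))) = e from
      (show ∀ a b : ZMod 2, a + (b + a) = b by decide) _ e] at h
    rw [h, M.el_scal hx hℓ hℓc hℓx]
    rcases (show ∀ a : ZMod 2, a = 0 ∨ a = 1 + 0 by decide)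
      (e + (p.2.2 + bp (vecN p.1) (sm k (uv (rr c))))) with e2 | e2 <;> rw [e2]
    exact hsw 0

end MaxData
end Data
end Cfsg.Agent.LargeFischer
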