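import Cfsg.Agent.LargeFischer.Orbits
import Cfsg.Agent.LargeExtra.Singular
import Cfsg.Agent.LargeExtra.SingularSubgroup

/-! Classes of involutions of `Q`. -/

set_option autoImplicit false
set_option maxRecDepth 20000
set_option Elab.async false

open Finset Cfsg Cfsg.Agent

namespace Cfsg.Agent.LargeFischer

variable {G : Type*} [Group G] [Finite G] {z : G}
  {Q : Subgroup (Subgroup.centralizer ({z} : Set G))} [Q.Normal]
  {M : Subgroup (Subgroup.centralizer ({z} : Set G))}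

/-- All the data. -/
structure Data (z : G) (Q : Subgroup (Subgroup.centralizer ({z} : Set G))) [Q.Normal] where
  b : Basic z Q
  /-- the subgroup of index two -/
  M : Subgroup (Subgroup.centralizer ({z} : Set G))
  norm : M.Normal
  hind : Q.index = 19595520
  /-- the frame -/
  F : Frame6 (actV Q) M
  /-- the parameter of the two orbits -/
  c : ZMod 3
  orb_iff : ∀ v : Vec6, v ≠ 0 → par v = 0 → ∀ w : Vec6,
    w ∈ orb F v ↔ (w ≠ 0 ∧ par w = 0 ∧ (InA c w ↔ InA c v))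

theorem exists_data (hF : IsOfLargeFischerTypeAt z Q) : Nonempty (Data z Q) := by
  have b := basic_of hF.1
  obtain ⟨M, hMn, hind, hM, ⟨F⟩⟩ := exists_frame hF
  obtain ⟨c, hc⟩ := exists_halves b F hind hM
  exact ⟨⟨b, M, hMn, hind, F, c, hc⟩⟩

namespace Data

variable (D : Data z Q)
include D

theorem mover {x : Q} (hx : x ∉ Subgroup.center ↥Q) :
    ∃ q : Q, q * x * q⁻¹ = ⟨zc z, zc_mem D.b⟩ * x := by
  obtain ⟨y, hy⟩ : ∃ y : Q, y * x * y⁻¹ * x⁻¹ ≠ 1 := by
    by_contra h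
    push Not at h
    exact hx (Subgroup.mem_center_iff.2 fun y => commutatorElement_eq_one_iff_mul_comm.1 (h y))
  refine ⟨y, ?_⟩
  rcases (center_iff D.b).1 (comm_mem D.b y x) with h | h
  · exact absurd h hy
  · rw [← mul_inv_eq_iff_eq_mul]
    exact Subtype.ext h

/-- elements of `Q` in one class are conjugate -/
theorem class_conj {x y : Q} (hx : x ∉ Subgroup.center ↥Q)
    (h : (x : ↥Q ⧸ Subgroup.center ↥Q) = y) : ∃ q : Q, q * x * q⁻¹ = y := by
  rcases (center_iff D.b).1 (QuotientGroup.eq.1 h) with e | e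
  · exact ⟨1, by rw [inv_mul_eq_one] at e; simp [e]⟩
  · obtain ⟨q, hq⟩ := D.mover hx
    refine ⟨q, ?_⟩
    rw [hq]
    have e' : x⁻¹ * y = ⟨zc z, zc_mem D.b⟩ := Subtype.ext e
    rw [inv_mul_eq_iff_eq_mul] at e'
    rw [e']
    exact (Subgroup.mem_center_iff.1 ((center_iff D.b).2 (Or.inr rfl)) x).symm

theorem notMem_center {x : Q} {v : Vec6} (h : (x : ↥Q ⧸ Subgroup.center ↥Q) = D.F.co v) (hv : v ≠ 0) :
    x ∉ Subgroup.center ↥Q := fun hx => hv (D.F.bij.1 (by
  rw [← h, co_zero D.b D.F]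
  exact (QuotientGroup.eq_one_iff _).2 hx))

theorem orbit_conj {v w : Vec6} (h : w ∈ orb D.F v) (hw : w ≠ 0) {x y : Q}
    (hx : (x : ↥Q ⧸ Subgroup.center ↥Q) = D.F.co v) (hy : (y : ↥Q ⧸ Subgroup.center ↥Q) = D.F.co w) :
    ∃ g : Subgroup.centralizer ({z} : Set G), g * (x : Subgroup.centralizer ({z} : Set G)) * g⁻¹ = y := by
  obtain ⟨m, -, hm⟩ := (mem_orb D.F).1 h
  have h1 : ((MulAut.conjNormal m x : Q) : ↥Q ⧸ Subgroup.center ↥Q) = D.F.co w := by
    rw [← actV_mk, hx, ← co_cact, hm]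
  obtain ⟨q, hq⟩ := D.class_conj (D.notMem_center h1 hw) (h1.trans hy.symm)
  refine ⟨q * m, ?_⟩
  have := congrArg Subtype.val hq
  simp only [Subgroup.coe_mul, Subgroup.coe_inv, MulAut.conjNormal_apply] at this
  rw [← this]
  group

theorem inA_conj {x y : Q} {v w : Vec6} (hx : (x : ↥Q ⧸ Subgroup.center ↥Q) = D.F.co v)
    (hy : (y : ↥Q ⧸ Subgroup.center ↥Q) = D.F.co w) (hv : v ≠ 0) (hp : par v = 0)
    {g : Subgroup.centralizer ({z} : Set G)}
    (hg : g * (x : Subgroup.centralizer ({z} : Set G)) * g⁻¹ = y) : InA D.c w ↔ InA D.c v := by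
  have h1 : MulAut.conjNormal g x = y := Subtype.ext hg
  have h2 : cact D.F g v = w := cact_eq D.F (by rw [← hx, actV_mk, h1, hy])
  rw [← h2]
  have := D.norm
  exact inA_cact D.b D.F D.hind D.orb_iff g hv hp

theorem mem_class {x : Subgroup.centralizer ({z} : Set G)} (hxQ : x ∈ Q) (h2 : (x : G) * x = 1)
    (h1 : (x : G) ≠ 1) (hz : (x : G) ≠ z) :
    ∃ v, v ≠ 0 ∧ par v = 0 ∧ ((⟨x, hxQ⟩ : Q) : ↥Q ⧸ Subgroup.center ↥Q) = D.F.co v := by
  obtain ⟨v, hv⟩ := D.F.bij.2 ((⟨x, hxQ⟩ : Q) : ↥Q ⧸ Subgroup.center ↥Q)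
  refine ⟨v, fun e => ?_, (sq_iff D.b D.F hv.symm).1 (Subtype.ext (Subtype.ext h2)), hv.symm⟩
  rw [e, co_zero D.b D.F] at hv
  rcases (center_iff D.b).1 ((QuotientGroup.eq_one_iff _).1 hv.symm) with h | h
  · exact h1 (congrArg (fun q : Q => ((q : Subgroup.centralizer ({z} : Set G)) : G)) h)
  · exact hz (congrArg Subtype.val h)

theorem lift_props {v : Vec6} (hv : v ≠ 0) (hp : par v = 0) :
    orderOf (lift D.F v : Subgroup.centralizer ({z} : Set G)) = 2 ∧
      ((lift D.F v : Subgroup.centralizer ({z} : Set G)) : G) ≠ z := by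
  have hc := D.notMem_center (mk_lift D.F v) hv
  have h2 : lift D.F v * lift D.F v = 1 := (sq_iff D.b D.F (mk_lift D.F v)).2 hp
  refine ⟨orderOf_eq_prime ?_ ?_, fun h => hc ((center_iff D.b).2 (Or.inr (Subtype.ext h)))⟩
  · rw [sq]; exact congrArg Subtype.val h2
  · intro h
    exact hc (by rw [show lift D.F v = 1 from Subtype.ext h]; exact Subgroup.one_mem _)

/-- the two orbits on involutions -/
theorem two_orbits : ∃ s t : Subgroup.centralizer ({z} : Set G), s ∈ Q ∧ t ∈ Q ∧ orderOf s = 2 ∧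
    orderOf t = 2 ∧ (s : G) ≠ z ∧ (t : G) ≠ z ∧
    (¬ ∃ h : Subgroup.centralizer ({z} : Set G), h * s * h⁻¹ = t) ∧
    ∀ x : Subgroup.centralizer ({z} : Set G), x ∈ Q → orderOf x = 2 → (x : G) ≠ z →
      (∃ h : Subgroup.centralizer ({z} : Set G), h * s * h⁻¹ = x) ∨
        ∃ h : Subgroup.centralizer ({z} : Set G), h * t * h⁻¹ = x := by
  have h0 : srep 0 ≠ 0 ∧ par (srep 0) = 0 ∧ srep 1 ≠ 0 ∧ par (srep 1) = 0 := by decide +kernel
  obtain ⟨a0, a1, b0, b1⟩ := h0
  have hA0 : InA D.c (srep 0) := Or.inl (sc_srep 0)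
  have hA1 : ¬InA D.c (srep 1) := by
    rw [inA_iff D.c (sc_srep 1)]
    exact (show ∀ c : ZMod 3, ¬halfA c 1 = true by decide +kernel) D.c
  obtain ⟨o1, z1⟩ := D.lift_props a0 a1
  obtain ⟨o2, z2⟩ := D.lift_props b0 b1
  refine ⟨_, _, (lift D.F (srep 0)).2, (lift D.F (srep 1)).2, o1, o2, z1, z2, ?_, ?_⟩
  · rintro ⟨g, hg⟩
    exact hA1 ((D.inA_conj (mk_lift D.F _) (mk_lift D.F _) a0 a1 hg).2 hA0)
  · intro x hxQ hx hxz
    have hx2 : x * x = 1 := by rw [← sq, ← hx, pow_orderOf_eq_one]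
    have hx1 : (x : G) ≠ 1 := fun h => by
      rw [show x = 1 from Subtype.ext h, orderOf_one] at hx; omega
    obtain ⟨v, hv, hp, hmk⟩ := D.mem_class hxQ (congrArg Subtype.val hx2) hx1 hxz
    by_cases hA : InA D.c v
    · exact Or.inl (D.orbit_conj ((D.orb_iff _ a0 a1 v).2 ⟨hv, hp, iff_of_true hA hA0⟩) hv (mk_lift D.F _) hmk)
    · exact Or.inr (D.orbit_conj ((D.orb_iff _ b0 b1 v).2 ⟨hv, hp, iff_of_false hA hA1⟩) hv (mk_lift D.F _) hmk)

theorem oc_eq : LargeExtra.oc z = Q.map (Subgroup.centralizer ({z} : Set G)).subtype := by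
  rw [LargeExtra.oc]
  congr 1
  refine le_antisymm ?_ (Core.le_pCore D.b.es.1.1)
  calc pCore 2 _ ≤ fittingSubgroup _ := Core.pCore_le_fittingSubgroup 2
    _ ≤ generalizedFittingSubgroup _ := Layer.fitting_le_generalizedFitting
    _ = Q := D.b.fstar

theorem setting : LargeExtra.Setting z := by
  refine ⟨D.b.hz, ?_, fun c hc => ?_⟩
  · rw [D.oc_eq]
    exact LargeExtra.extraspecial_congr (Q.equivMapOfInjective _ (Subgroup.subtype_injective _)) D.b.es
  · rw [D.oc_eq] at hc ⊢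
    have hcC : c ∈ Subgroup.centralizer ({z} : Set G) := Subgroup.mem_centralizer_singleton_iff.2
      (Subgroup.mem_centralizer_iff.1 hc z ⟨zc z, zc_mem D.b, rfl⟩).symm
    exact ⟨⟨c, hcC⟩, cent_le D.b fun q hq =>
      Subtype.ext (Subgroup.mem_centralizer_iff.1 hc _ ⟨q, hq, rfl⟩).symm, rfl⟩

/-- `O₂(C(z))` in `G` -/
theorem mem_oc_iff {x : G} : x ∈ LargeExtra.oc z ↔ ∃ q : Q, ((q : Subgroup.centralizer ({z} : Set G)) : G) = x := by
  rw [D.oc_eq, Subgroup.mem_map]
  exact ⟨fun ⟨a, ha, e⟩ => ⟨⟨a, ha⟩, e⟩, fun ⟨q, e⟩ => ⟨q, q.2, e⟩⟩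

theorem card_oc : Nat.card ↥(LargeExtra.oc z) = 2 ^ 13 := by
  rw [D.oc_eq, ← Nat.card_congr (Q.equivMapOfInjective _ (Subgroup.subtype_injective _)).toEquiv, D.b.card]

/-- A conjugate of `z` in `Q` is not in the class of weight two. -/
theorem not_conj_rep {g : G} {x : Q} (hg : g * z * g⁻¹ = ((x : Subgroup.centralizer ({z} : Set G)) : G))
    (hx : (x : ↥Q ⧸ Subgroup.center ↥Q) = D.F.co (srep 0)) : False := by
  classical
  have S := D.setting
  have hxo : g * z * g⁻¹ ∈ LargeExtra.oc z := D.mem_oc_iff.2 ⟨x, hg.symm⟩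
  have hzx : z ∈ LargeExtra.oc (g * z * g⁻¹) := S.symm hxo
  -- the elements of `Q` lying in the conjugate of `Q`
  have hU2 : ∀ u : Q, ((u : Subgroup.centralizer ({z} : Set G)) : G) ∈ LargeExtra.oc (g * z * g⁻¹) →
      u * u = 1 := by
    intro u hu
    by_contra h
    rcases (center_iff D.b).1 (sq_mem D.b u) with e | e
    · exact h e
    have huu : ((u : Subgroup.centralizer ({z} : Set G)) : G) * u = z := congrArg Subtype.val e
    have h1 := LargeExtra.conj_mem_oc (g := g⁻¹) hu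
    rw [show g⁻¹ * (g * z * g⁻¹) * g⁻¹⁻¹ = z by group] at h1
    obtain ⟨q, hq⟩ := D.mem_oc_iff.1 h1
    have hqq : ((q : Subgroup.centralizer ({z} : Set G)) : G) * q = g⁻¹ * z * g := by
      rw [hq]
      calc _ = g⁻¹ * (((u : Subgroup.centralizer ({z} : Set G)) : G) * u) * g := by group
        _ = _ := by rw [huu]
    rcases (center_iff D.b).1 (sq_mem D.b q) with e' | e'
    · have h2 : g⁻¹ * z * g = 1 :=
        hqq.symm.trans (congrArg (fun q : Q => ((q : Subgroup.centralizer ({z} : Set G)) : G)) e')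
      exact LargeExtra.Setting.ne_one S (by
        calc z = g * (g⁻¹ * z * g) * g⁻¹ := by group
          _ = 1 := by rw [h2]; group)
    · have h2 : g⁻¹ * z * g = z := hqq.symm.trans (congrArg Subtype.val e')
      have h3 : g * z * g⁻¹ = z := by
        calc g * z * g⁻¹ = g * (g⁻¹ * z * g) * g⁻¹ := by rw [h2]
          _ = z := by group
      exact (D.notMem_center hx (by decide +kernel))
        ((center_iff D.b).2 (Or.inr (Subtype.ext (hg.symm.trans h3))))
  -- classes of these elements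
  let img : Set Vec6 := {v | ∃ u : Q,
    ((u : Subgroup.centralizer ({z} : Set G)) : G) ∈ LargeExtra.oc (g * z * g⁻¹) ∧
      (u : ↥Q ⧸ Subgroup.center ↥Q) = D.F.co v}
  have hpar : ∀ v ∈ img, par v = 0 := fun v ⟨u, hu, hv⟩ => (sq_iff D.b D.F hv).1 (hU2 u hu)
  have hadd : ∀ v ∈ img, ∀ w ∈ img, v + w ∈ img := fun v ⟨u, hu, hv⟩ w ⟨u', hu', hw⟩ =>
    ⟨u * u', mul_mem hu hu', by rw [QuotientGroup.mk_mul, hv, hw, D.F.map_add]⟩
  have hdiag : ∀ v ∈ img, ∀ i j : Fin 6, 2 ≤ (i : ℕ) → 2 ≤ (j : ℕ) → i ≠ j →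
      dg (Pi.single i 1 + Pi.single j 2) v ∈ img := by
    rintro v ⟨u, hu, hv⟩ i j hi hj hij
    obtain ⟨m, -, hm⟩ := D.F.diag (Pi.single i 1 + Pi.single j 2) (by
      simp only [Pi.add_apply, sum_add_distrib, Finset.sum_pi_single', mem_univ, if_true]; rfl)
    have hfix : dg (Pi.single i 1 + Pi.single j 2) (srep 0) = srep 0 := by
      funext k
      by_cases hk : (k : ℕ) < 2
      · have h1 : k ≠ i := fun e => by rw [e] at hk; omega
        have h2 : k ≠ j := fun e => by rw [e] at hk; omega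
        simp [dg, h1, h2, omk_facts.2.2.2]
      · have : srep 0 k = 0 := if_neg hk
        rw [dg, this, (omk_facts.1 _ _).2 rfl]
    have h1 : ((MulAut.conjNormal m x : Q) : ↥Q ⧸ Subgroup.center ↥Q) = D.F.co (srep 0) := by
      rw [← actV_mk, hx, hm, hfix]
    obtain ⟨q, hq⟩ := D.class_conj (D.notMem_center h1 (by decide +kernel)) (h1.trans hx.symm)
    set k : Subgroup.centralizer ({z} : Set G) := (q : Subgroup.centralizer ({z} : Set G)) * m with hk
    have hkx : k * (x : Subgroup.centralizer ({z} : Set G)) * k⁻¹ = x := by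
      have := congrArg Subtype.val hq
      simp only [Subgroup.coe_mul, Subgroup.coe_inv, MulAut.conjNormal_apply] at this
      rw [hk]
      conv_rhs => rw [← this]
      group
    have hkc : (k : G) ∈ Subgroup.centralizer ({g * z * g⁻¹} : Set G) := by
      rw [Subgroup.mem_centralizer_singleton_iff, hg]
      exact congrArg Subtype.val (mul_inv_eq_iff_eq_mul.1 hkx)
    refine ⟨MulAut.conjNormal k u, LargeExtra.oc_conj_mem hkc hu, ?_⟩
    rw [← actV_mk, hk, map_mul, MulAut.mul_apply, hv, hm,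
      show actV Q (q : Subgroup.centralizer ({z} : Set G)) = 1 from
        MonoidHom.mem_ker.1 (by rw [actV_ker D.b]; exact q.2)]
    rfl
  -- supports
  have hsupp : ∀ v ∈ img, ∀ i : Fin 6, 2 ≤ (i : ℕ) → v i = 0 := by
    intro v hv i hi
    by_contra h0
    have step : ∀ w ∈ img, ∀ j : Fin 6, 2 ≤ (j : ℕ) → i ≠ j → w i ≠ 0 →
        w j ≠ 0 ∧ ∃ w' ∈ img, w' i ≠ 0 ∧ ∀ k, k ≠ i → k ≠ j → w' k = 0 := by
      intro w hw j hj hij hwi
      have hmem := hadd _ hw _ (hdiag w hw i j hi hj hij)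
      have hval : ∀ k, (w + dg (Pi.single i 1 + Pi.single j 2) w) k =
          if k = i then w k + omk 1 (w k) else if k = j then w k + omk 2 (w k) else 0 := by
        intro k
        simp only [Pi.add_apply, dg, Pi.single_apply]
        by_cases h1 : k = i
        · subst h1; simp [hij]
        by_cases h2 : k = j
        · subst h2; simp [h1]
        simp only [h1, h2, if_false, add_zero, omk_facts.2.2.2]
        exact (show ∀ p : W4, p + p = 0 by decide) _
      have hne : ∀ p : W4, p ≠ 0 → p + omk 1 p ≠ 0 := by decide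
      refine ⟨fun hwj => ?_, _, hmem, ?_, fun k hk hk' => by rw [hval, if_neg hk, if_neg hk']⟩
      · have hp := hpar _ hmem
        have e : w + dg (Pi.single i 1 + Pi.single j 2) w = Pi.single i (w i + omk 1 (w i)) := by
          funext k
          rw [hval]
          by_cases h1 : k = i
          · subst h1; simp
          · rw [if_neg h1, Pi.single_eq_of_ne h1]
            by_cases h2 : k = j
            · subst h2; rw [if_pos rfl, hwj]; decide
            · rw [if_neg h2]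
        rw [e] at hp
        exact hne _ hwi ((show ∀ (k : Fin 6) (p : W4), par (Pi.single k p) = 0 → p = 0 by decide +kernel) _ _ hp)
      · rw [hval, if_pos rfl]; exact hne _ hwi
    obtain ⟨j, k, hj, hk, hij, hik, hjk⟩ : ∃ j k : Fin 6, 2 ≤ (j : ℕ) ∧ 2 ≤ (k : ℕ) ∧ i ≠ j ∧ i ≠ k ∧ j ≠ k :=
      (show ∀ i : Fin 6, ∃ j k : Fin 6, 2 ≤ (j : ℕ) ∧ 2 ≤ (k : ℕ) ∧ i ≠ j ∧ i ≠ k ∧ j ≠ k by decide) i
    obtain ⟨-, w, hw, hwi, hw0⟩ := step v hv j hj hij h0
    exact (step w hw k hk hik hwi).1 (hw0 k (Ne.symm hik) (Ne.symm hjk))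
  have hzero : ∀ v ∈ img, v 0 = 0 → v = 0 := by
    intro v hv h0
    have e : v = Pi.single 1 (v 1) := by
      funext k
      by_cases h1 : k = 1
      · subst h1; simp
      rw [Pi.single_eq_of_ne h1]
      by_cases h2 : k = 0
      · subst h2; exact h0
      · exact hsupp v hv k (by
          rcases k with ⟨k, hk⟩
          simp only [ne_eq, Fin.ext_iff] at h1 h2
          simp at h1 h2 ⊢
          omega)
    have hp := hpar v hv
    rw [e] at hp
    rw [e, (show ∀ (k : Fin 6) (p : W4), par (Pi.single k p) = 0 → p = 0 by decide +kernel) _ _ hp,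
      Pi.single_zero]
  -- orders
  have hzmem := LargeExtra.conj_mem_oc (g := g⁻¹) hzx
  rw [show g⁻¹ * (g * z * g⁻¹) * g⁻¹⁻¹ = z by group, inv_inv] at hzmem
  obtain ⟨w, hw⟩ := D.mem_oc_iff.1 hzmem
  let C : Subgroup ↥Q := Subgroup.centralizer {w}
  have hC : 2 ^ 12 ≤ Nat.card ↥C := by
    let cm : ↥Q →* ↥(Subgroup.center ↥Q) := MonoidHom.mk' (fun q => ⟨w * q * w⁻¹ * q⁻¹, comm_mem D.b w q⟩)
      fun p q => Subtype.ext (comm_mul_right D.b w p q)
    have hker : cm.ker = C := by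
      ext q
      rw [MonoidHom.mem_ker, Subgroup.mem_centralizer_singleton_iff, ← Subtype.coe_inj]
      exact commutatorElement_eq_one_iff_mul_comm.trans eq_comm
    have h1 := cm.ker.card_mul_index
    rw [Subgroup.index_ker, hker, D.b.card] at h1
    have h2 := Subgroup.card_le_card_group cm.range
    rw [D.b.es.2] at h2
    nlinarith [Nat.mul_le_mul (le_refl (Nat.card ↥C)) h2]
  have hcH : ∀ q : C, g * (((q : Q) : Subgroup.centralizer ({z} : Set G)) : G) * g⁻¹ ∈
      Subgroup.centralizer ({z} : Set G) := by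
    intro q
    rw [Subgroup.mem_centralizer_singleton_iff]
    have h := congrArg (fun q : Q => ((q : Subgroup.centralizer ({z} : Set G)) : G))
      (Subgroup.mem_centralizer_singleton_iff.1 q.2)
    simp only [Subgroup.coe_mul, hw] at h
    set a := (((q : Q) : Subgroup.centralizer ({z} : Set G)) : G)
    calc g * a * g⁻¹ * z = g * (a * (g⁻¹ * z * g)) * g⁻¹ := by group
      _ = g * (g⁻¹ * z * g * a) * g⁻¹ := by rw [h]
      _ = z * (g * a * g⁻¹) := by group
  let θ : ↥C →* Subgroup.centralizer ({z} : Set G) := MonoidHom.mk' (fun q => ⟨_, hcH q⟩) fun p q =>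
    Subtype.ext (by
      show g * _ * g⁻¹ = g * _ * g⁻¹ * (g * _ * g⁻¹)
      simp only [Subgroup.coe_mul]
      group)
  let ψ := (QuotientGroup.mk' Q).comp θ
  have hθo : ∀ q : C, ((θ q : Subgroup.centralizer ({z} : Set G)) : G) ∈ LargeExtra.oc (g * z * g⁻¹) := fun q =>
    LargeExtra.conj_mem_oc (D.mem_oc_iff.2 ⟨q.1, rfl⟩)
  have hker : Nat.card ↥ψ.ker ≤ 8 := by
    have hq : ∀ k : ψ.ker, θ k ∈ Q := fun k => (QuotientGroup.eq_one_iff _).1 k.2
    have hv : ∀ k : ψ.ker, ∃ v, ((⟨θ k, hq k⟩ : Q) : ↥Q ⧸ Subgroup.center ↥Q) = D.F.co v := fun k =>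
      (D.F.bij.2 _).imp fun _ e => e.symm
    choose v hv using hv
    have hvm : ∀ k, v k ∈ img := fun k => ⟨⟨θ k, hq k⟩, hθo _, hv k⟩
    let Φ : ψ.ker → W4 × Bool := fun k => (v k 0, decide ((⟨θ k, hq k⟩ : Q) = lift D.F (v k)))
    have hΦ : Function.Injective Φ := by
      intro k l h
      simp only [Φ, Prod.mk.injEq] at h
      obtain ⟨h0, hb⟩ := h
      have hvv : v k = v l := by
        have hd := hzero _ (hadd _ (hvm k) _ (hvm l))
          (by rw [Pi.add_apply, h0]; exact (show ∀ p : W4, p + p = 0 by decide) _)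
        funext i
        exact (show ∀ p q : W4, p + q = 0 → p = q by decide) _ _ (congrFun hd i)
      have hqq : (⟨θ k, hq k⟩ : Q) = ⟨θ l, hq l⟩ := by
        rw [decide_eq_decide] at hb
        by_cases e : (⟨θ k, hq k⟩ : Q) = lift D.F (v k)
        · rw [e, hb.1 e, hvv]
        · obtain ⟨u, hu, eu⟩ := exists_central D.b D.F (hv k)
          obtain ⟨u', hu', eu'⟩ := exists_central D.b D.F (hv l)
          have h1 : u ≠ 1 := fun e1 => e (by rw [eu, e1, mul_one])
          have h2 : u' ≠ 1 := fun e1 => e (hb.2 (by rw [eu', e1, mul_one]))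
          rw [eu, eu', center_two D.b hu h1 hu' h2, hvv]
      have hθ := congrArg (fun q : Q => ((q : Subgroup.centralizer ({z} : Set G)) : G)) hqq
      change g * _ * g⁻¹ = g * _ * g⁻¹ at hθ
      exact Subtype.ext (Subtype.ext (Subtype.ext (Subtype.ext (mul_left_cancel (mul_right_cancel hθ)))))
    exact (Nat.card_le_card_of_injective Φ hΦ).trans (by simp)
  have hr := ψ.ker.card_mul_index
  rw [Subgroup.index_ker] at hr
  have hd1 : Nat.card ↥ψ.range ∣ 2 ^ 13 := by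
    refine (Subgroup.card_range_dvd ψ).trans ?_
    rw [← D.b.card]
    exact Subgroup.card_subgroup_dvd_card C
  have hd2 : Nat.card ↥ψ.range ∣ 19595520 := by
    rw [← D.hind, Subgroup.index_eq_card]
    exact Subgroup.card_subgroup_dvd_card _
  obtain ⟨k, hk, hk'⟩ := (Nat.dvd_prime_pow Nat.prime_two).1 hd1
  rw [hk'] at hd2 hr
  have hk8 : k ≤ 8 := by
    by_contra h
    exact absurd ((pow_dvd_pow 2 (show 9 ≤ k by omega)).trans hd2) (by norm_num)
  have := Nat.pow_le_pow_right (show 0 < 2 by norm_num) hk8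
  nlinarith [Nat.mul_le_mul hker this]

/-- conjugates of `z` in `Q` lie in the second orbit -/
theorem not_inA {x : Q} {v : Vec6} (hx : (x : ↥Q ⧸ Subgroup.center ↥Q) = D.F.co v)
    (hv : v ≠ 0) (hp : par v = 0) (hc : IsConj z ((x : Subgroup.centralizer ({z} : Set G)) : G)) :
    ¬InA D.c v := by
  intro hA
  have h0 : srep 0 ≠ 0 ∧ par (srep 0) = 0 := by decide +kernel
  obtain ⟨m, hm⟩ := D.orbit_conj ((D.orb_iff v hv hp (srep 0)).2 ⟨h0.1, h0.2, iff_of_true (Or.inl (sc_srep 0)) hA⟩)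
    h0.1 hx (mk_lift D.F _)
  obtain ⟨g, hg⟩ := isConj_iff.1 hc
  refine D.not_conj_rep (g := (m : G) * g) ?_ (mk_lift D.F (srep 0))
  rw [← hm]
  simp only [Subgroup.coe_mul, Subgroup.coe_inv, ← hg]
  group

/-- conjugates of `z` in `Q` form one orbit -/
theorem one_orbit {s t : G} (hsc : s ∈ Subgroup.centralizer ({z} : Set G)) (hsQ : (⟨s, hsc⟩ : Subgroup.centralizer ({z} : Set G)) ∈ Q)
    (htc : t ∈ Subgroup.centralizer ({z} : Set G)) (htQ : (⟨t, htc⟩ : Subgroup.centralizer ({z} : Set G)) ∈ Q)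
    (hs : IsConj z s) (ht : IsConj z t) (hs1 : s ≠ z) (ht1 : t ≠ z) :
    ∃ h ∈ Subgroup.centralizer ({z} : Set G), h * s * h⁻¹ = t := by
  have hz2 : z * z = 1 := by rw [← sq, ← D.b.hz, pow_orderOf_eq_one]
  have key : ∀ (s : G) (hsc : s ∈ Subgroup.centralizer ({z} : Set G))
      (hsQ : (⟨s, hsc⟩ : Subgroup.centralizer ({z} : Set G)) ∈ Q), IsConj z s → s ≠ z →
      ∃ v, v ≠ 0 ∧ par v = 0 ∧ ¬InA D.c v ∧
        ((⟨_, hsQ⟩ : Q) : ↥Q ⧸ Subgroup.center ↥Q) = D.F.co v := by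
    intro s hsc hsQ hs hs1
    obtain ⟨g, hg⟩ := isConj_iff.1 hs
    obtain ⟨v, hv, hp, hmk⟩ := D.mem_class hsQ
      (show s * s = 1 by rw [← hg, LargeExtra.conjm, hz2, mul_one, mul_inv_cancel])
      (fun e => by
        have h1 : g * z * g⁻¹ = 1 := hg.trans e
        have := D.b.hz
        rw [mul_inv_eq_one, mul_eq_left] at h1
        rw [h1, orderOf_one] at this
        omega) hs1
    exact ⟨v, hv, hp, D.not_inA hmk hv hp hs, hmk⟩
  obtain ⟨v, hv, hp, hA, hmk⟩ := key s hsc hsQ hs hs1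
  obtain ⟨w, hw, hq, hB, hmk'⟩ := key t htc htQ ht ht1
  obtain ⟨h, hh⟩ := D.orbit_conj ((D.orb_iff v hv hp w).2 ⟨hw, hq, iff_of_false hB hA⟩) hw hmk hmk'
  exact ⟨h, h.2, congrArg Subtype.val hh⟩

end Data

end Cfsg.Agent.LargeFischer
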