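import Mathlib.Data.ZMod.Basic
import Mathlib.Algebra.BigOperators.Fin
import Mathlib.GroupTheory.Perm.Sign
import Mathlib.Tactic.FinCases
import Mathlib.SetTheory.Cardinal.Finite
import Mathlib.Tactic.Ring

/-! Monomial geometry of six lines over the field with four elements. -/

set_option autoImplicit false
set_option maxRecDepth 20000
set_option Elab.async false

open Finset

namespace Cfsg.Agent.LargeFischer

/-- A line: the field with four elements as an additive group. -/
abbrev W4 : Type := ZMod 2 × ZMod 2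

/-- Multiplication by a cube root of one. -/
def om : W4 →+ W4 where
  toFun p := (p.2, p.1 + p.2)
  map_zero' := rfl
  map_add' := by decide +kernel

/-- Powers of it. -/
def omk (k : ZMod 3) (p : W4) : W4 := if k = 0 then p else if k = 1 then om p else om (om p)

theorem omk_facts : (∀ k p, omk k p = 0 ↔ p = 0) ∧ (∀ k p q, omk k (p + q) = omk k p + omk k q) ∧
    (∀ a b p, omk a (omk b p) = omk (a + b) p) ∧ (∀ p, omk 0 p = p) := by decide +kernel

/-- logarithm -/
def lg (p : W4) : ZMod 3 := if p = (0, 1) then 1 else if p = (1, 1) then 2 else 0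

theorem lg_facts : (∀ k p, p ≠ 0 → lg (omk k p) = k + lg p) ∧
    (∀ p q : W4, p ≠ 0 → q ≠ 0 → omk (lg q - lg p) p = q) := by decide +kernel

/-- six coordinates -/
abbrev Vec6 : Type := Fin 6 → W4

/-- diagonal action -/
def dg (d : Fin 6 → ZMod 3) (v : Vec6) : Vec6 := fun i => omk (d i) (v i)

/-- permutation action -/
def pm (π : Equiv.Perm (Fin 6)) (v : Vec6) : Vec6 := fun i => v (π⁻¹ i)

/-- weight -/
def wt (v : Vec6) : ℕ := ∑ i, if v i = 0 then 0 else 1

/-- parity of the weight -/
def par (v : Vec6) : ZMod 2 := (wt v : ZMod 2)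

/-- orthogonality -/
def Perp (v w : Vec6) : Prop := par (v + w) = par v + par w

instance (v w : Vec6) : Decidable (Perp v w) := by unfold Perp; infer_instance

/-- the invariant of a monomial orbit -/
def cls (v : Vec6) : ℕ × ZMod 3 := (wt v, if wt v = 6 then ∑ i, lg (v i) else 0)

theorem wt_le (v : Vec6) : wt v ≤ 6 :=
  (Finset.sum_le_card_nsmul univ _ 1 fun i _ => by split_ifs <;> norm_num).trans (by simp)

theorem wt_dg (d : Fin 6 → ZMod 3) (v : Vec6) : wt (dg d v) = wt v :=
  Finset.sum_congr rfl fun i _ => if_congr (omk_facts.1 _ _) rfl rfl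

theorem wt_pm (π : Equiv.Perm (Fin 6)) (v : Vec6) : wt (pm π v) = wt v :=
  Fintype.sum_equiv π⁻¹ _ _ fun _ => rfl

theorem full_of_wt {v : Vec6} (h : wt v = 6) (i : Fin 6) : v i ≠ 0 := by
  intro h0
  have hlt : (∑ j, if v j = 0 then 0 else 1) < ∑ _j : Fin 6, (1 : ℕ) :=
    Finset.sum_lt_sum (fun j _ => by split_ifs <;> norm_num) ⟨i, mem_univ _, by rw [if_pos h0]; norm_num⟩
  simp only [sum_const, card_univ, Fintype.card_fin, smul_eq_mul, mul_one] at hlt
  exact absurd h (Nat.ne_of_lt hlt)

theorem cls_dg {d : Fin 6 → ZMod 3} (hd : ∑ i, d i = 0) (v : Vec6) : cls (dg d v) = cls v := by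
  simp only [cls, wt_dg]
  split_ifs with h
  · rw [Finset.sum_congr rfl (fun i _ => show lg (dg d v i) = d i + lg (v i) from
      lg_facts.1 _ _ (full_of_wt h i)), Finset.sum_add_distrib, hd, zero_add]
  · rfl

theorem cls_pm (π : Equiv.Perm (Fin 6)) (v : Vec6) : cls (pm π v) = cls v := by
  simp only [cls, wt_pm]
  split_ifs
  · exact Prod.ext rfl (Fintype.sum_equiv π⁻¹ _ (fun i => lg (v i)) fun _ => rfl)
  · rfl

/-- a support of given size -/
def stdS (n : ℕ) (i : Fin 6) : Bool := decide ((i : ℕ) < n)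

theorem support_std : ∀ s : Fin 6 → Bool, ∃ π : Equiv.Perm (Fin 6), Equiv.Perm.sign π = 1 ∧
    ∀ i, s (π i) = stdS (∑ j, if s j then 1 else 0) i := by decide +kernel

/-- equal invariants give one monomial orbit -/
theorem same_orbit {v w : Vec6} (h : cls v = cls w) :
    ∃ (π : Equiv.Perm (Fin 6)) (d : Fin 6 → ZMod 3), Equiv.Perm.sign π = 1 ∧ ∑ i, d i = 0 ∧
      w = dg d (pm π v) := by
  have hw : wt v = wt w := congrArg Prod.fst h
  obtain ⟨a, ha1, ha⟩ := support_std fun i => decide (v i ≠ 0)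
  obtain ⟨b, hb1, hb⟩ := support_std fun i => decide (w i ≠ 0)
  have hcnt : ∀ u : Vec6, (∑ j, if decide (u j ≠ 0) then 1 else 0) = wt u := fun u =>
    Finset.sum_congr rfl fun j _ => by by_cases hj : u j = 0 <;> simp [hj]
  rw [hcnt] at ha hb
  set π := b * a⁻¹ with hπ
  have hsupp : ∀ i, (pm π v i = 0 ↔ w i = 0) := by
    intro i
    have h1 := ha (b⁻¹ i)
    have h2 := hb (b⁻¹ i)
    rw [hw, ← h2] at h1
    rw [show b (b⁻¹ i) = i from b.apply_symm_apply i] at h1
    have : pm π v i = v (a (b⁻¹ i)) := by simp [pm, hπ, Equiv.Perm.mul_apply]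
    rw [this]
    simp only [decide_eq_decide] at h1
    exact not_iff_not.1 h1
  set d0 : Fin 6 → ZMod 3 := fun i => lg (w i) - lg (pm π v i) with hd0
  have hfix : ∀ d : Fin 6 → ZMod 3, (∀ i, w i ≠ 0 → d i = d0 i) → w = dg d (pm π v) := by
    intro d hd
    funext i
    by_cases hi : w i = 0
    · rw [dg, hi]; exact ((omk_facts.1 _ _).2 ((hsupp i).2 hi)).symm
    · rw [dg, hd i hi]
      exact (lg_facts.2 _ _ (fun h0 => hi ((hsupp i).1 h0)) hi).symm
  have hs : Equiv.Perm.sign π = 1 := by rw [hπ, map_mul, map_inv, ha1, hb1]; simp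
  by_cases h6 : wt w = 6
  · refine ⟨π, d0, hs, ?_, hfix _ fun _ _ => rfl⟩
    have h2 := congrArg Prod.snd h
    simp only [cls, hw, h6, if_true] at h2
    rw [hd0, Finset.sum_sub_distrib, sub_eq_zero, ← h2]
    exact (Fintype.sum_equiv π⁻¹ _ (fun i => lg (v i)) fun _ => rfl).symm
  · obtain ⟨k, hk⟩ : ∃ k, w k = 0 := by
      by_contra hc
      push Not at hc
      exact h6 (by simp [wt, hc])
    refine ⟨π, Function.update d0 k (d0 k - ∑ i, d0 i), hs, ?_, hfix _ fun i hi => ?_⟩
    · rw [Finset.sum_update_of_mem (mem_univ k), ← Finset.add_sum_erase _ d0 (mem_univ k),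
        Finset.sdiff_singleton_eq_erase]
      ring
    · rw [Function.update_of_ne (fun e => hi (by rw [e]; exact hk))]

/-- coordinates from a number -/
def vecN (N : ℕ) : Vec6 := fun i =>
  ((if N.testBit (2 * (i : ℕ)) then 1 else 0), (if N.testBit (2 * (i : ℕ) + 1) then 1 else 0))

theorem vecN_surjective : Function.Surjective vecN := by
  have hinj : Function.Injective fun N : Fin 4096 => vecN N := by
    intro a b h
    refine Fin.ext (Nat.eq_of_testBit_eq fun j => ?_)
    by_cases hj : j < 12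
    · have h1 := congrFun h ⟨j / 2, by omega⟩
      simp only [vecN, Prod.mk.injEq] at h1
      rcases Nat.mod_two_eq_zero_or_one j with e | e
      · rw [show 2 * (j / 2) = j by omega] at h1
        revert h1; cases (a : ℕ).testBit j <;> cases (b : ℕ).testBit j <;> simp
      · rw [show 2 * (j / 2) + 1 = j by omega] at h1
        revert h1; cases (a : ℕ).testBit j <;> cases (b : ℕ).testBit j <;> simp
    · have hlt : ∀ c : Fin 4096, (c : ℕ).testBit j = false := fun c =>
        Nat.testBit_lt_two_pow (c.2.trans_le (Nat.pow_le_pow_right (n := 2) (j := j) (i := 12) (by norm_num) (by omega)))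
      rw [hlt, hlt]
  have hbij := (Fintype.bijective_iff_injective_and_card _).2 ⟨hinj, by simp⟩
  intro v
  obtain ⟨N, hN⟩ := hbij.2 v
  exact ⟨_, hN⟩

end Cfsg.Agent.LargeFischer
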