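import Cfsg.Agent.LargeFischer.Coord

/-! Numbers of orthogonal vectors in each class of singular vectors. -/

set_option autoImplicit false
set_option maxRecDepth 20000
set_option Elab.async false

open Finset

namespace Cfsg.Agent.LargeFischer

/-- the five classes of singular vectors -/
def sc : Fin 5 → ℕ × ZMod 3 := ![(2, 0), (4, 0), (6, 0), (6, 1), (6, 2)]

/-- representatives of weights one, three and five -/
def nrep (n : Fin 3) : Vec6 := fun i => if (i : ℕ) < 2 * (n : ℕ) + 1 then (1, 0) else 0

/-- the numbers of orthogonal vectors -/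
def tbl : Fin 3 → Fin 5 → ℕ :=
  ![![105, 675, 81, 81, 81], ![69, 603, 117, 117, 117], ![65, 595, 121, 121, 121]]

theorem count_range : ∀ (n : Fin 3) (k : Fin 5),
    ((Finset.range 4096).filter fun N => cls (vecN N) = sc k ∧ Perp (nrep n) (vecN N)).card = tbl n k := by
  decide +kernel

theorem vecN_inj : Set.InjOn vecN (Finset.range 4096 : Set ℕ) := by
  intro a ha b hb h
  rw [Finset.coe_range, Set.mem_Iio] at ha hb
  refine Nat.eq_of_testBit_eq fun j => ?_
  by_cases hj : j < 12
  · have h1 := congrFun h ⟨j / 2, by omega⟩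
    simp only [vecN, Prod.mk.injEq] at h1
    rcases Nat.mod_two_eq_zero_or_one j with e | e
    · rw [show 2 * (j / 2) = j by omega] at h1
      revert h1; cases a.testBit j <;> cases b.testBit j <;> simp
    · rw [show 2 * (j / 2) + 1 = j by omega] at h1
      revert h1; cases a.testBit j <;> cases b.testBit j <;> simp
  · have hp : 2 ^ 12 ≤ 2 ^ j := Nat.pow_le_pow_right (by norm_num) (by omega)
    rw [Nat.testBit_lt_two_pow (by omega), Nat.testBit_lt_two_pow (by omega)]

theorem count_univ (n : Fin 3) (k : Fin 5) :
    (univ.filter fun w : Vec6 => cls w = sc k ∧ Perp (nrep n) w).card = tbl n k := by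
  have himg : (Finset.range 4096).image vecN = univ := by
    refine eq_univ_of_card _ ?_
    rw [card_image_of_injOn vecN_inj]
    simp
  rw [← count_range n k, ← himg, Finset.filter_image,
    card_image_of_injOn (vecN_inj.mono fun N hN => (mem_filter.1 hN).1)]

/-- the sum over a union of classes -/
def tsum (n : Fin 3) (b : Fin 5 → Bool) : ℕ := ∑ k, if b k then tbl n k else 0

/-- the five classes of the two orbits -/
def halfA (c : ZMod 3) (k : Fin 5) : Bool := decide (k = 0) || decide (sc k = (6, c))

theorem const_unions : ∀ b : Fin 5 → Bool, tsum 0 b = tsum 1 b → tsum 1 b = tsum 2 b →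
    (∀ k, b k = false) ∨ (∀ k, b k = true) ∨
      ∃ c, (∀ k, b k = halfA c k) ∨ ∀ k, b k = !halfA c k := by decide +kernel

theorem cls_cases (v : Vec6) (h0 : v ≠ 0) (hp : par v = 0) : ∃ k, cls v = sc k := by
  have hw := wt_le v
  have hpos : wt v ≠ 0 := by
    intro h
    refine h0 (funext fun i => ?_)
    by_contra hi
    have := Finset.sum_eq_zero_iff.1 h i (mem_univ i)
    simp only [ite_eq_left_iff, one_ne_zero, imp_false, not_not] at this
    exact hi this
  have hev : Even (wt v) := (ZMod.natCast_eq_zero_iff_even).1 hp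
  rw [cls]
  generalize (∑ i, lg (v i)) = c
  generalize wt v = n at *
  obtain ⟨m, rfl⟩ := hev
  have : m = 1 ∨ m = 2 ∨ m = 3 := by omega
  rcases this with rfl | rfl | rfl
  · exact ⟨0, rfl⟩
  · exact ⟨1, rfl⟩
  · revert c; decide

end Cfsg.Agent.LargeFischer
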