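import Cfsg.Agent.LargeFischer.FusionG

/-! Every element outside `Q` lies in the `Q` of a conjugate inside. -/

set_option autoImplicit false
set_option maxRecDepth 20000
set_option Elab.async false

open Finset Cfsg Cfsg.Agent

namespace Cfsg.Agent.LargeFischer

theorem small_multiples : ({0, sm 0 v1, sm 1 v1, sm 2 v1} : Finset Vec6).card ≤ 4 ∧
    ∀ i : ZMod 3, sm i v1 ∈ ({0, sm 0 v1, sm 1 v1, sm 2 v1} : Finset Vec6) := by decide +kernel

theorem e6_23 : sm 1 (e6 2 + e6 3) 2 + sm 1 (e6 2 + e6 3) 4 = (0, 1) ∧ sm 1 (e6 2 + e6 3) ∈ F0 :=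
  ⟨by decide +kernel, by rw [mem_F0]; decide +kernel⟩

theorem phi_solve : ∀ p : W4, (omk 1 p + p = 0 ∨ omk 1 p + p = (0, 1)) → (omk 2 p + p = 0 ∨ omk 2 p + p = (0, 1)) →
    p = 0 := by decide +kernel

theorem omk_target : ∀ p : W4, p = 0 ∨ ∃ k : ZMod 3, omk k (0, 1) = p := by decide +kernel

theorem oc_conj_mem {G : Type*} [Group G] [Finite G] {c σ : G} (m : G) (h : c ∈ LargeExtra.oc σ) :
    m * c * m⁻¹ ∈ LargeExtra.oc (m * σ * m⁻¹) := LargeExtra.conj_mem_oc h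

namespace Data
namespace MaxData

variable {G : Type*} [Group G] [Finite G] {z : G}
  {Q : Subgroup (Subgroup.centralizer ({z} : Set G))} [Q.Normal] {D : Data z Q} (M : D.MaxData)
include M

theorem coord_of {p : Subgroup.centralizer ({z} : Set G)} (hA : p ∈ M.A) (hQ : p ∈ Q) :
    ∃ w ∈ F0, ((⟨p, hQ⟩ : Q) : ↥Q ⧸ Subgroup.center ↥Q) = D.F.co w := by
  obtain ⟨w, hw⟩ := D.F.bij.2 ((⟨p, hQ⟩ : Q) : ↥Q ⧸ Subgroup.center ↥Q)
  exact ⟨w, (M.mem_Q_iff (q := ⟨p, hQ⟩) hw.symm).1 hA, hw.symm⟩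

theorem class_not_inA (hc : D.c = 1) {q : Q} {u : Vec6} (hq : (q : ↥Q ⧸ Subgroup.center ↥Q) = D.F.co u)
    (hu : u ≠ 0) (hp : par u = 0) (hz : IsConj z ((q : Subgroup.centralizer ({z} : Set G)) : G)) : ¬InA 1 u :=
  hc ▸ D.not_inA hq hu hp hz

theorem cover (hF : IsOfLargeFischerTypeAt z Q) (hc : D.c = 1)
    {a : Subgroup.centralizer ({z} : Set G)} (ha : a ∈ M.A) (haQ : a ∉ Q) :
    ∃ σ : Q, (σ : Subgroup.centralizer ({z} : Set G)) ∈ M.A ∧
      IsConj z ((σ : Subgroup.centralizer ({z} : Set G)) : G) ∧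
      (a : G) ∈ LargeExtra.oc ((σ : Subgroup.centralizer ({z} : Set G)) : G) := by
  classical
  have S := D.setting
  obtain ⟨hsr, hbr, hU6, hv0, hvp, -, -, -⟩ := srep_two
  have hk : BRep D.c 2 := hc ▸ hbr
  have hvA : ¬InA D.c v1 := hc ▸ u6_f0_large.2.2.1
  obtain ⟨E, -, -, -, -, hsh⟩ := D.exists_shears hF hc
  have hP : ∀ p, ∃ h : Subgroup.centralizer ({z} : Set G), ∀ x, cact D.F h x = es (pr p) x := fun p => by
    obtain ⟨h, -, -, h'⟩ := hsh p
    exact ⟨h, h'⟩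
  -- the scalar of order three
  obtain ⟨x, hx3, hx⟩ : ∃ x : Subgroup.centralizer ({z} : Set G), x * x * x = 1 ∧ ∀ c, cact D.F x c = sm 1 c := by
    obtain ⟨m, -, hm⟩ := D.exists_scalar
    refine ⟨m * m * (m * m), ?_, fun c => by
      rw [cact_mul, cact_mul, cact_mul, hm, hm, hm, hm, sm_sm, sm_sm, sm_sm]; rfl⟩
    have hq : m * m * m ∈ Q := D.mem_Q_of_act fun c => by
      rw [cact_mul, cact_mul, hm, hm, hm, sm_sm, sm_sm, show (1 : ZMod 3) + 1 + 1 = 0 from rfl, sm_zero]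
    have h4 : (⟨_, hq⟩ : Q) * ⟨_, hq⟩ * ((⟨_, hq⟩ : Q) * ⟨_, hq⟩) = 1 := by
      rcases (center_iff D.b).1 (sq_mem D.b (⟨_, hq⟩ : Q)) with e | e
      · rw [e, one_mul]
      · exact Subtype.ext (by rw [Subgroup.coe_mul, e, zc_sq D.b]; rfl)
    have h4' := congrArg Subtype.val h4
    simp only [Subgroup.coe_mul, OneMemClass.coe_one] at h4'
    rw [← h4']
    group
  have hxN := M.norm_scalar hx
  have hxi : ∀ c, cact D.F x⁻¹ c = sm 2 c := fun c => by
    refine cact_inj D.F x ?_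
    rw [← cact_mul, mul_inv_cancel, cact_one, hx, sm_sm, show (1 : ZMod 3) + 2 = 0 from rfl, sm_zero]
  have hxz : (x : G) * z * (x : G)⁻¹ = z :=
    mul_inv_eq_iff_eq_mul.2 (Subgroup.mem_centralizer_singleton_iff.1 x.2)
  have hxA : ∀ {b}, b ∈ M.A → x * b * x⁻¹ ∈ M.A := fun {b} hb => (Subgroup.mem_normalizer_iff.1 hxN b).1 hb
  have hxA' : ∀ {b}, b ∈ M.A → x⁻¹ * b * x ∈ M.A := fun {b} hb =>
    (Subgroup.mem_normalizer_iff.1 hxN _).2 (by rwa [show x * (x⁻¹ * b * x) * x⁻¹ = b by group])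
  have hcx : ∀ (q : Q) (u : Vec6), (q : ↥Q ⧸ Subgroup.center ↥Q) = D.F.co u → ∀ (h : Subgroup.centralizer ({z} : Set G)) (u' : Vec6),
      cact D.F h u = u' → ((MulAut.conjNormal h q : Q) : ↥Q ⧸ Subgroup.center ↥Q) = D.F.co u' := fun q u hq h u' e => by
    rw [← actV_mk, hq, ← co_cact, e]
  have hsgn : ∀ (q q' : Q) (u : Vec6), (q : ↥Q ⧸ Subgroup.center ↥Q) = D.F.co u → (q' : ↥Q ⧸ Subgroup.center ↥Q) = D.F.co u →
      ((q' : Subgroup.centralizer ({z} : Set G)) : G) = ((q : Subgroup.centralizer ({z} : Set G)) : G) ∨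
      ((q' : Subgroup.centralizer ({z} : Set G)) : G) = ((q : Subgroup.centralizer ({z} : Set G)) : G) * z := by
    intro q q' u h h'
    rcases (center_iff D.b).1 (QuotientGroup.eq.1 (h.trans h'.symm)) with e | e
    · exact Or.inl (congrArg (fun q : Q => ((q : Subgroup.centralizer ({z} : Set G)) : G)) (inv_mul_eq_one.1 e).symm)
    · have e' := congrArg Subtype.val e
      simp only [Subgroup.coe_mul, Subgroup.coe_inv, zc] at e'
      exact Or.inr (inv_mul_eq_iff_eq_mul.1 e')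
  -- the three conjugates
  obtain ⟨sQ, hsmk, hprod⟩ : ∃ sQ : Q, (sQ : ↥Q ⧸ Subgroup.center ↥Q) = D.F.co v1 ∧
      sQ * MulAut.conjNormal x sQ * MulAut.conjNormal x (MulAut.conjNormal x sQ) = 1 := by
    set s0 := LargeFischer.lift D.F v1
    have h0 : (s0 : ↥Q ⧸ Subgroup.center ↥Q) = D.F.co v1 := mk_lift D.F v1
    have h1 := hcx s0 v1 h0 x (sm 1 v1) (hx _)
    have h2 := hcx _ _ h1 x (sm 2 v1) (by rw [hx, sm_sm]; rfl)
    have hw0 : ((s0 * MulAut.conjNormal x s0 * MulAut.conjNormal x (MulAut.conjNormal x s0) : Q) :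
        ↥Q ⧸ Subgroup.center ↥Q) = 1 := by
      rw [QuotientGroup.mk_mul, QuotientGroup.mk_mul, h0, h1, h2, ← D.F.map_add, ← D.F.map_add, sm_sum,
        co_zero D.b D.F]
    rcases (center_iff D.b).1 ((QuotientGroup.eq_one_iff _).1 hw0) with e | e
    · exact ⟨s0, h0, e⟩
    set ζ : Q := ⟨zc z, zc_mem D.b⟩ with hζ
    refine ⟨s0 * ζ, ?_, ?_⟩
    · rw [QuotientGroup.mk_mul, h0, (QuotientGroup.eq_one_iff _).2 ((center_iff D.b).2 (Or.inr rfl)), mul_one]
    · have hfix : MulAut.conjNormal x ζ = ζ := Subtype.ext (by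
        rw [MulAut.conjNormal_apply]; exact mul_inv_eq_iff_eq_mul.2 (D.zc_comm x))
      have hcomm : ∀ q : Q, Commute ζ q := fun q => (Subtype.ext (D.zc_comm _) : q * ζ = ζ * q).symm
      have hζ2 : ζ * ζ = 1 := Subtype.ext (zc_sq D.b)
      have hwζ : s0 * MulAut.conjNormal x s0 * MulAut.conjNormal x (MulAut.conjNormal x s0) = ζ := Subtype.ext e
      rw [map_mul, hfix, map_mul, hfix]
      calc s0 * ζ * (MulAut.conjNormal x s0 * ζ) * (MulAut.conjNormal x (MulAut.conjNormal x s0) * ζ)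
          = s0 * MulAut.conjNormal x s0 * MulAut.conjNormal x (MulAut.conjNormal x s0) * (ζ * ζ * ζ) := by
            rw [(hcomm _).mul_mul_mul_comm s0 ζ, ((hcomm _).mul_left (hcomm _)).mul_mul_mul_comm _ ζ]
        _ = 1 := by rw [hwζ, hζ2, one_mul, hζ2]
  set s : G := ((sQ : Subgroup.centralizer ({z} : Set G)) : G) with hs
  set s2Q := MulAut.conjNormal x sQ with hs2Qd
  set s3Q := MulAut.conjNormal x s2Q with hs3Qd
  have hm2 : (s2Q : ↥Q ⧸ Subgroup.center ↥Q) = D.F.co (sm 1 v1) := hcx sQ v1 hsmk x _ (hx _)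
  have hm3 : (s3Q : ↥Q ⧸ Subgroup.center ↥Q) = D.F.co (sm 2 v1) := hcx _ _ hm2 x _ (by rw [hx, sm_sm]; rfl)
  set s2 : G := ((s2Q : Subgroup.centralizer ({z} : Set G)) : G) with hs2
  set s3 : G := ((s3Q : Subgroup.centralizer ({z} : Set G)) : G) with hs3
  have hs2e : s2 = (x : G) * s * (x : G)⁻¹ := by rw [hs2, hs2Qd, MulAut.conjNormal_apply]; rfl
  have hs3e : s3 = (x : G) * s2 * (x : G)⁻¹ := by rw [hs3, hs3Qd, MulAut.conjNormal_apply]; rfl
  have hxs3 : (x : G) * s3 * (x : G)⁻¹ = s := by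
    have h3' : (x : G) * x * x = 1 := congrArg Subtype.val hx3
    calc (x : G) * s3 * (x : G)⁻¹ = ((x : G) * x * x) * s * ((x : G) * x * x)⁻¹ := by rw [hs3e, hs2e]; group
      _ = s := by rw [h3']; group
  have hv1F : v1 ∈ F0 := ⟨rfl, rfl, rfl⟩
  have hsA : (sQ : Subgroup.centralizer ({z} : Set G)) ∈ M.A := (M.mem_Q_iff hsmk).2 hv1F
  have hs2A : (s2Q : Subgroup.centralizer ({z} : Set G)) ∈ M.A := (M.mem_Q_iff hm2).2 (F0_sm hv1F 1)
  have hconjs : IsConj z s := D.conj_of_not_inA hF hsmk hv0 hvp hvA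
  obtain ⟨g, hg⟩ := isConj_iff.1 hconjs
  have hg' : g * z * g⁻¹ = s := hg
  obtain ⟨hUc, himg, -⟩ := D.img_eq hk sQ.1.2 sQ.2 (hsmk.trans (by rw [hsr])) hg'
  have hsym : ∀ σ : G, σ ∈ LargeExtra.oc z → IsConj z σ → z ∈ LargeExtra.oc σ := fun σ h1 h2 => by
    obtain ⟨γ, hγ⟩ := isConj_iff.1 h2
    rw [← hγ]
    exact S.symm (by rwa [hγ])
  have hsP : s ∈ LargeExtra.oc z := D.mem_oc_iff.2 ⟨sQ, rfl⟩
  have hzs : z ∈ LargeExtra.oc s := hsym s hsP hconjs
  have hin : ∀ (q : Q) (u : Vec6), U6 1 2 u → (q : ↥Q ⧸ Subgroup.center ↥Q) = D.F.co u →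
      ((q : Subgroup.centralizer ({z} : Set G)) : G) ∈ LargeExtra.oc s := by
    intro q u hu hq
    obtain ⟨t, ht, htc⟩ := (himg u).2 (hc ▸ hu)
    rcases hsgn t q u htc hq with e | e <;> rw [e]
    · exact ht
    · exact mul_mem ht hzs
  have hout : ∀ (q : Q) (u : Vec6), ((q : Subgroup.centralizer ({z} : Set G)) : G) ∈ LargeExtra.oc s →
      (q : ↥Q ⧸ Subgroup.center ↥Q) = D.F.co u → U6 1 2 u := fun q u h hq => hc ▸ (himg u).1 ⟨q, h, hq⟩
  have hs2s : s2 ∈ LargeExtra.oc s := hin s2Q _ (u6_mult 1 2 hbr 1 |> fun h => by rwa [hsr] at h) hm2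
  -- moving
  obtain ⟨n, hn, hns'⟩ := M.fusion_z (M.coe_mem_AG.2 hsA) hconjs
  have hns : n * z * n⁻¹ = s := hns'
  have hnA : ∀ {b : G}, b ∈ M.AG → n * b * n⁻¹ ∈ M.AG := fun {b} hb => (Subgroup.mem_normalizer_iff.1 hn b).1 hb
  have hnA' : ∀ {b : G}, b ∈ M.AG → n⁻¹ * b * n ∈ M.AG := fun {b} hb =>
    (Subgroup.mem_normalizer_iff.1 hn _).2 (by rwa [show n * (n⁻¹ * b * n) * n⁻¹ = b by group])
  set t : G := n⁻¹ * s2 * n with ht
  have hnt : n * t * n⁻¹ = s2 := by rw [ht]; group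
  have htA : t ∈ M.AG := hnA' (M.coe_mem_AG.2 hs2A)
  have htP : t ∈ LargeExtra.oc z := by
    have h := oc_conj_mem n⁻¹ hs2s
    rwa [show n⁻¹ * s * n⁻¹⁻¹ = z by rw [← hns]; group, inv_inv] at h
  obtain ⟨tQ, htQ⟩ := D.mem_oc_iff.1 htP
  have htconj : IsConj z t := hconjs.trans (isConj_iff.2 ⟨n⁻¹ * x, by rw [ht, hs2e]; group⟩)
  have ht1 : t ≠ 1 := fun e => S.ne_one (by
    obtain ⟨γ, hγ⟩ := isConj_iff.1 htconj
    rw [e, mul_inv_eq_one] at hγ; exact mul_eq_left.1 hγ)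
  have htz : t ≠ z := fun e => by
    have h : s2 = s := by rw [← hnt, e, hns]
    refine sm_ne hv0 (D.F.bij.1 ?_)
    rw [← hm2, ← hsmk]
    congr 1
    exact Subtype.ext (Subtype.ext h)
  have htAh : (tQ : Subgroup.centralizer ({z} : Set G)) ∈ M.A := M.coe_mem_AG.1 (by rw [htQ]; exact htA)
  obtain ⟨ut, hut, htmk⟩ := M.coord_of htAh tQ.2
  have htmk' : (tQ : ↥Q ⧸ Subgroup.center ↥Q) = D.F.co ut := htmk
  have hut0 : ut ≠ 0 := fun e => by
    rw [e, co_zero D.b D.F] at htmk'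
    rcases (center_iff D.b).1 ((QuotientGroup.eq_one_iff _).1 htmk') with h | h
    · exact ht1 (by rw [← htQ, h]; rfl)
    · exact htz (by rw [← htQ, h]; rfl)
  -- a common element
  obtain ⟨m, hmN, hmt⟩ := M.class_trans hP hut hut0 hv1F hv0
    (iff_of_false (M.class_not_inA hc htmk' hut0 (F0_par hut) (by rw [htQ]; exact htconj)) u6_f0_large.2.2.1) htmk' hsmk
  have hmt' : (m : G) * t * (m : G)⁻¹ = s := by
    rw [← htQ, hs, ← hmt, MulAut.conjNormal_apply]; rfl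
  let WW : Subgroup G := M.AG ⊓ LargeExtra.oc s ⊓ LargeExtra.oc s2
  have hWW : 32 ≤ Nat.card ↥WW := by
    let I : Finset (W4 × W4 × W4) :=
      univ.filter fun t => U6 1 2 ![t.1, t.1, t.2.1, t.2.1, t.2.2, t.2.2]
    have hmN' := M.norm_AG hmN
    have hmz : (m : G)⁻¹ * z * m = z := by
      rw [mul_assoc, ← Subgroup.mem_centralizer_singleton_iff.1 m.2, inv_mul_cancel_left]
    let vec : ↥I → Vec6 := fun t => ![t.1.1, t.1.1, t.1.2.1, t.1.2.1, t.1.2.2, t.1.2.2]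
    let el : Bool × ↥I → G := fun p =>
      ((LargeFischer.lift D.F (vec p.2) : Subgroup.centralizer ({z} : Set G)) : G) * if p.1 then z else 1
    have hel : ∀ p, n * ((m : G)⁻¹ * el p * m) * n⁻¹ ∈ WW := by
      intro p
      have hu : U6 1 2 (vec p.2) := (mem_filter.1 p.2.2).2
      have hz' : (if p.1 then z else 1) ∈ M.AG ⊓ LargeExtra.oc z ⊓ LargeExtra.oc s := by
        split_ifs
        · exact ⟨⟨M.z_mem_AG, LargeExtra.mem_oc_self S.ord⟩, hzs⟩
        · exact one_mem _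
      have he : el p ∈ M.AG ⊓ LargeExtra.oc z ⊓ LargeExtra.oc s := mul_mem
        ⟨⟨M.coe_mem_AG.2 ((M.mem_Q_iff (mk_lift D.F _)).2 ⟨rfl, rfl, rfl⟩), D.mem_oc_iff.2 ⟨_, rfl⟩⟩,
          hin _ _ hu (mk_lift D.F _)⟩ hz'
      obtain ⟨⟨h1, h2⟩, h3⟩ := he
      have h1' : (m : G)⁻¹ * el p * m ∈ M.AG :=
        (Subgroup.mem_normalizer_iff.1 hmN' _).2 (by rwa [show (m : G) * ((m : G)⁻¹ * el p * m) * (m : G)⁻¹ = el p by group])
      refine ⟨⟨hnA h1', ?_⟩, ?_⟩
      · rw [← hns]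
        refine oc_conj_mem n ?_
        have h := oc_conj_mem (m : G)⁻¹ h2
        rwa [inv_inv, hmz] at h
      · rw [← hnt]
        refine oc_conj_mem n ?_
        have h := oc_conj_mem (m : G)⁻¹ h3
        rwa [inv_inv, show (m : G)⁻¹ * s * m = t by rw [← hmt']; group] at h
    have helinj : Function.Injective el := by
      intro p p' h
      have hcl : ∀ p : Bool × ↥I, ∃ q : Q, ((q : Subgroup.centralizer ({z} : Set G)) : G) = el p ∧
          (q : ↥Q ⧸ Subgroup.center ↥Q) = D.F.co (vec p.2) := by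
        intro p
        refine ⟨LargeFischer.lift D.F (vec p.2) * if p.1 then ⟨zc z, zc_mem D.b⟩ else 1, ?_, ?_⟩
        · show _ = _ * _
          split_ifs <;> rfl
        · rw [QuotientGroup.mk_mul, mk_lift, (QuotientGroup.eq_one_iff _).2 (by
            split_ifs
            · exact (center_iff D.b).2 (Or.inr rfl)
            · exact Subgroup.one_mem _), mul_one]
      obtain ⟨q, hq, hqc⟩ := hcl p
      obtain ⟨q', hq', hqc'⟩ := hcl p'
      have hqq : q = q' := Subtype.ext (Subtype.ext (hq.trans (h.trans hq'.symm)))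
      rw [hqq, hqc'] at hqc
      have hvv := D.F.bij.1 hqc.symm
      have h2 : p.2 = p'.2 := Subtype.ext (Prod.ext (congrFun hvv 0) (Prod.ext (congrFun hvv 2) (congrFun hvv 4)))
      simp only [el, h2] at h
      have h3 := mul_left_cancel h
      refine Prod.ext ?_ h2
      have := S.ne_one
      cases hb : p.1 <;> cases hb' : p'.1 <;> rw [hb, hb'] at h3 <;> simp_all
    have h := Nat.card_le_card_of_injective (fun p => (⟨_, hel p⟩ : ↥WW)) fun p p' h => helinj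
      (by simpa using congrArg Subtype.val h)
    rw [Nat.card_prod, Nat.card_eq_fintype_card (α := Bool), Fintype.card_bool, Nat.card_eq_finsetCard,
      show I.card = 16 from u6_f0_large.1] at h
    exact h
  set B := WW.subgroupOf (Subgroup.centralizer ({z} : Set G)) with hBdef
  have hWle : WW ≤ Subgroup.centralizer ({z} : Set G) := fun b hb => by
    obtain ⟨h, -, rfl⟩ := M.mem_AG.1 hb.1.1
    exact h.2
  have hBA : B ≤ M.A := fun b hb => M.coe_mem_AG.1 (Subgroup.mem_subgroupOf.1 hb).1.1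
  have hBc : 32 ≤ Nat.card ↥B := by rwa [Nat.card_congr (Subgroup.subgroupOfEquivOfLe hWle).toEquiv]
  have hBQ : Nat.card ↥(B ⊓ Q) ≤ 8 := by
    refine (D.card_inf_le B).trans ?_
    have hsub : ∀ u ∈ D.coords B, u ∈ ({0, sm 0 v1, sm 1 v1, sm 2 v1} : Finset Vec6) := by
      rintro u ⟨q, hq, hqc⟩
      obtain ⟨⟨h1, h2⟩, h3⟩ := Subgroup.mem_subgroupOf.1 hq
      have hu0 := (M.mem_Q_iff hqc).1 (M.coe_mem_AG.1 h1)
      have hu1 := hout q u h2 hqc
      have hu2 : U6 1 2 (sm 2 u) := by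
        refine hout (MulAut.conjNormal x⁻¹ q) _ ?_ (hcx q u hqc x⁻¹ _ (hxi u))
        have h := oc_conj_mem (x : G)⁻¹ h3
        rw [show (x : G)⁻¹ * s2 * (x : G)⁻¹⁻¹ = s by rw [hs2e]; group] at h
        rw [MulAut.conjNormal_apply]
        simpa using h
      obtain ⟨a, b, c⟩ := hu0
      have e : u = ![u 0, u 0, u 2, u 2, u 4, u 4] := funext fun l => by fin_cases l <;> simp [← a, ← b, ← c]
      rw [e] at hu1 hu2 ⊢
      rcases (f0_u6 _ _ _ hu1).2 hu2 with h | ⟨i, h⟩ <;> rw [h]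
      · simp
      · exact small_multiples.2 i
    have h := Nat.card_le_card_of_injective
      (fun u : ↥(D.coords B) => (⟨u.1, hsub u.1 u.2⟩ : ↥({0, sm 0 v1, sm 1 v1, sm 2 v1} : Finset Vec6)))
      fun u v h => Subtype.ext (congrArg Subtype.val h :)
    rw [Nat.card_eq_finsetCard] at h
    have := small_multiples.1
    omega
  have hBimg : 4 ≤ Nat.card ↥(B.map (QuotientGroup.mk' Q)) := by
    have h := Data.card_image_mul (Q := Q) B
    have h2 := Nat.mul_le_mul_left (Nat.card ↥(B.map (QuotientGroup.mk' Q))) hBQ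
    omega
  -- the elements of the conjugate move as shears
  have hmove : ∀ b ∈ B, ∃ p, (∀ c, cact D.F b c = es (pr p) c) ∧ (p = 0 ∨ p = 1 ∨ p = 10 ∨ p = 15) := by
    intro b hb
    have hbs : (b : G) ∈ LargeExtra.oc s := (Subgroup.mem_subgroupOf.1 hb).1.2
    rw [← hg', ← oc_map_conj] at hbs
    obtain ⟨q, hq, hqe⟩ := hbs
    have hqe' : (b : G) = g * q * g⁻¹ := hqe.symm
    have hbA := hBA hb
    have hbL := ((M.memA b).1 hbA).1.2
    have hbv : cact D.F b v1 = v1 := M.fix hbA hv1F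
    have hbu : ∀ j, cact D.F b (uu j) = uu j ∨ cact D.F b (uu j) = uu j + v1 := by
      intro j
      obtain ⟨t', ht0, htc'⟩ := (himg (uu j)).2 (hc ▸ hU6 j)
      have ht' : ((t' : Subgroup.centralizer ({z} : Set G)) : G) ∈ LargeExtra.oc s := ht0
      rw [← hg', ← oc_map_conj] at ht'
      obtain ⟨q', hq', hq'e⟩ := ht'
      have hq'e' : g * q' * g⁻¹ = ((t' : Subgroup.centralizer ({z} : Set G)) : G) := hq'e
      rcases S.commutator_cases hq hq' with c0 | c0
      · left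
        refine cact_eq D.F ?_
        rw [← htc', actV_mk]
        congr 1
        refine Subtype.ext (Subtype.ext ?_)
        rw [MulAut.conjNormal_apply]
        show (b : G) * ((t' : Subgroup.centralizer ({z} : Set G)) : G) * (b : G)⁻¹ = _
        rw [hqe', ← hq'e']
        calc g * q * g⁻¹ * (g * q' * g⁻¹) * (g * q * g⁻¹)⁻¹ = g * (q * q' * q⁻¹ * q'⁻¹) * q' * g⁻¹ := by group
          _ = g * q' * g⁻¹ := by rw [c0, mul_one]
      · right
        refine cact_eq D.F ?_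
        rw [← htc', actV_mk, add_comm, D.F.map_add, ← hsmk, ← htc', ← QuotientGroup.mk_mul]
        congr 1
        refine Subtype.ext (Subtype.ext ?_)
        rw [MulAut.conjNormal_apply]
        show (b : G) * ((t' : Subgroup.centralizer ({z} : Set G)) : G) * (b : G)⁻¹ =
          s * ((t' : Subgroup.centralizer ({z} : Set G)) : G)
        rw [hqe', ← hq'e', ← hg']
        calc g * q * g⁻¹ * (g * q' * g⁻¹) * (g * q * g⁻¹)⁻¹ = g * (q * q' * q⁻¹ * q'⁻¹) * q' * g⁻¹ := by group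
          _ = g * z * g⁻¹ * (g * q' * g⁻¹) := by rw [c0]; group
    obtain ⟨p, hp⟩ := D.pin hc hbL hbv hbu
    refine ⟨p, hp, pairs_in_K p fun i => ?_⟩
    have := M.fix hbA (f0_mem i)
    rw [hp] at this
    show es (pr p) (pm (dp 0) (f0 i)) = f0 i
    rw [dp_zero.1]
    exact this
  obtain ⟨b, hbB, hb⟩ : ∃ b ∈ B, ∀ c, cact D.F b c = es (pr 1) c := by
    by_contra hne
    push Not at hne
    have hrep : ∀ y : ↥(B.map (QuotientGroup.mk' Q)), ∃ p ∈ ({0, 10, 15} : Finset (Fin 16)),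
        ∀ c, D.qact y c = es (pr p) c := by
      rintro ⟨_, b, hb, rfl⟩
      obtain ⟨p, hp, hp'⟩ := hmove b hb
      refine ⟨p, ?_, fun c => (D.qact_mk b c).trans (hp c)⟩
      rcases hp' with rfl | rfl | rfl | rfl
      · simp
      · obtain ⟨c, hcne⟩ := hne b hb
        exact absurd (hp c) hcne
      · simp
      · simp
    choose f hf hfe using hrep
    have h := Nat.card_le_card_of_injective (fun y => (⟨f y, hf y⟩ : ↥({0, 10, 15} : Finset (Fin 16))))
      fun y y' e => Subtype.ext (D.qact_ext fun c => by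
        rw [hfe, hfe, show f y = f y' from congrArg Subtype.val e])
    rw [Nat.card_eq_finsetCard] at h
    have : ({0, 10, 15} : Finset (Fin 16)).card = 3 := by decide
    omega
  have hbA := hBA hbB
  obtain ⟨⟨hbAG, hbs⟩, hbs2⟩ := Subgroup.mem_subgroupOf.1 hbB
  -- the third conjugate
  have hbs3 : (b : G) ∈ LargeExtra.oc s3 := by
    have h2 := oc_conj_mem n⁻¹ hbs2
    have h1 := oc_conj_mem n⁻¹ hbs
    rw [inv_inv] at h1 h2
    rw [show n⁻¹ * s * n = z by rw [← hns]; group] at h1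
    rw [← ht] at h2
    set u := n⁻¹ * (b : G) * n
    obtain ⟨y, hy, hyt⟩ := S.exists_mover htP ht1 htz
    have h : y⁻¹ * u * y ∈ LargeExtra.oc t := by
      rcases S.commutator_cases (inv_mem hy) h1 with e | e
      · rw [show y⁻¹ * u * y = y⁻¹ * u * y⁻¹⁻¹ * u⁻¹ * u by group, e, one_mul]; exact h2
      · rw [show y⁻¹ * u * y = y⁻¹ * u * y⁻¹⁻¹ * u⁻¹ * u by group, e]; exact mul_mem (hsym t htP htconj) h2
    have h3 := oc_conj_mem y h
    rw [show y * (y⁻¹ * u * y) * y⁻¹ = u by group, hyt] at h3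
    have h4 := oc_conj_mem n h3
    have hsA2 : Commute s s2 := congrArg Subtype.val (M.comm hsA hs2A)
    have hss : (s * s2) * (s * s2) = 1 := congrArg Subtype.val (M.sq (mul_mem hsA hs2A))
    have hp := congrArg (fun q : Q => ((q : Subgroup.centralizer ({z} : Set G)) : G)) hprod
    simp only [Subgroup.coe_mul, OneMemClass.coe_one] at hp
    have h3e : s3 = s * s2 := by
      calc s3 = (s * s2) * (s * s2) * s3 := by rw [hss, one_mul]
        _ = (s * s2) * (s * s2 * s3) := by group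
        _ = s * s2 := by rw [show s * s2 * s3 = 1 from hp, mul_one]
    rwa [show n * u * n⁻¹ = b by simp only [u]; group,
      show n * (t * z) * n⁻¹ = (n * t * n⁻¹) * (n * z * n⁻¹) by group, hnt, hns, ← hsA2.eq, ← h3e] at h4
  -- a lift fixed by the scalar
  obtain ⟨a0, ha0, ha0c⟩ := M.lift (1, 0) gen_facts.2.2.1
  have hes : ∀ c, cact D.F b c = cd (1, 0) c := fun c => by rw [hb, gen_facts.1]
  obtain ⟨ℓ, hℓA, hℓc, hℓx⟩ : ∃ ℓ ∈ M.A, (∀ c, cact D.F ℓ c = cd (1, 0) c) ∧ x * ℓ * x⁻¹ = ℓ := by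
    have hq : a0⁻¹ * (x * a0 * x⁻¹) ∈ Q := D.mem_Q_of_act fun c => cact_inj D.F a0 (by
      rw [← cact_mul, mul_inv_cancel_left, cact_mul, cact_mul, ha0c, hxi, (isLin_cd _).smul_all, hx, sm_sm,
        show (1 : ZMod 3) + 2 = 0 from rfl, sm_zero, ha0c])
    obtain ⟨d, hd, hdc⟩ := M.coord_of (mul_mem (inv_mem ha0) (hxA ha0)) hq
    set p := LargeFischer.lift D.F (sm 1 d)
    have hpA : (p : Subgroup.centralizer ({z} : Set G)) ∈ M.A := (M.mem_Q_iff (mk_lift D.F _)).2 (F0_sm hd 1)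
    set ℓ := a0 * (p : Subgroup.centralizer ({z} : Set G)) with hℓ
    have hℓA : ℓ ∈ M.A := mul_mem ha0 hpA
    refine ⟨ℓ, hℓA, fun c => by rw [hℓ, cact_mul, D.cact_Q p.2, ha0c], ?_⟩
    set δ : Q := (⟨_, hq⟩ : Q) * MulAut.conjNormal x p with hδ
    have hδc : (δ : ↥Q ⧸ Subgroup.center ↥Q) = (p : ↥Q ⧸ Subgroup.center ↥Q) := by
      rw [hδ, QuotientGroup.mk_mul, hdc, hcx p _ (mk_lift D.F _) x (sm 2 d) (by rw [hx, sm_sm]; rfl), ← D.F.map_add,
        mk_lift]
      congr 1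
      funext i
      exact (show ∀ q : W4, q + omk 2 q = omk 1 q by decide) _
    have hx' : x * ℓ * x⁻¹ = a0 * (δ : Subgroup.centralizer ({z} : Set G)) := by
      rw [hℓ, hδ]
      simp only [Subgroup.coe_mul, MulAut.conjNormal_apply]
      group
    rcases (center_iff D.b).1 (QuotientGroup.eq.1 hδc.symm) with e | e
    · rw [hx', ← inv_mul_eq_one.1 e]
    exfalso
    have e' : (δ : Subgroup.centralizer ({z} : Set G)) = (p : Subgroup.centralizer ({z} : Set G)) * zc z :=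
      inv_mul_eq_iff_eq_mul.1 (by simpa using e)
    rw [e', ← mul_assoc a0, ← hℓ] at hx'
    have h3 : x * (x * (x * ℓ * x⁻¹) * x⁻¹) * x⁻¹ = ℓ * (zc z * zc z * zc z) := by
      have hstep : ∀ r, x * (r * zc z) * x⁻¹ = x * r * x⁻¹ * zc z := fun r => by
        calc x * (r * zc z) * x⁻¹ = x * r * x⁻¹ * (x * zc z * x⁻¹) := by group
          _ = _ := by rw [D.zc_comm x, mul_inv_cancel_right]
      rw [hx', hstep, hx', hstep, hstep, hx']
      group
    rw [show x * (x * (x * ℓ * x⁻¹) * x⁻¹) * x⁻¹ = (x * x * x) * ℓ * (x * x * x)⁻¹ by group, hx3, zc_sq D.b, one_mul,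
      one_mul, inv_one, mul_one, left_eq_mul] at h3
    exact zc_ne_one D.b h3
  have hℓL := ((M.memA ℓ).1 hℓA).1.2
  have hbQ : ℓ⁻¹ * b ∈ Q := D.mem_Q_of_act fun c => cact_inj D.F ℓ (by
    rw [← cact_mul, mul_inv_cancel_left, hes, hℓc])
  obtain ⟨wb, hwb, hwbc⟩ := M.coord_of (mul_mem (inv_mem hℓA) hbA) hbQ
  set pb : Q := ⟨_, hbQ⟩ with hpb
  have hbeq : b = ℓ * (pb : Subgroup.centralizer ({z} : Set G)) := by simp [hpb]
  -- two products
  have key : ∀ (y : Subgroup.centralizer ({z} : Set G)) (k : ZMod 3), y * ℓ * y⁻¹ = ℓ → (∀ c, cact D.F y c = sm k c) →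
      ((y * b * y⁻¹ * b : Subgroup.centralizer ({z} : Set G)) : G) ∈ LargeExtra.oc s →
      omk k (wb 2 + wb 4) + (wb 2 + wb 4) = 0 ∨ omk k (wb 2 + wb 4) + (wb 2 + wb 4) = (0, 1) := by
    intro y k hyℓ hy hmem
    have hyp : (MulAut.conjNormal y pb * pb : Q) = (⟨y * b * y⁻¹ * b, by
        have : y * b * y⁻¹ * b = (MulAut.conjNormal y pb * pb : Q) := by
          have hpA : (pb : Subgroup.centralizer ({z} : Set G)) ∈ M.A := mul_mem (inv_mem hℓA) hbA
          have hyA : y * (pb : Subgroup.centralizer ({z} : Set G)) * y⁻¹ ∈ M.A :=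
            (Subgroup.mem_normalizer_iff.1 (M.norm_scalar hy) _).1 hpA
          simp only [Subgroup.coe_mul, MulAut.conjNormal_apply]
          calc y * b * y⁻¹ * b = (y * ℓ * y⁻¹) * (y * (pb : Subgroup.centralizer ({z} : Set G)) * y⁻¹) * (ℓ * pb) := by
                rw [← hbeq]; nth_rw 1 [hbeq]; group
            _ = ℓ * ((y * (pb : Subgroup.centralizer ({z} : Set G)) * y⁻¹) * ℓ) * pb := by rw [hyℓ]; group
            _ = ℓ * (ℓ * (y * (pb : Subgroup.centralizer ({z} : Set G)) * y⁻¹)) * pb := by rw [M.comm hyA hℓA]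
            _ = ℓ * ℓ * (y * (pb : Subgroup.centralizer ({z} : Set G)) * y⁻¹ * pb) := by group
            _ = _ := by rw [M.sq hℓA, one_mul]
        rw [this]; exact SetLike.coe_mem _⟩ : Q) := Subtype.ext (by
          have hpA : (pb : Subgroup.centralizer ({z} : Set G)) ∈ M.A := mul_mem (inv_mem hℓA) hbA
          have hyA : y * (pb : Subgroup.centralizer ({z} : Set G)) * y⁻¹ ∈ M.A :=
            (Subgroup.mem_normalizer_iff.1 (M.norm_scalar hy) _).1 hpA
          simp only [Subgroup.coe_mul, MulAut.conjNormal_apply]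
          symm
          calc y * b * y⁻¹ * b = (y * ℓ * y⁻¹) * (y * (pb : Subgroup.centralizer ({z} : Set G)) * y⁻¹) * (ℓ * pb) := by
                rw [← hbeq]; nth_rw 1 [hbeq]; group
            _ = ℓ * ((y * (pb : Subgroup.centralizer ({z} : Set G)) * y⁻¹) * ℓ) * pb := by rw [hyℓ]; group
            _ = ℓ * (ℓ * (y * (pb : Subgroup.centralizer ({z} : Set G)) * y⁻¹)) * pb := by rw [M.comm hyA hℓA]
            _ = ℓ * ℓ * (y * (pb : Subgroup.centralizer ({z} : Set G)) * y⁻¹ * pb) := by group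
            _ = _ := by rw [M.sq hℓA, one_mul])
    have hcl : ((MulAut.conjNormal y pb * pb : Q) : ↥Q ⧸ Subgroup.center ↥Q) = D.F.co (sm k wb + wb) := by
      rw [QuotientGroup.mk_mul, hcx pb wb hwbc y _ (hy wb), hwbc, D.F.map_add]
    have hu := hout (MulAut.conjNormal y pb * pb) _ (by rw [hyp]; exact hmem) hcl
    obtain ⟨a, b, c⟩ := F0.add_mem (F0_sm hwb k) hwb
    set w := sm k wb + wb with hw
    have e : w = ![w 0, w 0, w 2, w 2, w 4, w 4] := funext fun l => by fin_cases l <;> simp [← a, ← b, ← c]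
    rw [e] at hu
    have h := (f0_u6 _ _ _ hu).1
    have e2 : w 2 + w 4 = omk k (wb 2 + wb 4) + (wb 2 + wb 4) := by
      simp only [hw, Pi.add_apply, sm, dg, omk_facts.2.1]
      abel
    rwa [e2] at h
  have hwb0 : wb 2 + wb 4 = 0 := by
    refine phi_solve _ (key x 1 hℓx hx ?_) (key x⁻¹ 2 ?_ hxi ?_)
    · simp only [Subgroup.coe_mul, Subgroup.coe_inv]
      refine mul_mem ?_ hbs
      have h := oc_conj_mem (x : G) hbs3
      rwa [hxs3] at h
    · rw [inv_inv]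
      calc x⁻¹ * ℓ * x = x⁻¹ * (x * ℓ * x⁻¹) * x := by rw [hℓx]
        _ = ℓ := by group
    · simp only [Subgroup.coe_mul, Subgroup.coe_inv, inv_inv]
      refine mul_mem ?_ hbs
      have h := oc_conj_mem (x : G)⁻¹ hbs2
      rwa [inv_inv, show (x : G)⁻¹ * s2 * x = s by rw [hs2e]; group] at h
  -- the given element, moved over the first shear
  obtain ⟨cc, hcc, hac⟩ := M.code a ha
  obtain ⟨h, hh, hhc⟩ := M.code_trans hP hcc (fun e => haQ (D.mem_Q_of_act fun c => by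
    rw [hac, e]; exact (congrArg (fun t => es (pr 0) (pm t c)) dp_zero.1).trans (es_zero c)))
  set a' := h⁻¹ * a * h with ha'
  have ha'A : a' ∈ M.A := (Subgroup.mem_normalizer_iff.1 hh _).2 (by rwa [show h * a' * h⁻¹ = a by rw [ha']; group])
  have ha'Q : ℓ⁻¹ * a' ∈ Q := D.mem_Q_of_act fun c => cact_inj D.F ℓ (by
    rw [← cact_mul, mul_inv_cancel_left, hℓc, ha', cact_mul, cact_mul, hac]
    refine cact_inj D.F h ?_
    rw [← cact_mul, mul_inv_cancel, cact_one, hhc])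
  obtain ⟨w', hw', hw'c⟩ := M.coord_of (mul_mem (inv_mem hℓA) ha'A) ha'Q
  -- a comparison element
  obtain ⟨e, σ, hσA, hσc, heσ, pe, we, hwe, hweφ, heeq, hpec⟩ : ∃ (e : Subgroup.centralizer ({z} : Set G)) (σ : Q),
      (σ : Subgroup.centralizer ({z} : Set G)) ∈ M.A ∧ IsConj z ((σ : Subgroup.centralizer ({z} : Set G)) : G) ∧
      (e : G) ∈ LargeExtra.oc ((σ : Subgroup.centralizer ({z} : Set G)) : G) ∧ ∃ (pe : Q) (we : Vec6), we ∈ F0 ∧
      we 2 + we 4 = w' 2 + w' 4 ∧ e = ℓ * (pe : Subgroup.centralizer ({z} : Set G)) ∧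
      (pe : ↥Q ⧸ Subgroup.center ↥Q) = D.F.co we := by
    rcases omk_target (w' 2 + w' 4) with e0 | ⟨k, hk'⟩
    · exact ⟨b, sQ, hsA, hconjs, hbs, pb, wb, hwb, by rw [hwb0, e0], hbeq, hwbc⟩
    obtain ⟨y, hyℓ, hy⟩ : ∃ y : Subgroup.centralizer ({z} : Set G), y * ℓ * y⁻¹ = ℓ ∧ ∀ c, cact D.F y c = sm k c := by
      rcases (show ∀ k : ZMod 3, k = 0 ∨ k = 1 ∨ k = 2 by decide) k with rfl | rfl | rfl
      · exact ⟨1, by group, fun c => by rw [cact_one, sm_zero]⟩
      · exact ⟨x, hℓx, hx⟩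
      · refine ⟨x⁻¹, ?_, hxi⟩
        rw [inv_inv]
        calc x⁻¹ * ℓ * x = x⁻¹ * (x * ℓ * x⁻¹) * x := by rw [hℓx]
          _ = ℓ := by group
    set t0 := LargeFischer.lift D.F (sm 1 (e6 2 + e6 3))
    have hyN := M.norm_scalar hy
    refine ⟨y * (b * (t0 : Subgroup.centralizer ({z} : Set G))) * y⁻¹, MulAut.conjNormal y sQ, ?_, ?_, ?_,
      MulAut.conjNormal y (pb * t0), sm k (wb + sm 1 (e6 2 + e6 3)), F0_sm (F0.add_mem hwb e6_23.2) k, ?_, ?_, ?_⟩
    · rw [MulAut.conjNormal_apply]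
      exact (Subgroup.mem_normalizer_iff.1 hyN _).1 hsA
    · exact hconjs.trans (isConj_iff.2 ⟨(y : G), by rw [MulAut.conjNormal_apply]; rfl⟩)
    · have h0 : ((b * (t0 : Subgroup.centralizer ({z} : Set G)) : _) : G) ∈ LargeExtra.oc s :=
        mul_mem hbs (hin t0 _ u6_f0_large.2.1 (mk_lift D.F _))
      have h := oc_conj_mem (y : G) h0
      simpa [MulAut.conjNormal_apply] using h
    · rw [← hk']
      have e1 : (sm k (wb + sm 1 (e6 2 + e6 3))) 2 + (sm k (wb + sm 1 (e6 2 + e6 3))) 4 =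
          omk k ((wb 2 + wb 4) + (sm 1 (e6 2 + e6 3) 2 + sm 1 (e6 2 + e6 3) 4)) := by
        show omk k _ + omk k _ = _
        rw [← omk_facts.2.1]
        congr 1
        simp only [Pi.add_apply]
        abel
      rw [e1, hwb0, e6_23.1, zero_add]
    · rw [hbeq]
      simp only [MulAut.conjNormal_apply, Subgroup.coe_mul]
      conv_rhs => rw [← hyℓ]
      group
    · exact hcx _ _ (by rw [QuotientGroup.mk_mul, hwbc, mk_lift, D.F.map_add]) y _ (hy _)
  -- translating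
  obtain ⟨hi0, hi2, hi4⟩ := F0.add_mem hw' hwe
  set i := w' + we with hi
  have hi24 : i 2 = i 4 := (show ∀ p q : W4, p + q = 0 → p = q by decide) _ _ (by
    rw [hi, Pi.add_apply, Pi.add_apply, show w' 2 + we 2 + (w' 4 + we 4) = (w' 2 + w' 4) + (we 2 + we 4) by abel,
      hweφ]
    exact (show ∀ p : W4, p + p = 0 by decide) _)
  have hieq : i = ![i 0, i 0, i 2, i 2, i 2, i 2] := funext fun l => by
    fin_cases l <;> simp [← hi0, ← hi2, ← hi4, hi24]
  obtain ⟨α, β, hαβ⟩ := image_solve (i 0) (i 2)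
  rw [← hieq] at hαβ
  set y0 : Vec6 := Pi.single 0 α + Pi.single 2 β
  set q := LargeFischer.lift D.F y0 with hqd
  have hqN := M.norm_Q q.2
  have hc1 : ((q * MulAut.conjNormal ℓ q⁻¹ : Q) : ↥Q ⧸ Subgroup.center ↥Q) = D.F.co i := by
    rw [QuotientGroup.mk_mul, map_inv, QuotientGroup.mk_inv, hcx q y0 (mk_lift D.F _) ℓ _ (hℓc y0), mk_lift]
    have hinv : ∀ u, (D.F.co u)⁻¹ = D.F.co u := fun u => inv_eq_of_mul_eq_one_right (by
      rw [← D.F.map_add, add_self6, co_zero D.b D.F])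
    rw [hinv, ← D.F.map_add, gen_facts.1, ← hαβ, add_comm]
  -- q e q⁻¹ is the element up to the centre
  set e' := (q : Subgroup.centralizer ({z} : Set G)) * e * (q : Subgroup.centralizer ({z} : Set G))⁻¹ with he'
  have he'Q : ℓ⁻¹ * e' = (MulAut.conjNormal ℓ⁻¹ (q * MulAut.conjNormal ℓ q⁻¹) * MulAut.conjNormal (q : Subgroup.centralizer ({z} : Set G)) pe : Q) := by
    simp only [Subgroup.coe_mul, MulAut.conjNormal_apply, Subgroup.coe_inv, inv_inv, he', heeq]
    group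
  have hcl2 : ((MulAut.conjNormal ℓ⁻¹ (q * MulAut.conjNormal ℓ q⁻¹) * MulAut.conjNormal (q : Subgroup.centralizer ({z} : Set G)) pe : Q) :
      ↥Q ⧸ Subgroup.center ↥Q) = D.F.co w' := by
    have hfixi : cact D.F ℓ⁻¹ i = i := cact_inj D.F ℓ (by
      rw [← cact_mul, mul_inv_cancel, cact_one, M.fix hℓA ⟨hi0, hi2, hi4⟩])
    rw [QuotientGroup.mk_mul, hcx _ i hc1 ℓ⁻¹ i hfixi, hcx pe we hpec q we (D.cact_Q q.2 we), ← D.F.map_add, hi,
      add_assoc, add_self6, add_zero]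
  set σ' := MulAut.conjNormal (q : Subgroup.centralizer ({z} : Set G)) σ
  have he'oc : (e' : G) ∈ LargeExtra.oc ((σ' : Subgroup.centralizer ({z} : Set G)) : G) := by
    have h := oc_conj_mem ((q : Subgroup.centralizer ({z} : Set G)) : G) heσ
    simpa [he', σ', MulAut.conjNormal_apply] using h
  have hσ'c : IsConj z ((σ' : Subgroup.centralizer ({z} : Set G)) : G) :=
    hσc.trans (isConj_iff.2 ⟨((q : Subgroup.centralizer ({z} : Set G)) : G), by
      simp [σ', MulAut.conjNormal_apply]⟩)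
  have hzσ : z ∈ LargeExtra.oc ((σ' : Subgroup.centralizer ({z} : Set G)) : G) :=
    hsym _ (D.mem_oc_iff.2 ⟨σ', rfl⟩) hσ'c
  have ha'oc : (a' : G) ∈ LargeExtra.oc ((σ' : Subgroup.centralizer ({z} : Set G)) : G) := by
    set W : Q := MulAut.conjNormal ℓ⁻¹ (q * MulAut.conjNormal ℓ q⁻¹) * MulAut.conjNormal (q : Subgroup.centralizer ({z} : Set G)) pe
    have e1 : (a' : G) = (ℓ : G) * (((⟨_, ha'Q⟩ : Q) : Subgroup.centralizer ({z} : Set G)) : G) := by simp
    have e2 : (e' : G) = (ℓ : G) * ((W : Subgroup.centralizer ({z} : Set G)) : G) := by rw [← he'Q]; simp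
    rcases hsgn W ⟨_, ha'Q⟩ w' hcl2 hw'c with e3 | e3 <;> rw [e1, e3]
    · rw [← e2]; exact he'oc
    · rw [← mul_assoc, ← e2]; exact mul_mem he'oc hzσ
  refine ⟨MulAut.conjNormal h σ', ?_, ?_, ?_⟩
  · rw [MulAut.conjNormal_apply]
    refine (Subgroup.mem_normalizer_iff.1 hh _).1 ?_
    simp only [σ', MulAut.conjNormal_apply]
    exact (Subgroup.mem_normalizer_iff.1 hqN _).1 hσA
  · exact hσ'c.trans (isConj_iff.2 ⟨(h : G), by rw [MulAut.conjNormal_apply]; rfl⟩)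
  · have h1 := oc_conj_mem (h : G) ha'oc
    rw [show (h : G) * (a' : G) * (h : G)⁻¹ = (a : G) by rw [ha']; simp [mul_assoc]] at h1
    simpa [MulAut.conjNormal_apply] using h1

end MaxData
end Data
end Cfsg.Agent.LargeFischer
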