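import Cfsg.Agent.LargeFischer.Setup

/-! Squares and commutators in coordinates. -/

set_option autoImplicit false
set_option maxRecDepth 20000
set_option Elab.async false

open Finset Cfsg Cfsg.Agent

namespace Cfsg.Agent.LargeFischer

theorem zmod2_cases : ∀ a : ZMod 2, a = 0 ∨ a = 1 := by decide

theorem par_sum (c : Vec6) : par c = ∑ i, (if c i = 0 then (0 : ZMod 2) else 1) := by
  rw [par, wt, Nat.cast_sum]
  exact sum_congr rfl fun i _ => by split_ifs <;> simp

variable {G : Type*} [Group G] [Finite G] {z : G}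
  {Q : Subgroup (Subgroup.centralizer ({z} : Set G))} [Q.Normal]
  {M : Subgroup (Subgroup.centralizer ({z} : Set G))}

section
variable (b : Basic z Q) (F : Frame6 (actV Q) M)
include b

omit [Q.Normal] in
theorem center_two {u : Q} (hu : u ∈ Subgroup.center ↥Q) (hu1 : u ≠ 1) {v : Q}
    (hv : v ∈ Subgroup.center ↥Q) (hv1 : v ≠ 1) : u = v := by
  rcases (center_iff b).1 hu with h | h
  · exact absurd h hu1
  rcases (center_iff b).1 hv with h' | h'
  · exact absurd h' hv1
  exact Subtype.ext (h.trans h'.symm)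

open scoped _root_.Classical in
omit [Q.Normal] in
theorem ind_mul {u v : Q} (hu : u ∈ Subgroup.center ↥Q) (hv : v ∈ Subgroup.center ↥Q) :
    (if u * v = 1 then (0 : ZMod 2) else 1) = (if u = 1 then 0 else 1) + (if v = 1 then 0 else 1) := by
  by_cases hu1 : u = 1
  · simp [hu1]
  by_cases hv1 : v = 1
  · simp [hv1]
  have h := center_two b hu hu1 hv hv1
  subst h
  have h2 : u * u = 1 := by
    rcases (center_iff b).1 hu with h | h
    · simp [h]
    · exact Subtype.ext (by simp [h, zc_sq b])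
  simp [hu1, h2]
  rfl

omit [Q.Normal] in
theorem comm_mul_right (x y w : Q) :
    x * (y * w) * x⁻¹ * (y * w)⁻¹ = (x * y * x⁻¹ * y⁻¹) * (x * w * x⁻¹ * w⁻¹) := by
  have h := Subgroup.mem_center_iff.1 (comm_mem b x w) y
  calc x * (y * w) * x⁻¹ * (y * w)⁻¹ = x * y * x⁻¹ * (x * w * x⁻¹ * w⁻¹) * y⁻¹ := by group
    _ = x * y * x⁻¹ * (y⁻¹ * (x * w * x⁻¹ * w⁻¹)) := by
        rw [Subgroup.mem_center_iff.1 (comm_mem b x w) y⁻¹, mul_assoc]
    _ = _ := by group

omit [Q.Normal] in
theorem sq_mul (x y : Q) : x * y * (x * y) = (y * x * y⁻¹ * x⁻¹) * (x * x) * (y * y) := by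
  calc x * y * (x * y) = x * (y * x * y⁻¹ * x⁻¹) * x * y * y := by group
    _ = _ := by
      rw [Subgroup.mem_center_iff.1 (comm_mem b y x) x]
      group

/-- a lift -/
noncomputable def lift (F : Frame6 (actV Q) M) (c : Vec6) : Q :=
  Classical.choose (QuotientGroup.mk_surjective (F.co c))

omit b [Finite G] in
theorem mk_lift (c : Vec6) : (lift F c : ↥Q ⧸ Subgroup.center ↥Q) = F.co c :=
  Classical.choose_spec (QuotientGroup.mk_surjective (F.co c))

open scoped _root_.Classical in
/-- squares -/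
noncomputable def S (F : Frame6 (actV Q) M) (a : Vec6) : ZMod 2 :=
  if lift F a * lift F a = 1 then 0 else 1

open scoped _root_.Classical in
/-- commutators -/
noncomputable def B (F : Frame6 (actV Q) M) (a c : Vec6) : ZMod 2 :=
  if lift F a * lift F c * (lift F a)⁻¹ * (lift F c)⁻¹ = 1 then 0 else 1

theorem exists_central {x : Q} {a : Vec6} (h : (x : ↥Q ⧸ Subgroup.center ↥Q) = F.co a) :
    ∃ u ∈ Subgroup.center ↥Q, x = lift F a * u :=
  ⟨(lift F a)⁻¹ * x, QuotientGroup.eq.1 ((mk_lift F a).trans h.symm), by group⟩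

open scoped _root_.Classical in
theorem S_eq {x : Q} {a : Vec6} (h : (x : ↥Q ⧸ Subgroup.center ↥Q) = F.co a) :
    S F a = if x * x = 1 then 0 else 1 := by
  obtain ⟨u, hu, rfl⟩ := exists_central b F h
  have h2 : u * u = 1 := by
    rcases (center_iff b).1 hu with h | h
    · simp [h]
    · exact Subtype.ext (by simp [h, zc_sq b])
  rw [S]
  congr 2
  rw [mul_assoc (lift F a) u, ← mul_assoc u, ← Subgroup.mem_center_iff.1 hu (lift F a),
    mul_assoc (lift F a) u, h2, mul_one]

open scoped _root_.Classical in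
theorem B_eq {x y : Q} {a c : Vec6} (h : (x : ↥Q ⧸ Subgroup.center ↥Q) = F.co a)
    (h' : (y : ↥Q ⧸ Subgroup.center ↥Q) = F.co c) :
    B F a c = if x * y * x⁻¹ * y⁻¹ = 1 then 0 else 1 := by
  obtain ⟨u, hu, rfl⟩ := exists_central b F h
  obtain ⟨v, hv, rfl⟩ := exists_central b F h'
  rw [B]
  congr 2
  have hu' := Subgroup.mem_center_iff.1 hu
  have hv' := Subgroup.mem_center_iff.1 hv
  symm
  calc lift F a * u * (lift F c * v) * (lift F a * u)⁻¹ * (lift F c * v)⁻¹
      = lift F a * (u * (lift F c * v)) * u⁻¹ * (lift F a)⁻¹ * v⁻¹ * (lift F c)⁻¹ := by group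
    _ = lift F a * lift F c * (v * ((lift F a)⁻¹ * v⁻¹)) * (lift F c)⁻¹ := by rw [← hu']; group
    _ = _ := by rw [← hv']; group

theorem co_zero : F.co 0 = 1 := by
  have h := F.map_add 0 0
  rw [add_zero] at h
  exact mul_eq_left.1 h.symm

theorem mk_lift_mul (a c : Vec6) :
    ((lift F a * lift F c : Q) : ↥Q ⧸ Subgroup.center ↥Q) = F.co (a + c) := by
  rw [QuotientGroup.mk_mul, mk_lift, mk_lift, F.map_add]

theorem B_add (a c c' : Vec6) : B F a (c + c') = B F a c + B F a c' := by
  rw [B_eq b F (mk_lift F a) (mk_lift_mul b F c c'), comm_mul_right b]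
  exact ind_mul b (comm_mem b _ _) (comm_mem b _ _)

theorem B_zero (a : Vec6) : B F a 0 = 0 := by
  rw [B_eq b F (mk_lift F a) (y := 1) (by rw [QuotientGroup.mk_one, co_zero b F])]
  simp

open scoped _root_.Classical in
theorem B_symm (a c : Vec6) : B F a c = B F c a := by
  rw [B, B]
  refine if_congr ?_ rfl rfl
  constructor <;> intro h <;> rw [← inv_eq_one] at h <;> rw [← h] <;> group

theorem B_self (a : Vec6) : B F a a = 0 := by simp [B]

theorem S_zero : S F 0 = 0 := by
  rw [S_eq b F (x := 1) (by rw [QuotientGroup.mk_one, co_zero b F])]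
  simp

theorem S_add (a c : Vec6) : S F (a + c) = S F a + S F c + B F a c := by
  rw [S_eq b F (mk_lift_mul b F a c), sq_mul b, mul_assoc]
  rw [ind_mul b (comm_mem b _ _) (Subgroup.mul_mem _ (sq_mem b _) (sq_mem b _)),
    ind_mul b (sq_mem b _) (sq_mem b _), B_symm b F a c]
  simp only [S, B]
  ring

open scoped _root_.Classical in
theorem S_inv {h : Subgroup.centralizer ({z} : Set G)} {a a' : Vec6} (he : actV Q h (F.co a) = F.co a') :
    S F a' = S F a := by
  have h1 : ((MulAut.conjNormal h (lift F a) : Q) : ↥Q ⧸ Subgroup.center ↥Q) = F.co a' := by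
    rw [← actV_mk, mk_lift, he]
  rw [S_eq b F h1, S, ← map_mul]
  exact if_congr (MulEquiv.map_eq_one_iff _) rfl rfl

open scoped _root_.Classical in
theorem B_inv {h : Subgroup.centralizer ({z} : Set G)} {a a' c c' : Vec6}
    (he : actV Q h (F.co a) = F.co a') (he' : actV Q h (F.co c) = F.co c') :
    B F a' c' = B F a c := by
  have h1 : ((MulAut.conjNormal h (lift F a) : Q) : ↥Q ⧸ Subgroup.center ↥Q) = F.co a' := by
    rw [← actV_mk, mk_lift, he]
  have h2 : ((MulAut.conjNormal h (lift F c) : Q) : ↥Q ⧸ Subgroup.center ↥Q) = F.co c' := by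
    rw [← actV_mk, mk_lift, he']
  rw [B_eq b F h1 h2, B, ← map_inv, ← map_inv, ← map_mul, ← map_mul, ← map_mul]
  exact if_congr (MulEquiv.map_eq_one_iff _) rfl rfl

theorem dg_single (d : Fin 6 → ZMod 3) (i : Fin 6) (p : W4) :
    dg d (Pi.single i p) = Pi.single i (omk (d i) p) := by
  funext j
  by_cases h : j = i
  · subst h; simp [dg]
  · simp [dg, h, (omk_facts.1 _ _).2 rfl]

theorem B_lines {i j : Fin 6} (hij : i ≠ j) (p q : W4) :
    B F (Pi.single i p) (Pi.single j q) = 0 := by
  obtain ⟨k, hki, hkj⟩ : ∃ k : Fin 6, k ≠ i ∧ k ≠ j :=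
    (show ∀ i j : Fin 6, ∃ k, k ≠ i ∧ k ≠ j by decide) i j
  obtain ⟨m, -, hm⟩ := F.diag (Pi.single j 1 + Pi.single k 2) (by
    simp only [Pi.add_apply, sum_add_distrib, Finset.sum_pi_single', mem_univ, if_true]; rfl)
  have hi : ∀ p, actV Q m (F.co (Pi.single i p)) = F.co (Pi.single i p) := fun p => by
    rw [hm, dg_single b]
    simp [hij, Ne.symm hki, omk_facts.2.2.2]
  have hj : ∀ q, B F (Pi.single i p) (Pi.single j (omk 1 q)) = B F (Pi.single i p) (Pi.single j q) := by
    intro q
    refine B_inv b F (hi p) ?_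
    rw [hm, dg_single b]
    simp [Ne.symm hkj]
  have h0 : B F (Pi.single i p) (Pi.single j (q + (omk 1 q + omk 1 (omk 1 q)))) =
      B F (Pi.single i p) (Pi.single j q) := by
    rw [Pi.single_add, B_add b F, Pi.single_add, B_add b F, hj (omk 1 q), hj q]
    rcases zmod2_cases (B F (Pi.single i p) (Pi.single j q)) with e | e <;> rw [e] <;> rfl
  rw [(show ∀ q : W4, q + (omk 1 q + omk 1 (omk 1 q)) = 0 by decide) q, Pi.single_zero, B_zero b F] at h0
  exact h0.symm

theorem B_line_ne (i : Fin 6) : ∃ p q, B F (Pi.single i p) (Pi.single i q) ≠ 0 := by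
  obtain ⟨p, q, hpq⟩ : ∃ p q, B F (Pi.single 0 p) (Pi.single 0 q) ≠ 0 := by
    by_contra h
    push Not at h
    set a : Vec6 := Pi.single 0 (1, 0) with ha
    have hall : ∀ c, B F a c = 0 := by
      intro c
      rw [← Finset.univ_sum_single c]
      let Bh : Vec6 →+ ZMod 2 := AddMonoidHom.mk' (B F a) (B_add b F a)
      show Bh _ = 0
      rw [map_sum]
      refine sum_eq_zero fun j _ => ?_
      by_cases hj : (0 : Fin 6) = j
      · subst hj; exact h _ _
      · exact B_lines b F hj _ _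
    have hc : lift F a ∈ Subgroup.center ↥Q := Subgroup.mem_center_iff.2 fun y => by
      obtain ⟨c, hc⟩ := F.bij.2 (y : ↥Q ⧸ Subgroup.center ↥Q)
      have h' := hall c
      rw [B_eq b F (mk_lift F a) hc.symm] at h'
      simp only [ite_eq_left_iff, one_ne_zero, imp_false, not_not] at h'
      exact (commutatorElement_eq_one_iff_mul_comm.1 h').symm
    have h1 : F.co a = F.co 0 := by
      rw [← mk_lift F a, co_zero b F]
      exact (QuotientGroup.eq_one_iff _).2 hc
    exact absurd (congrFun (F.bij.1 h1) 0) (by simp [ha])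
  obtain ⟨π, hπ, hπ0⟩ : ∃ π : Equiv.Perm (Fin 6), Equiv.Perm.sign π = 1 ∧ π 0 = i := by
    revert i; decide +kernel
  obtain ⟨m, -, hm⟩ := F.perm π hπ
  have he : ∀ p, pm π (Pi.single 0 p : Vec6) = Pi.single i p := fun p => funext fun j => by
    simp only [pm, Pi.single_apply]
    exact if_congr (by rw [Equiv.Perm.inv_eq_iff_eq, hπ0]) rfl rfl
  exact ⟨p, q, fun h => hpq (by
    rw [← h]; exact (B_inv b F (by rw [hm, he]) (by rw [hm, he])).symm)⟩

theorem S_line (i : Fin 6) (p : W4) : S F (Pi.single i p) = if p = 0 then 0 else 1 := by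
  split_ifs with hp
  · rw [hp, Pi.single_zero, S_zero b F]
  obtain ⟨k, hki⟩ : ∃ k : Fin 6, k ≠ i := (show ∀ i : Fin 6, ∃ k, k ≠ i by decide) i
  obtain ⟨m, -, hm⟩ := F.diag (Pi.single i 1 + Pi.single k 2) (by
    simp only [Pi.add_apply, sum_add_distrib, Finset.sum_pi_single', mem_univ, if_true]; rfl)
  have hω : ∀ q, S F (Pi.single i (omk 1 q)) = S F (Pi.single i q) := fun q => by
    refine S_inv b F (h := m) ?_
    rw [hm, dg_single b]
    simp [Ne.symm hki]
  have hall : ∀ q : W4, q ≠ 0 → S F (Pi.single i q) = S F (Pi.single i p) := by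
    intro q hq
    rcases (show ∀ p q : W4, p ≠ 0 → q ≠ 0 → q = p ∨ q = omk 1 p ∨ q = omk 1 (omk 1 p) by decide) p q hp hq
      with rfl | rfl | rfl
    · rfl
    · exact hω _
    · rw [hω, hω]
  obtain ⟨r, t, hrt⟩ := B_line_ne b F i
  have hr : r ≠ 0 := fun h => hrt (by rw [h, B_symm b F, Pi.single_zero, B_zero b F])
  have ht : t ≠ 0 := fun h => hrt (by rw [h, Pi.single_zero, B_zero b F])
  have hrt' : r + t ≠ 0 := by
    intro h
    have : r = t := (show ∀ r t : W4, r + t = 0 → r = t by decide) r t h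
    exact hrt (by rw [this, B_self b F])
  have h := S_add b F (Pi.single i r) (Pi.single i t)
  rw [← Pi.single_add, hall _ hr, hall _ ht, hall _ hrt',
    (zmod2_cases (B F (Pi.single i r) (Pi.single i t))).resolve_left hrt] at h
  rcases zmod2_cases (S F (Pi.single i p)) with e | e
  · rw [e] at h; exact absurd h (by decide)
  · exact e

theorem S_par (c : Vec6) : S F c = par c := by
  classical
  rw [par_sum]
  suffices ∀ s : Finset (Fin 6), S F (∑ i ∈ s, Pi.single i (c i)) = ∑ i ∈ s, if c i = 0 then 0 else 1 by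
    have h := this univ
    rwa [Finset.univ_sum_single] at h
  intro s
  induction s using Finset.induction_on with
  | empty => simpa using S_zero b F
  | @insert i s hi ih =>
    rw [sum_insert hi, sum_insert hi, S_add b F, ih, S_line b F]
    let Bh : Vec6 →+ ZMod 2 := AddMonoidHom.mk' (B F (Pi.single i (c i))) (B_add b F _)
    have h0 : Bh (∑ j ∈ s, Pi.single j (c j)) = 0 := by
      rw [map_sum]
      exact sum_eq_zero fun j hj => B_lines b F (fun e => hi (by rw [e]; exact hj)) _ _
    rw [show B F (Pi.single i (c i)) (∑ j ∈ s, Pi.single j (c j)) = 0 from h0, add_zero]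

/-- involutions are the singular vectors -/
theorem sq_iff {x : Q} {c : Vec6} (h : (x : ↥Q ⧸ Subgroup.center ↥Q) = F.co c) :
    x * x = 1 ↔ par c = 0 := by
  classical
  rw [← S_par b F, S_eq b F h]
  by_cases hx : x * x = 1 <;> simp [hx]

theorem B_perp (a c : Vec6) : B F a c = 0 ↔ Perp a c := by
  rw [Perp, ← S_par b F, ← S_par b F, ← S_par b F, S_add b F]
  exact left_eq_add.symm.trans eq_comm

theorem par_inv {h : Subgroup.centralizer ({z} : Set G)} {a a' : Vec6}
    (he : actV Q h (F.co a) = F.co a') : par a' = par a := by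
  rw [← S_par b F, ← S_par b F, S_inv b F he]

theorem perp_inv {h : Subgroup.centralizer ({z} : Set G)} {a a' c c' : Vec6}
    (he : actV Q h (F.co a) = F.co a') (he' : actV Q h (F.co c) = F.co c') :
    Perp a' c' ↔ Perp a c := by
  rw [← B_perp b F, ← B_perp b F, B_inv b F he he']

end

end Cfsg.Agent.LargeFischer
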