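import Cfsg.Agent.LargeFischer.Lift
import Cfsg.Agent.LargeFischer.Coord

/-! Six lines over the field with four elements, monomially acted upon. -/

set_option autoImplicit false
set_option maxRecDepth 20000
set_option Elab.async false
set_option maxHeartbeats 2000000

open Finset

namespace Cfsg.Agent.LargeFischer

theorem perm_pair : ∀ a b : Fin 6, a ≠ b →
    ∃ π : Equiv.Perm (Fin 6), Equiv.Perm.sign π = 1 ∧ π a = 0 ∧ π b = 1 := by decide +kernel

theorem four_left : ∀ a b : Fin 6, a ≠ b →
    3 < (univ.filter fun i : Fin 6 => i ≠ a ∧ i ≠ b).card := by decide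

/-- A set of diagonals invariant under even permutations. -/
theorem span_sum_zero (K : AddSubgroup (Fin 6 → ZMod 3))
    (hK : ∀ d ∈ K, ∀ π : Equiv.Perm (Fin 6), Equiv.Perm.sign π = 1 → (fun i => d (π i)) ∈ K)
    {d0 : Fin 6 → ZMod 3} (hd0 : d0 ∈ K) {a b : Fin 6} (hab : d0 a ≠ d0 b)
    {d : Fin 6 → ZMod 3} (hd : ∑ i, d i = 0) : d ∈ K := by
  have hne : a ≠ b := fun h => hab (by rw [h])
  set u : Fin 6 → Fin 6 → Fin 6 → ZMod 3 := fun a b => Pi.single a 1 - Pi.single b 1 with hu
  obtain ⟨c, hc, e, he, hce, hval⟩ := Finset.exists_ne_map_eq_of_card_lt_of_maps_to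
    (t := (univ : Finset (ZMod 3))) (s := univ.filter fun i : Fin 6 => i ≠ a ∧ i ≠ b) (f := d0)
    (by rw [card_univ, ZMod.card]; exact four_left a b hne) (fun i _ => mem_univ _)
  rw [mem_filter] at hc he
  have hsum : (d0 b - d0 a) • u a b ∈ K := by
    have h := sub_mem (hK d0 hd0 (Equiv.swap a b * Equiv.swap c e) (by simp [hne, hce])) hd0
    convert h using 1
    funext i
    simp only [hu, Pi.smul_apply, Pi.sub_apply, smul_eq_mul, Equiv.Perm.mul_apply]
    by_cases hia : i = a
    · subst hia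
      rw [Equiv.swap_apply_of_ne_of_ne (Ne.symm hc.2.1) (Ne.symm he.2.1), Equiv.swap_apply_left]
      simp [hne]
    by_cases hib : i = b
    · subst hib
      rw [Equiv.swap_apply_of_ne_of_ne (Ne.symm hc.2.2) (Ne.symm he.2.2), Equiv.swap_apply_right]
      simp [hne, Ne.symm hne]
    by_cases hic : i = c
    · subst hic
      rw [Equiv.swap_apply_left, Equiv.swap_apply_of_ne_of_ne he.2.1 he.2.2, hval]
      simp [hia, hib]
    by_cases hie : i = e
    · subst hie
      rw [Equiv.swap_apply_right, Equiv.swap_apply_of_ne_of_ne hc.2.1 hc.2.2, hval]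
      simp [hia, hib]
    rw [Equiv.swap_apply_of_ne_of_ne hic hie, Equiv.swap_apply_of_ne_of_ne hia hib]
    simp [hia, hib]
  have hab' : u a b ∈ K := by
    rcases (show ∀ k : ZMod 3, k ≠ 0 → k = 1 ∨ k = -1 by decide) _ (sub_ne_zero.2 (Ne.symm hab)) with h | h
    · rwa [h, one_smul] at hsum
    · rw [h, neg_one_smul] at hsum
      simpa using neg_mem hsum
  have hall : ∀ x y, x ≠ y → u x y ∈ K := by
    intro x y hxy
    obtain ⟨π, hπ, hπa, hπb⟩ := perm_pair a b hne
    obtain ⟨τ, hτ, hτx, hτy⟩ := perm_pair x y hxy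
    have h := hK _ hab' (π⁻¹ * τ) (by simp [hπ, hτ])
    convert h using 1
    funext i
    simp only [hu, Pi.sub_apply, Pi.single_apply]
    have e : ∀ p q, π p = τ q → ((π⁻¹ * τ) i = p ↔ i = q) := fun p q hpq => by
      rw [Equiv.Perm.mul_apply, Equiv.Perm.inv_eq_iff_eq, hpq]
      exact τ.injective.eq_iff
    simp only [e a x (hπa.trans hτx.symm), e b y (hπb.trans hτy.symm)]
  have hdec : d = ∑ i, d i • (Pi.single i 1 - Pi.single 0 1 : Fin 6 → ZMod 3) := by
    funext j
    simp only [Finset.sum_apply, Pi.smul_apply, Pi.sub_apply, Pi.single_apply, smul_eq_mul, mul_sub,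
      Finset.sum_sub_distrib, ← Finset.sum_mul, hd, zero_mul, sub_zero, mul_ite, mul_one, mul_zero,
      Finset.sum_ite_eq, mem_univ, if_true]
    by_cases hj : j = 0 <;> simp [hj, hd]
  rw [hdec]
  refine sum_mem fun i _ => ?_
  rcases (show ∀ k : ZMod 3, k = 0 ∨ k = 1 ∨ k = -1 by decide) (d i) with h | h | h <;> rw [h]
  · rw [zero_smul]; exact zero_mem _
  all_goals
    by_cases hi : i = 0
    · rw [hi, sub_self, smul_zero]; exact zero_mem _
  · rw [one_smul]; exact hall i 0 hi
  · rw [neg_one_smul]; exact neg_mem (hall i 0 hi)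

theorem w4_facts : (∀ a b : ZMod 3, omk a (1, 0) = omk b (1, 0) → a = b) ∧
    (∀ k p, omk k (om p) = om (omk k p)) ∧ (∀ p, omk 1 p = om p) ∧
    (∀ p, omk 2 p = om (om p)) ∧ ∀ p : W4, p = 0 ∨ p = (1, 0) ∨ p = om (1, 0) ∨ p = om (om (1, 0)) := by
  decide +kernel

/-- passing to endomorphisms -/
def toEnd (V : Type*) [CommGroup V] : MulAut V →* AddMonoid.End (Additive V) where
  toFun φ := AddMonoidHom.mk' (fun w : Additive V => Additive.ofMul (φ w.toMul))
    fun u w => congrArg Additive.ofMul (map_mul φ u.toMul w.toMul)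
  map_one' := rfl
  map_mul' _ _ := rfl

theorem toEnd_injective {V : Type*} [CommGroup V] : Function.Injective (toEnd V) := fun a b h =>
  MulEquiv.ext fun v => congrArg (fun f : AddMonoid.End (Additive V) => (f (Additive.ofMul v)).toMul) h

/-- Six lines with their monomial group. -/
structure Frame6 {Γ V : Type*} [Group Γ] [Group V] (ρ : Γ →* MulAut V) (M : Subgroup Γ) where
  /-- coordinates -/
  co : Vec6 → V
  bij : Function.Bijective co
  map_add : ∀ a b, co (a + b) = co a * co b
  diag : ∀ d : Fin 6 → ZMod 3, ∑ i, d i = 0 → ∃ m ∈ M, ∀ c, ρ m (co c) = co (dg d c)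
  perm : ∀ π : Equiv.Perm (Fin 6), Equiv.Perm.sign π = 1 → ∃ m ∈ M, ∀ c, ρ m (co c) = co (pm π c)
  lin : ∀ m ∈ M, ∀ c c', ρ m (co c) = co c' → ρ m (co (dg (fun _ => 1) c)) = co (dg (fun _ => 1) c')

theorem exists_frame6 {Γ V : Type*} [Group Γ] [CommGroup V] [Finite V] (two : ∀ v : V, v * v = 1)
    (card : Nat.card V = 2 ^ 12) (ρ : Γ →* MulAut V) (M : Subgroup Γ) (L : LiftData (MulAut V))
    (hξ : L.ξ ∈ M.map ρ) (hg : ∀ v, L.g v ∈ M.map ρ) (hR : ∀ A, L.R A ∈ M.map ρ)
    (hc : ∀ m ∈ M, Commute L.ξ (ρ m)) : Nonempty (Frame6 ρ M) := by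
  classical
  set S := M.map ρ with hS
  have hδS : ∀ a, L.δ a ∈ S := fun a => by
    obtain ⟨k, hk⟩ := L.δ_mem a
    rw [hk]
    exact S.mul_mem (S.pow_mem hξ _) (hg _)
  have δ0 : L.δ 0 = 1 := by rw [show (0 : DVec) = (0, 0) from rfl, L.δ_scalar, kap_zero]
  choose φ hφ using L.δ_conj
  let D : Act243 (Additive V) :=
    { two := fun w => congrArg Additive.ofMul (two w.toMul)
      del := fun a => toEnd V (L.δ a)
      del_zero := by rw [δ0, map_one]
      del_add := fun a b => by rw [L.δ_add, map_mul] }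
  let W : WData (MulAut V) (Additive V) :=
    { D := D
      inj := toEnd_injective.comp L.δ_inj
      ρ := toEnd V
      L := L.R
      T := L.T
      φ := φ
      conj := fun A v k => by
        show toEnd V _ * toEnd V _ = toEnd V _ * toEnd V _
        rw [← map_mul, ← map_mul, hφ]
      mulL := fun A B => by
        obtain ⟨k, hk⟩ := L.mulR A B
        refine ⟨k, ?_⟩
        show toEnd V _ = toEnd V _ * toEnd V _ * toEnd V _
        rw [hk, L.δ_scalar, map_mul, map_mul]
      gens := L.gens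
      card := card }
  obtain ⟨χ, hχ, h4, h1, hn, σ, h360, hσ⟩ := W.exists_six
  set P : Fin 6 → AddMonoid.End (Additive V) := fun i => D.p (χ i) with hP
  set x : AddMonoid.End (Additive V) := D.del (0, 1) with hx
  have hxx : ∀ w, x (x w) = D.del (0, 2) w := fun w => by
    show (x * x) w = _
    rw [hx, ← D.del_add]; rfl
  have hsum0 : ∀ w : Additive V, w + x w + x (x w) = 0 := fun w => by
    rw [hxx]
    have h := congrArg (fun f : AddMonoid.End (Additive V) => f w) (show D.n = 0 from hn)
    simp only [Act243.n, D.del00] at h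
    exact h
  have hxinj : Function.Injective x := by
    intro a b h
    have := congrArg (D.del (0, 2)) h
    change (D.del (0, 2) * D.del (0, 1)) a = (D.del (0, 2) * D.del (0, 1)) b at this
    rw [← D.del_add, show (((0, 2) : DVec) + (0, 1)) = 0 from rfl, D.del_zero] at this
    exact this
  have hw : ∀ i, ∃ w : Additive V, w ≠ 0 ∧ P i w = w := by
    intro i
    by_contra h
    push Not at h
    have hz : ∀ y, P i y = 0 := fun y => by
      by_contra hy
      exact h _ hy (show (P i * P i) y = _ by rw [hP, D.p_p, if_pos rfl])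
    have he : AddMonoidHom.range (P i) = ⊥ := by
      refine eq_bot_iff.2 ?_
      rintro _ ⟨y, rfl⟩
      exact hz y
    have := h4 i
    rw [show W.D.p (χ i) = P i from rfl, he, AddSubgroup.card_bot] at this
    omega
  choose w hw0 hwP using hw
  have add_two : ∀ a b : ZMod 2, ∀ y : Additive V, (if a + b = 0 then 0 else y) =
      (if a = 0 then 0 else y) + if b = 0 then 0 else y := by
    intro a b y
    rcases (show ∀ a : ZMod 2, a = 0 ∨ a = 1 by decide) a with rfl | rfl <;>
      rcases (show ∀ a : ZMod 2, a = 0 ∨ a = 1 by decide) b with rfl | rfl <;>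
        simp [D.two, show (1 : ZMod 2) + 1 = 0 from rfl]
  let E : Fin 6 → W4 →+ Additive V := fun i => AddMonoidHom.mk'
    (fun p => (if p.1 = 0 then 0 else w i) + if p.2 = 0 then 0 else x (w i)) fun p q => by
      simp only [Prod.fst_add, Prod.snd_add, add_two]
      abel
  have E10 : ∀ i, E i (1, 0) = w i := fun i => by simp [E]
  have E01 : ∀ i, E i (om (1, 0)) = x (w i) := fun i => by simp [E, om]
  have E11 : ∀ i, E i (om (om (1, 0))) = x (x (w i)) := fun i => by
    have h := hsum0 (w i)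
    rw [add_eq_zero_iff_eq_neg, eq_neg_iff_add_eq_zero, add_eq_zero_iff_eq_neg'] at h
    simp [E, om]
    rw [h, neg_eq_of_add_eq_zero_left (D.two _)]
  have hEx : ∀ i p, E i (om p) = x (E i p) := by
    intro i p
    rcases w4_facts.2.2.2.2 p with rfl | rfl | rfl | rfl
    · simp
    · rw [E01, E10]
    · rw [E11, E01]
    · rw [E11, show om (om (om (1, 0))) = ((1, 0) : W4) from rfl, E10]
      show w i = (x * (x * x)) (w i)
      rw [hx, ← D.del_add, ← D.del_add, show ((0, 1) + ((0, 1) + (0, 1)) : DVec) = 0 from rfl, D.del_zero]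
      rfl
  have hEs : ∀ i (k : ZMod 3) p, D.del (0, k) (E i p) = E i (omk k p) := by
    intro i k p
    rcases (show ∀ k : ZMod 3, k = 0 ∨ k = 1 ∨ k = 2 by decide) k with rfl | rfl | rfl
    · rw [omk_facts.2.2.2, D.del00]; rfl
    · rw [w4_facts.2.2.1, hEx]
    · rw [w4_facts.2.2.2.1, hEx, hEx, hxx]
  have hPx : ∀ i y, P i (x y) = x (P i y) := fun i y => by
    show (D.p (χ i) * x) y = (x * D.p (χ i)) y
    rw [hx, Act243.p, Act243.S, mul_assoc, sum_mul]
    simp only [D.comm _ ((0 : Vec), (1 : ZMod 3))]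
    rw [← mul_sum, ← mul_assoc, D.e_comm, mul_assoc]
  have hPE : ∀ i p, P i (E i p) = E i p := by
    intro i p
    rcases w4_facts.2.2.2.2 p with rfl | rfl | rfl | rfl
    · simp
    · rw [E10, hwP]
    · rw [E01, hPx, hwP]
    · rw [E11, hPx, hPx, hwP]
  have hPE' : ∀ i j p, i ≠ j → P j (E i p) = 0 := fun i j p hij => by
    rw [← hPE i p]
    show (P j * P i) _ = 0
    rw [hP, D.p_p, if_neg fun h => hij (hχ h).symm]
    rfl
  have hEdel : ∀ i u k p, D.del (u, k) (E i p) = E i (omk (k + fval (χ i) u) p) := fun i u k p => by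
    rw [← hEs]
    conv_lhs => rw [← hPE i p]
    show (D.del (u, k) * D.p (χ i)) _ = _
    rw [D.del_p]
    exact congrArg (D.del (0, k + fval (χ i) u)) (hPE i p)
  have hEinj : ∀ i, Function.Injective (E i) := fun i => (injective_iff_map_eq_zero _).2 fun p hp => by
    rcases w4_facts.2.2.2.2 p with rfl | rfl | rfl | rfl
    · rfl
    · exact absurd (by rwa [E10] at hp) (hw0 i)
    · rw [E01] at hp; exact absurd (hxinj (hp.trans (map_zero x).symm)) (hw0 i)
    · rw [E11] at hp
      exact absurd (hxinj ((hxinj (hp.trans (map_zero x).symm)).trans (map_zero x).symm)) (hw0 i)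
  have hErange : ∀ i y, P i y = y → ∃ p, E i p = y := fun i y hy => by
    have hsub : (E i).range ≤ AddMonoidHom.range (P i) := by
      rintro _ ⟨p, rfl⟩; exact ⟨_, hPE i p⟩
    have he := AddSubgroup.eq_of_le_of_card_ge hsub (le_of_eq (by
      rw [← Nat.card_congr (AddMonoidHom.ofInjective (hEinj i)).toEquiv]
      exact (h4 i).trans (by simp)))
    have h5 : y ∈ (E i).range := by rw [he]; exact ⟨y, hy⟩
    exact h5
  let co' : Vec6 → Additive V := fun c => ∑ i, E i (c i)
  have hadd : ∀ a b, co' (a + b) = co' a + co' b := fun a b => by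
    simp only [co', Pi.add_apply, map_add, sum_add_distrib]
  have hcoinj : Function.Injective co' := fun a b h => funext fun j => hEinj j (by
    have := congrArg (P j) h
    simp only [co', map_sum] at this
    rw [sum_eq_single j (fun i _ hij => hPE' i j _ hij) (by simp),
      sum_eq_single j (fun i _ hij => hPE' i j _ hij) (by simp), hPE, hPE] at this
    exact this)
  have hbij : Function.Bijective co' :=
    (Nat.bijective_iff_injective_and_card _).2 ⟨hcoinj, by
      rw [show Nat.card (Additive V) = 2 ^ 12 from card]; simp⟩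
  have hdel : ∀ u k c, D.del (u, k) (co' c) = co' (dg (fun i => k + fval (χ i) u) c) := fun u k c => by
    simp only [co', map_sum, hEdel, dg]
  -- the monomial elements
  have hRE : ∀ A i, ∃ t, ∀ p, W.R A (E i p) = E (σ A i) (omk t p) := by
    intro A i
    have hP' : ∀ y, P i y = y → P (σ A i) (W.R A y) = W.R A y := fun y hy => by
      show (D.p (χ (σ A i)) * W.R A) y = _
      rw [show D.p (χ (σ A i)) * W.R A = _ from W.p_R A _, hσ]
      exact congrArg (W.R A) hy
    obtain ⟨q, hq⟩ := hErange (σ A i) _ (hP' _ (hwP i))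
    have hq0 : q ≠ 0 := fun h => hw0 i (by
      rw [h, map_zero] at hq
      have := congrArg (W.ρ (W.L A)⁻¹) hq
      change _ = (W.ρ (W.L A)⁻¹ * W.R A) (w i) at this
      rw [W.inv_R, map_zero] at this
      exact this.symm)
    refine ⟨lg q - lg (1, 0), fun p => ?_⟩
    have hx' : ∀ y, W.R A (x y) = x (W.R A y) := fun y =>
      congrArg (fun f : AddMonoid.End (Additive V) => f y) (W.scalar_comm A 1)
    have h10 : W.R A (E i (1, 0)) = E (σ A i) (omk (lg q - lg (1, 0)) (1, 0)) := by
      rw [E10, lg_facts.2 _ _ (by decide) hq0, hq]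
    rcases w4_facts.2.2.2.2 p with rfl | rfl | rfl | rfl
    · simp [(omk_facts.1 _ _).2 rfl]
    · exact h10
    · rw [hEx, hx', h10, w4_facts.2.1, hEx]
    · rw [hEx, hx', hEx, hx', h10, w4_facts.2.1, w4_facts.2.1, hEx, hEx]
  choose t ht using hRE
  have hε : ∀ A, ∑ i, t A i = 0 := by
    let ε : SL9 →* Multiplicative (ZMod 3) := MonoidHom.mk' (fun A => Multiplicative.ofAdd (∑ i, t A i))
      fun A B => by
        obtain ⟨k, hk⟩ := W.mulL A B
        have h : ∀ i, σ (A * B) i = σ A (σ B i) ∧ t (A * B) i = k + t A (σ B i) + t B i := fun i => by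
          have hs : σ (A * B) i = σ A (σ B i) := by rw [map_mul]; rfl
          refine ⟨hs, w4_facts.1 _ _ (hEinj (σ A (σ B i)) ?_)⟩
          have h2 := ht (A * B) i (1, 0)
          rw [hs] at h2
          rw [← h2]
          show W.ρ (W.L (A * B)) _ = _
          rw [hk]
          show D.del (0, k) (W.R A (W.R B (E i (1, 0)))) = _
          rw [ht, ht, hEs, omk_facts.2.2.1, omk_facts.2.2.1, add_assoc]
        rw [← ofAdd_add]
        congr 1
        rw [sum_congr rfl fun i _ => (h i).2, sum_add_distrib, sum_add_distrib, sum_const,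
          Equiv.sum_comp (σ B) (t A), card_univ, Fintype.card_fin]
        rw [(show ∀ k : ZMod 3, (6 : ℕ) • k = 0 by decide) k, zero_add]
    intro A
    have hε1 : ε = 1 := by
      by_contra h
      have h1 := (sl_image ε h).trans (Subgroup.card_le_card_group _)
      rw [Nat.card_congr Multiplicative.toAdd, Nat.card_zmod] at h1
      omega
    exact congrArg Multiplicative.toAdd (DFunLike.congr_fun hε1 A)
  have hσrange : ∀ π, Equiv.Perm.sign π = 1 → ∃ A, σ A = π := by
    intro π hπ
    have hle : σ.range ≤ alternatingGroup (Fin 6) := by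
      rintro _ ⟨A, rfl⟩
      have hs : (Equiv.Perm.sign.comp σ) = 1 := by
        by_contra h
        have h1 := (sl_image _ h).trans (Subgroup.card_le_card_group _)
        rw [Nat.card_eq_fintype_card, Fintype.card_units_int] at h1
        omega
      exact Equiv.Perm.mem_alternatingGroup.2 (DFunLike.congr_fun hs A)
    have he := Subgroup.eq_of_le_of_card_ge hle (le_trans (le_of_eq (by
      rw [Nat.card_eq_fintype_card, card_alternatingGroup, Fintype.card_fin]; rfl)) h360)
    exact (he ▸ Equiv.Perm.mem_alternatingGroup.2 hπ :)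
  let K : AddSubgroup (Fin 6 → ZMod 3) :=
    { carrier := {d | ∃ u k, d = fun i => k + fval (χ i) u}
      zero_mem' := ⟨0, 0, funext fun i => by simp [fval]⟩
      add_mem' := fun {a b} ⟨u, k, ha⟩ ⟨u', k', hb⟩ => ⟨u + u', k + k', funext fun i => by
        rw [Pi.add_apply, ha, hb, fval_add]; ring⟩
      neg_mem' := fun {a} ⟨u, k, ha⟩ => ⟨-u, -k, funext fun i => by
        rw [Pi.neg_apply, ha]; simp [fval]; ring⟩ }
  have hK : ∀ d, ∑ i, d i = 0 → d ∈ K := by
    intro d hd
    obtain ⟨u, hu⟩ : ∃ u, fval (χ 0) u ≠ fval (χ 1) u := by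
      by_contra h
      push Not at h
      exact absurd (hχ (a₁ := 0) (a₂ := 1) (funext fun l => by rw [← fval_single (χ 0) l, h, fval_single]))
        (by decide)
    refine span_sum_zero K ?_ (d0 := fun i => fval (χ i) u) ⟨u, 0, funext fun i => (zero_add _).symm⟩ hu hd
    rintro _ ⟨u, k, rfl⟩ π hπ
    obtain ⟨A, rfl⟩ := hσrange π hπ
    obtain ⟨v, hv⟩ := (W.T_bij A).2 u
    refine ⟨v, k - W.φ A v, funext fun i => ?_⟩
    have h := W.fval_pull A (χ (σ A i)) v
    rw [hσ, hv] at h
    show k + fval (χ (σ A i)) u = _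
    rw [h]
    ring
  have hdiag : ∀ d : Fin 6 → ZMod 3, ∑ i, d i = 0 → ∃ m ∈ M, ∀ c, toEnd V (ρ m) (co' c) = co' (dg d c) := by
    intro d hd
    obtain ⟨u, k, rfl⟩ := hK d hd
    obtain ⟨m, hm, he⟩ := hδS (u, k)
    exact ⟨m, hm, fun c => by rw [he]; exact hdel u k c⟩
  refine ⟨⟨fun c => (co' c).toMul, Additive.toMul.bijective.comp hbij, fun a b => congrArg _ (hadd a b),
    fun d hd => ?_, fun π hπ => ?_, fun m hm c c' h => ?_⟩⟩
  · obtain ⟨m, hm, h⟩ := hdiag d hd
    exact ⟨m, hm, fun c => congrArg Additive.toMul (h c)⟩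
  · obtain ⟨A, rfl⟩ := hσrange π hπ
    obtain ⟨m, hm, he⟩ := hR A
    obtain ⟨m', hm', h'⟩ := hdiag (fun j => -t A ((σ A)⁻¹ j)) (by
      rw [sum_neg_distrib, Equiv.sum_comp ((σ A)⁻¹) (t A), hε, neg_zero])
    refine ⟨m' * m, M.mul_mem hm' hm, fun c => congrArg Additive.toMul ?_⟩
    show toEnd V (ρ (m' * m)) (co' c) = _
    rw [map_mul, map_mul]
    show toEnd V (ρ m') (toEnd V (ρ m) (co' c)) = _
    rw [he]
    have hR' : W.R A (co' c) = co' (fun j => omk (t A ((σ A)⁻¹ j)) (pm (σ A) c j)) := by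
      simp only [co', map_sum, ht]
      exact Fintype.sum_equiv (σ A) _ _ fun i => by simp [pm]
    rw [show toEnd V (L.R A) = W.R A from rfl, hR', h']
    congr 1
    funext j
    simp [dg, omk_facts.2.2.1, omk_facts.2.2.2]
  · have hξ' : toEnd V L.ξ = D.del (0, 1) := by
      show _ = toEnd V _
      rw [L.δ_scalar, kap_one]
    have e : ∀ c, Additive.toMul (co' (dg (fun _ => 1) c)) = L.ξ (co' c).toMul := fun c => by
      show _ = (toEnd V L.ξ (co' c)).toMul
      rw [hξ']
      refine congrArg Additive.toMul ?_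
      rw [hdel]
      simp [fval]
    show ρ m _ = _
    rw [e, e, ← show ρ m (co' c).toMul = (co' c').toMul from h]
    exact (congrArg (fun f : MulAut V => f (co' c).toMul) (hc m hm).eq).symm

end Cfsg.Agent.LargeFischer
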