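import Cfsg.Agent.LargeFischer.ShearData

/-! Finite facts for the fusion in the largest elementary abelian subgroup. -/

set_option autoImplicit false
set_option maxRecDepth 20000
set_option Elab.async false

open Finset

namespace Cfsg.Agent.LargeFischer

/-- every edge starts at a reached point -/
def ordered {α : Type} [DecidableEq α] : List α → List (Fin 3 × α × α) → Bool
  | _, [] => true
  | seen, e :: l => decide (e.2.1 ∈ seen) && ordered (e.2.2 :: seen) l

theorem tree_induction {α : Type} [DecidableEq α] {P : α → Prop} {seen : List α} {l : List (Fin 3 × α × α)}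
    (ho : ordered seen l = true) (hs : ∀ a ∈ seen, P a) (hstep : ∀ e ∈ l, P e.2.1 → P e.2.2) :
    ∀ e ∈ l, P e.2.2 := by
  induction l generalizing seen with
  | nil => simp
  | cons e l ih =>
    simp only [ordered, Bool.and_eq_true, decide_eq_true_eq] at ho
    have he : P e.2.2 := hstep e (List.mem_cons_self ..) (hs _ ho.1)
    intro e' he'
    rcases List.mem_cons.1 he' with rfl | h
    · exact he
    · exact ih ho.2 (List.forall_mem_cons.2 ⟨he, hs⟩) (fun e he => hstep e (List.mem_cons_of_mem _ he)) e' h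

/-- the smaller orbit in the fixed space -/
def treeA : List (Fin 3 × ℕ × ℕ) :=
  [(0, 5, 80), (1, 5, 4090), (2, 5, 10), (0, 80, 1280), (1, 80, 4015), (2, 80, 240), (0, 10, 160), (1, 10, 1375),
    (2, 10, 15), (0, 4015, 2815), (2, 4015, 3925), (0, 240, 3840), (1, 240, 2650), (0, 160, 2560), (1, 160, 1525),
    (1, 15, 2725), (0, 2650, 1450)]

/-- the larger orbit in the fixed space -/
def treeB : List (Fin 3 × ℕ × ℕ) :=
  [(2, 1365, 1530), (0, 1530, 4005), (1, 1530, 2565), (2, 1530, 1455), (0, 4005, 2655), (1, 4005, 1295),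
    (2, 4005, 3930), (0, 2565, 90), (2, 2565, 2570), (0, 1455, 2805), (1, 1455, 2640), (1, 2655, 3850),
    (0, 1295, 245), (2, 1295, 1285), (1, 3930, 1520), (2, 3930, 4095), (0, 90, 1440), (1, 90, 2800), (2, 90, 255),
    (0, 2570, 170), (1, 2570, 3935), (2, 2570, 2575), (1, 2805, 4000), (2, 2805, 2730), (0, 2640, 1290),
    (0, 3850, 175), (2, 3850, 3855), (0, 245, 3920), (0, 1285, 85), (1, 1285, 2810), (0, 1520, 3845),
    (2, 1440, 1360), (2, 2800, 2720), (0, 255, 4080), (2, 255, 165), (2, 170, 95), (0, 3935, 1535), (2, 3935, 4085),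
    (0, 2575, 250), (1, 3855, 1445), (0, 2810, 4010), (2, 2810, 2735), (1, 4080, 1370), (0, 1445, 2645)]

theorem tree_ok : ordered [(1 : Fin 16), 0] [] = true ∧ ordered [((1, 0) : Fin 16 × Fin 8)] edges = true ∧
    ordered [5] treeA = true ∧ ordered [1365] treeB = true ∧
    (∀ e ∈ treeA, gn e.1 (vecN e.2.1) = vecN e.2.2) ∧ (∀ e ∈ treeB, gn e.1 (vecN e.2.1) = vecN e.2.2) ∧
    vecN 1365 = v1 := by decide +kernel

theorem f0_orbits : ∀ p q r : W4, (![p, p, q, q, r, r] : Vec6) ≠ 0 →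
    if InA 1 ![p, p, q, q, r, r] then (vecN 5 = ![p, p, q, q, r, r] ∨ ∃ e ∈ treeA, vecN e.2.2 = ![p, p, q, q, r, r])
    else (vecN 1365 = ![p, p, q, q, r, r] ∨ ∃ e ∈ treeB, vecN e.2.2 = ![p, p, q, q, r, r]) := by decide +kernel

theorem gn_normal : ∀ (g : Fin 3), ∀ c ∈ univ.filter IsK, ∃ c' ∈ univ.filter IsK,
    ∀ i, gn g (cd c (e6 i)) = cd c' (gn g (e6 i)) := by decide +kernel

theorem sm_normal : ∀ (a : ZMod 3), ∀ c ∈ univ.filter IsK,
    ∀ i, sm a (cd c (e6 i)) = cd c (sm a (e6 i)) := by decide +kernel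

theorem pairs_in_K : ∀ p : Fin 16, IsK (p, 0) → p = 0 ∨ p = 1 ∨ p = 10 ∨ p = 15 := by decide +kernel

set_option synthInstance.maxSize 4096 in
theorem f0_u6 : ∀ p q r : W4, U6 1 2 ![p, p, q, q, r, r] →
    (q + r = 0 ∨ q + r = (0, 1)) ∧
    (U6 1 2 (sm 2 ![p, p, q, q, r, r]) → (![p, p, q, q, r, r] : Vec6) = 0 ∨ ∃ i, ![p, p, q, q, r, r] = sm i v1) := by
  decide +kernel

theorem u6_f0_large : (univ.filter fun t : W4 × W4 × W4 => U6 1 2 ![t.1, t.1, t.2.1, t.2.1, t.2.2, t.2.2]).card = 16 ∧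
    U6 1 2 (sm 1 (e6 2 + e6 3)) ∧ ¬InA 1 v1 ∧ InA 1 (vecN 5) := by
  decide +kernel

theorem image_solve : ∀ p q : W4, ∃ a b : W4,
    es (pr 1) (Pi.single 0 a + Pi.single 2 b) + (Pi.single 0 a + Pi.single 2 b) = ![p, p, q, q, q, q] := by
  decide +kernel

end Cfsg.Agent.LargeFischer
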