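import Cfsg.Agent.LargeFischer.FusionH

/-! Fusion of conjugates of the central involution in the largest elementary abelian subgroup. -/

set_option autoImplicit false
set_option maxRecDepth 20000
set_option Elab.async false

open Finset Cfsg Cfsg.Agent

namespace Cfsg.Agent.LargeFischer

theorem elementary_map {H K : Type*} [Group H] [Group K] (f : H →* K) {A : Subgroup H} (hA : IsElementaryAbelian 2 A) :
    IsElementaryAbelian 2 (A.map f) := by
  refine ⟨⟨⟨?_⟩⟩, ?_⟩
  · rintro ⟨_, a, ha, rfl⟩ ⟨_, b, hb, rfl⟩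
    refine Subtype.ext ?_
    show f a * f b = f b * f a
    rw [← map_mul, ← map_mul, show a * b = b * a from congrArg Subtype.val (hA.1.is_comm.comm (⟨a, ha⟩ : ↥A) ⟨b, hb⟩)]
  · rintro _ ⟨a, ha, rfl⟩
    rw [← map_pow, hA.2 a ha, map_one]

theorem elementary_subgroupOf {H : Type*} [Group H] {A K : Subgroup H} (hA : IsElementaryAbelian 2 A) :
    IsElementaryAbelian 2 (A.subgroupOf K) := by
  refine ⟨⟨⟨fun a b => Subtype.ext (Subtype.ext ?_)⟩⟩, fun a ha => Subtype.ext ?_⟩
  · exact (congrArg Subtype.val (hA.1.is_comm.comm (⟨_, a.2⟩ : ↥A) ⟨_, b.2⟩) :)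
  · exact hA.2 _ ha

namespace Data
namespace MaxData

variable {G : Type*} [Group G] [Finite G] {z : G}
  {Q : Subgroup (Subgroup.centralizer ({z} : Set G))} [Q.Normal] {D : Data z Q} (M : D.MaxData)
include M

/-- the subgroup inside the whole group -/
def AG : Subgroup G := M.A.map (Subgroup.centralizer ({z} : Set G)).subtype

theorem mem_AG {a : G} : a ∈ M.AG ↔ ∃ h : Subgroup.centralizer ({z} : Set G), h ∈ M.A ∧ (h : G) = a :=
  Subgroup.mem_map

theorem coe_mem_AG {h : Subgroup.centralizer ({z} : Set G)} : (h : G) ∈ M.AG ↔ h ∈ M.A :=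
  Subgroup.mem_map_iff_mem (Subgroup.centralizer ({z} : Set G)).subtype_injective

theorem z_mem_AG : z ∈ M.AG := M.coe_mem_AG.2 M.zc_mem_A

theorem card_AG : Nat.card ↥M.AG = 2 ^ 11 := by
  rw [AG, Subgroup.card_map_of_injective (Subgroup.centralizer ({z} : Set G)).subtype_injective, M.card]

theorem el_AG : IsElementaryAbelian 2 M.AG := elementary_map _ M.el

theorem norm_AG {h : Subgroup.centralizer ({z} : Set G)}
    (hh : h ∈ Subgroup.normalizer (M.A : Set (Subgroup.centralizer ({z} : Set G)))) :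
    (h : G) ∈ Subgroup.normalizer (M.AG : Set G) := by
  have hA : ∀ a, a ∈ M.A ↔ h * a * h⁻¹ ∈ M.A := Subgroup.mem_normalizer_iff.1 hh
  refine Subgroup.mem_normalizer_iff.2 fun a => ⟨fun ha => ?_, fun ha => ?_⟩
  · obtain ⟨b, hb, rfl⟩ := M.mem_AG.1 ha
    exact M.mem_AG.2 ⟨_, (hA b).1 hb, rfl⟩
  · obtain ⟨b, hb, e⟩ := M.mem_AG.1 ha
    refine M.mem_AG.2 ⟨h⁻¹ * b * h, (hA _).2 (by rwa [show h * (h⁻¹ * b * h) * h⁻¹ = b by group]), ?_⟩
    simp only [Subgroup.coe_mul, Subgroup.coe_inv]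
    change (b : G) = (h : G) * a * (h : G)⁻¹ at e
    rw [e]
    group

theorem exists_sylow : ∃ R : Sylow 2 G, (R : Subgroup G) =
    (M.P : Subgroup (Subgroup.centralizer ({z} : Set G))).map (Subgroup.centralizer ({z} : Set G)).subtype := by
  haveI : Fact (Nat.Prime 2) := ⟨Nat.prime_two⟩
  set PG := (M.P : Subgroup (Subgroup.centralizer ({z} : Set G))).map (Subgroup.centralizer ({z} : Set G)).subtype with hPG
  obtain ⟨R, hR⟩ := (M.P.isPGroup'.map (Subgroup.centralizer ({z} : Set G)).subtype).exists_le_sylow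
  refine ⟨R, le_antisymm ?_ hR⟩
  by_contra hne
  have hK : PG.subgroupOf R < ⊤ := lt_top_iff_ne_top.2 fun e => hne (Subgroup.subgroupOf_eq_top.1 e)
  haveI : Group.IsNilpotent ↥(R : Subgroup G) := R.isPGroup'.isNilpotent
  have hlt := Group.normalizerCondition_of_isNilpotent (G := ↥(R : Subgroup G)) _ hK
  obtain ⟨r, hr, hrK⟩ := SetLike.exists_of_lt hlt
  rw [Subgroup.mem_normalizer_iff] at hr
  have hnorm : ∀ p ∈ PG, (r : G) * p * (r : G)⁻¹ ∈ PG := fun p hp => (hr ⟨p, hR hp⟩).1 hp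
  have hzP : z ∈ PG := ⟨zc z, M.le M.zc_mem_A, rfl⟩
  obtain ⟨c, hcP, hc⟩ := hnorm z hzP
  have hcQ : c ∈ Q := cent_le D.b fun q hq => Subtype.ext (by
    have hqP : (q : G) ∈ PG := ⟨q, M.leP hq, rfl⟩
    have h' : (r : G)⁻¹ * q * r ∈ PG := by
      have himg : PG.map (MulAut.conj (r : G)).toMonoidHom = PG := by
        refine Subgroup.eq_of_le_of_card_ge ?_ (Subgroup.card_map_of_injective (MulAut.conj (r : G)).injective).ge
        rintro _ ⟨p, hp, rfl⟩
        exact hnorm p hp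
      obtain ⟨p, hp, e⟩ := himg.ge hqP
      rw [show (r : G)⁻¹ * q * r = p by rw [← e]; simp [mul_assoc]]
      exact hp
    obtain ⟨q', -, hq'⟩ := h'
    have hcomm : z * (q' : G) = (q' : G) * z := (Subgroup.mem_centralizer_singleton_iff.1 q'.2).symm
    rw [show (q' : G) = (r : G)⁻¹ * q * r from hq'] at hcomm
    show (c : G) * q = q * c
    rw [show (c : G) = (r : G) * z * (r : G)⁻¹ from hc]
    calc (r : G) * z * (r : G)⁻¹ * q = (r : G) * (z * ((r : G)⁻¹ * q * r)) * (r : G)⁻¹ := by group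
      _ = (r : G) * ((r : G)⁻¹ * q * r * z) * (r : G)⁻¹ := by rw [hcomm]
      _ = q * ((r : G) * z * (r : G)⁻¹) := by group)
  have hcz : c = zc z := by
    rcases (center_iff D.b).1 (show (⟨c, hcQ⟩ : Q) ∈ Subgroup.center ↥Q from Subgroup.mem_center_iff.2 fun q => by
      obtain ⟨q, hq⟩ := q
      have h' : (q : G) * c = c * q := by
        have hqP : (q : G) ∈ PG := ⟨q, M.leP hq, rfl⟩
        obtain ⟨q', hq', e'⟩ := hqP
        have hqq : q' = q := Subtype.ext e'
        subst hqq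
        have himg : PG.map (MulAut.conj (r : G)).toMonoidHom = PG := by
          refine Subgroup.eq_of_le_of_card_ge ?_ (Subgroup.card_map_of_injective (MulAut.conj (r : G)).injective).ge
          rintro _ ⟨p, hp, rfl⟩
          exact hnorm p hp
        obtain ⟨_, ⟨p, hp, rfl⟩, e⟩ := himg.ge (show (q' : G) ∈ PG from ⟨q', hq', rfl⟩)
        have e1 : (r : G) * p * (r : G)⁻¹ = (q' : G) := e
        rw [← e1, show (c : G) = (r : G) * z * (r : G)⁻¹ from hc]
        have e2 := Subgroup.mem_centralizer_singleton_iff.1 p.2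
        calc (r : G) * p * (r : G)⁻¹ * ((r : G) * z * (r : G)⁻¹) = (r : G) * ((p : G) * z) * (r : G)⁻¹ := by group
          _ = (r : G) * (z * p) * (r : G)⁻¹ := by rw [e2]
          _ = _ := by group
      exact Subtype.ext (Subtype.ext h')) with h | h
    · exfalso
      have h1 : (c : G) = 1 := congrArg (fun q : Q => ((q : (Subgroup.centralizer ({z} : Set G))) : G)) h
      rw [show (c : G) = (r : G) * z * (r : G)⁻¹ from hc, mul_inv_eq_one] at h1
      exact D.setting.ne_one (mul_eq_left.1 h1)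
    · exact h
  have hrH : (r : G) ∈ (Subgroup.centralizer ({z} : Set G)) := by
    rw [Subgroup.mem_centralizer_singleton_iff, ← mul_inv_eq_iff_eq_mul]
    rw [hcz] at hc
    exact hc.symm
  have hR' : (R : Subgroup G).subgroupOf (Subgroup.centralizer ({z} : Set G)) = M.P := M.P.is_maximal'
    (R.isPGroup'.comap_of_injective (Subgroup.centralizer ({z} : Set G)).subtype (Subgroup.centralizer ({z} : Set G)).subtype_injective) fun p hp => hR ⟨p, hp, rfl⟩
  exact hrK ⟨⟨(r : G), hrH⟩, hR'.le (show (r : G) ∈ (R : Subgroup G) from r.2), rfl⟩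

theorem conj_into (B : Subgroup G) (hB : IsElementaryAbelian 2 B) (hBc : 2 ^ 11 ≤ Nat.card ↥B)
    (hBH : B ≤ Subgroup.centralizer ({z} : Set G)) :
    ∃ h : Subgroup.centralizer ({z} : Set G), B = M.AG.map (MulAut.conj (h : G)).toMonoidHom := by
  haveI : Fact (Nat.Prime 2) := ⟨Nat.prime_two⟩
  set B0 := B.subgroupOf (Subgroup.centralizer ({z} : Set G)) with hB0
  have hB0c : Nat.card ↥B0 = Nat.card ↥B := Nat.card_congr (Subgroup.subgroupOfEquivOfLe hBH).toEquiv
  have hpg : IsPGroup 2 ↥B0 := fun a => ⟨1, Subtype.ext (by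
    rw [pow_one, SubmonoidClass.coe_pow]; exact (elementary_subgroupOf (K := (Subgroup.centralizer ({z} : Set G))) hB).2 _ a.2)⟩
  obtain ⟨T, hT⟩ := hpg.exists_le_sylow
  obtain ⟨h, rfl⟩ := MulAction.exists_smul_eq ↥(Subgroup.centralizer ({z} : Set G)) M.P T
  have h0 : B0.map (MulAut.conj h).symm.toMonoidHom = M.A := M.uniq _ (by
    rintro _ ⟨b, hb, rfl⟩
    obtain ⟨p, hp, e⟩ := hT hb
    rw [← e]
    show (MulAut.conj h).symm (MulAut.conj h p) ∈ M.P
    rw [MulEquiv.symm_apply_apply]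
    exact hp) (elementary_map _ (elementary_subgroupOf hB))
    (by rw [Subgroup.card_map_of_injective (MulAut.conj h).symm.injective, hB0c]; exact hBc)
  refine ⟨h, (Subgroup.eq_of_le_of_card_ge ?_ ?_).symm⟩
  · rintro _ ⟨_, ⟨a, ha, rfl⟩, rfl⟩
    rw [← h0] at ha
    obtain ⟨b, hb, rfl⟩ := ha
    have e : MulAut.conj (h : G) (((MulAut.conj h).symm b : (Subgroup.centralizer ({z} : Set G))) : G) = (b : G) := by
      simp [mul_assoc]
    show MulAut.conj (h : G) (((MulAut.conj h).symm b : (Subgroup.centralizer ({z} : Set G))) : G) ∈ B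
    rw [e]
    exact hb
  · rw [Subgroup.card_map_of_injective (MulAut.conj (h : G)).injective, M.card_AG]
    have h1 : Nat.card ↥M.A = Nat.card ↥B0 := by
      rw [← h0, Subgroup.card_map_of_injective (MulAut.conj h).symm.injective]
    rw [← hB0c, ← h1, M.card]

/-- fusion of the conjugates of the central involution -/
theorem fusion_z {a : G} (ha : a ∈ M.AG) (hz : IsConj z a) :
    ∃ n ∈ Subgroup.normalizer (M.AG : Set G), n * z * n⁻¹ = a := by
  obtain ⟨g, hg⟩ := isConj_iff.1 hz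
  have hcomm : ∀ b ∈ M.AG, b * a = a * b := fun b hb =>
    congrArg Subtype.val (M.el_AG.1.is_comm.comm (⟨b, hb⟩ : ↥M.AG) ⟨a, ha⟩)
  obtain ⟨h, hh⟩ := M.conj_into (M.AG.map (MulAut.conj g⁻¹).toMonoidHom) (elementary_map _ M.el_AG)
    (by rw [Subgroup.card_map_of_injective (MulAut.conj g⁻¹).injective, M.card_AG]) (by
      rintro _ ⟨b, hb, rfl⟩
      rw [Subgroup.mem_centralizer_singleton_iff]
      show g⁻¹ * b * g⁻¹⁻¹ * z = z * (g⁻¹ * b * g⁻¹⁻¹)
      calc g⁻¹ * b * g⁻¹⁻¹ * z = g⁻¹ * (b * (g * z * g⁻¹)) * g := by group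
        _ = g⁻¹ * ((g * z * g⁻¹) * b) * g := by rw [hg, hcomm b hb]
        _ = z * (g⁻¹ * b * g⁻¹⁻¹) := by group)
  refine ⟨g * (h : G), ?_, ?_⟩
  · have himg : M.AG.map (MulAut.conj (g * (h : G))).toMonoidHom = M.AG := by
      rw [map_mul, show (MulAut.conj g * MulAut.conj (h : G)).toMonoidHom =
        (MulAut.conj g).toMonoidHom.comp (MulAut.conj (h : G)).toMonoidHom from rfl, ← Subgroup.map_map, ← hh,
        Subgroup.map_map]
      convert Subgroup.map_id M.AG using 2
      ext b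
      simp [mul_assoc]
    refine Subgroup.mem_normalizer_iff.2 fun b => ⟨fun hb => himg.le ⟨b, hb, rfl⟩, fun hb => ?_⟩
    obtain ⟨c, hc, e⟩ := himg.ge hb
    rwa [← mul_left_cancel (mul_right_cancel (show g * (h : G) * c * (g * (h : G))⁻¹ = g * (h : G) * b * (g * (h : G))⁻¹ from e))]
  · calc g * (h : G) * z * (g * (h : G))⁻¹ = g * ((h : G) * z * (h : G)⁻¹) * g⁻¹ := by group
      _ = a := by rw [Subgroup.mem_centralizer_singleton_iff.1 h.2, mul_inv_cancel_right, hg]

end MaxData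
end Data
end Cfsg.Agent.LargeFischer
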