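import Cfsg.Agent.LargeFischer.MaxElem
import Cfsg.Agent.LargeFischer.FusionData

/-! The normaliser of the largest elementary abelian subgroup inside the centraliser. -/

set_option autoImplicit false
set_option maxRecDepth 20000
set_option Elab.async false

open Finset Cfsg Cfsg.Agent

namespace Cfsg.Agent.LargeFischer
namespace Data

variable {G : Type*} [Group G] [Finite G] {z : G}
  {Q : Subgroup (Subgroup.centralizer ({z} : Set G))} [Q.Normal]

/-- what is known of the largest elementary abelian subgroup -/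
structure MaxData (D : Data z Q) where
  /-- the Sylow group -/
  P : Sylow 2 ↥(Subgroup.centralizer ({z} : Set G))
  /-- the subgroup -/
  A : Subgroup (Subgroup.centralizer ({z} : Set G))
  /-- its part inside `Q` -/
  W0 : Subgroup (Subgroup.centralizer ({z} : Set G))
  le : A ≤ P
  el : IsElementaryAbelian 2 A
  card : Nat.card A = 2 ^ 11
  cardW : Nat.card W0 = 2 ^ 7
  uniq : ∀ B : Subgroup (Subgroup.centralizer ({z} : Set G)), B ≤ P → IsElementaryAbelian 2 B →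
    2 ^ 11 ≤ Nat.card B → B = A
  leP : Q ≤ P
  memA : ∀ a, a ∈ A ↔ (a ∈ P ∧ a ∈ D.Lin) ∧ ∀ w ∈ W0, a * w = w * a
  memW : ∀ w, w ∈ W0 ↔ ∃ q : Q, (∃ c ∈ F0, (q : ↥Q ⧸ Subgroup.center ↥Q) = D.F.co c) ∧ (q : _) = w
  infQ : A ⊓ Q = W0
  lift : ∀ c, IsK c → ∃ a ∈ A, ∀ x, cact D.F a x = cd c x
  code : ∀ a ∈ A, ∃ c, IsK c ∧ ∀ x, cact D.F a x = cd c x

theorem exists_maxData (D : Data z Q) (hF : IsOfLargeFischerTypeAt z Q) (hc : D.c = 1) : Nonempty D.MaxData := by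
  obtain ⟨P, A, h1, h2, h3, h4, -, h5, h6, W0, h7, h8, h9, h10, h11⟩ := D.exists_max_elem hF hc
  exact ⟨⟨P, A, W0, h1, h2, h3, by rw [← h9]; exact h4, h5, h6, h7, h8, h9, h10, h11⟩⟩

namespace MaxData

variable {D : Data z Q} (M : D.MaxData)
include M

theorem comm {a b : Subgroup.centralizer ({z} : Set G)} (ha : a ∈ M.A) (hb : b ∈ M.A) : a * b = b * a :=
  congrArg Subtype.val (M.el.1.is_comm.comm (⟨a, ha⟩ : ↥M.A) ⟨b, hb⟩)

theorem sq {a : Subgroup.centralizer ({z} : Set G)} (ha : a ∈ M.A) : a * a = 1 := by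
  have h := M.el.2 a ha
  rwa [_root_.sq] at h

theorem mem_Q_iff {q : Q} {u : Vec6} (h : (q : ↥Q ⧸ Subgroup.center ↥Q) = D.F.co u) :
    (q : Subgroup.centralizer ({z} : Set G)) ∈ M.A ↔ u ∈ F0 := by
  constructor
  · intro hq
    obtain ⟨q', ⟨c, hc, e⟩, hq'⟩ := (M.memW _).1 (M.infQ.le (show (q : Subgroup.centralizer ({z} : Set G)) ∈ M.A ⊓ Q from ⟨hq, q.2⟩))
    rw [Subtype.ext hq', h] at e
    exact (D.F.bij.1 e) ▸ hc
  · intro hu
    exact (M.infQ.ge ((M.memW _).2 ⟨q, ⟨u, hu, h⟩, rfl⟩)).1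

theorem W_le {w : Subgroup.centralizer ({z} : Set G)} (hw : w ∈ M.W0) : w ∈ M.A ∧ w ∈ Q :=
  M.infQ.ge hw

theorem zc_mem_A : zc z ∈ M.A := (M.mem_Q_iff (q := ⟨zc z, zc_mem D.b⟩) (u := 0) (by
  rw [co_zero D.b D.F]; exact (QuotientGroup.eq_one_iff _).2 ((center_iff D.b).2 (Or.inr rfl)))).2 F0.zero_mem

theorem fix {a : Subgroup.centralizer ({z} : Set G)} (ha : a ∈ M.A) {u : Vec6} (hu : u ∈ F0) :
    cact D.F a u = u := by
  refine cact_eq D.F ?_
  rw [← mk_lift D.F u, actV_mk]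
  congr 1
  refine Subtype.ext ?_
  rw [MulAut.conjNormal_apply]
  exact mul_inv_eq_iff_eq_mul.2 (M.comm ha ((M.mem_Q_iff (mk_lift D.F u)).2 hu))

/-- the action and the commutation decide membership -/
theorem mem_of {a h : Subgroup.centralizer ({z} : Set G)} (ha : a ∈ M.A)
    (hw : ∀ w ∈ M.W0, h * w = w * h) (hact : ∀ x, cact D.F a x = cact D.F h x) : h ∈ M.A := by
  have hq : a⁻¹ * h ∈ Q := D.mem_Q_of_act fun c => cact_inj D.F a (by rw [← cact_mul, mul_inv_cancel_left, hact])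
  suffices a⁻¹ * h ∈ M.A by simpa using M.A.mul_mem ha this
  obtain ⟨c, hc⟩ := D.F.bij.2 ((⟨_, hq⟩ : Q) : ↥Q ⧸ Subgroup.center ↥Q)
  refine (M.mem_Q_iff (q := ⟨_, hq⟩) hc.symm).2 ?_
  rw [← perp_F0]
  intro u hu
  rw [bp_symm]
  refine (D.comm_bp hc.symm (mk_lift D.F u)).1 (Subtype.ext ?_)
  have hwW : ((LargeFischer.lift D.F u : Q) : Subgroup.centralizer ({z} : Set G)) ∈ M.W0 :=
    (M.memW _).2 ⟨_, ⟨u, hu, mk_lift D.F u⟩, rfl⟩
  show a⁻¹ * h * _ = _ * (a⁻¹ * h)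
  exact (Commute.inv_left (M.comm ha (M.W_le hwW).1)).mul_left (hw _ hwW)

/-- elements preserving the fixed space and the group of actions normalise the subgroup -/
theorem norm_crit {h : Subgroup.centralizer ({z} : Set G)} (hF0 : ∀ u ∈ F0, cact D.F h u ∈ F0)
    (hK : ∀ c, IsK c → ∃ c', IsK c' ∧ ∀ x, cact D.F h (cd c x) = cd c' (cact D.F h x)) :
    h ∈ Subgroup.normalizer (M.A : Set (Subgroup.centralizer ({z} : Set G))) := by
  classical
  have hW : ∀ w ∈ M.W0, h⁻¹ * w * h ∈ M.W0 := by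
    intro w hw
    obtain ⟨r, ⟨u, hu, hr⟩, rfl⟩ := (M.memW w).1 hw
    let φ : ↥F0 → ↥F0 := fun u => ⟨cact D.F h u.1, hF0 _ u.2⟩
    have hi : Function.Injective φ := fun u u' e => Subtype.ext (cact_inj D.F h (congrArg Subtype.val e))
    obtain ⟨u', hu'⟩ := (Finite.injective_iff_surjective.1 hi) ⟨u, hu⟩
    refine (M.memW _).2 ⟨MulAut.conjNormal h⁻¹ r, ⟨u'.1, u'.2, ?_⟩, by simp⟩
    rw [← actV_mk, hr, ← co_cact]
    congr 1
    refine cact_inj D.F h ?_
    rw [← cact_mul, mul_inv_cancel, cact_one]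
    exact (congrArg Subtype.val hu').symm
  have hmap : ∀ a ∈ M.A, h * a * h⁻¹ ∈ M.A := by
    intro a ha
    obtain ⟨c, hc, hca⟩ := M.code a ha
    obtain ⟨c', hc', hcc⟩ := hK c hc
    obtain ⟨a', ha', ha'c⟩ := M.lift c' hc'
    refine M.mem_of ha' (fun w hw => ?_) fun x => ?_
    · have := M.comm ha (M.W_le (hW w hw)).1
      calc h * a * h⁻¹ * w = h * (a * (h⁻¹ * w * h)) * h⁻¹ := by group
        _ = h * ((h⁻¹ * w * h) * a) * h⁻¹ := by rw [this]
        _ = w * (h * a * h⁻¹) := by group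
    · rw [ha'c, cact_mul, cact_mul, hca, hcc, ← cact_mul D.F h, mul_inv_cancel, cact_one]
  refine Subgroup.mem_normalizer_iff.2 fun a => ⟨hmap a, fun ha => ?_⟩
  have himg : M.A.map (MulAut.conj h).toMonoidHom = M.A := by
    refine Subgroup.eq_of_le_of_card_ge ?_ (by
      rw [Subgroup.card_map_of_injective (MulAut.conj h).injective])
    rintro _ ⟨b, hb, rfl⟩
    exact hmap b hb
  obtain ⟨b, hb, e⟩ := himg.ge ha
  rwa [← mul_left_cancel (mul_right_cancel (show h * b * h⁻¹ = h * a * h⁻¹ from e))]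

theorem norm_Q {q : Subgroup.centralizer ({z} : Set G)} (hq : q ∈ Q) :
    q ∈ Subgroup.normalizer (M.A : Set (Subgroup.centralizer ({z} : Set G))) :=
  M.norm_crit (fun u hu => by rwa [D.cact_Q hq]) fun c hc => ⟨c, hc, fun x => by rw [D.cact_Q hq, D.cact_Q hq]⟩

theorem norm_lin {h : Subgroup.centralizer ({z} : Set G)} {f : Vec6 → Vec6} (hf : IsLin f)
    (hh : ∀ x, cact D.F h x = f x) (hF0 : ∀ i, f (f0 i) ∈ F0)
    (hK : ∀ c ∈ univ.filter IsK, ∃ c' ∈ univ.filter IsK, ∀ i, f (cd c (e6 i)) = cd c' (f (e6 i))) :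
    h ∈ Subgroup.normalizer (M.A : Set (Subgroup.centralizer ({z} : Set G))) := by
  refine M.norm_crit (fun u hu => ?_) fun c hc => ?_
  · rw [hh]
    let K : AddSubgroup Vec6 :=
      { carrier := {u | f u ∈ F0}
        zero_mem' := by rw [Set.mem_ofPred_eq, hf.zero]; exact F0.zero_mem
        add_mem' := fun {a b} ha hb => show f (a + b) ∈ F0 by rw [hf.add]; exact F0.add_mem ha hb
        neg_mem' := fun {a} ha => by rwa [show -a = a from funext fun _ => (show ∀ p : W4, -p = p by decide) _] }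
    exact F0_decomp (U := K) hF0 hu
  · obtain ⟨c', hc', e⟩ := hK c (by simpa using hc)
    refine ⟨c', by simpa using hc', fun x => ?_⟩
    rw [hh, hh]
    exact IsLin.ext (hf.comp (isLin_cd c)) ((isLin_cd c').comp hf) e x

theorem exists_gn (hP : ∀ p, ∃ h : Subgroup.centralizer ({z} : Set G), ∀ x, cact D.F h x = es (pr p) x) (g : Fin 3) :
    ∃ h ∈ Subgroup.normalizer (M.A : Set (Subgroup.centralizer ({z} : Set G))), ∀ x, cact D.F h x = gn g x := by
  obtain ⟨m, hm⟩ : ∃ m : Subgroup.centralizer ({z} : Set G), ∀ x, cact D.F m x = gn g x := by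
    rcases (show ∀ g : Fin 3, g = 0 ∨ g = 1 ∨ g = 2 by decide) g with rfl | rfl | rfl
    · obtain ⟨m, -, h⟩ := D.F.perm _ gn_sum.2.1
      exact ⟨m, fun x => cact_eq D.F (h x)⟩
    · obtain ⟨m, h⟩ := hP 2
      exact ⟨m, fun x => by rw [h, gn_sum.2.2]; rfl⟩
    · obtain ⟨m, -, h⟩ := D.F.diag _ gn_sum.1
      exact ⟨m, fun x => cact_eq D.F (h x)⟩
  exact ⟨m, M.norm_lin (isLin_gn g) hm (fun i => gn_f0 g i) (gn_normal g), hm⟩

theorem norm_scalar {h : Subgroup.centralizer ({z} : Set G)} {a : ZMod 3} (hh : ∀ x, cact D.F h x = sm a x) :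
    h ∈ Subgroup.normalizer (M.A : Set (Subgroup.centralizer ({z} : Set G))) :=
  M.norm_lin (isLin_dg _) hh (fun i => F0_sm (f0_mem i) a) fun c hc => ⟨c, hc, sm_normal a c hc⟩

/-- every action is conjugate to the first shear -/
theorem code_trans (hP : ∀ p, ∃ h : Subgroup.centralizer ({z} : Set G), ∀ x, cact D.F h x = es (pr p) x)
    {c : Fin 16 × Fin 8} (hc : IsK c) (hc0 : c ≠ (0, 0)) :
    ∃ h ∈ Subgroup.normalizer (M.A : Set (Subgroup.centralizer ({z} : Set G))),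
      ∀ x, cact D.F h (cd (1, 0) x) = cd c (cact D.F h x) := by
  let R : Fin 16 × Fin 8 → Prop := fun c => ∃ h ∈ Subgroup.normalizer (M.A : Set (Subgroup.centralizer ({z} : Set G))),
      ∀ x, cact D.F h (cd (1, 0) x) = cd c (cact D.F h x)
  have h1 : R (1, 0) := ⟨1, one_mem _, fun x => by rw [cact_one, cact_one]⟩
  have hR : ∀ e ∈ edges, R e.2.2 := tree_induction tree_ok.2.1 (by simpa using h1) fun e he ⟨h, hh, hx⟩ => by
    obtain ⟨m, hm, hmx⟩ := M.exists_gn hP e.1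
    refine ⟨m * h, mul_mem hm hh, fun x => ?_⟩
    rw [cact_mul, cact_mul, hx, hmx, hmx]
    exact IsLin.ext ((isLin_gn _).comp (isLin_cd _)) ((isLin_cd _).comp (isLin_gn _)) (edges_ok e he).2.2 _
  rcases edges_cover c hc hc0 with rfl | ⟨e, he, rfl⟩
  · exact h1
  · exact hR e he

/-- classes in the fixed space -/
theorem class_trans (hP : ∀ p, ∃ h : Subgroup.centralizer ({z} : Set G), ∀ x, cact D.F h x = es (pr p) x)
    {u u' : Vec6} (hu : u ∈ F0) (hu0 : u ≠ 0) (hu' : u' ∈ F0) (hu0' : u' ≠ 0) (hA : InA 1 u ↔ InA 1 u')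
    {q q' : Q} (hq : (q : ↥Q ⧸ Subgroup.center ↥Q) = D.F.co u) (hq' : (q' : ↥Q ⧸ Subgroup.center ↥Q) = D.F.co u') :
    ∃ h ∈ Subgroup.normalizer (M.A : Set (Subgroup.centralizer ({z} : Set G))), MulAut.conjNormal h q = q' := by
  set N := Subgroup.normalizer (M.A : Set (Subgroup.centralizer ({z} : Set G))) with hN
  have reach : ∀ (r : ℕ) (l : List (Fin 3 × ℕ × ℕ)), ordered [r] l = true →
      (∀ e ∈ l, gn e.1 (vecN e.2.1) = vecN e.2.2) → ∀ w, (vecN r = w ∨ ∃ e ∈ l, vecN e.2.2 = w) →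
      ∃ h ∈ N, cact D.F h (vecN r) = w := by
    intro r l ho hl w hw
    have h0 : ∃ h ∈ N, cact D.F h (vecN r) = vecN r := ⟨1, one_mem _, cact_one D.F _⟩
    have hR := tree_induction (P := fun n => ∃ h ∈ N, cact D.F h (vecN r) = vecN n) ho (by simpa using h0)
      fun e he ⟨h, hh, hx⟩ => by
        obtain ⟨m, hm, hmx⟩ := M.exists_gn hP e.1
        exact ⟨m * h, mul_mem hm hh, by rw [cact_mul, hx, hmx, hl e he]⟩
    rcases hw with rfl | ⟨e, he, rfl⟩
    · exact h0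
    · exact hR e he
  have norm : ∀ w ∈ F0, ![w 0, w 0, w 2, w 2, w 4, w 4] = w := fun w ⟨a, b, c⟩ =>
    funext fun l => by fin_cases l <;> simp [← a, ← b, ← c]
  have hcases : ∀ w ∈ F0, w ≠ 0 → ∃ h ∈ N, cact D.F h (vecN (if InA 1 w then 5 else 1365)) = w := by
    intro w hw hw0
    have h := f0_orbits (w 0) (w 2) (w 4)
    rw [norm w hw] at h
    have h' := h hw0
    split_ifs at h' ⊢ with hA
    · exact reach 5 treeA tree_ok.2.2.1 tree_ok.2.2.2.2.1 w h'
    · exact reach 1365 treeB tree_ok.2.2.2.1 tree_ok.2.2.2.2.2.1 w h'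
  obtain ⟨h, hh, e⟩ := hcases u hu hu0
  obtain ⟨h', hh', e'⟩ := hcases u' hu' hu0'
  rw [if_congr hA rfl rfl] at e
  set k := h' * h⁻¹ with hk
  have hku : cact D.F k u = u' := by
    rw [hk, ← e, cact_mul, ← cact_mul D.F h⁻¹, inv_mul_cancel, cact_one, e']
  have h1 : ((MulAut.conjNormal k q : Q) : ↥Q ⧸ Subgroup.center ↥Q) = D.F.co u' := by
    rw [← actV_mk, hq, ← co_cact, hku]
  obtain ⟨r, hr⟩ := D.class_conj (D.notMem_center h1 hu0') (h1.trans hq'.symm)
  refine ⟨(r : Subgroup.centralizer ({z} : Set G)) * k, mul_mem (M.norm_Q r.2) (mul_mem hh' (inv_mem hh)), ?_⟩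
  rw [← hr]
  refine Subtype.ext ?_
  simp only [MulAut.conjNormal_apply, Subgroup.coe_mul, Subgroup.coe_inv]
  group

end MaxData
end Data
end Cfsg.Agent.LargeFischer
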