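import Cfsg.Agent.LargeFischer.IdemData
import Mathlib.Algebra.Module.NatInt
import Mathlib.Algebra.BigOperators.Ring.Finset
import Mathlib.SetTheory.Cardinal.Finite

/-! Orthogonal idempotents of an elementary abelian group of order 243 acting on a group of
exponent two. -/

set_option autoImplicit false
set_option maxRecDepth 20000
set_option Elab.async false

open Finset

namespace Cfsg.Agent.LargeFischer

variable {V : Type*} [AddCommGroup V]

/-- An action of the group of order 243. -/
structure Act243 (V : Type*) [AddCommGroup V] where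
  two : ∀ w : V, w + w = 0
  /-- the action -/
  del : DVec → AddMonoid.End V
  del_zero : del 0 = 1
  del_add : ∀ a b, del (a + b) = del a * del b

namespace Act243

variable (D : Act243 V)
include D

theorem end_two (f : AddMonoid.End V) : f + f = 0 := AddMonoidHom.ext fun w => D.two (f w)

theorem odd_nsmul {n : ℕ} (hn : Odd n) (f : AddMonoid.End V) : n • f = f := by
  obtain ⟨m, rfl⟩ := hn
  rw [add_nsmul, one_nsmul, mul_nsmul, two_nsmul, D.end_two, nsmul_zero, zero_add]

theorem even_nsmul {n : ℕ} (hn : Even n) (f : AddMonoid.End V) : n • f = 0 := by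
  obtain ⟨m, rfl⟩ := hn
  rw [add_nsmul, D.end_two]

/-- the element of order three with trivial first part -/
def x : AddMonoid.End V := D.del (0, 1)

/-- its norm -/
def n : AddMonoid.End V := D.del (0, 0) + D.del (0, 1) + D.del (0, 2)

/-- its complementary idempotent -/
def e : AddMonoid.End V := D.del (0, 1) + D.del (0, 2)

theorem comm (a b : DVec) : D.del a * D.del b = D.del b * D.del a := by
  rw [← D.del_add, ← D.del_add, add_comm]

theorem del00 : D.del (0, 0) = 1 := D.del_zero

theorem one_eq : (1 : AddMonoid.End V) = D.e + D.n := by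
  rw [n, e, D.del00]
  calc (1 : AddMonoid.End V) = 1 + ((D.del (0, 1) + D.del (0, 2)) + (D.del (0, 1) + D.del (0, 2))) := by
        rw [D.end_two, add_zero]
    _ = _ := by abel

theorem n_comm (a : DVec) : D.n * D.del a = D.del a * D.n := by
  simp only [n, add_mul, mul_add, D.comm]

theorem e_comm (a : DVec) : D.e * D.del a = D.del a * D.e := by
  simp only [e, add_mul, mul_add, D.comm]

theorem n_scalar (k : ZMod 3) : D.n * D.del (0, k) = D.n := by
  simp only [n, add_mul, ← D.del_add, Prod.mk_add_mk, add_zero, zero_add]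
  rcases (show ∀ k : ZMod 3, k = 0 ∨ k = 1 ∨ k = 2 by decide) k with rfl | rfl | rfl
  · simp
  · rw [show (1 : ZMod 3) + 1 = 2 from rfl, show (2 : ZMod 3) + 1 = 0 from rfl]; abel
  · rw [show (1 : ZMod 3) + 2 = 0 from rfl, show (2 : ZMod 3) + 2 = 1 from rfl]; abel

theorem n_n : D.n * D.n = D.n := by
  conv_lhs => arg 2; rw [n]
  rw [mul_add, mul_add, D.n_scalar, D.n_scalar, D.n_scalar, D.end_two, zero_add]

theorem e_n : D.e * D.n = 0 := by
  have h := congrArg (fun f => f * D.n) D.one_eq
  simp only [one_mul, add_mul, D.n_n] at h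
  exact right_eq_add.1 h

theorem n_e : D.n * D.e = 0 := by
  rw [e, mul_add, D.n_scalar, D.n_scalar, D.end_two]

theorem e_e : D.e * D.e = D.e := by
  have h := congrArg (fun f => D.e * f) D.one_eq
  simp only [mul_one, mul_add, D.e_n, add_zero] at h
  exact h.symm

/-- weight sums -/
noncomputable def S (χ : Vec) : AddMonoid.End V := ∑ v : Vec, D.del (v, -fval χ v)

/-- weight idempotents -/
noncomputable def p (χ : Vec) : AddMonoid.End V := D.e * D.S χ

theorem e_S (χ : Vec) : D.e * D.S χ = D.S χ * D.e := by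
  simp only [S, mul_sum, sum_mul, D.e_comm]

theorem del_S (χ u : Vec) (k : ZMod 3) :
    D.del (u, k) * D.S χ = D.del (0, k + fval χ u) * D.S χ := by
  simp only [S, mul_sum, ← D.del_add, Prod.mk_add_mk, zero_add]
  refine Fintype.sum_equiv (Equiv.addLeft u) _ _ fun v => ?_
  simp only [Equiv.coe_addLeft, fval_add]
  congr 2
  ring

theorem scalar_sum {c : Vec} (hc : c ≠ 0) : (∑ v : Vec, D.del (0, fval c v)) = D.n := by
  rw [← Finset.sum_fiberwise univ (fun v => fval c v)]
  have h : ∀ k : ZMod 3, (∑ v ∈ univ.filter (fun v => fval c v = k), D.del (0, fval c v)) = D.del (0, k) := by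
    intro k
    rw [Finset.sum_congr rfl (fun v hv => by rw [(mem_filter.1 hv).2]), sum_const, fibre_count c hc k,
      D.odd_nsmul (by decide)]
  rw [Finset.sum_congr rfl (fun k _ => h k), show (univ : Finset (ZMod 3)) = {0, 1, 2} from rfl,
    sum_insert (by decide), sum_insert (by decide), sum_singleton, n]
  abel

theorem p_p (χ χ' : Vec) : D.p χ * D.p χ' = if χ = χ' then D.p χ else 0 := by
  have h1 : D.p χ * D.p χ' = D.e * (D.S χ' * D.S χ) := by
    have hSS : D.S χ * D.S χ' = D.S χ' * D.S χ := by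
      rw [S, S, Finset.sum_mul_sum, Finset.sum_mul_sum, Finset.sum_comm]
      simp only [D.comm]
    calc D.p χ * D.p χ' = D.e * (D.S χ * D.e) * D.S χ' := by simp only [p, mul_assoc]
      _ = D.e * D.e * (D.S χ * D.S χ') := by rw [← D.e_S]; simp only [mul_assoc]
      _ = _ := by rw [D.e_e, hSS]
  have h2 : D.S χ' * D.S χ = (∑ v : Vec, D.del (0, fval (χ - χ') v)) * D.S χ := by
    conv_lhs => rw [S]
    rw [sum_mul, sum_mul]
    refine Finset.sum_congr rfl fun v _ => ?_
    rw [del_S, fval_sub, neg_add_eq_sub]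
  rw [h1, h2, ← mul_assoc]
  by_cases h : χ = χ'
  · subst h
    rw [if_pos rfl, Finset.sum_congr rfl (fun v _ => by rw [fval_sub, sub_self, D.del00]),
      sum_const, card_univ, D.odd_nsmul (by decide), mul_one]
    rfl
  · rw [if_neg h, D.scalar_sum (sub_ne_zero.2 h), D.e_n, zero_mul]

theorem del_p (χ u : Vec) (k : ZMod 3) : D.del (u, k) * D.p χ = D.del (0, k + fval χ u) * D.p χ := by
  rw [p, ← mul_assoc, ← D.e_comm, mul_assoc, D.del_S, ← mul_assoc, D.e_comm, mul_assoc]

theorem n_p (χ : Vec) : D.n * D.p χ = 0 := by rw [p, ← mul_assoc, D.n_e, zero_mul]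

theorem sum_p : ∑ χ : Vec, D.p χ = D.e := by
  simp only [p, S, ← mul_sum]
  rw [Finset.sum_comm, ← Finset.add_sum_erase _ _ (mem_univ (0 : Vec)), mul_add]
  have h0 : (∑ χ : Vec, D.del ((0 : Vec), -fval χ 0)) = 1 := by
    rw [Finset.sum_congr rfl (fun χ _ => by rw [show fval χ 0 = 0 by simp [fval], neg_zero, D.del00]),
      sum_const, card_univ, D.odd_nsmul (by decide)]
  rw [h0, mul_one, mul_sum, Finset.sum_eq_zero, add_zero]
  intro v hv
  have h1 : (∑ χ : Vec, D.del (v, -fval χ v)) = D.del (v, 0) * D.n := by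
    rw [← Finset.sum_fiberwise univ (fun χ => fval χ v)]
    have h : ∀ k : ZMod 3, (∑ χ ∈ univ.filter (fun χ => fval χ v = k), D.del (v, -fval χ v)) = D.del (v, -k) := by
      intro k
      rw [Finset.sum_congr rfl (fun χ hχ => by rw [(mem_filter.1 hχ).2]), sum_const,
        fibre_count_dual v (ne_of_mem_erase hv) k, D.odd_nsmul (by decide)]
    rw [Finset.sum_congr rfl (fun k _ => h k), show (univ : Finset (ZMod 3)) = {0, 1, 2} from rfl,
      sum_insert (by decide), sum_insert (by decide), sum_singleton, n, mul_add, mul_add,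
      ← D.del_add, ← D.del_add, ← D.del_add]
    simp only [Prod.mk_add_mk, add_zero, zero_add, neg_zero,
      show (-1 : ZMod 3) = 2 from rfl, show (-2 : ZMod 3) = 1 from rfl]
    abel
  rw [h1, ← mul_assoc, D.e_comm, mul_assoc, D.e_n, mul_zero]

/-- sums over the complement of a hyperplane -/
noncomputable def U (c : Vec) : AddMonoid.End V :=
  ∑ v ∈ univ.filter (fun v => fval c v ≠ 0), D.del (v, 0)

/-- sums over an affine hyperplane -/
noncomputable def Fk (c : Vec) (k : ZMod 3) : AddMonoid.End V :=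
  ∑ v ∈ univ.filter (fun v => fval c v = k), D.del (v, 0)

/-- idempotents on the fixed part -/
noncomputable def q (c : Vec) : AddMonoid.End V := D.n * D.U c

/-- the idempotent of the common fixed part -/
noncomputable def N : AddMonoid.End V := D.n * ∑ v : Vec, D.del (v, 0)

theorem n_sum (s : Finset Vec) : D.n * (∑ v ∈ s, D.del (v, 0)) = (∑ v ∈ s, D.del (v, 0)) * D.n := by
  simp only [mul_sum, sum_mul, D.n_comm]

theorem U_eq (c : Vec) : D.U c = D.Fk c 1 + D.Fk c 2 := by
  rw [U, Fk, Fk, ← Finset.sum_union]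
  · congr 1
    ext v
    simp only [mem_filter, mem_univ, true_and, mem_union]
    exact (show ∀ k : ZMod 3, k ≠ 0 ↔ k = 1 ∨ k = 2 by decide) _
  · rw [disjoint_left]
    intro v h1 h2
    exact absurd ((mem_filter.1 h1).2.symm.trans (mem_filter.1 h2).2) (by decide)

theorem del_Fk (c u : Vec) (k : ZMod 3) : D.del (u, 0) * D.Fk c k = D.Fk c (k + fval c u) := by
  rw [Fk, Fk, mul_sum]
  refine Finset.sum_equiv (Equiv.addLeft u) (fun v => ?_) (fun v _ => ?_)
  · simp only [mem_filter, mem_univ, true_and, Equiv.coe_addLeft, fval_add]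
    rw [add_comm k]
    exact (add_right_inj _).symm
  · rw [← D.del_add]; simp

theorem Fk_U (c : Vec) {k : ZMod 3} (hk : k ≠ 0) {c' : Vec} (a b : ZMod 3 → ℕ)
    (ha : ∀ i, (univ.filter fun v : Vec => fval c' v = k ∧ fval c v = i).card = a i)
    (hb : ∀ i, b i = a i) :
    D.Fk c' k * D.U c = ∑ i : ZMod 3, b i • (D.Fk c (1 + i) + D.Fk c (2 + i)) := by
  conv_lhs => rw [Fk, sum_mul, ← Finset.sum_fiberwise _ (fun v => fval c v)]
  refine Finset.sum_congr rfl fun i _ => ?_
  rw [Finset.sum_congr rfl (fun v hv => by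
    rw [D.U_eq, mul_add, D.del_Fk, D.del_Fk, (mem_filter.1 hv).2]), sum_const, filter_filter, ha i, hb i]

theorem U_orth {c c' : Vec} (hc : c ∈ Lines) (hc' : c' ∈ Lines) (hne : c ≠ c') :
    D.U c' * D.U c = 0 := by
  have hk : ∀ k : ZMod 3, k ≠ 0 → D.Fk c' k * D.U c =
      ∑ i : ZMod 3, 9 • (D.Fk c (1 + i) + D.Fk c (2 + i)) := fun k hk0 =>
    D.Fk_U c hk0 (fun _ => 9) (fun _ => 9) (fun i => by
      obtain ⟨a, b, d⟩ := pair_count c hc c' hc' hne k hk0
      rcases (show ∀ i : ZMod 3, i = 0 ∨ i = 1 ∨ i = 2 by decide) i with rfl | rfl | rfl <;> assumption)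
      (fun _ => rfl)
  rw [D.U_eq c', add_mul, hk 1 (by decide), hk 2 (by decide), D.end_two]

theorem U_U {c : Vec} (hc : c ≠ 0) : D.U c * D.U c = D.U c := by
  have hk : ∀ k : ZMod 3, k ≠ 0 → D.Fk c k * D.U c = D.Fk c (1 + k) + D.Fk c (2 + k) := by
    intro k hk0
    rw [D.Fk_U c hk0 (fun i => if i = k then 27 else 0) (fun i => if i = k then 27 else 0) ?_ (fun _ => rfl),
      Finset.sum_eq_single k]
    · rw [if_pos rfl, D.odd_nsmul (by decide)]
    · intro i _ hi; rw [if_neg hi, zero_nsmul]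
    · simp
    · intro i
      by_cases hi : i = k
      · subst hi; rw [if_pos rfl]; simp only [and_self]; exact fibre_count c hc i
      · rw [if_neg hi, card_eq_zero, filter_eq_empty_iff]
        rintro v - ⟨h1, h2⟩
        exact hi (h2.symm.trans h1)
  conv_lhs => arg 1; rw [D.U_eq]
  rw [add_mul, hk 1 (by decide), hk 2 (by decide), D.U_eq, show (1 : ZMod 3) + 1 = 2 from rfl,
    show (2 : ZMod 3) + 1 = 0 from rfl, show (1 : ZMod 3) + 2 = 0 from rfl,
    show (2 : ZMod 3) + 2 = 1 from rfl]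
  calc D.Fk c 2 + D.Fk c 0 + (D.Fk c 0 + D.Fk c 1) = D.Fk c 1 + D.Fk c 2 + (D.Fk c 0 + D.Fk c 0) := by abel
    _ = _ := by rw [D.end_two, add_zero]

theorem q_q {c c' : Vec} (hc : c ∈ Lines) (hc' : c' ∈ Lines) :
    D.q c * D.q c' = if c = c' then D.q c else 0 := by
  have hn : D.q c * D.q c' = D.n * (D.U c * D.U c') := by
    calc D.q c * D.q c' = D.n * (D.U c * D.n) * D.U c' := by simp only [q, mul_assoc]
      _ = D.n * D.n * (D.U c * D.U c') := by rw [U, ← D.n_sum]; simp only [mul_assoc]
      _ = _ := by rw [D.n_n]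
  rw [hn]
  by_cases h : c = c'
  · subst h
    rw [if_pos rfl, D.U_U (mem_filter.1 hc).2.1]; rfl
  · rw [if_neg h, D.U_orth hc' hc (Ne.symm h), mul_zero]

theorem q_moves {c u : Vec} (hc : c ≠ 0) (hu : fval c u ≠ 0) (w : V) :
    D.q c w + D.del (u, 0) (D.q c w) + D.del (u + u, 0) (D.q c w) = 0 := by
  have h : D.U c + D.del (u, 0) * D.U c + D.del (u + u, 0) * D.U c = 0 := by
    rw [D.U_eq, mul_add, mul_add, D.del_Fk, D.del_Fk, D.del_Fk, D.del_Fk, fval_add]
    rcases (show ∀ k : ZMod 3, k ≠ 0 → k = 1 ∨ k = 2 by decide) _ hu with e | e <;> rw [e]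
    all_goals
      simp only [show (1 : ZMod 3) + 1 = 2 from rfl, show (2 : ZMod 3) + 1 = 0 from rfl,
        show (1 : ZMod 3) + 2 = 0 from rfl, show (2 : ZMod 3) + 2 = 1 from rfl]
    · calc _ = (D.Fk c 0 + D.Fk c 0) + (D.Fk c 1 + D.Fk c 1) + (D.Fk c 2 + D.Fk c 2) := by abel
        _ = 0 := by simp only [D.end_two, add_zero]
    · calc _ = (D.Fk c 0 + D.Fk c 0) + (D.Fk c 1 + D.Fk c 1) + (D.Fk c 2 + D.Fk c 2) := by abel
        _ = 0 := by simp only [D.end_two, add_zero]
  have h2 : D.q c + D.del (u, 0) * D.q c + D.del (u + u, 0) * D.q c = 0 := by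
    have := congrArg (fun f => D.n * f) h
    simp only [mul_add, mul_zero, ← mul_assoc, D.n_comm] at this
    simp only [q, ← mul_assoc]
    exact this
  exact congrArg (fun f : AddMonoid.End V => f w) h2

theorem one_sum : (1 : AddMonoid.End V) = (∑ χ : Vec, D.p χ) + D.N + ∑ c ∈ Lines, D.q c := by
  have h1 : ∀ v : Vec, v ≠ 0 → (∑ c ∈ Lines, if fval c v ≠ 0 then D.del (v, 0) else 0) = D.del (v, 0) := by
    intro v hv
    rw [← Finset.sum_filter, sum_const, lines_count v hv, D.odd_nsmul (by decide)]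
  have h2 : (∑ c ∈ Lines, D.U c) = ∑ v ∈ univ.erase (0 : Vec), D.del (v, 0) := by
    simp only [U, Finset.sum_filter]
    rw [Finset.sum_comm, ← Finset.add_sum_erase _ _ (mem_univ (0 : Vec)),
      Finset.sum_congr rfl (fun v hv => h1 v (ne_of_mem_erase hv))]
    simp [fval]
  conv_lhs => rw [D.one_eq, ← D.sum_p]
  rw [add_assoc]
  congr 1
  simp only [q, ← mul_sum, N, h2, ← mul_add]
  rw [← Finset.add_sum_erase _ _ (mem_univ (0 : Vec)), D.del00, add_assoc, D.end_two, add_zero, mul_one]

end Act243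

/-- ranges of orthogonal idempotents -/
theorem card_ranges_le [Finite V] {ι : Type*} [Fintype ι] (f : ι → AddMonoid.End V)
    (hf : ∀ i j, i ≠ j → f i * f j = 0) (hi : ∀ i, f i * f i = f i) :
    ∏ i, Nat.card ↥(AddMonoidHom.range (f i)) ≤ Nat.card V := by
  classical
  rw [← Nat.card_pi]
  refine Nat.card_le_card_of_injective (fun w => ∑ i, (w i : V)) fun w w' h => funext fun j => ?_
  have key : ∀ w : ∀ i, ↥(AddMonoidHom.range (f i)), f j (∑ i, (w i : V)) = (w j : V) := by
    intro w
    rw [map_sum, Finset.sum_eq_single j]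
    · obtain ⟨a, ha⟩ := (w j).2
      rw [← ha]
      exact congrArg (fun g : AddMonoid.End V => g a) (hi j)
    · intro i _ hij
      obtain ⟨a, ha⟩ := (w i).2
      rw [← ha]
      exact congrArg (fun g : AddMonoid.End V => g a) (hf j i (Ne.symm hij))
    · simp
  exact Subtype.ext (by rw [← key w, ← key w']; exact congrArg (f j) h)

/-- a nonzero range with a map without fixed points has at least four elements -/
theorem four_le_range [Finite V] (two : ∀ w : V, w + w = 0) (f y : AddMonoid.End V)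
    (hy : ∀ a, ∃ b, f b = y (f a)) (hinj : Function.Injective y)
    (hfix : ∀ a, y (f a) = f a → f a = 0) (hf : f ≠ 0) :
    4 ≤ Nat.card ↥(AddMonoidHom.range f) := by
  classical
  obtain ⟨a, ha⟩ : ∃ a, f a ≠ 0 := by
    by_contra h
    push Not at h
    exact hf (AddMonoidHom.ext h)
  obtain ⟨b, hb⟩ := hy a
  have hb0 : f b ≠ 0 := fun h => ha (hinj (by rw [map_zero, ← hb, h]))
  have hne : f b ≠ f a := fun h => ha (hfix a (hb.symm.trans h))
  have hab : f a + f b ≠ 0 := fun h => hne (add_left_cancel (h.trans (two (f a)).symm))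
  have hs : (({0, f a, f b, f a + f b} : Finset V) : Set V) ⊆ (AddMonoidHom.range f : Set V) := by
    intro w hw
    simp only [coe_insert, coe_singleton, Set.mem_insert_iff, Set.mem_singleton_iff] at hw
    rcases hw with rfl | rfl | rfl | rfl
    · exact zero_mem _
    · exact ⟨a, rfl⟩
    · exact ⟨b, rfl⟩
    · exact ⟨a + b, map_add f a b⟩
  have h := Set.ncard_le_ncard hs (Set.toFinite _)
  rw [Set.ncard_coe_finset, ← Nat.card_coe_set_eq] at h
  refine le_trans (le_of_eq ?_) h
  rw [card_insert_of_notMem, card_insert_of_notMem, card_insert_of_notMem, card_singleton]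
  · simpa using fun h' : f b = f a + f b => ha (right_eq_add.1 h' |> id)
  · simp only [mem_insert, mem_singleton, not_or]
    exact ⟨Ne.symm hne, fun h' => hb0 (left_eq_add.1 h')⟩
  · simp only [mem_insert, mem_singleton, not_or]
    exact ⟨Ne.symm ha, Ne.symm hb0, Ne.symm hab⟩

end Cfsg.Agent.LargeFischer
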