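import Cfsg.Agent.LargeFischer.Model

/-! Counts in the space of dimension four over the field with three elements. -/

set_option autoImplicit false
set_option maxRecDepth 20000
set_option Elab.async false

open Finset

namespace Cfsg.Agent.LargeFischer

/-- The parameters of the group of order 243. -/
abbrev DVec : Type := Vec × ZMod 3

theorem fval_add (c u v : Vec) : fval c (u + v) = fval c u + fval c v := by
  simp [fval]; ring

theorem fval_sub (c d v : Vec) : fval (c - d) v = fval c v - fval d v := by
  simp [fval]; ring

/-- normal form of a line -/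
def nrm (c : Vec) : Vec :=
  if c 0 ≠ 0 then fun i => c 0 * c i else if c 1 ≠ 0 then fun i => c 1 * c i
  else if c 2 ≠ 0 then fun i => c 2 * c i else fun i => c 3 * c i

/-- representatives of lines -/
def Lines : Finset Vec := Finset.univ.filter fun c => c ≠ 0 ∧ nrm c = c

theorem fibre_count : ∀ c : Vec, c ≠ 0 → ∀ k : ZMod 3,
    (univ.filter fun v : Vec => fval c v = k).card = 27 := by decide +kernel

theorem fibre_count_dual : ∀ v : Vec, v ≠ 0 → ∀ k : ZMod 3,
    (univ.filter fun c : Vec => fval c v = k).card = 27 := by decide +kernel

theorem lines_count : ∀ v : Vec, v ≠ 0 → (Lines.filter fun c => fval c v ≠ 0).card = 27 := by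
  decide +kernel

theorem pair_count : ∀ c ∈ Lines, ∀ c' ∈ Lines, c ≠ c' → ∀ k : ZMod 3, k ≠ 0 →
    ((univ.filter fun v : Vec => fval c' v = k ∧ fval c v = 0).card = 9 ∧
      (univ.filter fun v : Vec => fval c' v = k ∧ fval c v = 1).card = 9 ∧
      (univ.filter fun v : Vec => fval c' v = k ∧ fval c v = 2).card = 9) := by decide +kernel

end Cfsg.Agent.LargeFischer
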