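import Cfsg.Agent.LargeFischer.Weights

/-! The group of order 243: a central extension which is forced to be elementary abelian. -/

set_option autoImplicit false

open Finset

namespace Cfsg.Agent.LargeFischer

variable {𝒢 : Type*} [Group 𝒢]

/-- powers of an element of order three -/
def kap (ξ : 𝒢) (k : ZMod 3) : 𝒢 := ξ ^ k.val

theorem kap_add {ξ : 𝒢} (h3 : ξ ^ 3 = 1) (a b : ZMod 3) : kap ξ (a + b) = kap ξ a * kap ξ b := by
  rw [kap, kap, kap, ← pow_add, ZMod.val_add]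
  exact (pow_eq_pow_mod _ h3).symm

theorem kap_zero (ξ : 𝒢) : kap ξ 0 = 1 := by simp [kap]

theorem kap_one (ξ : 𝒢) : kap ξ 1 = ξ := by simp [kap, ZMod.val_one]

theorem kap_two (ξ : 𝒢) : kap ξ 2 = ξ * ξ := by
  rw [kap, show (2 : ZMod 3).val = 2 from rfl, sq]

theorem kap_eq_one {ξ : 𝒢} (h3 : ξ ^ 3 = 1) (h1 : ξ ≠ 1) {k : ZMod 3} (h : kap ξ k = 1) : k = 0 := by
  rcases (show ∀ k : ZMod 3, k = 0 ∨ k = 1 ∨ k = 2 by decide) k with rfl | rfl | rfl
  · rfl
  · rw [kap_one] at h; exact absurd h h1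
  · rw [kap_two] at h
    refine absurd ?_ h1
    rwa [pow_succ, sq, h, one_mul] at h3

/-- Lifts of the frame. -/
structure LiftData (𝒢 : Type*) [Group 𝒢] where
  /-- the central element -/
  ξ : 𝒢
  ξ3 : ξ ^ 3 = 1
  ξ1 : ξ ≠ 1
  /-- lifts of the abelian group -/
  g : Vec → 𝒢
  /-- lifts of `SL₂(9)` -/
  R : SL9 → 𝒢
  /-- the action -/
  T : SL9 → Vec → Vec
  commg : ∀ v, Commute ξ (g v)
  commR : ∀ A, Commute ξ (R A)
  addg : ∀ u v, ∃ k, g (u + v) = kap ξ k * g u * g v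
  injg : ∀ v k, g v = kap ξ k → v = 0
  mulR : ∀ A B, ∃ k, R (A * B) = kap ξ k * R A * R B
  conj : ∀ A v, ∃ k, R A * g v * (R A)⁻¹ = kap ξ k * g (T A v)
  gens : ∀ j, T (gen j) = actJ j

namespace LiftData

variable (L : LiftData 𝒢)
include L

local notation "κ" => kap (LiftData.ξ L)

theorem kap_g (k : ZMod 3) (v : Vec) : Commute (κ k) (L.g v) := (L.commg v).pow_left _

theorem kap_R (k : ZMod 3) (A : SL9) : Commute (κ k) (L.R A) := (L.commR A).pow_left _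

theorem kap_kap (a b : ZMod 3) : Commute (κ a) (κ b) := (Commute.refl L.ξ).pow_pow _ _

theorem kap_inj {a b : ZMod 3} (h : κ a = κ b) : a = b := by
  refine sub_eq_zero.1 (kap_eq_one L.ξ3 L.ξ1 (mul_right_cancel (b := κ b) ?_))
  rw [← kap_add L.ξ3, sub_add_cancel, one_mul, h]

theorem kap_mul (a b : ZMod 3) (x y : Vec) :
    κ a * L.g x * (κ b * L.g y) = κ (a + b) * (L.g x * L.g y) := by
  rw [(L.kap_g b x).symm.mul_mul_mul_comm, kap_add L.ξ3]

theorem g_zero : ∃ k, L.g 0 = κ k := by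
  obtain ⟨k, hk⟩ := L.addg 0 0
  rw [add_zero] at hk
  refine ⟨-k, ?_⟩
  have h : κ k * L.g 0 = 1 := mul_right_cancel (b := L.g 0) (by rw [one_mul]; exact hk.symm)
  refine mul_left_cancel (a := κ k) ?_
  rw [h, ← kap_add L.ξ3, add_neg_cancel, kap_zero]

theorem exists_omega (u v : Vec) : ∃ w, L.g u * L.g v = κ w * (L.g v * L.g u) := by
  obtain ⟨a, ha⟩ := L.addg u v
  obtain ⟨b, hb⟩ := L.addg v u
  refine ⟨b - a, mul_left_cancel (a := κ a) ?_⟩
  rw [← mul_assoc, ← mul_assoc, ← kap_add L.ξ3, add_sub_cancel, ← mul_assoc, ← ha, ← hb, add_comm u v]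

/-- the commutator form -/
noncomputable def ω (u v : Vec) : ZMod 3 := Classical.choose (L.exists_omega u v)

theorem ω_spec (u v : Vec) : L.g u * L.g v = κ (L.ω u v) * (L.g v * L.g u) :=
  Classical.choose_spec (L.exists_omega u v)

theorem ω_unique {u v : Vec} {w : ZMod 3} (h : L.g u * L.g v = κ w * (L.g v * L.g u)) : L.ω u v = w :=
  L.kap_inj (mul_right_cancel ((L.ω_spec u v).symm.trans h))

theorem ω_self (u : Vec) : L.ω u u = 0 := L.ω_unique (by rw [kap_zero, one_mul])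

theorem ω_swap (u v : Vec) : L.ω v u = -L.ω u v := L.ω_unique (by
  rw [L.ω_spec u v, ← mul_assoc, ← kap_add L.ξ3, neg_add_cancel, kap_zero, one_mul])

theorem ω_add (u v w : Vec) : L.ω u (v + w) = L.ω u v + L.ω u w := by
  obtain ⟨k, hk⟩ := L.addg v w
  refine L.ω_unique ?_
  rw [hk, kap_add L.ξ3]
  calc L.g u * (κ k * L.g v * L.g w) = κ k * (L.g u * L.g v * L.g w) := by
        rw [mul_assoc, ← mul_assoc, ← (L.kap_g k u).eq]; simp only [mul_assoc]
    _ = κ k * κ (L.ω u v) * (L.g v * (L.g u * L.g w)) := by rw [L.ω_spec]; simp only [mul_assoc]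
    _ = κ k * κ (L.ω u v) * (κ (L.ω u w) * (L.g v * (L.g w * L.g u))) := by
        rw [L.ω_spec u w, ← mul_assoc (L.g v), ← (L.kap_g _ v).eq, mul_assoc (κ (L.ω u w))]
    _ = κ (L.ω u v) * κ (L.ω u w) * (κ k * L.g v * L.g w * L.g u) := by
        simp only [← mul_assoc]
        rw [(L.kap_kap k _).eq, mul_assoc (κ (L.ω u v)), (L.kap_kap k _).eq]
        simp only [mul_assoc]

theorem ω_conj (j : Fin 7) (u v : Vec) : L.ω (actJ j u) (actJ j v) = L.ω u v := by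
  obtain ⟨a, ha⟩ := L.conj (gen j) u
  obtain ⟨b, hb⟩ := L.conj (gen j) v
  rw [L.gens] at ha hb
  refine L.ω_unique ?_
  have h := congrArg (fun x => L.R (gen j) * x * (L.R (gen j))⁻¹) (L.ω_spec u v)
  have e1 : ∀ x y, L.R (gen j) * (x * y) * (L.R (gen j))⁻¹ =
      (L.R (gen j) * x * (L.R (gen j))⁻¹) * (L.R (gen j) * y * (L.R (gen j))⁻¹) := fun x y => by group
  simp only [e1, ha, hb] at h
  rw [show L.R (gen j) * κ (L.ω u v) * (L.R (gen j))⁻¹ = κ (L.ω u v) by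
    rw [← (L.kap_R _ _).eq, mul_inv_cancel_right]] at h
  rw [L.kap_mul, L.kap_mul, add_comm b a, ← mul_assoc (κ (L.ω u v)), (L.kap_kap _ (a + b)).eq,
    mul_assoc (κ (a + b))] at h
  exact mul_left_cancel h

theorem ω_alt : ∀ u v, L.ω u v = altVal (fun i => L.ω (Pi.single (![0, 0, 0, 1, 1, 2] i) 1)
    (Pi.single (![1, 2, 3, 2, 3, 3] i) 1)) u v := by
  intro u v
  have hr : ∀ u v, L.ω u v = fval (fun i => L.ω u (Pi.single i 1)) v := fun u v =>
    (WData.hom_fval (AddMonoidHom.mk' (L.ω u) (L.ω_add u)) v).symm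
  have hl : ∀ v u, L.ω u v = fval (fun i => L.ω (Pi.single i 1) v) u := fun v u => by
    refine (WData.hom_fval (AddMonoidHom.mk' (fun u => L.ω u v) fun a b => ?_) u).symm
    rw [L.ω_swap v, L.ω_add, neg_add, ← L.ω_swap, ← L.ω_swap]
  rw [hr u v, show (fun i => L.ω u (Pi.single i 1)) =
    fun i => fval (fun l => L.ω (Pi.single l 1) (Pi.single i 1)) u from funext fun i => hl _ u]
  simp only [fval, altVal, L.ω_self, L.ω_swap (Pi.single (0 : Fin 4) 1) (Pi.single 1 1),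
    L.ω_swap (Pi.single (0 : Fin 4) 1) (Pi.single 2 1), L.ω_swap (Pi.single (0 : Fin 4) 1) (Pi.single 3 1),
    L.ω_swap (Pi.single (1 : Fin 4) 1) (Pi.single 2 1), L.ω_swap (Pi.single (1 : Fin 4) 1) (Pi.single 3 1),
    L.ω_swap (Pi.single (2 : Fin 4) 1) (Pi.single 3 1)]
  simp
  ring

theorem g_comm (u v : Vec) : Commute (L.g u) (L.g v) := by
  have hc := alt_zero _ fun j i k => by
    rw [← L.ω_alt, ← L.ω_alt, ← imgB_single, ← imgB_single]
    exact L.ω_conj j _ _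
  have h := L.ω_spec u v
  rw [L.ω_alt, hc] at h
  show L.g u * L.g v = L.g v * L.g u
  simpa [altVal, kap_zero] using h

theorem g_cube (v : Vec) : L.g v ^ 3 = 1 := by
  have hf : ∀ v, ∃ f, L.g v ^ 3 = κ f := by
    intro v
    obtain ⟨a, ha⟩ := L.addg v v
    obtain ⟨b, hb⟩ := L.addg (v + v) v
    obtain ⟨z, hz⟩ := L.g_zero
    have h3 : v + v + v = 0 := funext fun i => (show ∀ x : ZMod 3, x + x + x = 0 by decide) (v i)
    rw [h3, hz, ha, ← mul_assoc, ← mul_assoc, ← kap_add L.ξ3] at hb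
    refine ⟨z - (b + a), mul_left_cancel (a := κ (b + a)) ?_⟩
    rw [← kap_add L.ξ3, add_sub_cancel, hb, pow_succ, sq]
    simp only [mul_assoc]
  choose f hf using hf
  have hk : ∀ k, κ k ^ 3 = 1 := fun k => by rw [kap, ← pow_mul, mul_comm, pow_mul, L.ξ3, one_pow]
  have hadd : ∀ u v, f (u + v) = f u + f v := fun u v => by
    obtain ⟨k, hk'⟩ := L.addg u v
    refine L.kap_inj ?_
    rw [← hf, hk', kap_add L.ξ3, ← hf, ← hf,
      ((L.kap_g k v).mul_left (L.g_comm u v)).mul_pow, (L.kap_g k u).mul_pow, hk, one_mul]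
  have hconj : ∀ j v, f (actJ j v) = f v := fun j v => by
    obtain ⟨k, hk'⟩ := L.conj (gen j) v
    rw [L.gens] at hk'
    refine L.kap_inj ?_
    have h := congrArg (· ^ 3) hk'
    simp only [(L.kap_g k _).mul_pow, hk, one_mul, conj_pow, hf] at h
    rw [← (L.kap_R _ _).eq, mul_inv_cancel_right] at h
    exact h.symm
  have hfv : ∀ v, f v = fval (fun i => f (Pi.single i 1)) v := fun v =>
    (WData.hom_fval (AddMonoidHom.mk' f hadd) v).symm
  have hc : (fun i : Fin 4 => f (Pi.single i 1)) = 0 := by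
    by_contra hne
    have h7 := orbit_seven _ hne
    have : (univ.image fun j : Fin 7 => fun i : Fin 4 =>
        fval (fun i => f (Pi.single i 1)) (imgB j i)) ⊆ {fun i => f (Pi.single i 1)} := by
      intro c hc
      obtain ⟨j, -, rfl⟩ := mem_image.1 hc
      exact mem_singleton.2 (funext fun i => by rw [← hfv, ← imgB_single, hconj])
    have := card_le_card this
    rw [card_singleton] at this
    omega
  rw [hf, hfv, hc]
  simp [fval, kap_zero]

/-- the product of basis lifts -/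
def δ (a : DVec) : 𝒢 :=
  κ a.2 * L.g (Pi.single 0 1) ^ (a.1 0).val * L.g (Pi.single 1 1) ^ (a.1 1).val *
    L.g (Pi.single 2 1) ^ (a.1 2).val * L.g (Pi.single 3 1) ^ (a.1 3).val

theorem pow_val_add (v : Vec) (a b : ZMod 3) : L.g v ^ (a + b).val = L.g v ^ a.val * L.g v ^ b.val :=
  kap_add (L.g_cube v) a b

theorem δ_add (a b : DVec) : L.δ (a + b) = L.δ a * L.δ b := by
  simp only [δ, Prod.fst_add, Prod.snd_add, Pi.add_apply, kap_add L.ξ3, L.pow_val_add]
  have ck : ∀ (k : ZMod 3) v (n : ℕ), Commute (κ k) (L.g v ^ n) := fun k v n => (L.kap_g k v).pow_right n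
  have cg : ∀ u v (m n : ℕ), Commute (L.g u ^ m) (L.g v ^ n) := fun u v m n => (L.g_comm u v).pow_pow m n
  rw [((((ck _ _ _).symm.mul_right (cg _ _ _ _)).mul_right (cg _ _ _ _)).mul_right
      (cg _ _ _ _)).mul_mul_mul_comm,
    (((ck _ _ _).symm.mul_right (cg _ _ _ _)).mul_right (cg _ _ _ _)).mul_mul_mul_comm,
    ((ck _ _ _).symm.mul_right (cg _ _ _ _)).mul_mul_mul_comm, (ck _ _ _).symm.mul_mul_mul_comm]

theorem δ_scalar (k : ZMod 3) : L.δ (0, k) = κ k := by simp [δ]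

theorem δ_kap (v : Vec) (k : ZMod 3) : L.δ (v, k) = κ k * L.δ (v, 0) := by
  conv_lhs => rw [show (v, k) = ((0 : Vec), k) + (v, 0) by simp, L.δ_add, L.δ_scalar]

theorem g_eq (v : Vec) : ∃ k, L.g v = L.δ (v, k) := by
  have hadd : ∀ u v, (∃ k, L.g u = L.δ (u, k)) → (∃ k, L.g v = L.δ (v, k)) →
      ∃ k, L.g (u + v) = L.δ (u + v, k) := by
    rintro u v ⟨a, ha⟩ ⟨b, hb⟩
    obtain ⟨k, hk⟩ := L.addg u v
    refine ⟨k + a + b, ?_⟩
    rw [hk, ha, hb, ← L.δ_scalar k, ← L.δ_add, ← L.δ_add]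
    simp
  have hb : ∀ i : Fin 4, ∃ k, L.g (Pi.single i 1) = L.δ (Pi.single i 1, k) := fun i => by
    refine ⟨0, ?_⟩
    fin_cases i <;> simp [δ, kap_zero, ZMod.val_one]
  have hs : ∀ (i : Fin 4) (a : ZMod 3), ∃ k, L.g (Pi.single i a) = L.δ (Pi.single i a, k) := fun i a => by
    rcases (show ∀ k : ZMod 3, k = 0 ∨ k = 1 ∨ k = 1 + 1 by decide) a with rfl | rfl | rfl
    · obtain ⟨k, hk⟩ := L.g_zero
      exact ⟨k, by rw [Pi.single_zero, hk, L.δ_scalar]⟩
    · exact hb i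
    · rw [Pi.single_add]; exact hadd _ _ (hb i) (hb i)
  rw [show v = (Pi.single (0 : Fin 4) (v 0) : Vec) + Pi.single (1 : Fin 4) (v 1) +
      Pi.single (2 : Fin 4) (v 2) + Pi.single (3 : Fin 4) (v 3) by
    funext i; fin_cases i <;> simp]
  exact hadd _ _ (hadd _ _ (hadd _ _ (hs _ _) (hs _ _)) (hs _ _)) (hs _ _)

theorem δ_mem (a : DVec) : ∃ k, L.δ a = κ k * L.g a.1 := by
  obtain ⟨k, hk⟩ := L.g_eq a.1
  refine ⟨a.2 - k, ?_⟩
  rw [hk, ← L.δ_scalar, ← L.δ_add]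
  simp

theorem δ_inj : Function.Injective L.δ := by
  have h1 : ∀ a, L.δ a = 1 → a = 0 := by
    rintro ⟨v, k⟩ h
    obtain ⟨k', hk'⟩ := L.g_eq v
    have hv : v = 0 := L.injg v (k' - k) (by
      rw [hk', show (v, k') = ((0 : Vec), k' - k) + (v, k) by simp, L.δ_add, h, mul_one, L.δ_scalar])
    subst hv
    rw [L.δ_scalar] at h
    rw [kap_eq_one L.ξ3 L.ξ1 h]
    rfl
  intro a b h
  have h0 : L.δ 0 = 1 := by rw [show (0 : DVec) = (0, 0) from rfl, L.δ_scalar, kap_zero]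
  refine sub_eq_zero.1 (h1 _ (mul_right_cancel (b := L.δ b) ?_))
  rw [← L.δ_add, sub_add_cancel, one_mul, h]

theorem δ_conj (A : SL9) (v : Vec) : ∃ φ, ∀ k,
    L.R A * L.δ (v, k) = L.δ (L.T A v, k + φ) * L.R A := by
  obtain ⟨a, ha⟩ := L.δ_mem (v, 0)
  obtain ⟨b, hb⟩ := L.conj A v
  obtain ⟨c, hc⟩ := L.g_eq (L.T A v)
  refine ⟨a + b + c, fun k => ?_⟩
  rw [mul_inv_eq_iff_eq_mul] at hb
  rw [L.δ_kap v k, ha, ← mul_assoc, ← (L.kap_R k A).eq, mul_assoc (κ k), ← mul_assoc (L.R A),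
    ← (L.kap_R a A).eq, mul_assoc (κ a), hb, hc, ← L.δ_scalar k, ← L.δ_scalar a, ← L.δ_scalar b]
  simp only [← mul_assoc, ← L.δ_add, Prod.mk_add_mk, zero_add, add_assoc]

end LiftData

end Cfsg.Agent.LargeFischer
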