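import Cfsg.Agent.LargeFischer.StabAIso

/-! The linear stabiliser of the first class maps onto the unitary group with kernel `Q`. -/

set_option autoImplicit false
set_option maxRecDepth 20000
set_option Elab.async false

open Finset Cfsg Cfsg.Agent
open Cfsg.Agent.ThreeTrans.SU32 (F4)

namespace Cfsg.Agent.LargeFischer
namespace Data

variable {G : Type*} [Group G] [Finite G] {z : G}
  {Q : Subgroup (Subgroup.centralizer ({z} : Set G))} [Q.Normal] (D : Data z Q)
include D

theorem toSU_iso (hF : IsOfLargeFischerTypeAt z Q) :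
    Function.Surjective D.toSU ∧ ∀ h : D.S0, D.toSU h = 1 ↔ (h : Subgroup.centralizer ({z} : Set G)) ∈ Q := by
  classical
  have hv0 : srep 0 ≠ 0 ∧ par (srep 0) = 0 := by decide +kernel
  have hA0 : InA D.c (srep 0) := Or.inl (sc_srep 0)
  set Sb := (D.fixer (srep 0)).map (QuotientGroup.mk' Q) with hSb
  have hSc : Nat.card ↥Sb = 51840 := D.card_fixerA hv0.1 hv0.2 hA0
  set L0 : Subgroup ↥Sb := (D.S0.map (QuotientGroup.mk' Q)).subgroupOf Sb with hL0
  have hle : D.S0.map (QuotientGroup.mk' Q) ≤ Sb := Subgroup.map_mono inf_le_left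
  -- an element outside
  obtain ⟨a0, ha0, ha0L⟩ : ∃ a, a ∈ D.fixer (srep 0) ∧ a ∉ D.Lin := by
    obtain ⟨h, hh⟩ := D.exists_anti hF
    have hL : h ∉ D.Lin := fun hl => by
      have hv : (srep 0 : Vec6) ≠ 0 := hv0.1
      have e := (hl (srep 0)).symm.trans (hh (srep 0))
      have e2 : cact D.F h (srep 0) = 0 := funext fun i =>
        (show ∀ p : W4, omk 1 p = omk 2 p → p = 0 by decide) _ (congrFun e i)
      exact hv (cact_inj D.F h (e2.trans (cact_zero D.F h).symm))
    have := D.norm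
    obtain ⟨m, hm, hmv⟩ := (mem_orb D.F).1 ((D.orb_iff (cact D.F h (srep 0))
      (fun e => hv0.1 (cact_inj D.F h (e.trans (cact_zero D.F h).symm)))
      ((cact_par D.b D.F h _).trans hv0.2) (srep 0)).2 ⟨hv0.1, hv0.2,
        (inA_cact D.b D.F D.hind D.orb_iff h hv0.1 hv0.2).symm⟩)
    exact ⟨m * h, show cact D.F (m * h) (srep 0) = srep 0 by rw [cact_mul, hmv],
      fun e => hL (by have := D.Lin.mul_mem (D.Lin.inv_mem (D.M_le_Lin hm)) e; rwa [inv_mul_cancel_left] at this)⟩
  have hmemL : ∀ h : Subgroup.centralizer ({z} : Set G), h ∈ D.fixer (srep 0) →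
      ((h : _ ⧸ Q) ∈ D.S0.map (QuotientGroup.mk' Q) ↔ h ∈ D.Lin) := by
    intro h hh
    refine ⟨?_, fun hl => ⟨h, ⟨hh, hl⟩, rfl⟩⟩
    rintro ⟨s, hs, e⟩
    have := QuotientGroup.eq.1 e
    have h2 := D.Lin.mul_mem hs.2 (D.Q_le_Lin this)
    rwa [mul_inv_cancel_left] at h2
  -- index two
  have hidx : L0.index = 2 := by
    rw [Subgroup.index_eq_two_iff]
    refine ⟨⟨(a0 : _ ⧸ Q), ⟨a0, ha0, rfl⟩⟩, fun b => ?_⟩
    obtain ⟨_, ⟨h, hh, rfl⟩⟩ := b
    simp only [hL0, Subgroup.mem_subgroupOf, Subgroup.coe_mul]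
    rw [QuotientGroup.mk'_apply, ← QuotientGroup.mk_mul, hmemL _ ((D.fixer _).mul_mem hh ha0), hmemL h hh]
    by_cases hl : h ∈ D.Lin
    · exact Or.inr ⟨hl, fun e => ha0L (by have := D.Lin.mul_mem (D.Lin.inv_mem hl) e; rwa [inv_mul_cancel_left] at this)⟩
    · exact Or.inl ⟨D.mul_Lin hl ha0L, hl⟩
  have hLc : Nat.card ↥L0 = 25920 := by
    have := L0.card_mul_index
    rw [hidx, hSc] at this
    omega
  have hLn : L0.Normal := Subgroup.normal_of_index_eq_two hidx
  -- the linear part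
  let κ : ↥D.S0 →* ↥L0 := MonoidHom.mk' (fun h => ⟨⟨((h : Subgroup.centralizer ({z} : Set G)) : _ ⧸ Q),
      hle ⟨_, h.2, rfl⟩⟩, ⟨_, h.2, rfl⟩⟩) fun a b => rfl
  have hκ : Function.Surjective κ := by
    rintro ⟨⟨x, hx⟩, s, hs, e⟩
    exact ⟨⟨s, hs⟩, Subtype.ext (Subtype.ext e)⟩
  have hker_le : κ.ker ≤ D.toSU.ker := by
    intro h hh
    have hq : (h : Subgroup.centralizer ({z} : Set G)) ∈ Q :=
      (QuotientGroup.eq_one_iff _).1 (congrArg (fun x : ↥L0 => ((x : ↥Sb) : _ ⧸ Q)) hh)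
    have h1 : D.mat h = 1 := by
      rw [← D.mat_one]
      ext i j
      rw [mat, mat, Matrix.of_apply, Matrix.of_apply, cact_one, cact_eq D.F (a' := Pi.single (up j) (1, 0))]
      rw [show actV Q (h : Subgroup.centralizer ({z} : Set G)) = 1 from
        MonoidHom.mem_ker.1 (by rw [actV_ker D.b]; exact hq)]
      rfl
    refine Subtype.ext (Subtype.ext ?_)
    show (D.mat h).det⁻¹ • D.mat h = 1
    rw [h1, Matrix.det_one, inv_one, one_smul]
  let ψ : ↥L0 →* Cfsg.SU 4 F4 2 := κ.liftOfSurjective hκ ⟨D.toSU, hker_le⟩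
  have hψ : ∀ h, ψ (κ h) = D.toSU h := fun h => MonoidHom.liftOfRightInverse_comp_apply _ _ _ ⟨D.toSU, hker_le⟩ h
  have hψker : Nat.card ↥ψ.ker ≤ 2 := by
    have hrep : ∀ x : ψ.ker, ∃ h : D.S0, κ h = x := fun x => hκ x
    choose r hr using hrep
    have hk : ∀ x, D.toSU (r x) = 1 := fun x => by rw [← hψ, hr]; exact x.2
    have hinj : Function.Injective fun x : ψ.ker =>
        decide (cact D.F (r x : Subgroup.centralizer ({z} : Set G)) (Pi.single (0 : Fin 6) ((1, 0) : W4)) = Pi.single (0 : Fin 6) ((1, 0) : W4)) := by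
      intro x y h
      simp only [decide_eq_decide] at h
      refine Subtype.ext ?_
      rw [← hr x, ← hr y]
      refine Subtype.ext (Subtype.ext (QuotientGroup.eq.2 ?_))
      refine (actV_ker D.b).le (MonoidHom.mem_ker.2 ?_)
      rw [map_mul, map_inv, inv_mul_eq_one]
      refine MulEquiv.ext fun v => ?_
      obtain ⟨c, rfl⟩ := D.F.bij.2 v
      rw [← co_cact, ← co_cact]
      congr 1
      obtain ⟨hx1, hx2⟩ := D.toSU_ker _ (hk x)
      obtain ⟨hy1, hy2⟩ := D.toSU_ker _ (hk y)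
      have hne : (Pi.single (0 : Fin 6) ((1, 0) : W4) : Vec6) ≠ Pi.single (1 : Fin 6) ((1, 0) : W4) := by decide +kernel
      have hbase : ∀ i : Fin 6, cact D.F (r x : Subgroup.centralizer ({z} : Set G)) (Pi.single i (1, 0)) =
          cact D.F (r y : Subgroup.centralizer ({z} : Set G)) (Pi.single i (1, 0)) := by
        intro i
        rcases (show ∀ i : Fin 6, i = 0 ∨ i = 1 ∨ ∃ k, i = up k by decide +kernel) i with rfl | rfl | ⟨k, rfl⟩
        · rcases hx2 with ⟨a1, -⟩ | ⟨a1, -⟩ <;> rcases hy2 with ⟨b1, -⟩ | ⟨b1, -⟩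
          · rw [a1, b1]
          · exact absurd ((h.1 a1).symm.trans b1) hne
          · exact absurd ((h.2 b1).symm.trans a1) hne
          · rw [a1, b1]
        · rcases hx2 with ⟨a1, a2⟩ | ⟨a1, a2⟩ <;> rcases hy2 with ⟨b1, b2⟩ | ⟨b1, b2⟩
          · rw [a2, b2]
          · exact absurd ((h.1 a1).symm.trans b1) hne
          · exact absurd ((h.2 b1).symm.trans a1) hne
          · rw [a2, b2]
        · rw [hx1, hy1]
      let A : D.S0 → Vec6 →+ Vec6 := fun g => AddMonoidHom.mk'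
        (cact D.F (g : Subgroup.centralizer ({z} : Set G))) (cact_add D.F _)
      show A (r x) c = A (r y) c
      rw [← Finset.univ_sum_single c, map_sum, map_sum]
      refine sum_congr rfl fun i _ => ?_
      show cact D.F _ _ = cact D.F _ _
      rcases w4_facts.2.2.2.2 (c i) with e | e | e | e <;> rw [e]
      · rw [Pi.single_zero, cact_zero, cact_zero]
      · exact hbase i
      · rw [(show ∀ i : Fin 6, (Pi.single i (om (1, 0)) : Vec6) = sm 1 (Pi.single i (1, 0)) by decide +kernel) i,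
          D.mem_Lin.1 (r x).2.2, D.mem_Lin.1 (r y).2.2, hbase]
      · rw [(show ∀ i : Fin 6, (Pi.single i (om (om (1, 0))) : Vec6) = sm 1 (sm 1 (Pi.single i (1, 0))) by decide +kernel) i,
          D.mem_Lin.1 (r x).2.2, D.mem_Lin.1 (r y).2.2, D.mem_Lin.1 (r x).2.2, D.mem_Lin.1 (r y).2.2, hbase]
    exact (Nat.card_le_card_of_injective _ hinj).trans (by simp)
  have hψbij : Function.Bijective ψ := by
    have hs := simple_SU4
    have h1 := ψ.ker.card_mul_index
    rw [Subgroup.index_ker, hLc] at h1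
    have h2 := ψ.range.card_mul_index
    rw [card_SU4] at h2
    have hi : ψ.range.index ≤ 2 := by
      have := Nat.mul_le_mul hψker (le_refl (Nat.card ↥ψ.range))
      by_contra h
      have := Nat.mul_le_mul (le_refl (Nat.card ↥ψ.range)) (show 3 ≤ ψ.range.index by omega)
      omega
    have htop : ψ.range = ⊤ := by
      rcases (show ψ.range.index = 1 ∨ ψ.range.index = 2 by
        have : ψ.range.index ≠ 0 := Subgroup.index_ne_zero_of_finite
        omega) with h | h
      · exact Subgroup.index_eq_one.1 h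
      · rcases (Subgroup.normal_of_index_eq_two h).eq_bot_or_eq_top with e | e
        · rw [e, Subgroup.index_bot, card_SU4] at h; omega
        · exact e
    refine (Nat.bijective_iff_surjective_and_card ψ).2 ⟨MonoidHom.range_eq_top.1 htop, ?_⟩
    rw [hLc, card_SU4]
  refine ⟨fun y => ?_, fun h => ?_⟩
  · obtain ⟨l, rfl⟩ := hψbij.2 y
    obtain ⟨h, rfl⟩ := hκ l
    exact ⟨h, (hψ h).symm⟩
  · rw [← hψ, map_eq_one_iff ψ hψbij.1]
    exact ⟨fun e => (QuotientGroup.eq_one_iff _).1 (congrArg (fun x : ↥L0 => ((x : ↥Sb) : _ ⧸ Q)) e),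
      fun e => Subtype.ext (Subtype.ext ((QuotientGroup.eq_one_iff _).2 e))⟩

end Data
end Cfsg.Agent.LargeFischer
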