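import Cfsg.Agent.LargeFischer.CodeCount

/-! More checks on the coordinates. -/

set_option autoImplicit false
set_option maxRecDepth 20000
set_option Elab.async false

open Finset

namespace Cfsg.Agent.LargeFischer

theorem sig_zero : ∀ c, c ≠ 0 → ∃ p ∈ sigL c, p.2.1 = 0 ∧ p.2.2 = 0 := by decide +kernel

theorem sig_sum : ∀ a b : Fin 16, a ≠ 0 → b ≠ 0 → a ≠ b → ((sigL a).all fun p => (sigL b).all fun q =>
    (sigL (ka a b)).all fun r => (Nat.xor p.2.1 q.2.1 != r.2.1) || (p.2.2 + q.2.2 == r.2.2)) = true := by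
  decide +kernel

/-- breadth-first order -/
def ordered4 : List ℕ → List (ℕ × ℕ × ℕ) → Bool
  | _, [] => true
  | seen, e :: l => decide (e.2.1 ∈ seen) && ordered4 (e.2.2 :: seen) l

theorem tree4 {P : ℕ → Prop} {seen : List ℕ} {l : List (ℕ × ℕ × ℕ)}
    (ho : ordered4 seen l = true) (hs : ∀ a ∈ seen, P a) (hstep : ∀ e ∈ l, P e.2.1 → P e.2.2) :
    ∀ e ∈ l, P e.2.2 := by
  induction l generalizing seen with
  | nil => simp
  | cons e l ih =>
    simp only [ordered4, Bool.and_eq_true, decide_eq_true_eq] at ho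
    have he : P e.2.2 := hstep e (List.mem_cons_self ..) (hs _ ho.1)
    intro e' he'
    rcases List.mem_cons.1 he' with rfl | h
    · exact he
    · exact ih ho.2 (List.forall_mem_cons.2 ⟨he, hs⟩) (fun e he => hstep e (List.mem_cons_of_mem _ he)) e' h

/-- a pair of codes from a node -/
def pairOf (n : ℕ) : Fin 16 × Fin 16 := (Fin.ofNat 16 (n / 16), Fin.ofNat 16 n)

theorem tree_pairs : ordered4 [18] (pairTree.take 89) = true ∧ ordered4 [20] (pairTree.drop 89) = true ∧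
    ∀ e ∈ pairTree, ((pairOf e.2.1).1 ≠ 0 ∧ (pairOf e.2.1).2 ≠ 0 ∧ (pairOf e.2.1).1 ≠ (pairOf e.2.1).2) ∧
    ((e.1 = 3 ∧ pairOf e.2.2 = ((pairOf e.2.1).2, (pairOf e.2.1).1)) ∨
      ∃ g : Fin 3, pairOf e.2.2 = (kperm g (pairOf e.2.1).1, kperm g (pairOf e.2.1).2)) := by decide +kernel

theorem tree_pairs_cover : ∀ a b : Fin 16, a ≠ 0 → b ≠ 0 → a ≠ b →
    (a, b) = pairOf 18 ∨ (a, b) = pairOf 20 ∨ (∃ e ∈ pairTree.take 89, pairOf e.2.2 = (a, b)) ∨
      ∃ e ∈ pairTree.drop 89, pairOf e.2.2 = (a, b) := by decide +kernel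

theorem gTab_pairs : ∀ p q : ZMod 2,
    (∀ e ∈ pairTree.take 89, gTab p q (pairOf e.2.2).1 + gTab p q (pairOf e.2.2).2 +
      gTab p q (ka (pairOf e.2.2).1 (pairOf e.2.2).2) = p) ∧
    (∀ e ∈ pairTree.drop 89, gTab p q (pairOf e.2.2).1 + gTab p q (pairOf e.2.2).2 +
      gTab p q (ka (pairOf e.2.2).1 (pairOf e.2.2).2) = q) := by decide +kernel

theorem kperm_ne : ∀ g a, (a ≠ 0 → kperm g a ≠ 0) ∧ ∀ b, ka (kperm g a) (kperm g b) = kperm g (ka a b) := by
  decide +kernel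

/-- the code of a number -/
def cn (n : ℕ) : Fin 16 := Fin.ofNat 16 (n >>> 7)

theorem cn_xor (a b : ℕ) : cn (a ^^^ b) = ka (cn a) (cn b) := by
  refine Fin.ext ?_
  simp only [cn, ka, Fin.ofNat, Nat.shiftRight_xor_distrib]
  have h := Nat.xor_mod_two_pow (a := a >>> 7) (b := b >>> 7) (n := 4)
  norm_num at h
  rw [Nat.mod_eq_of_lt (show a >>> 7 % 16 ^^^ b >>> 7 % 16 < 16 from
    Nat.xor_lt_two_pow (n := 4) (Nat.mod_lt _ (by norm_num)) (Nat.mod_lt _ (by norm_num)))]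
  exact h

theorem uv_mod (n : ℕ) : uv (n % 64) = uv n := funext fun l => by
  have key : ∀ j < 6, tb (n % 64) j = tb n j := fun j hj => by
    rw [tb, tb, show (64 : ℕ) = 2 ^ 6 from rfl, Nat.testBit_mod_two_pow]; simp [hj]
  simp only [uv]
  rw [key _ (by omega), key _ (by omega)]

/-- membership in the larger class, by coordinates -/
def tm (g : Fin 16 → ZMod 2) (n : ℕ) : Bool :=
  if cn n = 0 then !decide (zset (Fin.ofNat 64 n) (tb n 6 + g 0))
  else (sigL (cn n)).any fun p => p.2.1 == n % 64 && p.2.2 == tb n 6 + g (cn n)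

theorem tm_count : ∀ p q : ZMod 2,
    (univ.filter fun n : Fin 2048 => tm (gTab p q) n.val = true ∧ tm (gTab p q) (Nat.xor n.val 192) = true).card =
    (univ.filter fun n : Fin 2048 => tm (gTab p q) n.val = true ∧ tm (gTab p q) (Nat.xor n.val 64) = true).card →
      p = 1 ∧ q = 0 := by decide +kernel

theorem tm_special : ∀ p q : ZMod 2, tm (gTab p q) 192 = false ∧ cn 192 = 1 ∧ cn 64 = 0 := by decide +kernel

end Cfsg.Agent.LargeFischer
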