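import Cfsg.Agent.LargeFischer.MatModel
import Cfsg.Agent.LargeFischer.FusionData

/-! Checks on the coordinates of the largest elementary abelian subgroup. -/

set_option autoImplicit false
set_option maxRecDepth 20000
set_option Elab.async false
set_option synthInstance.maxSize 4096

open Finset

namespace Cfsg.Agent.LargeFischer

theorem kc_isK : ∀ a, IsK (kc a) := by decide +kernel

theorem kc_surj : ∀ c, IsK c → ∃ a, kc a = c := by decide +kernel

theorem kc_zero : kc 0 = (0, 0) ∧ kc 1 = (1, 0) := ⟨rfl, rfl⟩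

theorem kc_ka : ∀ a b i, cd (kc a) (cd (kc b) (e6 i)) = cd (kc (ka a b)) (e6 i) := by decide +kernel

theorem kc_inj : ∀ a b, (∀ i, cd (kc a) (e6 i) = cd (kc b) (e6 i)) → a = b := by decide +kernel

theorem ka_facts : (∀ a, ka 0 a = a) ∧ (∀ a b, ka a b = ka b a) ∧ (∀ a, ka a a = 0) ∧
    (∀ a b c, ka (ka a b) c = ka a (ka b c)) ∧ ∀ a b, ka a b = 0 → a = b := by decide +kernel

theorem tb_xor (a b j : ℕ) : tb (a ^^^ b) j = tb a j + tb b j := by
  rw [tb, tb, tb, Nat.testBit_xor]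
  cases a.testBit j <;> cases b.testBit j <;> decide

theorem uv_xor (a b : ℕ) : uv (a ^^^ b) = uv a + uv b := funext fun l => by
  simp only [uv, tb_xor, Pi.add_apply, Prod.mk_add_mk]

theorem uv_mem (n : ℕ) : uv n ∈ F0 := ⟨rfl, rfl, rfl⟩

theorem uv_surj {u : Vec6} (h : u ∈ F0) : ∃ n < 64, uv n = u := by
  obtain ⟨a, b, c⟩ := h
  obtain ⟨n, hn, e⟩ := (show ∀ p q r : W4, ∃ n : Fin 64, ((n : ℕ) < 64 ∧
    uv n 0 = p ∧ uv n 2 = q ∧ uv n 4 = r) by decide +kernel) (u 0) (u 2) (u 4)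
  refine ⟨n, hn, funext fun l => ?_⟩
  fin_cases l
  · exact e.1
  · exact (show uv n 1 = uv n 0 from rfl).trans (e.1.trans a)
  · exact e.2.1
  · exact (show uv n 3 = uv n 2 from rfl).trans (e.2.1.trans b)
  · exact e.2.2
  · exact (show uv n 5 = uv n 4 from rfl).trans (e.2.2.trans c)

theorem uv_inj : ∀ n m : Fin 64, uv n = uv m → n = m := by decide +kernel

theorem sig_move : ∀ c, c ≠ 0 → ∀ p ∈ sigL c, p.2.1 < 64 ∧
    (∀ i, cd (kc c) (vecN p.1) i + vecN p.1 i = uv p.2.1 i) ∧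
    bp (vecN p.1) (sm 2 (uv p.2.1)) = p.2.2 := by decide +kernel

theorem yk_facts : ∀ c, c ≠ 0 → (∀ i, cd (kc c) (vecN (yk c)) i = vecN (yk c) i) ∧
    bp (vecN (yk c)) (uv (rr c)) = 1 := by decide +kernel

theorem rr_cover : ∀ c, c ≠ 0 → ∀ n : Fin 64, (∃ p ∈ sigL c, p.2.1 = n) ∨
    ∃ k, ∃ p ∈ sigL c, ∀ i, uv n i = sm k (uv (rr c)) i + uv p.2.1 i := by decide +kernel

theorem kperm_ok : ∀ g a i, gn g (cd (kc a) (e6 i)) = cd (kc (kperm g a)) (gn g (e6 i)) := by decide +kernel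

theorem gTab_facts : (∀ p q, gTab p q 0 = 0 ∧ gTab p q 1 = 0) ∧
    ∀ p q, gTab p q 1 + gTab p q 2 + gTab p q (ka 1 2) = p ∧
      gTab p q 1 + gTab p q 4 + gTab p q (ka 1 4) = q := by decide +kernel

/-- the type of an element outside the centre part, given the three unknowns -/
def tfun (c : Fin 16) (α β γ : Bool) (n : Fin 64) (e : ZMod 2) : Bool :=
  if (sigL c).any (fun p => p.2.1 == n.val && p.2.2 == e) then α
  else if (sigL c).any (fun p => p.2.1 == n.val) then β else γ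

theorem sig_exclusive : ∀ c, c ≠ 0 → ∀ n : Fin 64, ∀ e : ZMod 2,
    ((∃ p ∈ sigL c, p.2.1 = n ∧ p.2.2 = e) → ¬ ∃ p ∈ sigL c, p.2.1 = n ∧ p.2.2 = e + 1) := by decide +kernel

theorem tfun_count : ∀ c, c ≠ 0 → ∀ α β γ,
    (univ.filter fun q : Fin 64 × ZMod 2 => tfun c α β γ q.1 q.2 = true).card =
      (if α then 16 else 0) + (if β then 16 else 0) + if γ then 96 else 0 := by decide +kernel

theorem inA_count : (univ.filter fun q : Fin 64 × ZMod 2 => uv q.1 ≠ 0 ∧ InA 1 (uv q.1)).card = 36 ∧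
    (univ.filter fun n : Fin 64 => uv n ≠ 0 ∧ ¬InA 1 (uv n)).card = 45 := by decide +kernel

end Cfsg.Agent.LargeFischer
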