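import Cfsg.Agent.LargeFischer.CodeModelMap
import Cfsg.Agent.Compute.MathieuActions

/-! The normaliser modulo the subgroup is the Mathieu group. -/

set_option autoImplicit false
set_option maxRecDepth 20000
set_option Elab.async false

open Finset Cfsg Cfsg.Agent

namespace Cfsg.Agent.LargeFischer
namespace Data
namespace MaxData

variable {G : Type*} [Group G] [Finite G] {z : G}
  {Q : Subgroup (Subgroup.centralizer ({z} : Set G))} [Q.Normal] {D : Data z Q} (M : D.MaxData)
include M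

theorem P_norm {p : Subgroup.centralizer ({z} : Set G)} (hp : p ∈ M.P) :
    p ∈ Subgroup.normalizer (M.A : Set (Subgroup.centralizer ({z} : Set G))) := by
  have himg : M.A.map (MulAut.conj p).toMonoidHom = M.A := by
    refine M.uniq _ ?_ (elementary_map _ M.el) ?_
    · rintro _ ⟨a, ha, rfl⟩
      exact mul_mem (mul_mem hp (M.le ha)) (inv_mem hp)
    · rw [Subgroup.card_map_of_injective (MulAut.conj p).injective, M.card]
  refine Subgroup.mem_normalizer_iff.2 fun a => ⟨fun ha => himg.le ⟨a, ha, rfl⟩, fun ha => ?_⟩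
  obtain ⟨b, hb, e⟩ := himg.ge ha
  rwa [← mul_left_cancel (mul_right_cancel (show p * b * p⁻¹ = p * a * p⁻¹ from e))]

theorem centralizer_eq {g : G} (hg : ∀ a ∈ M.AG, g * a = a * g) : g ∈ M.AG := by
  set Cn : Subgroup (Subgroup.centralizer ({z} : Set G)) := Subgroup.centralizer (M.A : Set (Subgroup.centralizer ({z} : Set G))) with hCn
  have hfix : ∀ h ∈ Cn, ∀ u ∈ F0, cact D.F h u = u := fun h hh u hu => by
    refine cact_eq D.F ?_
    rw [← mk_lift D.F u, actV_mk]
    congr 1
    refine Subtype.ext ?_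
    rw [MulAut.conjNormal_apply]
    exact mul_inv_eq_iff_eq_mul.2 ((Subgroup.mem_centralizer_iff.1 hh) _ ((M.mem_Q_iff (mk_lift D.F u)).2 hu)).symm
  have hdiff : ∀ h ∈ Cn, ∀ y, cact D.F h y + y ∈ F0 := fun h hh y => by
    rw [← perp_F0, mem_perpSub]
    intro u hu
    have h1 : bp u (cact D.F h y) = bp u y := by
      have h2 : bp (cact D.F h u) (cact D.F h y) = 0 ↔ bp u y = 0 := by
        rw [← perp_bp, ← perp_bp]; exact cact_perp D.b D.F h u y
      rw [hfix h hh u hu] at h2
      revert h2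
      generalize bp u (cact D.F h y) = a
      generalize bp u y = d
      revert a d
      decide
    rw [bp_add_right, h1]
    exact (show ∀ p : ZMod 2, p + p = 0 by decide) _
  have hpg : IsPGroup 2 ↥Cn := fun h => by
    have hs : (h : Subgroup.centralizer ({z} : Set G)) * h ∈ Q := D.mem_Q_of_act fun y => by
      rw [cact_mul, show cact D.F (h : Subgroup.centralizer ({z} : Set G)) y = y + (cact D.F h y + y) by
        rw [add_comm (cact D.F _ y), ← add_assoc, add_self6, zero_add], cact_add, hfix _ h.2 _ (hdiff _ h.2 y),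
        ← add_assoc, add_self6, zero_add]
    refine ⟨3, Subtype.ext ?_⟩
    set r : Q := ⟨_, hs⟩
    have h4 : r * r * (r * r) = 1 := by
      rcases (center_iff D.b).1 (sq_mem D.b r) with e | e
      · rw [e, one_mul]
      · exact Subtype.ext (by rw [Subgroup.coe_mul, e, zc_sq D.b]; rfl)
    have h4' := congrArg Subtype.val h4
    simp only [Subgroup.coe_mul, OneMemClass.coe_one, r] at h4'
    rw [SubmonoidClass.coe_pow, OneMemClass.coe_one, ← h4']
    simp [pow_succ, mul_assoc]
  have hlin : ∀ h ∈ Cn, h ∈ D.Lin := fun h hh => by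
    by_contra hne
    have h1 := hdiff h hh (sm 1 (e6 0))
    rw [D.sm_two hne] at h1
    have h2 : sm 2 (cact D.F h (e6 0) + e6 0) ∈ F0 := F0_sm (hdiff h hh _) 2
    have h3 := F0.add_mem h1 h2
    rw [sm_add, show sm 2 (cact D.F h (e6 0)) + sm 1 (e6 0) + (sm 2 (cact D.F h (e6 0)) + sm 2 (e6 0)) =
      (sm 2 (cact D.F h (e6 0)) + sm 2 (cact D.F h (e6 0))) + (sm 1 (e6 0) + sm 2 (e6 0)) by abel, add_self6, zero_add,
      mem_F0] at h3
    exact absurd h3.1 (by decide +kernel)
  haveI : Fact (Nat.Prime 2) := ⟨Nat.prime_two⟩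
  have hP : Cn ≤ (M.P : Subgroup (Subgroup.centralizer ({z} : Set G))) := by
    have hN : (M.P : Subgroup (Subgroup.centralizer ({z} : Set G))) ≤
        Subgroup.normalizer (Cn : Set (Subgroup.centralizer ({z} : Set G))) := by
      intro p hp
      have hpA : ∀ a, a ∈ M.A ↔ p * a * p⁻¹ ∈ M.A := Subgroup.mem_normalizer_iff.1 (M.P_norm hp)
      refine Subgroup.mem_normalizer_iff.2 fun c => ?_
      simp only [hCn, Subgroup.mem_centralizer_iff]
      constructor
      · intro hc a ha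
        have h := hc (p⁻¹ * a * p) ((hpA _).2 (by
          rw [show p * (p⁻¹ * a * p) * p⁻¹ = a by group]; exact ha))
        calc a * (p * c * p⁻¹) = p * (p⁻¹ * a * p * c) * p⁻¹ := by group
          _ = p * (c * (p⁻¹ * a * p)) * p⁻¹ := by rw [h]
          _ = p * c * p⁻¹ * a := by group
      · intro hc a ha
        have h := hc (p * a * p⁻¹) ((hpA a).1 ha)
        calc a * c = p⁻¹ * (p * a * p⁻¹ * (p * c * p⁻¹)) * p := by group
          _ = p⁻¹ * (p * c * p⁻¹ * (p * a * p⁻¹)) * p := by rw [h]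
          _ = c * a := by group
    have h := M.P.is_maximal' (IsPGroup.to_sup_of_normal_right' M.P.isPGroup' hpg hN) le_sup_left
    exact le_sup_right.trans h.le
  have hgz : g ∈ Subgroup.centralizer ({z} : Set G) :=
    Subgroup.mem_centralizer_singleton_iff.2 (hg z M.z_mem_AG)
  have hgC : (⟨g, hgz⟩ : Subgroup.centralizer ({z} : Set G)) ∈ Cn := by
    rw [hCn, Subgroup.mem_centralizer_iff]
    intro a ha
    exact Subtype.ext (hg _ (M.coe_mem_AG.2 ha)).symm
  refine M.coe_mem_AG (h := ⟨g, hgz⟩) |>.2 ((M.memA _).2 ⟨⟨hP hgC, hlin _ hgC⟩, fun w hw => ?_⟩)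
  exact ((Subgroup.mem_centralizer_iff.1 hgC) w (M.W_le hw).1).symm

/-- the action on points -/
theorem exists_theta (R : M.Pairs) : ∃ θ : ↥(Subgroup.normalizer (M.AG : Set G)) →* ↥M24,
    (∀ (n : ↥(Subgroup.normalizer (M.AG : Set G))) (i j : GolayPt),
      (n : G) * R.ψ (pt i + pt j) * (n : G)⁻¹ = R.ψ (pt ((θ n : Equiv.Perm GolayPt) i) + pt ((θ n : Equiv.Perm GolayPt) j))) ∧
    θ.ker = M.AG.subgroupOf (Subgroup.normalizer (M.AG : Set G)) := by
  classical
  set N := Subgroup.normalizer (M.AG : Set G) with hNdef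
  have h0 : R.ψ 0 = 1 := by
    have h := R.hom 0 0
    rw [add_zero] at h
    exact mul_eq_left.1 h.symm
  have hnA : ∀ n : ↥N, ∀ b, b ∈ M.AG ↔ (n : G) * b * (n : G)⁻¹ ∈ M.AG := fun n => Subgroup.mem_normalizer_iff.1 n.2
  have hex : ∀ n : ↥N, ∃ π ∈ M24, ∀ i j : GolayPt,
      (n : G) * R.ψ (pt i + pt j) * (n : G)⁻¹ = R.ψ (pt (π i) + pt (π j)) := by
    intro n
    have hs : ∀ w, ∃ v, R.ψ v = (n : G) * R.ψ w * (n : G)⁻¹ := fun w => R.surj _ ((hnA n _).1 (R.mem w))
    choose f hf using hs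
    let τ : W11 →+ W11 := AddMonoidHom.mk' f fun v w => R.inj (by
      rw [R.hom, hf, hf, hf, R.hom]; group)
    have hinj : Function.Injective τ := fun v w e => R.inj (by
      have := congrArg R.ψ e
      change R.ψ (f v) = R.ψ (f w) at this
      rw [hf, hf] at this
      exact mul_left_cancel (mul_right_cancel this))
    have hd : ∀ i j : GolayPt, i ≠ j → IsDuad (τ (pt i + pt j)) := by
      intro i j hij
      obtain ⟨h1, h2⟩ := (R.duad (pt i + pt j)).2 ⟨i, j, hij, rfl⟩
      refine (R.duad (f (pt i + pt j))).1 ?_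
      rw [hf]
      refine ⟨fun e => h1 ?_, fun e => h2 (e.trans (isConj_iff.2 ⟨(n : G)⁻¹, by group⟩))⟩
      calc R.ψ (pt i + pt j) = (n : G)⁻¹ * ((n : G) * R.ψ (pt i + pt j) * (n : G)⁻¹) * n := by group
        _ = 1 := by rw [e]; group
    obtain ⟨π, hπ, e⟩ := exists_perm hinj hd
    exact ⟨π, hπ, fun i j => by rw [← hf]; exact congrArg R.ψ (e i j)⟩
  choose π hπ hπe using hex
  have huniq : ∀ (n : ↥N) (σ : Equiv.Perm GolayPt),
      (∀ i j, (n : G) * R.ψ (pt i + pt j) * (n : G)⁻¹ = R.ψ (pt (σ i) + pt (σ j))) → π n = σ := fun n σ h =>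
    perm_unique fun i j => R.inj ((hπe n i j).symm.trans (h i j))
  let θ : ↥N →* ↥M24 := MonoidHom.mk' (fun n => ⟨π n, hπ n⟩) fun a b => Subtype.ext (huniq (a * b) (π a * π b) fun i j => by
    rw [Subgroup.coe_mul, show (a : G) * b * R.ψ (pt i + pt j) * ((a : G) * b)⁻¹ =
      (a : G) * ((b : G) * R.ψ (pt i + pt j) * (b : G)⁻¹) * (a : G)⁻¹ by group, hπe, hπe]
    rfl)
  refine ⟨θ, hπe, ?_⟩
  ext n
  rw [MonoidHom.mem_ker, Subgroup.mem_subgroupOf]
  constructor
  · intro h
    have h1 : π n = 1 := congrArg Subtype.val h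
    let K : AddSubgroup W11 :=
      { carrier := {w | (n : G) * R.ψ w = R.ψ w * n}
        zero_mem' := show (n : G) * R.ψ 0 = R.ψ 0 * n by rw [h0, mul_one, one_mul]
        add_mem' := fun {v w} (hv : (n : G) * R.ψ v = R.ψ v * n) (hw : (n : G) * R.ψ w = R.ψ w * n) =>
          show (n : G) * R.ψ (v + w) = R.ψ (v + w) * n by rw [R.hom, ← mul_assoc, hv, mul_assoc, hw, mul_assoc]
        neg_mem' := fun {v} hv => by rwa [show -v = v from funext fun _ => (show ∀ p : ZMod 2, -p = p by decide) _] }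
    have hK : ∀ i : GolayPt, pt i + pt none ∈ K := fun i => by
      have h2 := hπe n i none
      rw [h1] at h2
      exact mul_inv_eq_iff_eq_mul.1 h2
    refine M.centralizer_eq fun a ha => ?_
    obtain ⟨w, rfl⟩ := R.surj a ha
    exact span_duads hK w
  · intro hn
    refine Subtype.ext (huniq n 1 fun i j => ?_)
    have hc : (n : G) * R.ψ (pt i + pt j) = R.ψ (pt i + pt j) * n :=
      congrArg Subtype.val (M.el_AG.1.is_comm.comm (⟨_, hn⟩ : ↥M.AG) ⟨_, R.mem _⟩)
    exact mul_inv_eq_iff_eq_mul.2 hc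

end MaxData
end Data
end Cfsg.Agent.LargeFischer
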