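import Cfsg.Agent.LargeFischer.Tbar
import Cfsg.Agent.LargeFischer.Twist

/-! The largest elementary abelian subgroup of a Sylow group of the centraliser. -/

set_option autoImplicit false
set_option maxRecDepth 20000
set_option Elab.async false

open Finset Cfsg Cfsg.Agent
open scoped commutatorElement
open Cfsg.Agent.ThreeTrans.SU32 (F4)

namespace Cfsg.Agent.LargeFischer

/-- the vectors constant on the three pairs -/
def F0 : AddSubgroup Vec6 where
  carrier := {x | x 0 = x 1 ∧ x 2 = x 3 ∧ x 4 = x 5}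
  zero_mem' := ⟨rfl, rfl, rfl⟩
  add_mem' {a b} ha hb := ⟨congrArg₂ (· + ·) ha.1 hb.1, congrArg₂ (· + ·) ha.2.1 hb.2.1, congrArg₂ (· + ·) ha.2.2 hb.2.2⟩
  neg_mem' {a} ha := ⟨congrArg (- ·) ha.1, congrArg (- ·) ha.2.1, congrArg (- ·) ha.2.2⟩

theorem mem_F0 {x : Vec6} : x ∈ F0 ↔ x 0 = x 1 ∧ x 2 = x 3 ∧ x 4 = x 5 := Iff.rfl

theorem F0_sm {x : Vec6} (h : x ∈ F0) (a : ZMod 3) : sm a x ∈ F0 :=
  ⟨congrArg (omk a) h.1, congrArg (omk a) h.2.1, congrArg (omk a) h.2.2⟩

theorem f0_mem : ∀ i, f0 i ∈ F0 := fun i =>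
  (show ∀ i, (f0 i) 0 = (f0 i) 1 ∧ (f0 i) 2 = (f0 i) 3 ∧ (f0 i) 4 = (f0 i) 5 by decide +kernel) i

/-- the three pairs -/
def ch (m : Fin 3) : Vec6 := f0 ⟨2 * (m : ℕ), by omega⟩

theorem F0_decomp {U : AddSubgroup Vec6} (h : ∀ i, f0 i ∈ U) {x : Vec6} (hx : x ∈ F0) : x ∈ U := by
  have key : ∀ (m : Fin 3) (p : W4), (fun l : Fin 6 => if (l : ℕ) / 2 = m then p else 0) ∈ U := by
    intro m p
    have h0 := h ⟨2 * (m : ℕ), by omega⟩
    have h1 := h ⟨2 * (m : ℕ) + 1, by omega⟩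
    obtain ⟨p1, p2⟩ := p
    rcases zmod2_cases p1 with rfl | rfl <;> rcases zmod2_cases p2 with rfl | rfl
    · convert U.zero_mem using 1
      exact funext fun l => by split_ifs <;> rfl
    · convert h1 using 1
      clear * - m; revert m; decide +kernel
    · convert h0 using 1
      clear * - m; revert m; decide +kernel
    · convert U.add_mem h0 h1 using 1
      clear * - m; revert m; decide +kernel
  have e : x = (fun l : Fin 6 => if (l : ℕ) / 2 = (0 : Fin 3) then x 0 else 0) +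
      (fun l : Fin 6 => if (l : ℕ) / 2 = (1 : Fin 3) then x 2 else 0) +
      (fun l : Fin 6 => if (l : ℕ) / 2 = (2 : Fin 3) then x 4 else 0) := by
    obtain ⟨a, b, c⟩ := hx
    funext l
    fin_cases l <;> simp [← a, ← b, ← c]
  rw [e]
  exact U.add_mem (U.add_mem (key 0 _) (key 1 _)) (key 2 _)

theorem card_F0 : Nat.card ↥F0 = 64 := by
  let e : ↥F0 ≃ W4 × W4 × W4 :=
    { toFun := fun x => (x.1 0, x.1 2, x.1 4)
      invFun := fun p => ⟨![p.1, p.1, p.2.1, p.2.1, p.2.2, p.2.2], rfl, rfl, rfl⟩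
      left_inv := fun x => Subtype.ext (funext fun l => by
        obtain ⟨a, b, c⟩ := x.2
        fin_cases l <;> simp [← a, ← b, ← c])
      right_inv := fun p => rfl }
  rw [Nat.card_congr e, Nat.card_eq_fintype_card]
  decide +kernel

theorem F0_par {x : Vec6} (h : x ∈ F0) : par x = 0 := by
  obtain ⟨a, b, c⟩ := h
  have e : x = ![x 0, x 0, x 2, x 2, x 4, x 4] := funext fun l => by fin_cases l <;> simp [← a, ← b, ← c]
  rw [e]
  exact (show ∀ p q r : W4, par ![p, p, q, q, r, r] = 0 by decide +kernel) _ _ _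

theorem F0_bp {x y : Vec6} (hx : x ∈ F0) (hy : y ∈ F0) : bp x y = 0 := by
  rw [bp_eq, F0_par hx, F0_par hy, F0_par (F0.add_mem hx hy)]
  rfl

theorem perp_F0 : perpSub F0 = F0 := by
  have hle : F0 ≤ perpSub F0 := fun y hy u hu => F0_bp hu hy
  have h := card_perpSub F0
  rw [card_F0] at h
  refine (AddSubgroup.eq_of_le_of_card_ge hle ?_).symm
  rw [card_F0]
  omega

/-- the reader of functionals -/
theorem exists_functional (χ : Fin 6 → ZMod 2) : ∃ y, ∀ i, bp (f0 i) y = χ i := by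
  let Ψ : Vec6 →+ (Fin 6 → ZMod 2) := AddMonoidHom.mk' (fun y i => bp (f0 i) y)
    fun a c => funext fun i => bp_add_right _ _ _
  have hker : Ψ.ker = F0 := by
    rw [← perp_F0]
    ext y
    rw [AddMonoidHom.mem_ker, mem_perpSub]
    refine ⟨fun h u hu => ?_, fun h => funext fun i => h _ (f0_mem i)⟩
    let K : AddSubgroup Vec6 :=
      { carrier := {u | bp u y = 0}
        zero_mem' := by
          have h := bp_add_left 0 0 y
          rw [add_zero] at h
          exact left_eq_add.1 h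
        add_mem' := fun {a b} (ha : bp a y = 0) (hb : bp b y = 0) => show bp (a + b) y = 0 by
          rw [bp_add_left, ha, hb, add_zero]
        neg_mem' := fun {a} ha => by rwa [show -a = a from funext fun _ => (show ∀ p : W4, -p = p by decide) _] }
    exact F0_decomp (U := K) (fun i => congrFun h i) hu
  have h := AddSubgroup.card_eq_card_quotient_mul_card_addSubgroup Ψ.ker
  rw [Nat.card_congr (QuotientAddGroup.quotientKerEquivRange Ψ).toEquiv, hker, card_F0,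
    Nat.card_eq_fintype_card (α := Vec6)] at h
  have htop : Ψ.range = ⊤ := AddSubgroup.eq_top_of_card_eq _ (by
    rw [Nat.card_eq_fintype_card (α := Fin 6 → ZMod 2)]
    simp only [Fintype.card_fun, Fintype.card_prod, ZMod.card, Fintype.card_fin] at h ⊢
    omega)
  obtain ⟨y, hy⟩ := htop.ge (AddSubgroup.mem_top χ)
  exact ⟨y, fun i => congrFun hy i⟩

theorem gen_facts : cd (1, 0) = es (pr 1) ∧
    (∀ i, es (pr 1) (es (pr 10) (e6 i)) = es (pr 15) (e6 i)) ∧
    IsK (1, 0) ∧ IsK (10, 0) ∧ IsK (0, 1) ∧ IsK (15, 0) ∧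
    (∀ i, ∀ d ∈ [((1, 0) : Fin 16 × Fin 8), (10, 0)], cd d (e6 i) = es (pr d.1) (e6 i)) := by
  refine ⟨rfl, ?_, ?_, ?_, ?_, ?_, ?_⟩ <;> decide +kernel

theorem gn_sum : (∑ i : Fin 6, (![1, 1, 2, 2, 0, 0] : Fin 6 → ZMod 3) i) = 0 ∧
    Equiv.Perm.sign (Equiv.swap (0 : Fin 6) 2 * Equiv.swap 2 4 * (Equiv.swap 1 3 * Equiv.swap 3 5)) = 1 ∧
    pr 2 = (0, 2) := by decide +kernel

theorem edges_tree : ∀ n : Fin 14, edges[(n : ℕ)]?.map (fun e => e.2.1) = some (1, 0) ∨
    ∃ m : Fin 14, m < n ∧ edges[(n : ℕ)]?.map (fun e => e.2.1) = edges[(m : ℕ)]?.map (fun e => e.2.2) := by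
  decide +kernel

namespace Data

variable {G : Type*} [Group G] [Finite G] {z : G}
  {Q : Subgroup (Subgroup.centralizer ({z} : Set G))} [Q.Normal] (D : Data z Q)
include D

/-- coordinates of the part inside `Q` -/
def coords (A : Subgroup (Subgroup.centralizer ({z} : Set G))) : AddSubgroup Vec6 where
  carrier := {c | ∃ q : Q, (q : Subgroup.centralizer ({z} : Set G)) ∈ A ∧ (q : ↥Q ⧸ Subgroup.center ↥Q) = D.F.co c}
  zero_mem' := ⟨1, A.one_mem, by rw [co_zero D.b D.F, QuotientGroup.mk_one]⟩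
  add_mem' := fun {a c} ⟨q, hq, e⟩ ⟨q', hq', e'⟩ =>
    ⟨q * q', A.mul_mem hq hq', by rw [QuotientGroup.mk_mul, e, e', D.F.map_add]⟩
  neg_mem' := fun {a} h => by rwa [show -a = a from funext fun _ => (show ∀ p : W4, -p = p by decide) _]

theorem card_inf_le (A : Subgroup (Subgroup.centralizer ({z} : Set G))) :
    Nat.card ↥(A ⊓ Q) ≤ 2 * Nat.card ↥(D.coords A) := by
  classical
  choose c hc using fun q : Q => D.F.bij.2 (q : ↥Q ⧸ Subgroup.center ↥Q)
  let f : ↥(A ⊓ Q) → Bool × ↥(D.coords A) := fun a =>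
    (decide ((⟨a, a.2.2⟩ : Q) = lift D.F (c ⟨a, a.2.2⟩)), ⟨c ⟨a, a.2.2⟩, ⟨a, a.2.2⟩, a.2.1, (hc _).symm⟩)
  have hf : Function.Injective f := by
    intro a b h
    obtain ⟨h1, h2⟩ := Prod.mk.injEq _ _ _ _ ▸ h
    have e2 : c ⟨a, a.2.2⟩ = c ⟨b, b.2.2⟩ := congrArg Subtype.val h2
    rw [decide_eq_decide, e2] at h1
    have hab : (⟨a, a.2.2⟩ : Q) = ⟨b, b.2.2⟩ := by
      have hcase : ∀ (q : Q), c q = c ⟨b, b.2.2⟩ → q = lift D.F (c ⟨b, b.2.2⟩) ∨
          q = lift D.F (c ⟨b, b.2.2⟩) * ⟨zc z, zc_mem D.b⟩ := by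
        intro q hq
        have e : ((lift D.F (c ⟨b, b.2.2⟩) : Q) : ↥Q ⧸ Subgroup.center ↥Q) = (q : ↥Q ⧸ Subgroup.center ↥Q) := by
          rw [mk_lift, ← hq, hc]
        rcases (center_iff D.b).1 (QuotientGroup.eq.1 e) with h | h
        · exact Or.inl (inv_mul_eq_one.1 h).symm
        · exact Or.inr (inv_mul_eq_iff_eq_mul.1 (show _ = (⟨zc z, zc_mem D.b⟩ : Q) from Subtype.ext h))
      rcases hcase _ e2 with p | p
      · exact p.trans (h1.1 p).symm
      · rcases hcase _ rfl with q | q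
        · exact (h1.2 q).trans q.symm
        · exact p.trans q.symm
    exact Subtype.ext (congrArg (fun q : Q => (q : Subgroup.centralizer ({z} : Set G))) hab)
  have h := Nat.card_le_card_of_injective f hf
  rwa [Nat.card_prod, Nat.card_eq_fintype_card (α := Bool), Fintype.card_bool] at h

omit D in
theorem card_image_mul (A : Subgroup (Subgroup.centralizer ({z} : Set G))) :
    Nat.card ↥(A.map (QuotientGroup.mk' Q)) * Nat.card ↥(A ⊓ Q) = Nat.card ↥A := by
  set f := (QuotientGroup.mk' Q).comp A.subtype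
  have h := f.ker.card_eq_card_quotient_mul_card_subgroup
  rw [Nat.card_congr (QuotientGroup.quotientKerEquivRange f).toEquiv] at h
  have hr : f.range = A.map (QuotientGroup.mk' Q) := by
    rw [MonoidHom.range_comp, A.range_subtype]
  have hk : f.ker = (A ⊓ Q).subgroupOf A := by
    ext a
    simp [f, Subgroup.mem_subgroupOf]
  rw [hr, hk, Nat.card_congr (Subgroup.subgroupOfEquivOfLe inf_le_left).toEquiv] at h
  exact h.symm

theorem comm_bp {x y : Q} {a c : Vec6} (hx : (x : ↥Q ⧸ Subgroup.center ↥Q) = D.F.co a)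
    (hy : (y : ↥Q ⧸ Subgroup.center ↥Q) = D.F.co c) : x * y = y * x ↔ bp a c = 0 := by
  rw [← perp_bp, ← B_perp D.b D.F, B_eq D.b D.F hx hy]
  constructor
  · exact fun h => if_pos (commutatorElement_eq_one_iff_mul_comm.2 h)
  · intro h
    refine commutatorElement_eq_one_iff_mul_comm.1 ?_
    by_contra hne
    rw [if_neg (show ¬(x * y * x⁻¹ * y⁻¹ = 1) from hne)] at h
    exact absurd h (by decide)

theorem qact_linear {y : Subgroup.centralizer ({z} : Set G) ⧸ Q} (hy : y ∈ D.Lbar) : IsLin (D.qact y) := by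
  obtain ⟨h, hh, rfl⟩ := hy
  have e : D.qact (h : _ ⧸ Q) = cact D.F h := funext (D.qact_mk h)
  exact e ▸ D.isLin_cact hh

theorem max_unique (hF : IsOfLargeFischerTypeAt z Q) (P : Sylow 2 ↥(Subgroup.centralizer ({z} : Set G)))
    (A W0 : Subgroup (Subgroup.centralizer ({z} : Set G)))
    (hrank : ∀ B : Subgroup (Subgroup.centralizer ({z} : Set G) ⧸ Q),
        B ≤ (P : Subgroup (Subgroup.centralizer ({z} : Set G))).map (QuotientGroup.mk' Q) → B ≤ D.Lbar →
        IsElementaryAbelian 2 B → Nat.card B ≤ 16 ∧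
          (5 ≤ Nat.card B → ∃ p ≠ 0, ∃ y ∈ B, ∀ x, D.qact y x = es (pr p) x) ∧
          (Nat.card B = 16 → (∃ y ∈ B, ∀ x, D.qact y x = es (pr 1) x) ∧ ∃ y ∈ B, ∀ x, D.qact y x = es (pr 10) x))
    (hAmem : ∀ a, a ∈ P → a ∈ D.Lin → (∀ w ∈ W0, a * w = w * a) → a ∈ A)
    (hW0mem : ∀ w, w ∈ W0 ↔ ∃ q : Q, (∃ c ∈ F0, (q : ↥Q ⧸ Subgroup.center ↥Q) = D.F.co c) ∧ (q : _) = w)
    (hW0card : Nat.card ↥W0 = 128) (hAc : Nat.card ↥A = 2 ^ 11)
    (B : Subgroup (Subgroup.centralizer ({z} : Set G))) (hBP : B ≤ P) (hB : IsElementaryAbelian 2 B)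
    (hBc : 2 ^ 11 ≤ Nat.card B) : B = A := by
  classical
  -- uniqueness
  set Bb := B.map (QuotientGroup.mk' Q) with hBb
  set U := D.coords B with hU
  have hBcomm : ∀ a ∈ B, ∀ b ∈ B, a * b = b * a := fun a ha b hb =>
    congrArg Subtype.val (hB.1.is_comm.comm (⟨a, ha⟩ : ↥B) ⟨b, hb⟩)
  have hUfix : ∀ a ∈ B, ∀ u ∈ U, cact D.F a u = u := by
    rintro a ha u ⟨q, hq, e⟩
    refine cact_eq D.F ?_
    rw [← e, actV_mk]
    congr 1
    refine Subtype.ext ?_
    rw [MulAut.conjNormal_apply]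
    exact mul_inv_eq_iff_eq_mul.2 (hBcomm a ha _ hq)
  have hUperp : U ≤ perpSub U := by
    rintro u ⟨q, hq, e⟩ u' ⟨q', hq', e'⟩
    exact (D.comm_bp e' e).1 (Subtype.ext (hBcomm _ hq' _ hq))
  have hu : Nat.card ↥U ≤ 64 := by
    have h := card_perpSub U
    have h2 := Nat.card_le_card_of_injective (AddSubgroup.inclusion hUperp) (AddSubgroup.inclusion_injective hUperp)
    have h3 := Nat.mul_le_mul_left (Nat.card ↥U) h2
    by_contra hlt
    have h4 := Nat.mul_le_mul (show 65 ≤ Nat.card ↥U by omega) (show 65 ≤ Nat.card ↥U by omega)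
    omega
  have hprod : 1024 ≤ Nat.card ↥Bb * Nat.card ↥U := by
    have h1 := card_image_mul (Q := Q) B
    have h2 := Nat.mul_le_mul_left (Nat.card ↥Bb) (D.card_inf_le B)
    rw [hBb] at h2 ⊢
    rw [h1, ← hU, mul_left_comm] at h2
    omega
  have hBbel : IsElementaryAbelian 2 Bb := by
    refine ⟨⟨⟨?_⟩⟩, ?_⟩
    · rintro ⟨_, a, ha, rfl⟩ ⟨_, b, hb, rfl⟩
      refine Subtype.ext ?_
      show QuotientGroup.mk' Q a * QuotientGroup.mk' Q b = QuotientGroup.mk' Q b * QuotientGroup.mk' Q a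
      rw [← map_mul, ← map_mul, hBcomm a ha b hb]
    · rintro _ ⟨a, ha, rfl⟩
      rw [← map_pow, hB.2 a ha, map_one]
  set Bp := Bb ⊓ D.Lbar with hBp
  have hBpel : IsElementaryAbelian 2 Bp := ⟨⟨⟨fun a b => Subtype.ext
    (show (a : Subgroup.centralizer ({z} : Set G) ⧸ Q) * b = b * a from
      congrArg Subtype.val (hBbel.1.is_comm.comm (⟨_, a.2.1⟩ : ↥Bb) ⟨_, b.2.1⟩))⟩⟩, fun a ha => hBbel.2 a ha.1⟩
  obtain ⟨hr1, hr2, hr3⟩ := hrank Bp (inf_le_left.trans (Subgroup.map_mono hBP)) inf_le_right hBpel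
  have hhalf : Nat.card ↥Bb ≤ 2 * Nat.card ↥Bp := by
    have hLi : D.Lbar.index = 2 := by
      rw [Lbar, D.Lin.index_map_eq (QuotientGroup.mk'_surjective Q) (by rw [QuotientGroup.ker_mk']; exact D.Q_le_Lin)]
      exact D.Lin_index hF
    haveI := Subgroup.normal_of_index_eq_two hLi
    have h1 := (D.Lbar.subgroupOf Bb).card_mul_index
    have h2 : D.Lbar.relIndex Bb ∣ D.Lbar.index := Subgroup.relIndex_dvd_index_of_normal _ _
    rw [hLi] at h2
    have h3 := Nat.le_of_dvd (by norm_num) h2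
    have h4 : Nat.card ↥(D.Lbar.subgroupOf Bb) = Nat.card ↥Bp := by
      rw [show D.Lbar.subgroupOf Bb = Bp.subgroupOf Bb by rw [hBp, Subgroup.inf_subgroupOf_left]]
      exact Nat.card_congr (Subgroup.subgroupOfEquivOfLe inf_le_left).toEquiv
    change Nat.card ↥(D.Lbar.subgroupOf Bb) * D.Lbar.relIndex Bb = Nat.card ↥Bb at h1
    rw [h4] at h1
    have h5 := Nat.mul_le_mul_left (Nat.card ↥Bp) h3
    omega
  have hmemBp : ∀ y ∈ Bp, ∃ b ∈ B, (b : _ ⧸ Q) = y ∧ b ∈ D.Lin := fun y hy => by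
    obtain ⟨b, hb, rfl⟩ := hy.1
    exact ⟨b, hb, rfl, D.mk_mem_Lbar.1 hy.2⟩
  have himgperp : ∀ y ∈ Bp, ∀ V : AddSubgroup Vec6, (∀ w ∈ V, D.qact y w = w) → ∀ x, D.qact y x + x ∈ perpSub V := by
    intro y hy V hV x w hw
    obtain ⟨b, -, rfl, -⟩ := hmemBp y hy
    have e := D.bp_cact b w x
    rw [← D.qact_mk, ← D.qact_mk, hV w hw] at e
    rw [bp_add_right, e]
    exact (show ∀ p : ZMod 2, p + p = 0 by decide) _
  have hlin : Bb ≤ D.Lbar := by
    intro y hy
    by_contra hyL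
    obtain ⟨a, ha, rfl⟩ := hy
    have haL : a ∉ D.Lin := fun h => hyL (D.mk_mem_Lbar.2 h)
    let Φ : ↥U × ↥U →+ Vec6 := AddMonoidHom.mk' (fun p => p.1.1 + sm 1 p.2.1) fun p q => by
      simp only [Prod.fst_add, Prod.snd_add, AddSubgroup.coe_add, sm_add]
      abel
    have hΦ : Function.Injective Φ := by
      refine (injective_iff_map_eq_zero Φ).2 fun p hp => ?_
      have e : sm 1 p.2.1 = p.1.1 := (add_eq_zero6 hp).symm
      have h2 := D.sm_two haL p.2.1
      rw [hUfix a ha _ p.2.2, e, hUfix a ha _ p.1.2, ← e] at h2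
      have h0 : p.2.1 = 0 := funext fun i =>
        (show ∀ q : W4, omk 1 q = omk 2 q → q = 0 by decide) _ (congrFun h2 i)
      rw [h0] at e
      refine Prod.ext (Subtype.ext ?_) (Subtype.ext h0)
      rw [← e]
      funext i
      show omk 1 (0 : W4) = 0
      exact (omk_facts.1 _ _).2 rfl
    have hWc : Nat.card ↥Φ.range = Nat.card ↥U * Nat.card ↥U := by
      rw [← Nat.card_congr (AddMonoidHom.ofInjective hΦ).toEquiv, Nat.card_prod]
    have h5 : 5 ≤ Nat.card ↥Bp := by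
      have := Nat.mul_le_mul_left (Nat.card ↥Bb) hu
      omega
    obtain ⟨p, hp, y, hy, hyp⟩ := hr2 h5
    have hfixW : ∀ w ∈ Φ.range, D.qact y w = w := by
      rintro _ ⟨⟨u, u'⟩, rfl⟩
      obtain ⟨b, hb, rfl, hbL⟩ := hmemBp y hy
      show D.qact _ (u.1 + sm 1 u'.1) = u.1 + sm 1 u'.1
      rw [D.qact_mk, cact_add, hUfix b hb _ u.2, D.mem_Lin.1 hbL, hUfix b hb _ u'.2]
    have hle : (univ.image fun ai : ZMod 3 × Fin 6 => sm ai.1 (es (pr p) (e6 ai.2) + e6 ai.2)).card ≤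
        Nat.card ↥(perpSub Φ.range) := by
      rw [← Nat.card_eq_finsetCard]
      refine Nat.card_le_card_of_injective (fun t => ⟨t.1, ?_⟩) fun s t h => Subtype.ext (congrArg Subtype.val h :)
      obtain ⟨ai, -, hai⟩ := mem_image.1 t.2
      have h := himgperp y hy _ hfixW (sm ai.1 (e6 ai.2))
      rwa [hyp, (isLin_es _).smul_all, ← sm_add, hai] at h
    have h4 := es_image_big p hp
    have hc4 := card_perpSub Φ.range
    rw [hWc] at hc4
    have h6 : 32 ≤ Nat.card ↥U := by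
      have := Nat.mul_le_mul_right (Nat.card ↥U) (show Nat.card ↥Bb ≤ 32 by omega)
      omega
    have h7 := Nat.mul_le_mul (Nat.mul_le_mul h6 h6) (show 5 ≤ Nat.card ↥(perpSub Φ.range) by omega)
    omega
  have hBpeq : Bp = Bb := inf_eq_left.2 hlin
  have h16 : Nat.card ↥Bb = 16 := le_antisymm (hBpeq ▸ hr1) (by
    have := Nat.mul_le_mul_left (Nat.card ↥Bb) hu
    omega)
  have hu64 : Nat.card ↥U = 64 := by
    rw [h16] at hprod
    omega
  obtain ⟨⟨y1, hy1, hy1a⟩, ⟨y10, hy10, hy10a⟩⟩ := hr3 (by rw [hBpeq]; exact h16)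
  have hperpU : perpSub U = U := by
    have h := card_perpSub U
    rw [hu64] at h
    refine (AddSubgroup.eq_of_le_of_card_ge hUperp ?_).symm
    rw [hu64]
    omega
  have himg : ∀ y ∈ Bp, ∀ x, D.qact y x + x ∈ U := fun y hy x => hperpU.le (himgperp y hy U (fun w hw => by
    obtain ⟨b, hb, rfl, -⟩ := hmemBp y hy
    rw [D.qact_mk, hUfix b hb w hw]) x)
  have hi1 : ∀ k x, sm k (es (pr 1) x + x) ∈ U := fun k x => by
    have h := himg y1 hy1 (sm k x)
    rwa [hy1a, (isLin_es _).smul_all, ← sm_add] at h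
  have hi10 : ∀ k x, sm k (es (pr 10) x + x) ∈ U := fun k x => by
    have h := himg y10 hy10 (sm k x)
    rwa [hy10a, (isLin_es _).smul_all, ← sm_add] at h
  obtain ⟨i1, i2, i3, iv⟩ := es_images
  have hv : ∀ k, sm k v1 ∈ U := fun k => by
    have h := U.add_mem (hi1 (k + 1) (e6 2)) (hi1 (k + 1) (e6 0))
    rw [i1, i2, ← sm_add, show v1 + sm 1 (e6 0 + e6 1) + sm 1 (v1 + (e6 0 + e6 1)) = sm 2 v1 by decide +kernel, sm_sm,
      show k + 1 + 2 = k from (show ∀ k : ZMod 3, k + 1 + 2 = k by decide) k] at h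
    exact h
  have hχ : ∀ k, sm k (e6 0 + e6 1) ∈ U ∧ sm k (e6 2 + e6 3) ∈ U := fun k => by
    have e : ∀ w : Vec6, sm (k + 2) (v1 + sm 1 w) + sm (k + 2) v1 = sm k w := fun w => by
      rw [← sm_add, add_comm v1, add_assoc, add_self6, add_zero, sm_sm,
        show k + 2 + 1 = k from (show ∀ k : ZMod 3, k + 2 + 1 = k by decide) k]
    have h1 := U.add_mem (hi1 (k + 2) (e6 2)) (hv (k + 2))
    have h2 := U.add_mem (hi10 (k + 2) (e6 0)) (hv (k + 2))
    rw [i2, e] at h1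
    rw [i3, e] at h2
    exact ⟨h1, h2⟩
  have hf0 : ∀ i, f0 i ∈ U := fun i => by
    have h45 : ∀ k, sm k (e6 4 + e6 5) ∈ U := fun k => by
      rw [show e6 4 + e6 5 = v1 + (e6 0 + e6 1) + (e6 2 + e6 3) by decide +kernel, sm_add, sm_add]
      exact U.add_mem (U.add_mem (hv k) (hχ k).1) (hχ k).2
    fin_cases i
    · exact (hχ 0).1
    · exact (hχ 1).1
    · exact (hχ 0).2
    · exact (hχ 1).2
    · exact h45 0
    · exact h45 1
  have hUF : U = F0 := by
    refine (AddSubgroup.eq_of_le_of_card_ge (fun x hx => F0_decomp hf0 hx) ?_).symm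
    rw [hu64, card_F0]
  have hBQ : B ⊓ Q = W0 := by
    refine Subgroup.eq_of_le_of_card_ge (fun b hb => ?_) ?_
    · obtain ⟨c, hc'⟩ := D.F.bij.2 ((⟨b, hb.2⟩ : Q) : ↥Q ⧸ Subgroup.center ↥Q)
      exact (hW0mem b).2 ⟨⟨b, hb.2⟩, ⟨c, hUF.le ⟨⟨b, hb.2⟩, hb.1, hc'.symm⟩, hc'.symm⟩, rfl⟩
    · rw [hW0card]
      have h1 := card_image_mul (Q := Q) B
      rw [← hBb, h16] at h1
      omega
  have hBA : B ≤ A := fun b hb => hAmem b (hBP hb) (D.mk_mem_Lbar.1 (hlin ⟨b, hb, rfl⟩))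
    fun w hw => hBcomm b hb w (hBQ.ge hw).1
  exact Subgroup.eq_of_le_of_card_ge hBA (by rw [hAc]; exact hBc)


theorem exists_max_elem (hF : IsOfLargeFischerTypeAt z Q) (hc : D.c = 1) :
    ∃ (P : Sylow 2 ↥(Subgroup.centralizer ({z} : Set G))) (A : Subgroup (Subgroup.centralizer ({z} : Set G))),
      A ≤ P ∧ IsElementaryAbelian 2 A ∧ Nat.card A = 2 ^ 11 ∧ Nat.card ↥(A ⊓ Q) = 2 ^ 7 ∧
      Nat.card ↥(A.map (QuotientGroup.mk' Q)) = 16 ∧
      (∀ B : Subgroup (Subgroup.centralizer ({z} : Set G)), B ≤ P → IsElementaryAbelian 2 B → 2 ^ 11 ≤ Nat.card B →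
        B = A) ∧
      Q ≤ P ∧ ∃ W0 : Subgroup (Subgroup.centralizer ({z} : Set G)),
        (∀ a, a ∈ A ↔ (a ∈ P ∧ a ∈ D.Lin) ∧ ∀ w ∈ W0, a * w = w * a) ∧
        (∀ w, w ∈ W0 ↔ ∃ q : Q, (∃ c ∈ F0, (q : ↥Q ⧸ Subgroup.center ↥Q) = D.F.co c) ∧ (q : _) = w) ∧
        A ⊓ Q = W0 ∧ (∀ c, IsK c → ∃ a ∈ A, ∀ x, cact D.F a x = cd c x) ∧
        (∀ a ∈ A, ∃ c, IsK c ∧ ∀ x, cact D.F a x = cd c x) := by
  classical
  obtain ⟨P, hQP, hPcode, hPes, hPpm, hcd, hrank⟩ := D.exists_tbar hF hc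
  set Lb := D.Lbar with hLb
  let W : Subgroup Q :=
    { carrier := {q | ∃ c ∈ F0, (q : ↥Q ⧸ Subgroup.center ↥Q) = D.F.co c}
      one_mem' := ⟨0, F0.zero_mem, by rw [co_zero D.b D.F, QuotientGroup.mk_one]⟩
      mul_mem' := fun {a b} ⟨c, hc, e⟩ ⟨c', hc', e'⟩ =>
        ⟨c + c', F0.add_mem hc hc', by rw [QuotientGroup.mk_mul, e, e', D.F.map_add]⟩
      inv_mem' := fun {a} ⟨c, hc, e⟩ => ⟨c, hc, by
        rw [QuotientGroup.mk_inv, e]
        refine inv_eq_of_mul_eq_one_right ?_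
        rw [← D.F.map_add, add_self6, co_zero D.b D.F]⟩ }
  set W0 := W.map Q.subtype with hW0
  have hW0mem : ∀ w, w ∈ W0 ↔ ∃ q : Q, (∃ c ∈ F0, (q : ↥Q ⧸ Subgroup.center ↥Q) = D.F.co c) ∧ (q : _) = w := by
    intro w
    rw [hW0, Subgroup.mem_map]
    rfl
  have hW0Q : W0 ≤ Q := fun w hw => by obtain ⟨q, -, rfl⟩ := (hW0mem w).1 hw; exact q.2
  have hW0c : D.coords W0 ≤ F0 := by
    rintro c ⟨q, hq, e⟩
    obtain ⟨q', ⟨c', hc', e'⟩, eq⟩ := (hW0mem _).1 hq
    rw [Subtype.ext eq] at e'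
    rw [D.F.bij.1 (e.symm.trans e')]
    exact hc'
  have hW0card : Nat.card ↥W0 = 128 := by
    refine le_antisymm ?_ ?_
    · have h := D.card_inf_le W0
      rw [inf_eq_left.2 hW0Q] at h
      refine h.trans ?_
      have := Nat.card_le_card_of_injective (AddSubgroup.inclusion hW0c) (AddSubgroup.inclusion_injective hW0c)
      rw [card_F0] at this
      omega
    · let f : Bool × ↥F0 → ↥W0 := fun p => ⟨((lift D.F p.2.1 * if p.1 then ⟨zc z, zc_mem D.b⟩ else 1 : Q) : _),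
        (hW0mem _).2 ⟨_, ⟨p.2.1, p.2.2, by
          rw [QuotientGroup.mk_mul, mk_lift, (QuotientGroup.eq_one_iff _).2 (by
            split_ifs
            · exact (center_iff D.b).2 (Or.inr rfl)
            · exact Subgroup.one_mem _), mul_one]⟩, rfl⟩⟩
      have hf : Function.Injective f := by
        rintro ⟨b, c⟩ ⟨b', c'⟩ h
        have h' : (lift D.F c.1 * if b then (⟨zc z, zc_mem D.b⟩ : Q) else 1) =
            lift D.F c'.1 * if b' then ⟨zc z, zc_mem D.b⟩ else 1 := Subtype.ext (congrArg Subtype.val h :)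
        have hh := congrArg (fun q : Q => (q : ↥Q ⧸ Subgroup.center ↥Q)) h'
        have hone : ∀ b : Bool, ((if b then (⟨zc z, zc_mem D.b⟩ : Q) else 1 : Q) : ↥Q ⧸ Subgroup.center ↥Q) = 1 := fun b =>
          (QuotientGroup.eq_one_iff _).2 (by
            split_ifs
            · exact (center_iff D.b).2 (Or.inr rfl)
            · exact Subgroup.one_mem _)
        simp only [QuotientGroup.mk_mul, mk_lift, hone, mul_one] at hh
        obtain rfl : c = c' := Subtype.ext (D.F.bij.1 hh)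
        have hne : (⟨zc z, zc_mem D.b⟩ : Q) ≠ 1 := fun e => zc_ne_one D.b (congrArg Subtype.val e)
        have h2 := mul_left_cancel h'
        cases b <;> cases b' <;> simp_all
      have h := Nat.card_le_card_of_injective f hf
      rwa [Nat.card_prod, card_F0, Nat.card_eq_fintype_card (α := Bool), Fintype.card_bool] at h
  have hWcomm : ∀ q : Q, (∀ w ∈ W0, (q : Subgroup.centralizer ({z} : Set G)) * w = w * q) →
      (q : Subgroup.centralizer ({z} : Set G)) ∈ W0 := by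
    intro q hq
    obtain ⟨c, hc'⟩ := D.F.bij.2 (q : ↥Q ⧸ Subgroup.center ↥Q)
    refine (hW0mem _).2 ⟨q, ⟨c, ?_, hc'.symm⟩, rfl⟩
    rw [← perp_F0]
    intro u hu
    rw [bp_symm]
    exact (D.comm_bp hc'.symm (mk_lift D.F u)).1 (Subtype.ext
      (hq _ ((hW0mem _).2 ⟨lift D.F u, ⟨u, hu, mk_lift D.F u⟩, rfl⟩)))
  have hWab : ∀ a ∈ W0, ∀ w ∈ W0, a * w = w * a := by
    intro a ha w hw
    obtain ⟨q, ⟨c, hc', e⟩, rfl⟩ := (hW0mem a).1 ha
    obtain ⟨q', ⟨c', hc'', e'⟩, rfl⟩ := (hW0mem w).1 hw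
    exact congrArg Subtype.val ((D.comm_bp e e').2 (F0_bp hc' hc''))
  have hWsq : ∀ a ∈ W0, a * a = 1 := by
    intro a ha
    obtain ⟨q, ⟨c, hc', e⟩, rfl⟩ := (hW0mem a).1 ha
    exact congrArg Subtype.val ((sq_iff D.b D.F e).2 (F0_par hc'))
  have hWfix : ∀ h : Subgroup.centralizer ({z} : Set G), (∀ w ∈ W0, h * w = w * h) → ∀ u ∈ F0, cact D.F h u = u := by
    intro h hh u hu
    refine cact_eq D.F ?_
    rw [← mk_lift D.F u, actV_mk]
    congr 1
    refine Subtype.ext ?_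
    rw [MulAut.conjNormal_apply]
    exact mul_inv_eq_iff_eq_mul.2 (hh _ ((hW0mem _).2 ⟨_, ⟨u, hu, mk_lift D.F u⟩, rfl⟩))
  let A : Subgroup (Subgroup.centralizer ({z} : Set G)) :=
    (P : Subgroup (Subgroup.centralizer ({z} : Set G))) ⊓ D.Lin ⊓ Subgroup.centralizer (W0 : Set (Subgroup.centralizer ({z} : Set G)))
  have hAmem : ∀ a, a ∈ A ↔ (a ∈ P ∧ a ∈ D.Lin) ∧ ∀ w ∈ W0, a * w = w * a := fun a => by
    rw [Subgroup.mem_inf, Subgroup.mem_inf, Subgroup.mem_centralizer_iff]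
    exact and_congr_right fun _ => forall₂_congr fun w _ => eq_comm
  have hW0A : W0 ≤ A := fun w hw => (hAmem w).2 ⟨⟨hQP (hW0Q hw), D.Q_le_Lin (hW0Q hw)⟩, hWab w hw⟩
  have hAQ : A ⊓ Q = W0 := le_antisymm (fun a ha => hWcomm ⟨a, ha.2⟩ ((hAmem a).1 ha.1).2)
    (le_inf hW0A hW0Q)
  have hAcode : ∀ a ∈ A, ∃ c, IsK c ∧ ∀ x, cact D.F a x = cd c x := by
    intro a ha
    obtain ⟨⟨hP, hL⟩, hw⟩ := (hAmem a).1 ha
    obtain ⟨c, hc'⟩ := hPcode a hP hL
    exact ⟨c, fun i => by rw [← hc']; exact hWfix a hw _ (f0_mem i), hc'⟩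
  have hlift : ∀ c, IsK c → ∃ a ∈ A, ∀ x, cact D.F a x = cd c x := by
    intro c hK
    obtain ⟨h1, hP1, hL1, ha1⟩ := hPes c.1
    obtain ⟨h2, hP2, hL2, ha2⟩ := hPpm c.2
    set g := h1 * h2 with hg
    have hgact : ∀ x, cact D.F g x = cd c x := fun x => by rw [hg, cact_mul, ha2, ha1]; rfl
    have hfix : ∀ u ∈ F0, cact D.F g u = u := by
      intro u hu
      rw [hgact]
      let K : AddSubgroup Vec6 :=
        { carrier := {u | cd c u = u}
          zero_mem' := (isLin_cd c).zero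
          add_mem' := fun {a b} (ha : cd c a = a) (hb : cd c b = b) => show cd c (a + b) = a + b by
            rw [(isLin_cd c).add, ha, hb]
          neg_mem' := fun {a} ha => by rwa [show -a = a from funext fun _ => (show ∀ p : W4, -p = p by decide) _] }
      exact F0_decomp (U := K) hK hu
    let χ : Fin 6 → ZMod 2 := fun i => if MulAut.conjNormal g (lift D.F (f0 i)) = lift D.F (f0 i) then 0 else 1
    obtain ⟨y, hy⟩ := exists_functional χ
    set q := lift D.F y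
    set a := (q : Subgroup.centralizer ({z} : Set G)) * g with ha
    refine ⟨a, ?_, fun x => by rw [ha, cact_mul, D.cact_Q q.2, hgact]⟩
    refine (hAmem a).2 ⟨⟨mul_mem (hQP q.2) (mul_mem hP1 hP2), mul_mem (D.Q_le_Lin q.2) (mul_mem hL1 hL2)⟩, ?_⟩
    set ζ : Q := ⟨zc z, zc_mem D.b⟩ with hζ
    have hζc : ∀ r : Q, r * ζ = ζ * r := fun r => Subtype.ext (D.zc_comm _)
    have hgen : ∀ i, MulAut.conjNormal a (lift D.F (f0 i)) = lift D.F (f0 i) := by
      intro i
      set l := lift D.F (f0 i)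
      have hl : (l : ↥Q ⧸ Subgroup.center ↥Q) = D.F.co (f0 i) := mk_lift D.F _
      have hgl : ((MulAut.conjNormal g l : Q) : ↥Q ⧸ Subgroup.center ↥Q) = D.F.co (f0 i) := by
        rw [← actV_mk, hl, ← co_cact, hfix _ (f0_mem i)]
      have ea : MulAut.conjNormal a l = q * MulAut.conjNormal g l * q⁻¹ := Subtype.ext (by
        simp only [MulAut.conjNormal_apply, Subgroup.coe_mul, Subgroup.coe_inv, ha]
        group)
      rw [ea]
      have hyi := hy i
      by_cases e : MulAut.conjNormal g l = l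
      · rw [e]
        simp only [χ, l, if_pos e] at hyi
        rw [bp_symm] at hyi
        rw [(D.comm_bp (mk_lift D.F y) hl).2 hyi, mul_inv_cancel_right]
      · have hval : MulAut.conjNormal g l = l * ζ := by
          rcases (center_iff D.b).1 (QuotientGroup.eq.1 (hl.trans hgl.symm)) with h | h
          · exact absurd (inv_mul_eq_one.1 h).symm e
          · exact inv_mul_eq_iff_eq_mul.1 (show _ = ζ from Subtype.ext h)
        simp only [χ, l, if_neg e] at hyi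
        rw [bp_symm] at hyi
        have hne : ¬(q * l = l * q) := fun h => by
          rw [(D.comm_bp (mk_lift D.F y) hl).1 h] at hyi
          exact absurd hyi (by decide)
        have hcl : q * l * q⁻¹ = l * ζ := by
          rcases (center_iff D.b).1 (comm_mem D.b q l) with h | h
          · exact absurd (commutatorElement_eq_one_iff_mul_comm.1 h) hne
          · rw [hζc, ← mul_inv_eq_iff_eq_mul]
            exact Subtype.ext h
        have hζ2 : ζ * ζ = 1 := Subtype.ext (zc_sq D.b)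
        rw [hval, show q * (l * ζ) * q⁻¹ = q * l * q⁻¹ * (q * ζ * q⁻¹) by group, hcl, hζc q, mul_inv_cancel_right,
          mul_assoc, hζ2, mul_one]
    intro w hw
    obtain ⟨r, ⟨u, hu, hr⟩, rfl⟩ := (hW0mem w).1 hw
    let K : AddSubgroup Vec6 :=
      { carrier := {u | ∀ r : Q, (r : ↥Q ⧸ Subgroup.center ↥Q) = D.F.co u → MulAut.conjNormal a r = r}
        zero_mem' := fun r hr => by
          rw [co_zero D.b D.F] at hr
          rcases (center_iff D.b).1 ((QuotientGroup.eq_one_iff _).1 hr) with h | h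
          · rw [h, map_one]
          · refine Subtype.ext ?_
            rw [MulAut.conjNormal_apply, h]
            exact mul_inv_eq_iff_eq_mul.2 (D.zc_comm a)
        add_mem' := fun {u u'} hu hu' r hr => by
          have e : ((lift D.F u)⁻¹ * r : Q) = (lift D.F u)⁻¹ * r := rfl
          have h2 : (((lift D.F u)⁻¹ * r : Q) : ↥Q ⧸ Subgroup.center ↥Q) = D.F.co u' := by
            rw [QuotientGroup.mk_mul, QuotientGroup.mk_inv, mk_lift, hr, D.F.map_add, inv_mul_cancel_left]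
          have h3 := hu _ (mk_lift D.F u)
          have h4 := hu' _ h2
          rwa [map_mul, map_inv, h3, mul_right_inj] at h4
        neg_mem' := fun {u} hu => by rwa [show -u = u from funext fun _ => (show ∀ p : W4, -p = p by decide) _] }
    have hK' : ∀ i, f0 i ∈ K := fun i r hr => by
      rcases (center_iff D.b).1 (QuotientGroup.eq.1 ((mk_lift D.F (f0 i)).trans hr.symm)) with h | h
      · rw [← inv_mul_eq_one.1 h]; exact hgen i
      · have e : r = lift D.F (f0 i) * ζ := inv_mul_eq_iff_eq_mul.1 (show _ = ζ from Subtype.ext h)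
        rw [e, map_mul, hgen]
        congr 1
        refine Subtype.ext ?_
        rw [MulAut.conjNormal_apply]
        exact mul_inv_eq_iff_eq_mul.2 (D.zc_comm a)
    have h := congrArg Subtype.val ((F0_decomp (U := K) hK' hu) r hr)
    rw [MulAut.conjNormal_apply] at h
    exact mul_inv_eq_iff_eq_mul.1 h
  have hKset : Nat.card {c // IsK c} = 16 := by
    rw [Nat.card_eq_fintype_card, Fintype.card_subtype]; exact isK_card
  have hAim : Nat.card ↥(A.map (QuotientGroup.mk' Q)) = 16 := by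
    rw [← hKset]
    choose f hf hfa using hlift
    refine (Nat.card_congr (Equiv.ofBijective (fun c : {c // IsK c} =>
      (⟨(f c.1 c.2 : _ ⧸ Q), f c.1 c.2, hf c.1 c.2, rfl⟩ : ↥(A.map (QuotientGroup.mk' Q))))
      ⟨fun c c' h => Subtype.ext (hcd _ _ fun x => by
        have h' : (f c.1 c.2 : Subgroup.centralizer ({z} : Set G) ⧸ Q) = (f c'.1 c'.2 : _ ⧸ Q) := congrArg Subtype.val h
        rw [← hfa c.1 c.2, ← hfa c'.1 c'.2, ← D.qact_mk, ← D.qact_mk, h']), fun y => ?_⟩)).symm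
    obtain ⟨y, a, ha, rfl⟩ := y
    obtain ⟨c, hK, hca⟩ := hAcode a ha
    exact ⟨⟨c, hK⟩, Subtype.ext (D.qact_ext fun x => by
      show D.qact (f c hK : _ ⧸ Q) x = D.qact (a : _ ⧸ Q) x
      rw [D.qact_mk, D.qact_mk, hfa, hca])⟩
  have hAc : Nat.card ↥A = 2 ^ 11 := by
    rw [← card_image_mul (Q := Q) A, hAim, hAQ, hW0card]; norm_num
  -- squares
  obtain ⟨x0, hx0M, hx0⟩ := D.exists_scalar
  have hsame : ∀ a ∈ A, ∀ a' : Subgroup.centralizer ({z} : Set G), (∀ w ∈ W0, a' * w = w * a') →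
      (∀ x, cact D.F a x = cact D.F a' x) → a' * a' = a * a := by
    intro a ha a' hw' hact
    have hq : a⁻¹ * a' ∈ Q := D.mem_Q_of_act fun c => cact_inj D.F a (by rw [← cact_mul, mul_inv_cancel_left, hact])
    have haw := ((hAmem a).1 ha).2
    have hw : a⁻¹ * a' ∈ W0 := hWcomm ⟨_, hq⟩ fun w hw => by
      calc a⁻¹ * a' * w = a⁻¹ * (a' * w) := mul_assoc _ _ _
        _ = a⁻¹ * w * a' := by rw [hw' w hw, ← mul_assoc]
        _ = w * a⁻¹ * a' := by rw [(show Commute a w from haw w hw).inv_left.eq]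
        _ = w * (a⁻¹ * a') := mul_assoc _ _ _
    calc a' * a' = a * ((a⁻¹ * a') * a) * (a⁻¹ * a') := by group
      _ = a * (a * (a⁻¹ * a')) * (a⁻¹ * a') := by rw [← haw _ hw]
      _ = a * a * ((a⁻¹ * a') * (a⁻¹ * a')) := by group
      _ = a * a := by rw [hWsq _ hw, mul_one]
  have hsqc : ∀ a ∈ A, a * a = 1 ∨ a * a = zc z := by
    intro a ha
    obtain ⟨c, hK, hca⟩ := hAcode a ha
    have hq : a * a ∈ Q := D.mem_Q_of_act fun u => by
      rw [cact_mul, hca, hca]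
      exact IsLin.ext ((isLin_cd c).comp (isLin_cd c)) (show IsLin (fun x => x) from ⟨fun _ _ => rfl, fun _ => rfl⟩) (isK_sq c hK) u
    have hxW : ∀ w ∈ W0, x0⁻¹ * w * x0 ∈ W0 := fun w hw => by
      obtain ⟨r, ⟨u, hu, hr⟩, rfl⟩ := (hW0mem w).1 hw
      refine (hW0mem _).2 ⟨MulAut.conjNormal x0⁻¹ r, ⟨sm 2 u, F0_sm hu 2, ?_⟩, by simp⟩
      rw [← actV_mk, hr, ← co_cact]
      congr 1
      refine cact_inj D.F x0 ?_
      rw [← cact_mul, mul_inv_cancel, cact_one, hx0, sm_sm, show (1 : ZMod 3) + 2 = 0 from rfl, sm_zero]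
    have e := hsame a ha (x0 * a * x0⁻¹) (fun w hw => by
      have := ((hAmem a).1 ha).2 _ (hxW w hw)
      calc x0 * a * x0⁻¹ * w = x0 * (a * (x0⁻¹ * w * x0)) * x0⁻¹ := by group
        _ = x0 * ((x0⁻¹ * w * x0) * a) * x0⁻¹ := by rw [this]
        _ = w * (x0 * a * x0⁻¹) := by group)
      (fun u => by
        have hl := ((hAmem a).1 ha).1.2
        rw [cact_mul, cact_mul, hx0, ← D.mem_Lin.1 hl, ← hx0, ← cact_mul D.F x0, mul_inv_cancel, cact_one])
    refine (D.comm_Q hx0 (q := ⟨a * a, hq⟩) ?_).imp (fun h => congrArg Subtype.val h) id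
    show a * a * x0 = x0 * (a * a)
    calc a * a * x0 = x0 * a * x0⁻¹ * (x0 * a * x0⁻¹) * x0 := by rw [e]
      _ = x0 * (a * a) := by group
  choose f hf hfa using hlift
  let ε : {c // IsK c} → Subgroup.centralizer ({z} : Set G) := fun c => f c.1 c.2 * f c.1 c.2
  have hε : ∀ a ∈ A, ∀ c (hK : IsK c), (∀ x, cact D.F a x = cd c x) → a * a = ε ⟨c, hK⟩ := fun a ha c hK h =>
    hsame _ (hf c hK) a ((hAmem a).1 ha).2 fun x => by rw [hfa, h]
  have hgn : ∀ g, ∃ m : Subgroup.centralizer ({z} : Set G), ∀ x, cact D.F m x = gn g x := by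
    intro g
    rcases (show ∀ g : Fin 3, g = 0 ∨ g = 1 ∨ g = 2 by decide) g with rfl | rfl | rfl
    · obtain ⟨m, -, h⟩ := D.F.perm _ gn_sum.2.1
      exact ⟨m, fun x => cact_eq D.F (h x)⟩
    · obtain ⟨m, -, -, h⟩ := hPes 2
      exact ⟨m, fun x => by rw [h, gn_sum.2.2]; rfl⟩
    · obtain ⟨m, -, h⟩ := D.F.diag _ gn_sum.1
      exact ⟨m, fun x => cact_eq D.F (h x)⟩
  have hstep : ∀ e ∈ edges, ∀ (h1 : IsK e.2.1) (h2 : IsK e.2.2), ε ⟨e.2.2, h2⟩ = ε ⟨e.2.1, h1⟩ := by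
    intro e he h1 h2
    obtain ⟨m, hm⟩ := hgn e.1
    set a := f e.2.1 h1
    have hmem : ∀ u ∈ F0, gn e.1 u ∈ F0 := fun u hu => by
      let K : AddSubgroup Vec6 :=
        { carrier := {u | gn e.1 u ∈ F0}
          zero_mem' := by rw [Set.mem_setOf_eq, (isLin_gn _).zero]; exact F0.zero_mem
          add_mem' := fun {a b} ha hb => show gn e.1 (a + b) ∈ F0 by
            rw [(isLin_gn _).add]; exact F0.add_mem ha hb
          neg_mem' := fun {a} ha => by rwa [show -a = a from funext fun _ => (show ∀ p : W4, -p = p by decide) _] }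
      exact F0_decomp (U := K) (fun i => gn_f0 e.1 i) hu
    have hsurj : ∀ u ∈ F0, ∃ u' ∈ F0, gn e.1 u' = u := fun u hu => by
      let φ : ↥F0 → ↥F0 := fun u => ⟨gn e.1 u.1, hmem _ u.2⟩
      have hi : Function.Injective φ := fun u u' h => Subtype.ext (cact_inj D.F m (by
        rw [hm, hm]; exact congrArg Subtype.val h))
      obtain ⟨u', hu'⟩ := (Finite.injective_iff_surjective.1 hi) ⟨u, hu⟩
      exact ⟨u'.1, u'.2, congrArg Subtype.val hu'⟩
    have hwm : ∀ w ∈ W0, m⁻¹ * w * m ∈ W0 := fun w hw => by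
      obtain ⟨r, ⟨u, hu, hr⟩, rfl⟩ := (hW0mem w).1 hw
      obtain ⟨u', hu', he'⟩ := hsurj u hu
      refine (hW0mem _).2 ⟨MulAut.conjNormal m⁻¹ r, ⟨u', hu', ?_⟩, by simp⟩
      rw [← actV_mk, hr, ← co_cact]
      congr 1
      refine cact_inj D.F m ?_
      rw [← cact_mul, mul_inv_cancel, cact_one, hm, he']
    have e1 := hsame _ (hf e.2.2 h2) (m * a * m⁻¹) (fun w hw => by
      have := ((hAmem a).1 (hf _ _)).2 _ (hwm w hw)
      calc m * a * m⁻¹ * w = m * (a * (m⁻¹ * w * m)) * m⁻¹ := by group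
        _ = m * ((m⁻¹ * w * m) * a) * m⁻¹ := by rw [this]
        _ = w * (m * a * m⁻¹) := by group) (fun u => by
      obtain ⟨u', rfl⟩ : ∃ u', cact D.F m u' = u :=
        ⟨cact D.F m⁻¹ u, by rw [← cact_mul, mul_inv_cancel, cact_one]⟩
      rw [← cact_mul D.F (m * a * m⁻¹), inv_mul_cancel_right, cact_mul, hm, hm, hfa, hfa]
      exact (IsLin.ext ((isLin_gn _).comp (isLin_cd _)) ((isLin_cd _).comp (isLin_gn _))
        (edges_ok e he).2.2 u').symm)
    have hsq := hsqc a (hf _ _)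
    show f e.2.2 h2 * f e.2.2 h2 = a * a
    rw [← e1, show m * a * m⁻¹ * (m * a * m⁻¹) = m * (a * a) * m⁻¹ by group]
    rcases hsq with h | h <;> rw [h]
    · group
    · exact mul_inv_eq_iff_eq_mul.2 (D.zc_comm m)
  have hεall : ∀ c (hK : IsK c), c ≠ (0, 0) → ε ⟨c, hK⟩ = ε ⟨(1, 0), gen_facts.2.2.1⟩ := by
    have key : ∀ n : Fin 14, ∀ e, edges[(n : ℕ)]? = some e → ∀ h2 : IsK e.2.2,
        ε ⟨e.2.2, h2⟩ = ε ⟨(1, 0), gen_facts.2.2.1⟩ := by
      intro n
      induction hn : (n : ℕ) using Nat.strong_induction_on generalizing n with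
      | _ k ih =>
        subst hn
        intro e he h2
        have hemem : e ∈ edges := List.mem_of_getElem? he
        rw [hstep e hemem (edges_ok e hemem).1 h2]
        rcases edges_tree n with h | ⟨m, hm, h⟩
        · rw [he] at h
          simp only [Option.map_some, Option.some.injEq] at h
          congr 1
          exact Subtype.ext h
        · rw [he] at h
          simp only [Option.map_some] at h
          obtain ⟨e', he', h'⟩ := Option.map_eq_some_iff.1 h.symm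
          have := ih m hm m rfl e' he' (h' ▸ (edges_ok e hemem).1)
          rw [← this]
          congr 1
          exact Subtype.ext h'.symm
    intro c hK hc0
    rcases edges_cover c hK hc0 with rfl | ⟨e, he, rfl⟩
    · rfl
    obtain ⟨n, hn, hne⟩ := List.getElem_of_mem he
    exact key ⟨n, hn⟩ e (List.getElem?_eq_some_iff.2 ⟨hn, hne⟩) hK
  have hε1 : ε ⟨(1, 0), gen_facts.2.2.1⟩ = 1 := by
    rcases hsqc _ (hf (1, 0) gen_facts.2.2.1) with h | h
    · exact h
    exfalso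
    obtain ⟨-, he15, hk1, hk10, hk01, hk15, he6⟩ := gen_facts
    have hz2 : zc z * zc z = 1 := zc_sq D.b
    have hsqz : ∀ a ∈ A, (∃ u, cact D.F a u ≠ u) → a * a = zc z := fun a ha ⟨u, hu⟩ => by
      obtain ⟨c, hK, hca⟩ := hAcode a ha
      rw [hε a ha c hK hca, hεall c hK (fun e => hu (by rw [hca, e]; exact (congrArg (fun t => es (pr 0) (pm t u)) dp_zero.1).trans (es_zero u)))]
      exact h
    have hinvz : ∀ a ∈ A, (∃ u, cact D.F a u ≠ u) → a⁻¹ = a * zc z := fun a ha hu =>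
      inv_eq_of_mul_eq_one_right (by rw [← mul_assoc, hsqz a ha hu, hz2])
    have hanti : ∀ a ∈ A, ∀ b ∈ A, (∃ u, cact D.F a u ≠ u) → (∃ u, cact D.F b u ≠ u) →
        (∃ u, cact D.F (a * b) u ≠ u) → b * a = zc z * (a * b) := by
      intro a ha b hb h1 h2 h3
      have e := hsqz _ (mul_mem ha hb) h3
      calc b * a = a⁻¹ * (a * b * (a * b)) * b⁻¹ := by group
        _ = a * zc z * zc z * (b * zc z) := by rw [e, hinvz a ha h1, hinvz b hb h2]
        _ = a * (zc z * zc z) * (b * zc z) := by group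
        _ = a * (zc z * b) := by rw [hz2, mul_one, D.zc_comm b]
        _ = zc z * (a * b) := by rw [← mul_assoc, D.zc_comm a, mul_assoc]
    set a := f (0, 1) hk01
    set b := f (1, 0) hk1
    set d := f (10, 0) hk10
    have ha := hf (0, 1) hk01
    have hb := hf (1, 0) hk1
    have hd := hf (10, 0) hk10
    have hmoves : (∃ i, cd (0, 1) (e6 i) ≠ e6 i) ∧ (∃ i, cd (1, 0) (e6 i) ≠ e6 i) ∧ (∃ i, cd (10, 0) (e6 i) ≠ e6 i) ∧
        (∃ i, cd (1, 0) (cd (10, 0) (e6 i)) ≠ e6 i) ∧ (∃ i, cd (0, 1) (cd (1, 0) (e6 i)) ≠ e6 i) ∧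
        (∃ i, cd (0, 1) (cd (10, 0) (e6 i)) ≠ e6 i) ∧ (∃ i, cd (0, 1) (cd (1, 0) (cd (10, 0) (e6 i))) ≠ e6 i) := by
      decide +kernel
    obtain ⟨⟨i1, n1⟩, ⟨i2, n2⟩, ⟨i3, n3⟩, ⟨i4, n4⟩, ⟨i5, n5⟩, ⟨i6, n6⟩, ⟨i7, n7⟩⟩ := hmoves
    have ea : ∀ u, cact D.F a u = cd (0, 1) u := hfa _ hk01
    have eb : ∀ u, cact D.F b u = cd (1, 0) u := hfa _ hk1
    have ed : ∀ u, cact D.F d u = cd (10, 0) u := hfa _ hk10
    have m1 : ∃ u, cact D.F a u ≠ u := ⟨_, by rw [ea]; exact n1⟩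
    have e1 := hanti a ha b hb m1 ⟨_, by rw [eb]; exact n2⟩ ⟨_, by rw [cact_mul, ea, eb]; exact n5⟩
    have e2 := hanti a ha d hd m1 ⟨_, by rw [ed]; exact n3⟩ ⟨_, by rw [cact_mul, ea, ed]; exact n6⟩
    have e3 := hanti a ha (b * d) (mul_mem hb hd) m1 ⟨_, by rw [cact_mul, eb, ed]; exact n4⟩
      ⟨_, by rw [cact_mul, cact_mul, ea, eb, ed]; exact n7⟩
    have e4 : b * d * a = a * (b * d) := by
      calc b * d * a = b * (d * a) := mul_assoc _ _ _
        _ = b * zc z * (a * d) := by rw [e2, mul_assoc]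
        _ = zc z * (b * a) * d := by rw [D.zc_comm b]; group
        _ = zc z * zc z * (a * (b * d)) := by rw [e1]; group
        _ = _ := by rw [hz2, one_mul]
    exact zc_ne_one D.b (mul_eq_right.1 (e4.symm.trans e3).symm)
  have hAsq : ∀ a ∈ A, a * a = 1 := by
    intro a ha
    obtain ⟨c, hK, hca⟩ := hAcode a ha
    by_cases hc0 : c = (0, 0)
    · have hq : a ∈ Q := D.mem_Q_of_act fun u => by
        rw [hca, hc0]; exact (congrArg (fun t => es (pr 0) (pm t u)) dp_zero.1).trans (es_zero u)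
      exact hWsq a (hAQ.le ⟨ha, hq⟩)
    · rw [hε a ha c hK hca, hεall c hK hc0, hε1]
  have hAel : IsElementaryAbelian 2 A := by
    refine ⟨⟨⟨fun a b => Subtype.ext ?_⟩⟩, fun a ha => by rw [sq]; exact hAsq a ha⟩
    have ia : (a : Subgroup.centralizer ({z} : Set G))⁻¹ = a := inv_eq_of_mul_eq_one_right (hAsq _ a.2)
    have ib : (b : Subgroup.centralizer ({z} : Set G))⁻¹ = b := inv_eq_of_mul_eq_one_right (hAsq _ b.2)
    show (a : Subgroup.centralizer ({z} : Set G)) * b = b * a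
    calc (a : Subgroup.centralizer ({z} : Set G)) * b = ((a : Subgroup.centralizer ({z} : Set G)) * b)⁻¹ :=
          (inv_eq_of_mul_eq_one_right (hAsq _ (mul_mem a.2 b.2))).symm
      _ = b * a := by rw [mul_inv_rev, ia, ib]
  refine ⟨P, A, fun a ha => ((hAmem a).1 ha).1.1, hAel, hAc, by rw [hAQ, hW0card]; rfl, hAim, ?_⟩
  refine ⟨?_, hQP, W0, hAmem, hW0mem, hAQ, fun c hK => ⟨f c hK, hf c hK, hfa c hK⟩, hAcode⟩
  exact fun B hBP hB hBc => D.max_unique hF P A W0 hrank (fun a h1 h2 h3 => (hAmem a).2 ⟨⟨h1, h2⟩, h3⟩) hW0mem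
    hW0card hAc B hBP hB hBc

end Data
end Cfsg.Agent.LargeFischer
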