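import Cfsg.Agent.LargeFischer.Bilin
import Cfsg.Agent.LargeFischer.ShearData
import Cfsg.Agent.LargeFischer.MaxElem
import Cfsg.Agent.LargeFischer.Twist

/-! The largest elementary abelian subgroup in coordinates. -/

set_option autoImplicit false
set_option maxRecDepth 20000
set_option Elab.async false

open Finset

namespace Cfsg.Agent.LargeFischer

/-- the codes, so that composition is exclusive or -/
def kc : Fin 16 → Fin 16 × Fin 8 :=
  ![(0, 0), (1, 0), (10, 0), (15, 0), (0, 1), (1, 1), (10, 1), (15, 1), (0, 5), (1, 5), (10, 5), (15, 5), (0, 7), (1, 7), (10, 7), (15, 7)]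

/-- sum of two code numbers -/
def ka (a b : Fin 16) : Fin 16 := Fin.ofNat 16 (a.val ^^^ b.val)

/-- one bit -/
def tb (n j : ℕ) : ZMod 2 := if n.testBit j then 1 else 0

/-- the fixed space from six bits -/
def uv (n : ℕ) : Vec6 := fun l => (tb n (2 * (l.val / 2)), tb n (2 * (l.val / 2) + 1))

/-- for each code: preimage, image and sign -/
def sigL : Fin 16 → List (ℕ × ℕ × ZMod 2) :=
  ![[],
    [(0, 0, 0), (1, 40, 0), (2, 60, 0), (3, 20, 0), (16, 23, 1), (17, 63, 0), (18, 43, 0), (19, 3, 1), (32, 41, 1), (33, 1, 1), (34, 21, 0), (35, 61, 0), (48, 62, 1), (49, 22, 0), (50, 2, 1), (51, 42, 0)],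
    [(0, 0, 0), (1, 29, 1), (2, 38, 1), (3, 59, 1), (16, 34, 0), (17, 63, 0), (18, 4, 1), (19, 25, 0), (32, 51, 0), (33, 46, 0), (34, 21, 0), (35, 8, 1), (48, 17, 0), (49, 12, 1), (50, 55, 0), (51, 42, 0)],
    [(0, 0, 0), (1, 53, 1), (2, 26, 1), (3, 47, 1), (256, 10, 0), (257, 63, 0), (258, 16, 1), (259, 37, 0), (512, 15, 0), (513, 58, 0), (514, 21, 0), (515, 32, 1), (768, 5, 0), (769, 48, 1), (770, 31, 0), (771, 42, 0)],
    [(0, 0, 0), (1, 1, 1), (2, 2, 1), (3, 3, 1), (256, 16, 1), (257, 17, 0), (258, 18, 0), (259, 19, 0), (512, 32, 1), (513, 33, 0), (514, 34, 0), (515, 35, 0), (768, 48, 1), (769, 49, 0), (770, 50, 0), (771, 51, 0)],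
    [(0, 0, 0), (1, 41, 1), (2, 62, 1), (3, 23, 1), (256, 7, 0), (257, 46, 0), (258, 57, 0), (259, 16, 1), (512, 9, 0), (513, 32, 1), (514, 55, 0), (515, 30, 0), (768, 14, 0), (769, 39, 0), (770, 48, 1), (771, 25, 0)],
    [(0, 0, 0), (1, 28, 0), (2, 36, 0), (3, 56, 0), (16, 34, 0), (17, 62, 1), (18, 6, 0), (19, 26, 1), (32, 51, 0), (33, 47, 1), (34, 23, 1), (35, 11, 0), (48, 17, 0), (49, 13, 0), (50, 53, 1), (51, 41, 1)],
    [(0, 0, 0), (1, 52, 0), (2, 24, 0), (3, 44, 0), (16, 53, 1), (17, 1, 1), (18, 45, 0), (19, 25, 0), (32, 26, 1), (33, 46, 0), (34, 2, 1), (35, 54, 0), (48, 47, 1), (49, 27, 0), (50, 55, 0), (51, 3, 1)],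
    [(0, 0, 0), (16, 4, 1), (32, 8, 1), (48, 12, 1), (256, 16, 1), (272, 20, 0), (288, 24, 0), (304, 28, 0), (512, 32, 1), (528, 36, 0), (544, 40, 0), (560, 44, 0), (768, 48, 1), (784, 52, 0), (800, 56, 0), (816, 60, 0)],
    [(0, 0, 0), (1, 40, 0), (2, 60, 0), (3, 20, 0), (16, 19, 0), (17, 59, 1), (18, 47, 1), (19, 7, 0), (32, 33, 0), (33, 9, 0), (34, 29, 1), (35, 53, 1), (48, 50, 0), (49, 26, 1), (50, 14, 0), (51, 38, 1)],
    [(0, 0, 0), (1, 29, 1), (2, 38, 1), (3, 59, 1), (256, 13, 0), (257, 16, 1), (258, 43, 0), (259, 54, 0), (512, 6, 0), (513, 27, 0), (514, 32, 1), (515, 61, 0), (768, 11, 0), (769, 22, 0), (770, 45, 0), (771, 48, 1)],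
    [(0, 0, 0), (1, 53, 1), (2, 26, 1), (3, 47, 1), (16, 49, 0), (17, 4, 1), (18, 43, 0), (19, 30, 0), (32, 18, 0), (33, 39, 0), (34, 8, 1), (35, 61, 0), (48, 35, 0), (49, 22, 0), (50, 57, 0), (51, 12, 1)],
    [(0, 0, 0), (1, 1, 1), (2, 2, 1), (3, 3, 1), (16, 4, 1), (17, 5, 0), (18, 6, 0), (19, 7, 0), (32, 8, 1), (33, 9, 0), (34, 10, 0), (35, 11, 0), (48, 12, 1), (49, 13, 0), (50, 14, 0), (51, 15, 0)],
    [(0, 0, 0), (1, 41, 1), (2, 62, 1), (3, 23, 1), (16, 19, 0), (17, 58, 0), (18, 45, 0), (19, 4, 1), (32, 33, 0), (33, 8, 1), (34, 31, 0), (35, 54, 0), (48, 50, 0), (49, 27, 0), (50, 12, 1), (51, 37, 0)],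
    [(0, 0, 0), (1, 28, 0), (2, 36, 0), (3, 56, 0), (16, 38, 1), (17, 58, 0), (18, 2, 1), (19, 30, 0), (32, 59, 1), (33, 39, 0), (34, 31, 0), (35, 3, 1), (48, 29, 1), (49, 1, 1), (50, 57, 0), (51, 37, 0)],
    [(0, 0, 0), (1, 52, 0), (2, 24, 0), (3, 44, 0), (16, 49, 0), (17, 5, 0), (18, 41, 1), (19, 29, 1), (32, 18, 0), (33, 38, 1), (34, 10, 0), (35, 62, 1), (48, 35, 0), (49, 23, 1), (50, 59, 1), (51, 15, 0)]]

/-- outside the image -/
def rr : Fin 16 → ℕ := ![0, 4, 1, 1, 4, 1, 1, 4, 1, 1, 1, 1, 16, 1, 4, 1]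

/-- fixed, but not orthogonal to the former -/
def yk : Fin 16 → ℕ := ![0, 544, 514, 34, 32, 19, 530, 288, 2, 275, 18, 258, 512, 259, 304, 290]

/-- the three normalising maps on code numbers -/
def kperm : Fin 3 → Fin 16 → Fin 16 :=
  ![![0, 2, 3, 1, 12, 14, 15, 13, 4, 6, 7, 5, 8, 10, 11, 9], ![0, 1, 2, 3, 5, 4, 7, 6, 10, 11, 8, 9, 15, 14, 13, 12], ![0, 14, 11, 5, 4, 10, 15, 1, 8, 6, 3, 13, 12, 2, 7, 9]]

/-- reachability of ordered pairs of codes -/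
def pairTree : List (ℕ × ℕ × ℕ) :=
  [(3, 18, 33), (0, 18, 35), (2, 18, 235), (0, 33, 50), (2, 33, 190), (0, 35, 49), (2, 35, 181), (1, 235, 217), (2, 235, 125), (0, 50, 19), (2, 50, 91), (1, 190, 157), (2, 190, 215), (2, 49, 94), (1, 181, 148), (2, 181, 218), (0, 217, 166), (2, 217, 38), (1, 125, 110), (2, 19, 229), (1, 91, 73), (2, 91, 173), (0, 157, 106), (2, 157, 98), (1, 215, 230), (1, 94, 77), (2, 94, 167), (0, 148, 108), (2, 148, 100), (1, 218, 232), (0, 166, 127), (1, 166, 135), (2, 166, 63), (1, 38, 39), (2, 38, 191), (0, 110, 251), (2, 110, 247), (1, 229, 212), (2, 229, 122), (0, 73, 198), (2, 73, 70), (1, 173, 142), (1, 106, 120), (2, 106, 243), (1, 98, 114), (0, 77, 202), (2, 77, 66), (1, 167, 134), (0, 108, 248), (2, 108, 252), (1, 100, 117), (2, 100, 244), (0, 232, 180), (2, 127, 25), (2, 135, 129), (1, 63, 60), (2, 63, 89), (0, 39, 61), (2, 39, 177), (1, 191, 156), (0, 251, 149),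 (1, 251, 201), (2, 247, 145), (0, 212, 172), (2, 212, 36), (1, 122, 104), (0, 198, 143), (2, 198, 207), (1, 70, 87), (2, 70, 79), (0, 142, 75), (2, 120, 24), (1, 243, 195), (0, 114, 211), (2, 114, 27), (1, 66, 82), (2, 248, 152), (0, 117, 222), (2, 117, 26), (1, 244, 197), (0, 180, 92), (1, 129, 161), (1, 61, 62), (1, 36, 37), (2, 143, 137), (0, 87, 237), (1, 211, 227), (2, 82, 171), (1, 152, 186), (3, 20, 65), (0, 20, 44), (1, 20, 21), (2, 20, 228), (0, 65, 194), (1, 65, 81), (2, 65, 78), (0, 44, 56), (1, 44, 47), (2, 44, 188), (0, 21, 46), (2, 21, 234), (1, 228, 213), (2, 228, 116), (0, 194, 131), (1, 194, 242), (2, 194, 203), (0, 81, 226), (2, 81, 174), (1, 78, 93), (2, 78, 71), (1, 56, 58), (2, 56, 88), (0, 47, 57), (2, 47, 185), (1, 188, 159), (2, 188, 220), (0, 46, 59), (1, 46, 45), (2, 46, 183), (1, 234, 216), (2, 234, 115), (2, 213, 42), (1, 116, 101), (1, 131, 163), (2, 131, 133), (0, 242,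 147), (2, 242, 155), (1, 203, 249), (2, 203, 205), (0, 226, 179), (1, 226, 210), (2, 226, 123), (1, 174, 141), (2, 174, 55), (2, 93, 162), (1, 71, 86), (0, 58, 23), (2, 58, 83), (1, 88, 74), (2, 88, 168), (0, 57, 22), (2, 185, 214), (0, 159, 105), (1, 220, 239), (2, 45, 178), (1, 183, 150), (2, 183, 209), (0, 216, 164), (2, 216, 40), (1, 115, 99), (0, 101, 254), (2, 101, 250), (0, 163, 113), (2, 163, 53), (2, 133, 138), (0, 147, 97), (2, 155, 109), (2, 210, 43), (2, 123, 29), (2, 141, 130), (1, 55, 54), (2, 86, 175), (2, 23, 225), (1, 83, 67), (2, 83, 165), (0, 74, 199), (1, 214, 231), (0, 105, 246), (2, 239, 121), (1, 178, 146), (2, 178, 219), (0, 150, 111), (0, 164, 124), (2, 164, 52), (2, 40, 184), (0, 99, 241), (2, 99, 245), (2, 254, 151), (1, 250, 200), (2, 113, 30), (2, 53, 90), (1, 109, 126), (1, 43, 41), (2, 43, 189), (2, 130, 139), (0, 54, 31), (2, 54, 95), (1, 175, 140), (0, 67, 193),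 (2, 67, 69), (1, 165, 132), (1, 121, 107), (1, 219, 233), (2, 124, 28), (2, 52, 84), (1, 184, 154), (2, 241, 158), (1, 245, 196), (1, 151, 182), (1, 90, 72), (1, 139, 169), (1, 95, 76), (2, 193, 206), (2, 107, 253), (2, 233, 118), (2, 28, 236), (0, 154, 103), (2, 182, 223)]

/-- trivialisations of the four candidate cocycles -/
def gTab (p q : ZMod 2) : Fin 16 → ZMod 2 :=
  if p = 0 then (if q = 0 then ![0, 0, 0, 0, 0, 0, 0, 0, 0, 0, 0, 0, 0, 0, 0, 0] else ![0, 0, 0, 0, 0, 1, 0, 1, 0, 0, 1, 1, 1, 0, 0, 1])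
  else (if q = 0 then ![0, 0, 0, 1, 0, 0, 1, 1, 0, 1, 0, 1, 0, 0, 0, 0] else ![0, 0, 0, 1, 0, 1, 1, 0, 0, 1, 1, 0, 1, 0, 0, 1])

/-- images of the twenty-four points -/
def vp24 : Fin 24 → ℕ := ![1, 2, 67, 148, 531, 170, 1829, 1859, 1014, 1547, 1543, 985, 899, 579, 195, 1551, 563, 189, 1004, 1822, 1603, 1848, 547, 0]

end Cfsg.Agent.LargeFischer
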