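import Cfsg.Agent.LargeFischer.MatChecks
import Cfsg.Agent.Compute.GolayPerm

/-! Twenty-four points in the model: the larger class is the set of pairs. -/

set_option autoImplicit false
set_option maxRecDepth 20000
set_option Elab.async false

open Finset Cfsg Cfsg.Agent

namespace Cfsg.Agent.LargeFischer

/-- eleven bits -/
abbrev W11 : Type := Fin 11 → ZMod 2

/-- the bits of a number -/
def bv (n : ℕ) : W11 := fun j => tb n j.val

theorem bv_xor (a b : ℕ) : bv (a ^^^ b) = bv a + bv b := funext fun _ => tb_xor _ _ _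

theorem bv_inj {a b : ℕ} (ha : a < 2048) (hb : b < 2048) (h : bv a = bv b) : a = b := by
  refine Nat.eq_of_testBit_eq fun i => ?_
  by_cases hi : i < 11
  · have h' := congrFun h ⟨i, hi⟩
    simp only [bv, tb] at h'
    revert h'
    cases a.testBit i <;> cases b.testBit i <;> simp
  · have hp : 2048 ≤ 2 ^ i := Nat.le_trans (by norm_num) (Nat.pow_le_pow_right (by norm_num : 1 ≤ 2) (show 11 ≤ i by omega))
    rw [Nat.testBit_lt_two_pow (lt_of_lt_of_le ha hp), Nat.testBit_lt_two_pow (lt_of_lt_of_le hb hp)]

/-- the point as a number -/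
def pn (i : GolayPt) : ℕ := vp24 (Fin.ofNat 24 (Compute.ptIdx i))

/-- the point as a vector -/
def pt (i : GolayPt) : W11 := bv (pn i)

/-- the larger class as a bit set -/
def tmask : ℕ := 9089162292559716482222884889963108619076492737156156958630428859298496614262052188666184878986729838560648095953387385098984829208697345387756434645249128948676838633906365389426388029056074790579276333361932295901997237897041334561980928804622323300338133349035149090510548857261989477929503675790414593462445756458900574828075283240743984181800921757873999783644916780311401592640377733153283974571620103937890042220806726593635430548616333766078499457220623998229878426073606978960726003764011247872855032626649428735299440228452443945561334411272963387355180391391451804417514962333667255171494145759075360641310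

theorem pn_lt : ∀ i, pn i < 2048 := by decide +kernel

theorem pn_e24 : ∀ i : Fin 24, pn (Compute.e24 i) = vp24 i := by decide +kernel

theorem tmask_check : Compute.allBelow 2048 (fun n => tmask.testBit n == (!(n == 0) && tm (gTab 1 0) n)) = true := by
  decide +kernel

theorem tmask_spec {n : ℕ} (hn : n < 2048) : tmask.testBit n = true ↔ n ≠ 0 ∧ tm (gTab 1 0) n = true := by
  have h := Compute.allBelow_eq_true.1 tmask_check n hn
  simp only [beq_iff_eq] at h
  rw [h]
  simp

theorem duad_cover_check : Compute.allBelow 2048 (fun n => !tmask.testBit n ||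
    !Compute.allBelow 24 (fun i => Compute.allBelow 24 fun j =>
      !Nat.beq n (Nat.xor (vp24 (Fin.ofNat 24 i)) (vp24 (Fin.ofNat 24 j))))) = true := by
  decide +kernel

theorem duad_cover {n : ℕ} (hn : n < 2048) (h : tmask.testBit n = true) : ∃ i j : Fin 24, n = vp24 i ^^^ vp24 j := by
  have h' := Compute.allBelow_eq_true.1 duad_cover_check n hn
  simp only [h, Bool.not_true, Bool.false_or, Bool.not_eq_true'] at h'
  by_contra hne
  push Not at hne
  have : Compute.allBelow 24 (fun i => Compute.allBelow 24 fun j =>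
      !Nat.beq n (Nat.xor (vp24 (Fin.ofNat 24 i)) (vp24 (Fin.ofNat 24 j)))) = true := by
    simp only [Compute.allBelow_eq_true, Bool.not_eq_true']
    intro i hi j hj
    rw [Bool.eq_false_iff]
    exact fun e => hne (Fin.ofNat 24 i) (Fin.ofNat 24 j) (Nat.eq_of_beq_eq_true e)
  rw [this] at h'
  exact Bool.noConfusion h'

theorem duad_mem : ∀ i j : Fin 24, i ≠ j → tmask.testBit (vp24 i ^^^ vp24 j) = true := by decide +kernel

theorem four_points : Compute.allBelow 24 (fun i => Compute.allBelow i fun j => Compute.allBelow 24 fun k =>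
    Compute.allBelow k fun l => i == k || i == l || j == k || j == l ||
      (!(Nat.xor (Nat.xor (vp24 (Fin.ofNat 24 i)) (vp24 (Fin.ofNat 24 j))) (Nat.xor (vp24 (Fin.ofNat 24 k)) (vp24 (Fin.ofNat 24 l))) == 0) &&
       !tmask.testBit (Nat.xor (Nat.xor (vp24 (Fin.ofNat 24 i)) (vp24 (Fin.ofNat 24 j))) (Nat.xor (vp24 (Fin.ofNat 24 k)) (vp24 (Fin.ofNat 24 l)))))) = true := by
  decide +kernel

theorem duad_four {i j k l : Fin 24} (hij : i ≠ j) (hkl : k ≠ l) (hik : i ≠ k) (hil : i ≠ l) (hjk : j ≠ k) (hjl : j ≠ l) :
    (vp24 i ^^^ vp24 j) ^^^ (vp24 k ^^^ vp24 l) ≠ 0 ∧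
      tmask.testBit ((vp24 i ^^^ vp24 j) ^^^ (vp24 k ^^^ vp24 l)) = false := by
  have key : ∀ a b c d : Fin 24, b < a → d < c → a ≠ c → a ≠ d → b ≠ c → b ≠ d →
      (vp24 a ^^^ vp24 b) ^^^ (vp24 c ^^^ vp24 d) ≠ 0 ∧
        tmask.testBit ((vp24 a ^^^ vp24 b) ^^^ (vp24 c ^^^ vp24 d)) = false := by
    intro a b c d hab hcd h1 h2 h3 h4
    have h := four_points
    simp only [Compute.allBelow_eq_true] at h
    have h' := h a a.2 b hab c c.2 d hcd
    simp only [Bool.or_eq_true, beq_iff_eq, Bool.and_eq_true, Bool.not_eq_true', beq_eq_false_iff_ne,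
      Fin.val_inj, h1, h2, h3, h4, or_self, false_or, Fin.ofNat, Nat.mod_eq_of_lt a.2, Nat.mod_eq_of_lt b.2,
      Nat.mod_eq_of_lt c.2, Nat.mod_eq_of_lt d.2, Fin.eta] at h'
    exact h'
  rcases lt_or_gt_of_ne hij with h | h <;> rcases lt_or_gt_of_ne hkl with h' | h'
  · rw [Nat.xor_comm (vp24 i), Nat.xor_comm (vp24 k)]; exact key j i l k h h' hjl hjk hil hik
  · rw [Nat.xor_comm (vp24 i)]; exact key j i k l h h' hjk hjl hik hil
  · rw [Nat.xor_comm (vp24 k)]; exact key i j l k h h' hil hik hjl hjk
  · exact key i j k l h h' hik hil hjk hjl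

/-- words from numbers -/
def kword : Fin 12 → ℕ := ![3753, 280, 3225, 1400, 3770, 3991, 3533, 2000, 1347, 101, 3683, 3621]

theorem kword_ok : ∀ j : Fin 12, kword j < 4096 ∧ ∀ i : Fin 12,
    Compute.decW (Compute.cw (kword j)) (Compute.e24 (Fin.castLE (by norm_num) i)) = if i = j then 1 else 0 := by
  decide +kernel

/-- weighted sum of the points -/
def psum (x : GolayPt → ZMod 2) : W11 × ZMod 2 := (∑ i, x i • pt i, ∑ i, x i)

theorem psum_add (x y : GolayPt → ZMod 2) : psum (x + y) = psum x + psum y := by
  simp [psum, add_smul, Finset.sum_add_distrib]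

theorem psum_gen : (∀ t : ZMod 23, psum (qrWord t) = 0) ∧ psum 1 = 0 := by decide +kernel

theorem psum_code {x : GolayPt → ZMod 2} (hx : x ∈ golayCode) : psum x = 0 := by
  induction hx using Submodule.span_induction with
  | mem y hy =>
      rcases hy with ⟨t, rfl⟩ | hy
      · exact psum_gen.1 t
      · rw [Set.mem_singleton_iff.1 hy]; exact psum_gen.2
  | zero => simp [psum]
  | add y y' _ _ h h' => rw [psum_add, h, h', add_zero]
  | smul c y _ h =>
      rcases (show ∀ c : ZMod 2, c = 0 ∨ c = 1 by decide) c with rfl | rfl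
      · simp [psum]
      · rwa [one_smul]

theorem psum_rest : ∀ y : Fin 12 → ZMod 2,
    ((∑ j : Fin 12, y j • bv (vp24 (Fin.addNat j 12)), ∑ j : Fin 12, y j) : W11 × ZMod 2) = 0 → y = 0 := by
  decide +kernel

theorem code_of_psum {x : GolayPt → ZMod 2} (hx : psum x = 0) : x ∈ golayCode := by
  set w : GolayPt → ZMod 2 := ∑ j : Fin 12, x (Compute.e24 (Fin.castLE (by norm_num) j)) • Compute.decW (Compute.cw (kword j)) with hw
  have hwc : w ∈ golayCode := sum_mem fun j _ => Submodule.smul_mem _ _ (Compute.decW_cw_mem _ (kword_ok j).1)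
  set y : GolayPt → ZMod 2 := x - w with hy
  have hy0 : ∀ i : Fin 12, y (Compute.e24 (Fin.castLE (by norm_num) i)) = 0 := fun i => by
    simp only [hy, hw, Pi.sub_apply, Finset.sum_apply, Pi.smul_apply, (kword_ok _).2 i]
    simp
  have hyp : psum y = 0 := by
    have h : psum (y + w) = psum y + psum w := psum_add y w
    rw [sub_add_cancel, hx, psum_code hwc, add_zero] at h
    exact h.symm
  have hsum : ∀ {M : Type} [AddCommMonoid M] (F : GolayPt → M), ∑ i, F i =
      (∑ j : Fin 12, F (Compute.e24 (Fin.castLE (by norm_num) j))) + ∑ j : Fin 12, F (Compute.e24 (Fin.addNat j 12)) := by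
    intro M _ F
    rw [← Compute.e24.sum_comp F]
    exact Fin.sum_univ_add (a := 12) (b := 12) (fun i => F (Compute.e24 i)) |>.trans (by
      congr 1
      all_goals exact Finset.sum_congr rfl fun j _ => congrArg _ (congrArg _ (Fin.ext (by simp <;> omega))))
  have hrest : (fun j : Fin 12 => y (Compute.e24 (Fin.addNat j 12))) = 0 := psum_rest _ (by
    have h := hyp
    simp only [psum, hsum, hy0, zero_smul, Finset.sum_const_zero, zero_add, pt, pn_e24] at h
    exact h)
  have hyz : y = 0 := funext fun i => by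
    obtain ⟨k, rfl⟩ := Compute.e24.surjective i
    by_cases hk : k.val < 12
    · exact hy0 ⟨k, hk⟩
    · have h := congrFun hrest ⟨k - 12, by omega⟩
      change y _ = 0 at h
      rw [show Fin.addNat (⟨k.val - 12, by omega⟩ : Fin 12) 12 = k from Fin.ext (by simp; omega)] at h
      exact h
  have : x = w := sub_eq_zero.1 hyz
  rwa [this]

end Cfsg.Agent.LargeFischer
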