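import Cfsg.Agent.LargeFischer.MaxElem

/-! The largest elementary abelian subgroup of every Sylow group of the centraliser. -/

set_option autoImplicit false
set_option Elab.async false

open Finset Cfsg Cfsg.Agent

namespace Cfsg.Agent.LargeFischer

variable {G : Type*} [Group G] [Finite G] {z : G}
  {Q : Subgroup (Subgroup.centralizer ({z} : Set G))} [Q.Normal]

theorem elem_map {H K : Type*} [Group H] [Group K] (f : H →* K) {A : Subgroup H} (hA : IsElementaryAbelian 2 A) :
    IsElementaryAbelian 2 (A.map f) := by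
  refine ⟨⟨⟨?_⟩⟩, ?_⟩
  · rintro ⟨_, a, ha, rfl⟩ ⟨_, b, hb, rfl⟩
    refine Subtype.ext ?_
    show f a * f b = f b * f a
    rw [← map_mul, ← map_mul, show a * b = b * a from congrArg Subtype.val (hA.1.is_comm.comm (⟨a, ha⟩ : ↥A) ⟨b, hb⟩)]
  · rintro _ ⟨a, ha, rfl⟩
    rw [← map_pow, hA.2 a ha, map_one]

theorem max_elem_sylow (hF : IsOfLargeFischerTypeAt z Q) (T : Sylow 2 ↥(Subgroup.centralizer ({z} : Set G))) :
    ∃ A : Subgroup ↥(T : Subgroup (Subgroup.centralizer ({z} : Set G))),
      maxElementaryAbelianSubgroups 2 ↥(T : Subgroup (Subgroup.centralizer ({z} : Set G))) = {A} ∧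
      Nat.card A = 2 ^ 11 ∧
      Nat.card ↥(A.map (T : Subgroup (Subgroup.centralizer ({z} : Set G))).subtype ⊓ Q) = 2 ^ 7 ∧
      Nat.card ↥((A.map (T : Subgroup (Subgroup.centralizer ({z} : Set G))).subtype).map (QuotientGroup.mk' Q)) = 16 := by
  classical
  obtain ⟨D, hc⟩ := exists_data_param hF 1
  obtain ⟨P, A, hAP, hA, hAc, hAQ, -, huniq, -⟩ := D.exists_max_elem hF hc
  haveI : Fact (Nat.Prime 2) := ⟨Nat.prime_two⟩
  obtain ⟨h, rfl⟩ := MulAction.exists_smul_eq (Subgroup.centralizer ({z} : Set G)) P T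
  set φ := (MulAut.conj h).toMonoidHom with hφ
  have hφi : Function.Injective φ := (MulAut.conj h).injective
  set TS : Subgroup (Subgroup.centralizer ({z} : Set G)) := ↑(h • P) with hTS
  have hT : TS = (P : Subgroup (Subgroup.centralizer ({z} : Set G))).map φ := rfl
  set A' := A.map φ with hA'
  have hA'T : A' ≤ TS := hT ▸ Subgroup.map_mono hAP
  set A'' := A'.subgroupOf TS with hA''
  have hback : A''.map TS.subtype = A' := by
    rw [hA'', Subgroup.subgroupOf_map_subtype, inf_eq_left.2 hA'T]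
  have hA'c : Nat.card ↥A' = 2 ^ 11 := by rw [hA', Subgroup.card_map_of_injective hφi, hAc]
  have hA''c : Nat.card ↥A'' = 2 ^ 11 := by
    rw [← Subgroup.card_map_of_injective (K := A'') TS.subtype_injective, hback, hA'c]
  have hA''el : IsElementaryAbelian 2 A'' := by
    have h' := elem_map φ hA
    refine ⟨⟨⟨fun a b => Subtype.ext (Subtype.ext (congrArg Subtype.val
      (h'.1.is_comm.comm (⟨_, a.2⟩ : ↥A') ⟨_, b.2⟩) :))⟩⟩, fun a ha => Subtype.ext ?_⟩
    exact h'.2 _ ha
  have hbig : ∀ B : Subgroup ↥TS, IsElementaryAbelian 2 B → 2 ^ 11 ≤ Nat.card B → B = A'' := by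
    intro B hB hBc
    set B0 := (B.map TS.subtype).map (MulAut.conj h).symm.toMonoidHom
    have h0 : B0 = A := huniq B0 (by
      rintro _ ⟨_, ⟨b, hb, rfl⟩, rfl⟩
      obtain ⟨p, hp, e⟩ := hT.le b.2
      show (MulAut.conj h).symm (b : Subgroup.centralizer ({z} : Set G)) ∈ P
      rw [← e]
      show (MulAut.conj h).symm (MulAut.conj h p) ∈ P
      rw [MulEquiv.symm_apply_apply]
      exact hp) (elem_map _ (elem_map _ hB))
      (by rw [Subgroup.card_map_of_injective (MulAut.conj h).symm.injective,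
        Subgroup.card_map_of_injective TS.subtype_injective]; exact hBc)
    have h1 : B.map TS.subtype = A' := by
      rw [hA', ← h0, Subgroup.map_map]
      convert (Subgroup.map_id (B.map TS.subtype)).symm using 2
      ext x
      simp [hφ]
    exact Subgroup.map_injective TS.subtype_injective (h1.trans hback.symm)
  have hQ : Q.map φ = Q := by
    refine Subgroup.eq_of_le_of_card_ge ?_ (by rw [Subgroup.card_map_of_injective hφi])
    rintro _ ⟨q, hq, rfl⟩
    exact (inferInstance : Q.Normal).conj_mem q hq h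
  have hA'Q : Nat.card ↥(A' ⊓ Q) = 2 ^ 7 := by
    rw [← hQ, hA', ← Subgroup.map_inf _ _ _ hφi, Subgroup.card_map_of_injective hφi, hAQ]
  refine ⟨A'', ?_, hA''c, by rw [hback]; exact hA'Q, ?_⟩
  · ext B
    constructor
    · intro hB
      exact hbig B hB.1 (hA''c ▸ hB.2 A'' hA''el)
    · rintro rfl
      refine ⟨hA''el, fun B hB => ?_⟩
      by_contra hlt
      have := hbig B hB (by omega)
      rw [this] at hlt
      exact hlt le_rfl
  · rw [hback]
    have e := Data.card_image_mul (Q := Q) A'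
    rw [hA'Q, hA'c] at e
    omega

end Cfsg.Agent.LargeFischer
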