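import Cfsg.Agent.LargeFischer.Counts

/-! Sizes of the classes. -/

set_option autoImplicit false
set_option maxRecDepth 20000
set_option Elab.async false

open Finset

namespace Cfsg.Agent.LargeFischer

/-- classes of weights one, three and five -/
def nc : Fin 3 → ℕ × ZMod 3 := ![(1, 0), (3, 0), (5, 0)]

/-- a representative in each class of singular vectors -/
def srep (k : Fin 5) : Vec6 := fun i =>
  if (i : ℕ) < (sc k).1 then
    (if i = 0 then omk (sc k).2 (1, 0) else (1, 0))
  else 0

theorem nc_nrep : ∀ n, cls (nrep n) = nc n := by decide +kernel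

theorem size_range : (∀ k : Fin 5, ((Finset.range 4096).filter fun N => cls (vecN N) = sc k).card =
      ![135, 1215, 243, 243, 243] k) ∧
    ∀ n : Fin 3, ((Finset.range 4096).filter fun N => cls (vecN N) = nc n).card = ![18, 540, 1458] n := by
  decide +kernel

theorem size_univ (a : ℕ × ZMod 3) :
    (univ.filter fun w : Vec6 => cls w = a).card =
      ((Finset.range 4096).filter fun N => cls (vecN N) = a).card := by
  have himg : (Finset.range 4096).image vecN = univ := by
    refine eq_univ_of_card _ ?_
    rw [card_image_of_injOn vecN_inj]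
    simp
  rw [← himg, Finset.filter_image, card_image_of_injOn (vecN_inj.mono fun N hN => (mem_filter.1 hN).1)]

theorem ncls_cases (v : Vec6) (hp : par v ≠ 0) : ∃ n, cls v = nc n := by
  have hw := wt_le v
  have hod : ¬Even (wt v) := fun h => hp (ZMod.natCast_eq_zero_iff_even.2 h)
  rw [cls]
  generalize (∑ i, lg (v i)) = c
  generalize wt v = n at *
  obtain ⟨m, rfl⟩ := Nat.not_even_iff_odd.1 hod
  have : m = 0 ∨ m = 1 ∨ m = 2 := by omega
  rcases this with rfl | rfl | rfl
  · exact ⟨0, rfl⟩
  · exact ⟨1, rfl⟩
  · exact ⟨2, rfl⟩

theorem sc_inj : Function.Injective sc := by decide +kernel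

theorem nc_inj : Function.Injective nc := by decide +kernel

theorem sc_srep : ∀ k, cls (srep k) = sc k := by decide +kernel

end Cfsg.Agent.LargeFischer
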