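import Cfsg.Agent.LargeFischer.Form
import Cfsg.Agent.LargeFischer.Sizes
import Mathlib.GroupTheory.GroupAction.Quotient

/-! Two orbits of the centraliser on singular vectors. -/

set_option autoImplicit false
set_option maxRecDepth 20000
set_option Elab.async false

open Finset Cfsg Cfsg.Agent

namespace Cfsg.Agent.LargeFischer

/-- the first of the two orbits -/
def InA (c : ZMod 3) (v : Vec6) : Prop := cls v = (2, 0) ∨ cls v = (6, c)

instance (c : ZMod 3) (v : Vec6) : Decidable (InA c v) := by unfold InA; infer_instance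

theorem inA_iff (c : ZMod 3) {v : Vec6} {k : Fin 5} (h : cls v = sc k) : InA c v ↔ halfA c k = true := by
  rw [InA, h]
  exact (show ∀ (c : ZMod 3) (k : Fin 5), (sc k = (2, 0) ∨ sc k = (6, c)) ↔ halfA c k = true by
    decide +kernel) c k

theorem card_biUnion_sc (b : Fin 5 → Bool) (O : Finset Vec6)
    (hO : ∀ w, w ∈ O ↔ ∃ k, cls w = sc k ∧ b k = true) (p : Vec6 → Prop) [DecidablePred p] :
    (O.filter p).card = ∑ k, if b k then (univ.filter fun w => cls w = sc k ∧ p w).card else 0 := by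
  rw [← sum_filter, ← card_biUnion]
  · congr 1
    ext w
    simp only [mem_filter, mem_biUnion, mem_univ, true_and, hO]
    constructor
    · rintro ⟨⟨k, h1, h2⟩, h3⟩; exact ⟨k, h2, h1, h3⟩
    · rintro ⟨k, h2, h1, h3⟩; exact ⟨⟨k, h1, h2⟩, h3⟩
  · intro i _ j _ hij
    rw [Function.onFun, disjoint_left]
    intro w hi hj
    exact hij (sc_inj ((mem_filter.1 hi).2.1.symm.trans (mem_filter.1 hj).2.1))

variable {G : Type*} [Group G] [Finite G] {z : G}
  {Q : Subgroup (Subgroup.centralizer ({z} : Set G))} [Q.Normal]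
  {M : Subgroup (Subgroup.centralizer ({z} : Set G))}

section
variable (b : Basic z Q) (F : Frame6 (actV Q) M)
include b

/-- the action on coordinates -/
noncomputable def cact (F : Frame6 (actV Q) M) (h : Subgroup.centralizer ({z} : Set G)) (c : Vec6) : Vec6 :=
  (Equiv.ofBijective F.co F.bij).symm (actV Q h (F.co c))

omit b [Finite G] in
theorem co_cact (h : Subgroup.centralizer ({z} : Set G)) (c : Vec6) : F.co (cact F h c) = actV Q h (F.co c) :=
  (Equiv.ofBijective F.co F.bij).apply_symm_apply _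

omit b [Finite G] in
theorem cact_mul (g h : Subgroup.centralizer ({z} : Set G)) (c : Vec6) : cact F (g * h) c = cact F g (cact F h c) :=
  F.bij.1 (by rw [co_cact, co_cact, co_cact, map_mul]; rfl)

omit b [Finite G] in
theorem cact_one (c : Vec6) : cact F 1 c = c := F.bij.1 (by rw [co_cact, map_one]; rfl)

omit b [Finite G] in
theorem cact_add (h : Subgroup.centralizer ({z} : Set G)) (a c : Vec6) : cact F h (a + c) = cact F h a + cact F h c :=
  F.bij.1 (by rw [co_cact, F.map_add, F.map_add, co_cact, co_cact, map_mul])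

omit b [Finite G] in
theorem cact_eq {h : Subgroup.centralizer ({z} : Set G)} {a a' : Vec6} (e : actV Q h (F.co a) = F.co a') : cact F h a = a' :=
  F.bij.1 (by rw [co_cact, e])

omit b [Finite G] in
theorem cact_inj (h : Subgroup.centralizer ({z} : Set G)) : Function.Injective (cact F h) := fun a c e => by
  rw [← cact_one F a, ← inv_mul_cancel h, cact_mul, e, ← cact_mul, inv_mul_cancel, cact_one]

omit b [Finite G] in
theorem cact_zero (h : Subgroup.centralizer ({z} : Set G)) : cact F h 0 = 0 := by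
  have e := cact_add F h 0 0
  rw [add_zero] at e
  exact left_eq_add.1 e

theorem cact_par (h : Subgroup.centralizer ({z} : Set G)) (a : Vec6) : par (cact F h a) = par a := par_inv b F (co_cact F h a).symm

theorem cact_perp (h : Subgroup.centralizer ({z} : Set G)) (a c : Vec6) : Perp (cact F h a) (cact F h c) ↔ Perp a c :=
  perp_inv b F (co_cact F h a).symm (co_cact F h c).symm

open scoped _root_.Classical in
/-- orbits of `M` -/
noncomputable def orb (F : Frame6 (actV Q) M) (v : Vec6) : Finset Vec6 :=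
  univ.filter fun w => ∃ m ∈ M, cact F m v = w

omit b [Finite G] in
theorem mem_orb {v w : Vec6} : w ∈ orb F v ↔ ∃ m ∈ M, cact F m v = w := by simp [orb]

omit b [Finite G] in
theorem self_orb (v : Vec6) : v ∈ orb F v := (mem_orb F).2 ⟨1, M.one_mem, cact_one F v⟩

omit b [Finite G] in
theorem orb_trans {u v w : Vec6} (h : v ∈ orb F u) (h' : w ∈ orb F v) : w ∈ orb F u := by
  obtain ⟨m, hm, rfl⟩ := (mem_orb F).1 h
  obtain ⟨n, hn, rfl⟩ := (mem_orb F).1 h'
  exact (mem_orb F).2 ⟨n * m, M.mul_mem hn hm, cact_mul F _ _ _⟩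

omit b [Finite G] in
theorem orb_symm {u v : Vec6} (h : v ∈ orb F u) : u ∈ orb F v := by
  obtain ⟨m, hm, rfl⟩ := (mem_orb F).1 h
  exact (mem_orb F).2 ⟨m⁻¹, M.inv_mem hm, by rw [← cact_mul, inv_mul_cancel, cact_one]⟩

omit b [Finite G] in
theorem cls_orb {v w : Vec6} (h : cls v = cls w) : w ∈ orb F v := by
  obtain ⟨π, d, hπ, hd, rfl⟩ := same_orbit h
  obtain ⟨m, hm, hm'⟩ := F.perm π hπ
  obtain ⟨n, hn, hn'⟩ := F.diag d hd
  exact (mem_orb F).2 ⟨n * m, M.mul_mem hn hm,
    by rw [cact_mul, cact_eq F (hm' v), cact_eq F (hn' _)]⟩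

omit b in
theorem orb_dvd (v : Vec6) : (orb F v).card ∣ Nat.card ↥M := by
  let A : MulAction ↥M Vec6 :=
    { smul := fun m c => cact F m c
      one_smul := cact_one F
      mul_smul := fun g h c => cact_mul F g h c }
  letI := A
  have h := MulAction.orbitEquivQuotientStabilizer ↥M v
  have hs : (orb F v : Set Vec6) = MulAction.orbit ↥M v := by
    ext w
    rw [Finset.mem_coe, mem_orb]
    exact ⟨fun ⟨m, hm, e⟩ => ⟨⟨m, hm⟩, e⟩, fun ⟨m, e⟩ => ⟨m, m.2, e⟩⟩
  rw [← Set.ncard_coe_finset, hs, ← Nat.card_coe_set_eq, Nat.card_congr h]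
  exact Subgroup.index_dvd_card _

theorem not_dvd_M (hind : Q.index = 19595520) {n p : ℕ} (hp : p.Prime) (hpn : p ∣ n) (h7 : 7 < p) :
    ¬n ∣ Nat.card ↥M := by
  intro h
  have h1 := (hpn.trans h).trans (Subgroup.card_subgroup_dvd_card M)
  rw [← Q.card_mul_index, b.card, hind, show (2 : ℕ) ^ 13 * 19595520 = 2 ^ 21 * 3 ^ 7 * 5 * 7 by norm_num] at h1
  rcases (Nat.Prime.dvd_mul hp).1 h1 with h | h
  rcases (Nat.Prime.dvd_mul hp).1 h with h | h
  rcases (Nat.Prime.dvd_mul hp).1 h with h | h
  · have := Nat.le_of_dvd (by norm_num) (hp.dvd_of_dvd_pow h); omega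
  · have := Nat.le_of_dvd (by norm_num) (hp.dvd_of_dvd_pow h); omega
  · have := Nat.le_of_dvd (by norm_num) h; omega
  · have := Nat.le_of_dvd (by norm_num) h; omega

theorem wt_one_moves (hM : Nat.card ↥(M.map (actV Q)) = 9797760) :
    ∃ m ∈ M, ∃ v, wt v = 1 ∧ wt (cact F m v) ≠ 1 := by
  classical
  by_contra hcon
  push Not at hcon
  have hsingle : ∀ i : Fin 6, wt (Pi.single i ((1, 0) : W4)) = 1 := by decide +kernel
  have hone : ∀ v : Vec6, wt v = 1 → ∃ j q, q ≠ 0 ∧ v = Pi.single j q := by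
    intro v hv
    obtain ⟨j, hj⟩ : ∃ j, v j ≠ 0 := by
      by_contra h
      push Not at h
      simp [wt, h] at hv
    refine ⟨j, v j, hj, funext fun i => ?_⟩
    by_cases hi : i = j
    · subst hi; simp
    rw [Pi.single_eq_of_ne hi]
    by_contra h0
    have := sum_le_sum_of_subset (f := fun l => if v l = 0 then 0 else 1) (subset_univ {i, j})
    rw [sum_pair hi, if_neg h0, if_neg hj] at this
    exact absurd (this.trans_eq hv) (by norm_num)
  have hmono : ∀ m ∈ M, ∃ (π : Equiv.Perm (Fin 6)) (t : Fin 6 → ZMod 3),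
      ∀ i p, cact F m (Pi.single i p) = Pi.single (π i) (omk (t i) p) := by
    intro m hm
    have hlin : ∀ c, cact F m (dg (fun _ => 1) c) = dg (fun _ => 1) (cact F m c) := fun c =>
      cact_eq F (F.lin m hm c _ (co_cact F m c).symm)
    have h1 : ∀ i, ∃ j q, q ≠ 0 ∧ cact F m (Pi.single i ((1, 0) : W4)) = Pi.single j q :=
      fun i => hone _ (hcon m hm _ (hsingle i))
    choose f q hq hf using h1
    have hinj : Function.Injective f := by
      intro i j hij
      by_contra hne
      have hp : par (Pi.single i ((1, 0) : W4) + Pi.single j (1, 0)) = 0 :=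
        (show ∀ i j : Fin 6, i ≠ j → par (Pi.single i ((1, 0) : W4) + Pi.single j (1, 0)) = 0 by
          decide +kernel) i j hne
      rw [← cact_par b F m, cact_add, hf, hf, hij, ← Pi.single_add] at hp
      have h0 : q i + q j = 0 := (show ∀ (k : Fin 6) (p : W4), par (Pi.single k p) = 0 → p = 0 by
        decide +kernel) _ _ hp
      have h2 : cact F m (Pi.single i ((1, 0) : W4) + Pi.single j (1, 0)) = cact F m 0 := by
        rw [cact_add, hf, hf, hij, ← Pi.single_add, h0, Pi.single_zero, cact_zero]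
      have h3 := congrFun (cact_inj F m h2) i
      simp [Pi.single_eq_of_ne hne] at h3
    refine ⟨Equiv.ofBijective f hinj.bijective_of_finite, fun i => lg (q i) - lg (1, 0), fun i p => ?_⟩
    rw [Equiv.ofBijective_apply]
    have h10 : cact F m (Pi.single i ((1, 0) : W4)) = Pi.single (f i) (omk (lg (q i) - lg (1, 0)) (1, 0)) := by
      rw [hf, lg_facts.2 _ _ (by decide) (hq i)]
    have hs : ∀ (k : Fin 6) (r : W4), dg (fun _ => 1) (Pi.single k r) = Pi.single k (om r) := fun k r => by
      rw [dg_single b, w4_facts.2.2.1]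
    rcases w4_facts.2.2.2.2 p with rfl | rfl | rfl | rfl
    · rw [Pi.single_zero, cact_zero, (omk_facts.1 _ _).2 rfl, Pi.single_zero]
    · exact h10
    · rw [← hs, hlin, h10, hs, w4_facts.2.1]
    · rw [← hs, hlin, ← hs, hlin, h10, hs, hs, w4_facts.2.1, w4_facts.2.1]
  have hex : ∀ φ : ↥(M.map (actV Q)), ∃ (π : Equiv.Perm (Fin 6)) (t : Fin 6 → ZMod 3), ∀ i p,
      (φ : MulAut _) (F.co (Pi.single i p)) = F.co (Pi.single (π i) (omk (t i) p)) := by
    rintro ⟨_, m, hm, rfl⟩
    obtain ⟨π, t, h⟩ := hmono m hm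
    exact ⟨π, t, fun i p => by rw [← h, co_cact]⟩
  choose π t hπt using hex
  have hinj : Function.Injective fun φ => (π φ, t φ) := by
    intro φ ψ e
    simp only [Prod.mk.injEq] at e
    refine Subtype.ext (MulEquiv.ext fun v => ?_)
    obtain ⟨c, rfl⟩ := F.bij.2 v
    rw [← Finset.univ_sum_single c]
    generalize (univ : Finset (Fin 6)) = s
    induction s using Finset.induction_on with
    | empty => simp [co_zero b F]
    | @insert i s hi ih => rw [sum_insert hi, F.map_add, map_mul, map_mul, ih, hπt, hπt, e.1, e.2]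
  have h := Nat.card_le_card_of_injective _ hinj
  rw [hM, Nat.card_prod, Nat.card_perm, Nat.card_fun, Nat.card_zmod, Nat.card_fin,
    show Nat.factorial 6 = 720 from rfl] at h
  norm_num at h

theorem orb_nonsingular (hind : Q.index = 19595520) (hM : Nat.card ↥(M.map (actV Q)) = 9797760)
    {v w : Vec6} (hv : par v ≠ 0) (hw : par w ≠ 0) : w ∈ orb F v := by
  classical
  suffices h : ∀ n, nrep n ∈ orb F (nrep 0) by
    have hh : ∀ v, par v ≠ 0 → v ∈ orb F (nrep 0) := fun v hv => by
      obtain ⟨n, hn⟩ := ncls_cases v hv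
      exact orb_trans F (h n) (cls_orb F ((nc_nrep n).trans hn.symm))
    exact orb_trans F (orb_symm F (hh v hv)) (hh w hw)
  have hmem : ∀ x, x ∈ orb F (nrep 0) ↔ ∃ n, cls x = nc n ∧ nrep n ∈ orb F (nrep 0) := by
    intro x
    constructor
    · intro hx
      obtain ⟨m, -, rfl⟩ := (mem_orb F).1 hx
      obtain ⟨n, hn⟩ := ncls_cases (cact F m (nrep 0)) (by rw [cact_par b F]; decide +kernel)
      exact ⟨n, hn, orb_trans F hx (cls_orb F (hn.trans (nc_nrep n).symm))⟩
    · rintro ⟨n, hn, h⟩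
      exact orb_trans F h (cls_orb F ((nc_nrep n).trans hn.symm))
  by_contra hcon
  push Not at hcon
  obtain ⟨n0, hn0⟩ := hcon
  obtain ⟨n1, hn1, hn1'⟩ : ∃ n, n ≠ 0 ∧ nrep n ∈ orb F (nrep 0) := by
    obtain ⟨m, hm, v, hv, hv'⟩ := wt_one_moves b F hM
    have hp : par v ≠ 0 := by rw [par, hv]; decide
    obtain ⟨n, hn⟩ := ncls_cases (cact F m v) (by rwa [cact_par b F])
    refine ⟨n, fun e => hv' ?_, ?_⟩
    · rw [e] at hn
      exact congrArg Prod.fst hn
    · have h0 : cls (nrep 0) = cls v := by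
        rw [nc_nrep]; simp [cls, hv, nc]
      exact orb_trans F (orb_trans F (cls_orb F h0) ((mem_orb F).2 ⟨m, hm, rfl⟩))
        (cls_orb F (hn.trans (nc_nrep n).symm))
  have h0' : nrep 0 ∈ orb F (nrep 0) := self_orb F _
  have hset : orb F (nrep 0) =
      (univ.filter fun x => cls x = nc 0) ∪ univ.filter fun x => cls x = nc n1 := by
    ext x
    simp only [hmem x, mem_union, mem_filter, mem_univ, true_and]
    constructor
    · rintro ⟨n, hn, h⟩
      rcases (show ∀ a c n : Fin 3, a ≠ 0 → c ≠ 0 → c ≠ a → n = 0 ∨ n = a ∨ n = c by decide) n1 n0 n hn1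
        (fun e => hn0 (by rw [e]; exact h0')) (fun e => hn0 (by rw [e]; exact hn1')) with rfl | rfl | rfl
      · exact Or.inl hn
      · exact Or.inr hn
      · exact absurd h hn0
    · rintro (h | h)
      · exact ⟨0, h, h0'⟩
      · exact ⟨n1, h, hn1'⟩
  have hd := orb_dvd F (nrep 0)
  rw [hset, card_union_of_disjoint (disjoint_filter.2 fun x _ h1 h2 => hn1 (nc_inj (h2.symm.trans h1))),
    size_univ, size_univ, size_range.2, size_range.2] at hd
  rcases (show ∀ n : Fin 3, n ≠ 0 → n = 1 ∨ n = 2 by decide) n1 hn1 with rfl | rfl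
  · exact not_dvd_M b hind (show Nat.Prime 31 by norm_num) (by decide) (by norm_num) hd
  · exact not_dvd_M b hind (show Nat.Prime 41 by norm_num) (by decide) (by norm_num) hd

/-- The partition into two orbits of `M`. -/
theorem exists_halves (hind : Q.index = 19595520) (hM : Nat.card ↥(M.map (actV Q)) = 9797760) :
    ∃ c : ZMod 3, ∀ v : Vec6, v ≠ 0 → par v = 0 → ∀ w : Vec6,
      w ∈ orb F v ↔ (w ≠ 0 ∧ par w = 0 ∧ (InA c w ↔ InA c v)) := by
  classical
  have hsing : ∀ v : Vec6, v ≠ 0 → par v = 0 → ∀ w ∈ orb F v, w ≠ 0 ∧ par w = 0 := by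
    intro v hv hp w hw
    obtain ⟨m, -, rfl⟩ := (mem_orb F).1 hw
    exact ⟨fun e => hv (cact_inj F m (e.trans (cact_zero F m).symm)), by rw [cact_par b F, hp]⟩
  have hmem : ∀ v : Vec6, v ≠ 0 → par v = 0 → ∀ w,
      w ∈ orb F v ↔ ∃ k, cls w = sc k ∧ decide (srep k ∈ orb F v) = true := by
    intro v hv hp w
    simp only [decide_eq_true_eq]
    constructor
    · intro hw
      obtain ⟨h0, h1⟩ := hsing v hv hp w hw
      obtain ⟨k, hk⟩ := cls_cases w h0 h1
      exact ⟨k, hk, orb_trans F hw (cls_orb F (hk.trans (sc_srep k).symm))⟩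
    · rintro ⟨k, hk, h⟩
      exact orb_trans F h (cls_orb F ((sc_srep k).trans hk.symm))
  have hshape : ∀ k0 : Fin 5, ∃ c, (∀ k, srep k ∈ orb F (srep k0) ↔ halfA c k = true) ∨
      ∀ k, srep k ∈ orb F (srep k0) ↔ halfA c k = false := by
    intro k0
    have hv0 : srep k0 ≠ 0 ∧ par (srep k0) = 0 :=
      (show ∀ k, srep k ≠ 0 ∧ par (srep k) = 0 by decide +kernel) k0
    set bb : Fin 5 → Bool := fun k => decide (srep k ∈ orb F (srep k0)) with hbb
    have hT : ∀ n, ((orb F (srep k0)).filter fun w => Perp (nrep n) w).card = tsum n bb := by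
      intro n
      rw [card_biUnion_sc bb _ (hmem _ hv0.1 hv0.2) _, tsum]
      exact sum_congr rfl fun k _ => by rw [count_univ]
    have heq : ∀ n n', tsum n bb = tsum n' bb := by
      intro n n'
      obtain ⟨m, hm, hmn⟩ := (mem_orb F).1 (orb_nonsingular b F hind hM (v := nrep n) (w := nrep n')
        ((show ∀ n, par (nrep n) ≠ 0 by decide +kernel) n) ((show ∀ n, par (nrep n) ≠ 0 by decide +kernel) n'))
      rw [← hT, ← hT]
      refine card_bij (fun w _ => cact F m w) (fun w hw => ?_) (fun a _ c _ e => cact_inj F m e) fun w hw => ?_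
      · rw [mem_filter] at hw ⊢
        refine ⟨orb_trans F hw.1 ((mem_orb F).2 ⟨m, hm, rfl⟩), ?_⟩
        rw [← hmn, cact_perp b F]; exact hw.2
      · rw [mem_filter] at hw
        refine ⟨cact F m⁻¹ w, mem_filter.2 ⟨orb_trans F hw.1 ((mem_orb F).2 ⟨m⁻¹, M.inv_mem hm, rfl⟩), ?_⟩, ?_⟩
        · rw [← cact_perp b F m, hmn, ← cact_mul, mul_inv_cancel, cact_one]; exact hw.2
        · rw [← cact_mul, mul_inv_cancel, cact_one]
    rcases const_unions bb (heq 0 1) (heq 1 2) with h | h | ⟨c, h | h⟩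
    · exact absurd (h k0) (by simp [hbb, self_orb])
    · exfalso
      have hd := orb_dvd F (srep k0)
      have hcard := card_biUnion_sc bb _ (hmem _ hv0.1 hv0.2) (fun _ => True)
      simp only [Finset.filter_true, h, if_true, and_true] at hcard
      rw [hcard, sum_congr rfl fun k _ => (size_univ (sc k)).trans (size_range.1 k)] at hd
      exact not_dvd_M b hind (show Nat.Prime 11 by norm_num) (by decide) (by norm_num) hd
    · exact ⟨c, Or.inl fun k => by rw [← h k, hbb]; simp⟩
    · exact ⟨c, Or.inr fun k => by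
        have := h k
        rw [hbb] at this
        rcases Bool.eq_false_or_eq_true (halfA c k) with hk | hk <;> rw [hk] at this ⊢ <;> simpa using this⟩
  obtain ⟨c, hc⟩ : ∃ c, ∀ k, srep k ∈ orb F (srep 0) ↔ halfA c k = true := by
    obtain ⟨c, h | h⟩ := hshape 0
    · exact ⟨c, h⟩
    · have h0 := (h 0).1 (self_orb F _)
      rw [(show ∀ c, halfA c 0 = true by decide +kernel) c] at h0
      cases h0
  have hc1 : ∀ k, srep k ∈ orb F (srep 1) ↔ halfA c k = false := by
    obtain ⟨c', h | h⟩ := hshape 1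
    · exact absurd ((h 1).1 (self_orb F _))
        ((show ∀ c : ZMod 3, ¬halfA c 1 = true by decide +kernel) c')
    by_cases hcc : c' = c
    · exact hcc ▸ h
    exfalso
    obtain ⟨k, hk1, hk2⟩ := (show ∀ c c' : ZMod 3, c' ≠ c → ∃ k, halfA c k = true ∧ halfA c' k = false by
      decide +kernel) c c' hcc
    have h1 := orb_trans F ((hc k).2 hk1) (orb_symm F ((h k).2 hk2))
    exact absurd ((hc 1).1 h1) ((show ∀ c : ZMod 3, ¬halfA c 1 = true by decide +kernel) c)
  refine ⟨c, fun v hv hp w => ?_⟩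
  obtain ⟨k, hk⟩ := cls_cases v hv hp
  have hkv : v ∈ orb F (srep k) := cls_orb F ((sc_srep k).trans hk.symm)
  constructor
  · intro hw
    obtain ⟨h0, h1⟩ := hsing v hv hp w hw
    obtain ⟨l, hl⟩ := cls_cases w h0 h1
    refine ⟨h0, h1, ?_⟩
    rw [inA_iff c hl, inA_iff c hk]
    have hlk : srep l ∈ orb F (srep k) :=
      orb_trans F hkv (orb_trans F hw (cls_orb F (hl.trans (sc_srep l).symm)))
    by_cases hA : halfA c k = true
    · simp [hA, (hc l).1 (orb_trans F ((hc k).2 hA) hlk)]
    · rw [Bool.not_eq_true] at hA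
      simp [hA, (hc1 l).1 (orb_trans F ((hc1 k).2 hA) hlk)]
  · rintro ⟨h0, h1, hi⟩
    obtain ⟨l, hl⟩ := cls_cases w h0 h1
    rw [inA_iff c hl, inA_iff c hk] at hi
    have hlk : srep l ∈ orb F (srep k) := by
      by_cases hA : halfA c k = true
      · exact orb_trans F (orb_symm F ((hc k).2 hA)) ((hc l).2 (hi.2 hA))
      · rw [Bool.not_eq_true] at hA
        refine orb_trans F (orb_symm F ((hc1 k).2 hA)) ((hc1 l).2 ?_)
        cases hl' : halfA c l
        · rfl
        · rw [hi.1 hl'] at hA; cases hA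
    exact orb_trans F (orb_symm F hkv) (orb_trans F hlk (cls_orb F ((sc_srep l).trans hl.symm)))

theorem card_halves (c : ZMod 3) :
    (univ.filter fun w : Vec6 => w ≠ 0 ∧ par w = 0 ∧ InA c w).card = 378 ∧
    (univ.filter fun w : Vec6 => w ≠ 0 ∧ par w = 0 ∧ ¬InA c w).card = 1701 := by
  classical
  have hcls : ∀ w k, cls w = sc k → w ≠ 0 ∧ par w = 0 := by
    intro w k h
    have h1 : wt w = (sc k).1 := congrArg Prod.fst h
    refine ⟨fun e => ?_, ?_⟩
    · subst e
      revert h1; revert k; decide +kernel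
    · rw [par, h1]
      clear h h1
      revert k; decide +kernel
  have key : ∀ (d : Fin 5 → Bool) (p : Vec6 → Prop) [DecidablePred p],
      (∀ w k, cls w = sc k → (p w ↔ d k = true)) →
      (univ.filter fun w : Vec6 => w ≠ 0 ∧ par w = 0 ∧ p w).card =
        ∑ k, if d k then ![135, 1215, 243, 243, 243] k else 0 := by
    intro d p _ hd
    have h := card_biUnion_sc d (univ.filter fun w : Vec6 => w ≠ 0 ∧ par w = 0 ∧ p w) (fun w => by
      simp only [mem_filter, mem_univ, true_and]
      constructor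
      · rintro ⟨h0, h1, h2⟩
        obtain ⟨k, hk⟩ := cls_cases w h0 h1
        exact ⟨k, hk, (hd w k hk).1 h2⟩
      · rintro ⟨k, hk, h2⟩
        exact ⟨(hcls w k hk).1, (hcls w k hk).2, (hd w k hk).2 h2⟩) (fun _ => True)
    simp only [Finset.filter_true, and_true] at h
    rw [h]
    exact sum_congr rfl fun k _ => by rw [size_univ, size_range.1 k]
  constructor
  · rw [key (halfA c) (InA c) fun w k hk => inA_iff c hk]
    revert c; decide +kernel
  · rw [key (fun k => !halfA c k) (fun w => ¬InA c w) fun w k hk => by rw [inA_iff c hk]; simp]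
    revert c; decide +kernel

/-- The two orbits of `M` are invariant under the whole centraliser. -/
theorem inA_cact [M.Normal] (hind : Q.index = 19595520) {c : ZMod 3}
    (hc : ∀ v : Vec6, v ≠ 0 → par v = 0 → ∀ w : Vec6,
      w ∈ orb F v ↔ (w ≠ 0 ∧ par w = 0 ∧ (InA c w ↔ InA c v)))
    (h : Subgroup.centralizer ({z} : Set G)) {v : Vec6} (hv : v ≠ 0) (hp : par v = 0) : InA c (cact F h v) ↔ InA c v := by
  classical
  have hv' : cact F h v ≠ 0 := fun e => hv (cact_inj F h (e.trans (cact_zero F h).symm))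
  have hp' : par (cact F h v) = 0 := by rw [cact_par b F, hp]
  have himg : (orb F v).image (cact F h) = orb F (cact F h v) := by
    ext w
    simp only [mem_image, mem_orb]
    constructor
    · rintro ⟨x, ⟨m, hm, rfl⟩, rfl⟩
      exact ⟨h * m * h⁻¹, Subgroup.Normal.conj_mem inferInstance _ hm _,
        by rw [← cact_mul, ← cact_mul, inv_mul_cancel_right]⟩
    · rintro ⟨m, hm, rfl⟩
      refine ⟨_, ⟨h⁻¹ * m * h⁻¹⁻¹, Subgroup.Normal.conj_mem inferInstance _ hm _, rfl⟩, ?_⟩
      rw [← cact_mul, ← cact_mul]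
      congr 1
      group
  have hcard := congrArg Finset.card himg
  rw [card_image_of_injective _ (cact_inj F h)] at hcard
  have hval : ∀ u, u ≠ 0 → par u = 0 → (orb F u).card = if InA c u then 378 else 1701 := by
    intro u hu hpu
    obtain ⟨e1, e2⟩ := card_halves b c
    split_ifs with hA
    · rw [← e1]; congr 1; ext w; simp [hc u hu hpu, hA]
    · rw [← e2]; congr 1; ext w; simp [hc u hu hpu, hA]
  rw [hval v hv hp, hval _ hv' hp'] at hcard
  by_cases hA : InA c v <;> by_cases hA' : InA c (cact F h v) <;> simp_all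

end

end Cfsg.Agent.LargeFischer
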