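import Cfsg.Agent.LargeFischer.MatIso
import Cfsg.Agent.LargeFischer.LinIso

/-! A four group of pairs inside the intersection with `Q`. -/

set_option autoImplicit false
set_option maxRecDepth 20000
set_option Elab.async false

open Finset Cfsg Cfsg.Agent

namespace Cfsg.Agent.LargeFischer

/-- constant on the first pair, zero elsewhere -/
def vv (p : W4) : Vec6 := fun l => if (l : ℕ) < 2 then p else 0

theorem vv_facts : vv (1, 0) = srep 0 ∧ vv (0, 1) = sm 1 (srep 0) ∧ sm 2 (srep 0) ≠ vv (0, 1) ∧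
    (∀ p, vv p 0 = vv p 1 ∧ vv p 2 = vv p 3 ∧ vv p 4 = vv p 5) ∧ (∀ p, par (vv p) = 0) ∧
    (∀ p, p ≠ 0 → vv p ≠ 0 ∧ (cls (vv p) = (2, 0))) ∧ (∀ p q, vv (p + q) = vv p + vv q) ∧ vv 0 = 0 := by
  decide +kernel

/-- functionals with given values -/
theorem vv_dual : ∀ χ : W4, ∃ p : W4, bp (vv (1, 0)) (Pi.single 0 p) = χ.1 ∧ bp (vv (0, 1)) (Pi.single 0 p) = χ.2 := by
  decide +kernel

/-- the pairs as a vector -/
def ev (a b c : GolayPt) (p : W4) : W11 := p.1 • (pt a + pt b) + p.2 • (pt a + pt c)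

theorem ev_add (a b c : GolayPt) (p q : W4) : ev a b c (p + q) = ev a b c p + ev a b c q := by
  simp only [ev, Prod.fst_add, Prod.snd_add, add_smul]
  abel

theorem ev_vals (a b c : GolayPt) : ev a b c (1, 0) = pt a + pt b ∧ ev a b c (0, 1) = pt a + pt c ∧
    ev a b c (1, 1) = pt b + pt c ∧ ev a b c 0 = 0 := by
  refine ⟨?_, ?_, ?_, ?_⟩
  · simp [ev]
  · simp [ev]
  · simp only [ev, one_smul]
    rw [show pt a + pt b + (pt a + pt c) = (pt a + pt a) + (pt b + pt c) by abel, self11, zero_add]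
  · simp [ev]

namespace Data
namespace MaxData

variable {G : Type*} [Group G] [Finite G] {z : G}
  {Q : Subgroup (Subgroup.centralizer ({z} : Set G))} [Q.Normal] {D : Data z Q} (M : D.MaxData)

/-- four points attached to `z` and the three pairs -/
structure Four (R : M.Pairs) where
  a : GolayPt
  b : GolayPt
  c : GolayPt
  d : GolayPt
  ab : a ≠ b
  ac : a ≠ c
  bc : b ≠ c
  ad : a ≠ d
  bd : b ≠ d
  cd : c ≠ d
  hz : R.ψ (pt a + pt b + (pt c + pt d)) = z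
  /-- the elements of `Q` -/
  q : W4 → Q
  hq : ∀ p, ((q p : Subgroup.centralizer ({z} : Set G)) : G) = R.ψ (ev a b c p)
  hco : ∀ p, (q p : ↥Q ⧸ Subgroup.center ↥Q) = D.F.co (vv p)

include M

theorem psi_zero (R : M.Pairs) : R.ψ 0 = 1 := by
  have h := R.hom 0 0
  rw [add_zero] at h
  exact mul_eq_left.1 h.symm

theorem exists_four (hc : D.c = 1) (R : M.Pairs) : Nonempty (M.Four R) := by
  obtain ⟨-, -, -, hF0, hpar, hnz, hadd, hzero⟩ := vv_facts
  have hA : ∀ (q : Q) (p : W4), (q : ↥Q ⧸ Subgroup.center ↥Q) = D.F.co (vv p) →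
      ((q : Subgroup.centralizer ({z} : Set G)) : G) ∈ M.AG := fun q p h =>
    M.coe_mem_AG.2 ((M.mem_Q_iff h).2 (mem_F0.2 (hF0 p)))
  have hduad : ∀ (q : Q) (p : W4), p ≠ 0 → (q : ↥Q ⧸ Subgroup.center ↥Q) = D.F.co (vv p) →
      ∀ w, R.ψ w = ((q : Subgroup.centralizer ({z} : Set G)) : G) → IsDuad w := by
    intro q p hp hq w hw
    refine (R.duad w).1 (hw ▸ ⟨fun e => ?_, fun e => ?_⟩)
    · exact D.notMem_center hq (hnz p hp).1 ((center_iff D.b).2 (Or.inl (Subtype.ext (Subtype.ext e))))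
    · exact M.class_not_inA hc hq (hnz p hp).1 (hpar p) e (Or.inl (hnz p hp).2)
  set t1 := LargeFischer.lift D.F (vv (1, 0))
  set t2 := LargeFischer.lift D.F (vv (0, 1))
  have e1 : (t1 : ↥Q ⧸ Subgroup.center ↥Q) = D.F.co (vv (1, 0)) := mk_lift D.F _
  have e2 : (t2 : ↥Q ⧸ Subgroup.center ↥Q) = D.F.co (vv (0, 1)) := mk_lift D.F _
  have e3 : ((t1 * t2 : Q) : ↥Q ⧸ Subgroup.center ↥Q) = D.F.co (vv (1, 1)) := by
    rw [QuotientGroup.mk_mul, e1, e2, ← D.F.map_add, ← hadd]; rfl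
  obtain ⟨w1, hw1⟩ := R.surj _ (hA _ _ e1)
  obtain ⟨w2, hw2⟩ := R.surj _ (hA _ _ e2)
  obtain ⟨w0, hw0⟩ := R.surj _ M.z_mem_AG
  have hne : ∀ p q : W4, p ≠ 0 → q ≠ 0 → p ≠ q → p + q ≠ 0 := by decide
  have d1 := hduad t1 (1, 0) (by decide) e1 w1 hw1
  have d2 := hduad t2 (0, 1) (by decide) e2 w2 hw2
  have d3 := hduad (t1 * t2) (1, 1) (by decide) e3 (w1 + w2) (by rw [R.hom, hw1, hw2]; rfl)
  have hzQ : ∀ (q : Q) (p : W4), (q : ↥Q ⧸ Subgroup.center ↥Q) = D.F.co (vv p) →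
      ((q * ⟨zc z, zc_mem D.b⟩ : Q) : ↥Q ⧸ Subgroup.center ↥Q) = D.F.co (vv p) := fun q p h => by
    rw [← h, QuotientGroup.mk_mul_of_mem _ ((center_iff D.b).2 (Or.inr rfl))]
  have d01 := hduad _ (1, 0) (by decide) (hzQ t1 _ e1) (w1 + w0) (by rw [R.hom, hw1, hw0]; rfl)
  have d02 := hduad _ (0, 1) (by decide) (hzQ t2 _ e2) (w2 + w0) (by rw [R.hom, hw2, hw0]; rfl)
  have hw0d : ¬IsDuad w0 := fun h => ((R.duad w0).2 h).2 (by rw [hw0])
  have hw00 : w0 ≠ 0 := fun h => D.setting.ne_one (by rw [← hw0, h, M.psi_zero])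
  -- the common point
  obtain ⟨a, b, c, hab, hac, hbc, h1, h2⟩ : ∃ a b c : GolayPt, a ≠ b ∧ a ≠ c ∧ b ≠ c ∧
      w1 = pt a + pt b ∧ w2 = pt a + pt c := by
    obtain ⟨i, j, hij, rfl⟩ := d1
    obtain ⟨k, l, hkl, rfl⟩ := d2
    have hdiff : pt i + pt j ≠ pt k + pt l := fun e => by
      obtain ⟨p, q, hpq, e'⟩ := d3
      rw [e, self11] at e'
      exact pt_ne hpq e'.symm
    rcases share hij hkl d3 with rfl | rfl | rfl | rfl
    · exact ⟨i, j, l, hij, hkl, fun e => hdiff (by rw [e]), rfl, rfl⟩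
    · exact ⟨i, j, k, hij, hkl.symm, fun e => hdiff (by rw [e, add_comm]), rfl, add_comm _ _⟩
    · exact ⟨j, i, l, hij.symm, hkl, fun e => hdiff (by rw [e, add_comm]), add_comm _ _, rfl⟩
    · exact ⟨j, i, k, hij.symm, hkl.symm, fun e => hdiff (by rw [e]), add_comm _ _, add_comm _ _⟩
  subst h1 h2
  obtain ⟨p, q, hpq, hw⟩ := d01
  have hw' : w0 = pt a + pt b + (pt p + pt q) := by
    rw [← hw, ← add_assoc, self11, zero_add]
  have hcan : ∀ x y w : GolayPt, w0 ≠ pt x + pt w + (pt x + pt y) := by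
    intro x y w e
    rw [show pt x + pt w + (pt x + pt y) = (pt x + pt x) + (pt w + pt y) by abel, self11, zero_add] at e
    by_cases hyw : w = y
    · exact hw00 (by rw [e, hyw, self11])
    · exact hw0d ⟨w, y, hyw, e⟩
  have hpa : p ≠ a := fun e => hcan a q b (by rw [hw', e])
  have hqa : q ≠ a := fun e => hcan a p b (by rw [hw', e, add_comm (pt p)])
  have hpb : p ≠ b := fun e => hcan b q a (by rw [hw', e, add_comm (pt a)])
  have hqb : q ≠ b := fun e => hcan b p a (by rw [hw', e, add_comm (pt p), add_comm (pt a)])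
  obtain ⟨d, hdc, hda, hdb, hwd⟩ : ∃ d, d ≠ c ∧ d ≠ a ∧ d ≠ b ∧ w0 = pt a + pt b + (pt c + pt d) := by
    have e : pt a + pt c + w0 = pt b + pt c + (pt p + pt q) := by
      rw [hw', show pt a + pt c + (pt a + pt b + (pt p + pt q)) = (pt a + pt a) + (pt b + pt c + (pt p + pt q)) by abel,
        self11, zero_add]
    rw [e] at d02
    rcases share hbc hpq d02 with h | h | h | h
    · exact absurd h.symm hpb
    · exact absurd h.symm hqb
    · exact ⟨q, fun e => hpq (h.symm.trans e.symm), hqa, hqb, by rw [hw', h]⟩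
    · exact ⟨p, fun e => hpq (e.trans h), hpa, hpb, by rw [hw', h, add_comm (pt p)]⟩
  obtain ⟨ev1, ev2, ev3, ev0⟩ := ev_vals a b c
  refine ⟨⟨a, b, c, d, hab, hac, hbc, hda.symm, hdb.symm, hdc.symm, hwd ▸ hw0,
    fun p => t1 ^ p.1.val * t2 ^ p.2.val, fun p => ?_, fun p => ?_⟩⟩
  · rcases (show ∀ p : W4, p = 0 ∨ p = (1, 0) ∨ p = (0, 1) ∨ p = (1, 1) by decide) p with rfl | rfl | rfl | rfl
    · rw [ev0, M.psi_zero]; simp
    · rw [ev1, hw1]; simp [ZMod.val_one]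
    · rw [ev2, hw2]; simp [ZMod.val_one]
    · rw [ev3, show pt b + pt c = (pt a + pt b) + (pt a + pt c) by
        rw [show pt a + pt b + (pt a + pt c) = (pt a + pt a) + (pt b + pt c) by abel, self11, zero_add], R.hom, hw1, hw2]
      simp [ZMod.val_one]
  · rcases (show ∀ p : W4, p = 0 ∨ p = (1, 0) ∨ p = (0, 1) ∨ p = (1, 1) by decide) p with rfl | rfl | rfl | rfl
    · rw [hzero, co_zero D.b D.F]; simp
    · simpa [ZMod.val_one] using e1
    · simpa [ZMod.val_one] using e2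
    · simpa [ZMod.val_one] using e3

end MaxData
end Data
end Cfsg.Agent.LargeFischer
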