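import Cfsg.Agent.LargeFischer.PairGroup

/-! The part of the centraliser of the four group inside the centraliser of `z`. -/

set_option autoImplicit false
set_option maxRecDepth 20000
set_option Elab.async false

open Finset Cfsg Cfsg.Agent

namespace Cfsg.Agent.LargeFischer

theorem vv_cases : ∀ p : W4, p = 0 ∨ p = (1, 0) ∨ p = (0, 1) ∨ p = (1, 0) + (0, 1) := by decide

/-- the line through the first class -/
def Uv : AddSubgroup Vec6 where
  carrier := {x | ∃ p, x = vv p}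
  zero_mem' := ⟨0, vv_facts.2.2.2.2.2.2.2.symm⟩
  add_mem' := fun {a c} ⟨p, hp⟩ ⟨q, hq⟩ => ⟨p + q, by rw [hp, hq, vv_facts.2.2.2.2.2.2.1]⟩
  neg_mem' := fun {a} h => by rwa [show -a = a from funext fun _ => (show ∀ p : W4, -p = p by decide) _]

theorem mem_Uv {x : Vec6} : x ∈ Uv ↔ ∃ p, x = vv p := Iff.rfl

theorem mem_perp_Uv {y : Vec6} : y ∈ perpSub Uv ↔ bp (vv (1, 0)) y = 0 ∧ bp (vv (0, 1)) y = 0 := by
  refine ⟨fun h => ⟨h _ ⟨_, rfl⟩, h _ ⟨_, rfl⟩⟩, fun h => ?_⟩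
  rintro u ⟨p, rfl⟩
  have h0 : bp (vv 0) y = 0 := by
    have := bp_add_left (vv 0) (vv 0) y
    rw [← vv_facts.2.2.2.2.2.2.1, add_zero] at this
    exact left_eq_add.1 this
  rcases vv_cases p with rfl | rfl | rfl | rfl
  · exact h0
  · exact h.1
  · exact h.2
  · rw [vv_facts.2.2.2.2.2.2.1, bp_add_left, h.1, h.2, add_zero]

theorem card_Uv : Nat.card ↥Uv = 4 := by
  rw [← Nat.card_congr (Equiv.ofBijective (fun p : W4 => (⟨vv p, p, rfl⟩ : ↥Uv)) ⟨fun p q h => ?_, fun x => ?_⟩),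
    Nat.card_eq_fintype_card]
  · rfl
  · exact congrFun (congrArg Subtype.val h :) 0
  · obtain ⟨p, hp⟩ := x.2
    exact ⟨p, Subtype.ext hp.symm⟩

theorem perp_perp_Uv {y : Vec6} (h : ∀ x ∈ perpSub Uv, bp x y = 0) : y ∈ Uv := by
  have hle : Uv ≤ perpSub (perpSub Uv) := fun u hu x hx => by rw [bp_symm]; exact hx u hu
  have h1 := card_perpSub Uv
  have h2 := card_perpSub (perpSub Uv)
  rw [card_Uv] at h1
  have h3 : Nat.card ↥(perpSub Uv) = 1024 := by omega
  rw [h3] at h2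
  exact (AddSubgroup.eq_of_le_of_card_ge hle (by rw [card_Uv]; omega)).ge h

/-- witnesses in the orthogonal of the line -/
theorem perp_wit : (∃ x y : Vec6, (bp (vv (1, 0)) x = 0 ∧ bp (vv (0, 1)) x = 0) ∧
    (bp (vv (1, 0)) y = 0 ∧ bp (vv (0, 1)) y = 0) ∧ bp x y = 1) :=
  ⟨Pi.single 2 (1, 0), Pi.single 2 (0, 1), by decide +kernel, by decide +kernel, by decide +kernel⟩

/-- a diagonal map moving the orthogonal -/
theorem dg_wit : (∑ i : Fin 6, (if i = 2 ∨ i = 3 ∨ i = 4 then (1 : ZMod 3) else 0)) = 0 ∧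
    dg (fun i => if i = 2 ∨ i = 3 ∨ i = 4 then 1 else 0) (srep 0) = srep 0 ∧
    (bp (vv (1, 0)) (Pi.single 2 (1, 0)) = 0 ∧ bp (vv (0, 1)) (Pi.single 2 (1, 0)) = 0) ∧
    ∀ p, dg (fun i => if i = 2 ∨ i = 3 ∨ i = 4 then 1 else 0) (Pi.single 2 ((1, 0) : W4)) + Pi.single 2 ((1, 0) : W4) ≠ vv p := by
  decide +kernel

namespace Data
namespace MaxData

variable {G : Type*} [Group G] [Finite G] {z : G}
  {Q : Subgroup (Subgroup.centralizer ({z} : Set G))} [Q.Normal] {D : Data z Q} {M : D.MaxData}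
  {R : M.Pairs} (K : M.Four R)

namespace Four

include K

/-- the four group -/
def E : Subgroup G where
  carrier := {g | ∃ p, R.ψ (ev K.a K.b K.c p) = g}
  one_mem' := ⟨0, by rw [(ev_vals _ _ _).2.2.2, M.psi_zero]⟩
  mul_mem' := fun {x y} ⟨p, hp⟩ ⟨q, hq⟩ => ⟨p + q, by rw [ev_add, R.hom, hp, hq]⟩
  inv_mem' := fun {x} ⟨p, hp⟩ => ⟨p, by
    rw [hp]
    refine (inv_eq_of_mul_eq_one_right ?_).symm
    rw [← hp, ← R.hom, self11, M.psi_zero]⟩

theorem mem_E {g : G} : g ∈ K.E ↔ ∃ p, R.ψ (ev K.a K.b K.c p) = g := Iff.rfl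

theorem ev_inj {p q : W4} (h : ev K.a K.b K.c p = ev K.a K.b K.c q) : p = q := by
  have key : ∀ r, ev K.a K.b K.c r = 0 → r = 0 := by
    intro r hr
    obtain ⟨h1, h2, h3, -⟩ := ev_vals K.a K.b K.c
    rcases (show ∀ p : W4, p = 0 ∨ p = (1, 0) ∨ p = (0, 1) ∨ p = (1, 1) by decide) r with e | e | e | e <;> subst e
    · rfl
    · exact absurd (h1 ▸ hr) (pt_ne K.ab)
    · exact absurd (h2 ▸ hr) (pt_ne K.ac)
    · exact absurd (h3 ▸ hr) (pt_ne K.bc)
  have := key (p + q) (by rw [ev_add, h, self11])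
  exact (show ∀ p q : W4, p + q = 0 → p = q by decide) _ _ this

theorem card_E : Nat.card ↥K.E = 4 := by
  rw [← Nat.card_congr (Equiv.ofBijective (fun p : W4 => (⟨_, p, rfl⟩ : ↥K.E)) ⟨fun p q h => ?_, fun x => ?_⟩),
    Nat.card_eq_fintype_card]
  · rfl
  · exact K.ev_inj (R.inj (congrArg Subtype.val h :))
  · obtain ⟨p, hp⟩ := x.2
    exact ⟨p, Subtype.ext hp⟩

theorem el_E : IsElementaryAbelian 2 K.E := by
  refine ⟨⟨⟨?_⟩⟩, ?_⟩
  · rintro ⟨x, p, rfl⟩ ⟨y, q, rfl⟩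
    refine Subtype.ext ?_
    show R.ψ _ * R.ψ _ = R.ψ _ * R.ψ _
    rw [← R.hom, ← R.hom, add_comm]
  · rintro _ ⟨p, rfl⟩
    rw [pow_two, ← R.hom, self11, M.psi_zero]

/-- what lies in the centraliser -/
theorem mem_cent {g : G} : g ∈ Subgroup.centralizer (K.E : Set G) ↔
    g * R.ψ (pt K.a + pt K.b) = R.ψ (pt K.a + pt K.b) * g ∧ g * R.ψ (pt K.a + pt K.c) = R.ψ (pt K.a + pt K.c) * g := by
  obtain ⟨h1, h2, -, h0⟩ := ev_vals K.a K.b K.c
  refine ⟨fun h => ⟨?_, ?_⟩, fun h => Subgroup.mem_centralizer_iff.2 ?_⟩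
  · exact (Subgroup.mem_centralizer_iff.1 h _ ⟨_, congrArg R.ψ h1⟩).symm
  · exact (Subgroup.mem_centralizer_iff.1 h _ ⟨_, congrArg R.ψ h2⟩).symm
  · rintro _ ⟨p, rfl⟩
    rcases vv_cases p with rfl | rfl | rfl | rfl
    · rw [h0, M.psi_zero, one_mul, mul_one]
    · rw [h1]; exact h.1.symm
    · rw [h2]; exact h.2.symm
    · rw [ev_add, h1, h2, R.hom]
      exact ((show Commute g (R.ψ (pt K.a + pt K.b)) from h.1).mul_right h.2).symm.eq

/-- the centraliser inside `H` -/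
def CH : Subgroup (Subgroup.centralizer ({z} : Set G)) :=
  (Subgroup.centralizer (K.E : Set G)).subgroupOf (Subgroup.centralizer ({z} : Set G))

theorem mem_CH {h : Subgroup.centralizer ({z} : Set G)} : h ∈ K.CH ↔
    ∀ p : W4, p = (1, 0) ∨ p = (0, 1) → MulAut.conjNormal h (K.q p) = K.q p := by
  obtain ⟨h1, h2, -, -⟩ := ev_vals K.a K.b K.c
  rw [CH, Subgroup.mem_subgroupOf, K.mem_cent, ← h1, ← h2, ← K.hq, ← K.hq]
  constructor
  · rintro ⟨e1, e2⟩ p (rfl | rfl) <;> refine Subtype.ext (Subtype.ext ?_) <;>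
      simp only [MulAut.conjNormal_apply, Subgroup.coe_mul, Subgroup.coe_inv] <;>
      refine mul_inv_eq_iff_eq_mul.2 ?_
    · exact e1
    · exact e2
  · intro e
    constructor
    · have := congrArg (fun r : Q => ((r : Subgroup.centralizer ({z} : Set G)) : G)) (e _ (Or.inl rfl))
      simp only [MulAut.conjNormal_apply, Subgroup.coe_mul, Subgroup.coe_inv] at this
      exact mul_inv_eq_iff_eq_mul.1 this
    · have := congrArg (fun r : Q => ((r : Subgroup.centralizer ({z} : Set G)) : G)) (e _ (Or.inr rfl))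
      simp only [MulAut.conjNormal_apply, Subgroup.coe_mul, Subgroup.coe_inv] at this
      exact mul_inv_eq_iff_eq_mul.1 this

theorem cact_vv {h : Subgroup.centralizer ({z} : Set G)} (hh : h ∈ K.CH) (p : W4) : cact D.F h (vv p) = vv p := by
  have key : ∀ p, p = (1, 0) ∨ p = (0, 1) → cact D.F h (vv p) = vv p := fun p hp => by
    refine D.F.bij.1 ?_
    rw [← D.conj_coord (K.hco p) h, K.mem_CH.1 hh p hp, K.hco]
  rcases vv_cases p with rfl | rfl | rfl | rfl
  · rw [vv_facts.2.2.2.2.2.2.2, cact_zero]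
  · exact key _ (Or.inl rfl)
  · exact key _ (Or.inr rfl)
  · rw [vv_facts.2.2.2.2.2.2.1, cact_add, key _ (Or.inl rfl), key _ (Or.inr rfl)]

theorem CH_le : K.CH ≤ D.S0 := by
  intro h hh
  have h1 := K.cact_vv hh (1, 0)
  rw [vv_facts.1] at h1
  refine ⟨h1, ?_⟩
  by_contra hl
  have h2 := K.cact_vv hh (0, 1)
  rw [vv_facts.2.1, D.sm_two hl, h1, ← vv_facts.2.1] at h2
  exact vv_facts.2.2.1 h2

theorem surj_CH {s : Subgroup.centralizer ({z} : Set G)} (hs : s ∈ D.S0) :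
    ∃ r ∈ Q, r * s ∈ K.CH := by
  classical
  set ζ : Q := ⟨zc z, zc_mem D.b⟩ with hζ
  have hfix : ∀ p : W4, p = (1, 0) ∨ p = (0, 1) → cact D.F s (vv p) = vv p := by
    rintro p (rfl | rfl)
    · rw [vv_facts.1]; exact hs.1
    · rw [vv_facts.2.1, D.mem_Lin.1 hs.2, show cact D.F s (srep 0) = srep 0 from hs.1]
  obtain ⟨p0, hp1, hp2⟩ := vv_dual (if MulAut.conjNormal s (K.q (1, 0)) = K.q (1, 0) then 0 else 1,
    if MulAut.conjNormal s (K.q (0, 1)) = K.q (0, 1) then 0 else 1)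
  set y : Q := LargeFischer.lift D.F (Pi.single 0 p0)
  refine ⟨y, y.2, K.mem_CH.2 fun p hp => ?_⟩
  set l := K.q p with hl
  have hχ : bp (vv p) (Pi.single 0 p0) = if MulAut.conjNormal s l = l then 0 else 1 := by
    rcases hp with rfl | rfl
    · exact hp1
    · exact hp2
  have hgl : ((MulAut.conjNormal s l : Q) : ↥Q ⧸ Subgroup.center ↥Q) = D.F.co (vv p) := by
    rw [D.conj_coord (K.hco p), hfix p hp]
  have ea : MulAut.conjNormal ((y : Subgroup.centralizer ({z} : Set G)) * s) l = y * MulAut.conjNormal s l * y⁻¹ :=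
    Subtype.ext (by simp only [MulAut.conjNormal_apply, Subgroup.coe_mul, Subgroup.coe_inv]; group)
  rw [ea]
  have hζc : ∀ r : Q, r * ζ = ζ * r := fun r => Subtype.ext (D.zc_comm _)
  rw [bp_symm] at hχ
  by_cases e : MulAut.conjNormal s l = l
  · rw [if_pos e] at hχ
    rw [e, (D.comm_bp (mk_lift D.F _) (K.hco p)).2 hχ, mul_inv_cancel_right]
  · rw [if_neg e] at hχ
    have hval : MulAut.conjNormal s l = l * ζ := by
      rcases (center_iff D.b).1 (QuotientGroup.eq.1 ((K.hco p).trans hgl.symm)) with h | h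
      · exact absurd (inv_mul_eq_one.1 h).symm e
      · exact inv_mul_eq_iff_eq_mul.1 (show _ = ζ from Subtype.ext h)
    have hne : ¬(y * l = l * y) := fun h => by
      rw [(D.comm_bp (mk_lift D.F _) (K.hco p)).1 h] at hχ
      exact absurd hχ (by decide)
    have hcl : y * l * y⁻¹ = l * ζ := by
      rcases (center_iff D.b).1 (comm_mem D.b y l) with h | h
      · exact absurd (commutatorElement_eq_one_iff_mul_comm.1 h) hne
      · rw [hζc, ← mul_inv_eq_iff_eq_mul]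
        exact Subtype.ext h
    have hζ2 : ζ * ζ = 1 := Subtype.ext (zc_sq D.b)
    rw [hval, show y * (l * ζ) * y⁻¹ = y * l * y⁻¹ * (y * ζ * y⁻¹) by group, hcl, hζc y, mul_inv_cancel_right,
      mul_assoc, hζ2, mul_one]

theorem Q_mem_CH {q : Q} {u : Vec6} (hq : (q : ↥Q ⧸ Subgroup.center ↥Q) = D.F.co u) :
    (q : Subgroup.centralizer ({z} : Set G)) ∈ K.CH ↔ u ∈ perpSub Uv := by
  have key : ∀ p, MulAut.conjNormal (q : Subgroup.centralizer ({z} : Set G)) (K.q p) = K.q p ↔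
      bp (vv p) u = 0 := fun p => by
    rw [bp_symm, ← D.comm_bp hq (K.hco p)]
    constructor
    · intro e
      have := congrArg Subtype.val e
      rw [MulAut.conjNormal_apply, mul_inv_eq_iff_eq_mul] at this
      exact Subtype.ext this
    · intro e
      refine Subtype.ext ?_
      rw [MulAut.conjNormal_apply, mul_inv_eq_iff_eq_mul]
      exact congrArg Subtype.val e
  rw [K.mem_CH, mem_perp_Uv]
  exact ⟨fun h => ⟨(key _).1 (h _ (Or.inl rfl)), (key _).1 (h _ (Or.inr rfl))⟩,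
    fun h p hp => by rcases hp with rfl | rfl <;> [exact (key _).2 h.1; exact (key _).2 h.2]⟩

theorem card_CQ : Nat.card ↥(K.CH ⊓ Q) = 2 ^ 11 := by
  classical
  choose cc hcc using fun q : Q => D.F.bij.2 (q : ↥Q ⧸ Subgroup.center ↥Q)
  let Φ : ↥Q →* Multiplicative W4 := MonoidHom.mk'
    (fun q => Multiplicative.ofAdd (bp (vv (1, 0)) (cc q), bp (vv (0, 1)) (cc q))) fun a b => by
      have e : cc (a * b) = cc a + cc b := D.F.bij.1 (by
        rw [hcc, QuotientGroup.mk_mul, D.F.map_add, hcc, hcc])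
      rw [e, bp_add_right, bp_add_right]
      rfl
  have hsurj : Function.Surjective Φ := fun w => by
    obtain ⟨p, hp1, hp2⟩ := vv_dual w.toAdd
    refine ⟨LargeFischer.lift D.F (Pi.single 0 p), ?_⟩
    have e : cc (LargeFischer.lift D.F (Pi.single 0 p)) = Pi.single 0 p := D.F.bij.1 (by rw [hcc, mk_lift])
    show Multiplicative.ofAdd _ = w
    rw [e, hp1, hp2]
    rfl
  have hk : Φ.ker = K.CH.subgroupOf Q := by
    ext q
    rw [MonoidHom.mem_ker, Subgroup.mem_subgroupOf, K.Q_mem_CH (hcc q).symm, mem_perp_Uv]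
    exact Prod.ext_iff
  have h := Φ.ker.card_mul_index
  rw [Subgroup.index_ker, MonoidHom.range_eq_top.2 hsurj, Subgroup.card_top, D.b.card] at h
  have h4 : Nat.card (Multiplicative W4) = 4 := by rw [Nat.card_eq_fintype_card]; rfl
  rw [h4, hk, ← Subgroup.inf_subgroupOf_right, Nat.card_congr (Subgroup.subgroupOfEquivOfLe inf_le_right).toEquiv] at h
  omega

theorem q_mem_CH (p : W4) : (K.q p : Subgroup.centralizer ({z} : Set G)) ∈ K.CH :=
  (K.Q_mem_CH (K.hco p)).2 fun u hu => by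
    obtain ⟨r, rfl⟩ := hu
    exact (show ∀ r p : W4, bp (vv r) (vv p) = 0 by decide +kernel) r p

theorem z_mem_CH : zc z ∈ K.CH :=
  (K.Q_mem_CH (q := ⟨zc z, zc_mem D.b⟩) (u := 0) (by
    rw [co_zero D.b D.F, QuotientGroup.eq_one_iff]; exact (center_iff D.b).2 (Or.inr rfl))).2 (zero_mem _)

theorem z_notMem : z ∉ K.E := by
  rintro ⟨p, hp⟩
  have hd : ¬IsDuad (ev K.a K.b K.c p) := fun h => ((R.duad _).2 h).2 (by rw [hp])
  obtain ⟨h1, h2, h3, h0⟩ := ev_vals K.a K.b K.c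
  rcases (show ∀ p : W4, p = 0 ∨ p = (1, 0) ∨ p = (0, 1) ∨ p = (1, 1) by decide) p with rfl | rfl | rfl | rfl
  · rw [h0, M.psi_zero] at hp
    exact D.setting.ne_one hp.symm
  · exact hd ⟨_, _, K.ab, h1⟩
  · exact hd ⟨_, _, K.ac, h2⟩
  · exact hd ⟨_, _, K.bc, h3⟩

/-- `z` times a nontrivial element of the four group is not a conjugate of `z` -/
theorem not_conj_mul {p : W4} (hp : p ≠ 0) : ¬IsConj z (z * R.ψ (ev K.a K.b K.c p)) := by
  have e : z * R.ψ (ev K.a K.b K.c p) = R.ψ (pt K.a + pt K.b + (pt K.c + pt K.d) + ev K.a K.b K.c p) := by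
    rw [R.hom _ (ev K.a K.b K.c p), K.hz]
  rw [e]
  obtain ⟨h1, h2, h3, -⟩ := ev_vals K.a K.b K.c
  refine ((R.duad _).2 ?_).2
  rcases (show ∀ p : W4, p = 0 ∨ p = (1, 0) ∨ p = (0, 1) ∨ p = (1, 1) by decide) p with rfl | rfl | rfl | rfl
  · exact absurd rfl hp
  · refine ⟨K.c, K.d, K.cd, ?_⟩
    rw [h1, add_right_comm, self11, zero_add]
  · refine ⟨K.b, K.d, K.bd, ?_⟩
    rw [h2, show pt K.a + pt K.b + (pt K.c + pt K.d) + (pt K.a + pt K.c) =
      (pt K.a + pt K.a) + (pt K.c + pt K.c) + (pt K.b + pt K.d) by abel, self11, self11, zero_add, zero_add]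
  · refine ⟨K.a, K.d, K.ad, ?_⟩
    rw [h3, show pt K.a + pt K.b + (pt K.c + pt K.d) + (pt K.b + pt K.c) =
      (pt K.b + pt K.b) + (pt K.c + pt K.c) + (pt K.a + pt K.d) by abel, self11, self11, zero_add, zero_add]

end Four

end MaxData
end Data
end Cfsg.Agent.LargeFischer
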