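import Cfsg.Agent.LargeFischer.MatPerm
import Cfsg.Agent.Compute.GolayPerm

/-! Six permutations inducing the transvections of a plane. -/

set_option autoImplicit false
set_option maxRecDepth 20000
set_option Elab.async false

open Finset Cfsg Cfsg.Agent

namespace Cfsg.Agent.LargeFischer

/-- three generators -/
def e3 : Fin 3 → ℕ := ![64, 21, 42]

/-- their expansions -/
def el3 : Fin 3 → List (Fin 24) := ![[0, 1, 2], [1, 2, 3, 5, 6, 7, 9, 10], [0, 1, 2, 6, 7, 9, 10]]

/-- the permutations -/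
def gperm : Fin 3 → Fin 3 → ℕ :=
  ![![0, 0xa50d94dcf84686392d55b06a282e2, 0x916a9980835363713e8139a0eb216c],
    ![0xbb2a74ae247891692a6da18b003823, 0, 0x89c886aae658a697c994b4035038a3],
    ![0xb0954495b17c8600d66e399178118b, 0xbaacc24c6f5ba87322556c0a988801, 0]]

/-- the plane -/
def wsum (w : Fin 3 → ZMod 2) : W11 := ∑ j, w j • bv (e3 j)

theorem wsum_add (v w : Fin 3 → ZMod 2) : wsum (v + w) = wsum v + wsum w := by
  simp [wsum, add_smul, Finset.sum_add_distrib]

theorem wsum_single : ∀ j : Fin 3, wsum (Pi.single j 1) = bv (e3 j) := by decide +kernel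

theorem wsum_zero_iff : ∀ w : Fin 3 → ZMod 2, wsum w = 0 → w = 0 := by decide +kernel

theorem gperm_mem : ∀ i j : Fin 3, i ≠ j → Compute.inM24B (gperm i j) = true := by decide +kernel

theorem el3_sum : ∀ k, bv (e3 k) = ((el3 k).map fun a => pt (Compute.e24 a) + pt none).sum := by decide +kernel

theorem gperm_act : ∀ i j : Fin 3, i ≠ j → ∀ k : Fin 3,
    ((el3 k).map fun a => bv (vp24 (Fin.ofNat 24 (Compute.getField 5 (gperm i j) a.val))) +
      bv (vp24 (Fin.ofNat 24 (Compute.getField 5 (gperm i j) 23)))).sum =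
    wsum (if k = j then Pi.single j 1 + Pi.single i 1 else Pi.single k 1) := by decide +kernel

theorem pn_perm {g : ℕ} (hg : Compute.rep24.Ok g) (a : GolayPt) :
    pt (Compute.rep24.den g a) = bv (vp24 (Fin.ofNat 24 (Compute.getField 5 g (Compute.ptIdx a)))) := by
  rw [pt, pn, Compute.ptIdx_den hg]
  rfl

theorem plane_moves : ∀ i j : Fin 3, i ≠ j → ∃ σ ∈ M24, ∀ k,
    ((el3 k).map fun a => pt (σ (Compute.e24 a)) + pt (σ none)).sum =
    wsum (if k = j then Pi.single j 1 + Pi.single i 1 else Pi.single k 1) := by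
  intro i j h
  obtain ⟨hok, hmem⟩ := Compute.mem_M24_of_check (gperm_mem i j h)
  refine ⟨_, hmem, fun k => ?_⟩
  rw [← gperm_act i j h k]
  congr 1
  refine List.map_congr_left fun a _ => ?_
  rw [pn_perm hok, pn_perm hok, Compute.ptIdx_e24]
  rfl

theorem uv_plane : uv 0 = 0 ∧ uv 21 = v1 ∧ uv 42 = sm 1 v1 ∧ uv 64 = 0 ∧
    tb 21 6 = 0 ∧ tb 42 6 = 0 ∧ tb 64 6 = 1 :=
  ⟨funext (by decide +kernel), funext (by decide +kernel), funext (by decide +kernel), funext (by decide +kernel),
    by decide +kernel, by decide +kernel, by decide +kernel⟩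

end Cfsg.Agent.LargeFischer
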