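import Cfsg.Agent.LargeFischer.PlaneStab
import Cfsg.Agent.LargeFischer.PlaneGen
import Cfsg.Agent.LargeFischer.MatMain
import Cfsg.Agent.Core.Frattini
import Cfsg.Agent.Fusion.Critical

/-! The normaliser of a plane of order eight. -/

set_option autoImplicit false
set_option maxRecDepth 20000
set_option Elab.async false

open Finset Cfsg Cfsg.Agent
open scoped commutatorElement

namespace Cfsg.Agent.LargeFischer

theorem plane_pair : ∃ y y' : Vec6, bp v1 y = 0 ∧ bp (sm 1 v1) y = 0 ∧ bp v1 y' = 0 ∧ bp (sm 1 v1) y' = 0 ∧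
    bp y y' = 1 :=
  ⟨e6 0 + e6 1, sm 1 (e6 1 + e6 2), by decide +kernel⟩

theorem plane_vectors : ∀ w : Fin 3 → ZMod 2, w = 0 ∨ (∃ i, w = Pi.single i 1) ∨
    (∃ i j, w = Pi.single i 1 + Pi.single j 1) ∨ w = Pi.single 0 1 + Pi.single 1 1 + Pi.single 2 1 := by
  decide +kernel

theorem z2_cases : ∀ a : ZMod 2, a = 0 ∨ a = 1 := by decide

theorem commutator_squares {Γ : Type*} [Group Γ] (p q : Γ) :
    p * q * p⁻¹ * q⁻¹ = p * q * (p * q) * (q⁻¹ * (p * p)⁻¹ * q) * (q * q)⁻¹ := by group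

namespace Data
namespace MaxData

variable {G : Type*} [Group G] [Finite G] {z : G}
  {Q : Subgroup (Subgroup.centralizer ({z} : Set G))} [Q.Normal] {D : Data z Q} (M : D.MaxData)
include M

/-- The normaliser of the plane. -/
theorem eight_local (hF : IsOfLargeFischerTypeAt z Q) (hc : D.c = 1) :
    ∃ V : Subgroup G, IsElementaryAbelian 2 V ∧ Nat.card V = 8 ∧ z ∈ V ∧
      ∃ R : Subgroup G, R = (pCore 2 ↥(Subgroup.normalizer (V : Set G))).map (Subgroup.normalizer (V : Set G)).subtype ∧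
        IsSpecial 2 ↥R ∧ Nat.card R = 2 ^ 15 ∧ (Subgroup.center ↥R).map R.subtype = V ∧
        ∃ _ : (R.subgroupOf (Subgroup.normalizer (V : Set G))).Normal,
          Nonempty (↥(Subgroup.normalizer (V : Set G)) ⧸ R.subgroupOf (Subgroup.normalizer (V : Set G)) ≃*
            Matrix.SpecialLinearGroup (Fin 3) (ZMod 2) × ↥(alternatingGroup (Fin 6))) := by
  classical
  have S := D.setting
  obtain ⟨R⟩ := M.exists_pairs hF hc
  obtain ⟨θM, hθM, hkerM⟩ := M.exists_theta R
  have hsurM := M.theta_surjective hF hc θM hkerM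
  obtain ⟨x, hx, hbase⟩ := R.base
  obtain ⟨θ, hθs, hθc, hθQ, hθ1⟩ := M.plane_stab hF hc hx
  obtain ⟨hsr, hbr, -⟩ := srep_two
  have hk : BRep D.c 2 := hc ▸ hbr
  obtain ⟨hu0, hu21, hu42, hu64, ht21, ht42, ht64⟩ := uv_plane
  let aQ : Q := D.W x v1
  let bQ : Q := D.W x (sm 1 v1)
  have ha1 : (aQ : ↥Q ⧸ Subgroup.center ↥Q) = D.F.co v1 := D.W_coord hx v1
  have hb1 : (bQ : ↥Q ⧸ Subgroup.center ↥Q) = D.F.co (sm 1 v1) := D.W_coord hx _
  -- the plane
  let ι : (Fin 3 → ZMod 2) → G := fun w => R.ψ (wsum w)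
  have hιadd : ∀ v w, ι (v + w) = ι v * ι w := fun v w => by
    show R.ψ _ = _
    rw [wsum_add, R.hom]
  have hι0 : ι 0 = 1 := mul_eq_left.1 (show ι 0 * ι 0 = ι 0 by rw [← hιadd, add_zero])
  have hzm : ∀ v : Fin 3 → ZMod 2, v + v = 0 := fun v => funext fun _ => (show ∀ p : ZMod 2, p + p = 0 by decide) _
  have hιinj : Function.Injective ι := fun v w e => by
    have h : wsum (v + w) = 0 := by rw [wsum_add, R.inj e]; exact self11 _
    have h' := wsum_zero_iff _ h
    calc v = v + (v + w) := by rw [h', add_zero]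
      _ = w := by rw [← add_assoc, hzm, zero_add]
  have hιz : ι (Pi.single 0 1) = z := by
    show R.ψ _ = _
    rw [wsum_single, show e3 0 = 64 from rfl, hbase 64 (by norm_num), hu64, ht64, elt, D.W_zero hx M, zp_one]
    simp [zc]
  have hιa : ι (Pi.single 1 1) = ((aQ : Subgroup.centralizer ({z} : Set G)) : G) := by
    show R.ψ _ = _
    rw [wsum_single, show e3 1 = 21 from rfl, hbase 21 (by norm_num), hu21, ht21, elt, zp_zero, one_mul, mul_one]
  have hιb : ι (Pi.single 2 1) = ((bQ : Subgroup.centralizer ({z} : Set G)) : G) := by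
    show R.ψ _ = _
    rw [wsum_single, show e3 2 = 42 from rfl, hbase 42 (by norm_num), hu42, ht42, elt, zp_zero, one_mul, mul_one]
  let V : Subgroup G :=
    { carrier := Set.range ι
      one_mem' := ⟨0, hι0⟩
      mul_mem' := by rintro _ _ ⟨v, rfl⟩ ⟨w, rfl⟩; exact ⟨v + w, hιadd v w⟩
      inv_mem' := by
        rintro _ ⟨v, rfl⟩
        exact ⟨v, (inv_eq_of_mul_eq_one_right (by rw [← hιadd, hzm, hι0])).symm⟩ }
  have hV : ∀ w, ι w ∈ V := fun w => ⟨w, rfl⟩
  have hVel : IsElementaryAbelian 2 V := by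
    refine ⟨⟨⟨?_⟩⟩, ?_⟩
    · rintro ⟨_, v, rfl⟩ ⟨_, w, rfl⟩
      exact Subtype.ext (show ι v * ι w = ι w * ι v by rw [← hιadd, ← hιadd, add_comm])
    · rintro _ ⟨v, rfl⟩
      rw [pow_two, ← hιadd, hzm, hι0]
  have hVc : Nat.card V = 8 := by
    have e := Nat.card_congr (Equiv.ofInjective ι hιinj)
    rw [Nat.card_fun, Nat.card_zmod, Nat.card_fin] at e
    exact e.symm
  have hzV : z ∈ V := ⟨_, hιz⟩
  have hgen : ∀ K : Subgroup G, (∀ j, ι (Pi.single j 1) ∈ K) → ∀ w, ι w ∈ K := by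
    intro K hK w
    rcases plane_vectors w with rfl | ⟨i, rfl⟩ | ⟨i, j, rfl⟩ | rfl
    · rw [hι0]; exact K.one_mem
    · exact hK i
    · rw [hιadd]; exact mul_mem (hK i) (hK j)
    · rw [hιadd, hιadd]; exact mul_mem (mul_mem (hK 0) (hK 1)) (hK 2)
  refine ⟨V, hVel, hVc, hzV, ?_⟩
  set L := Subgroup.normalizer (V : Set G) with hLdef
  have hnorm : ∀ g : G, (∀ j, g * ι (Pi.single j 1) * g⁻¹ ∈ V) → g ∈ L := fun g hg => by
    have himg : V.map (MulAut.conj g).toMonoidHom = V := by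
      refine Subgroup.eq_of_le_of_card_ge ?_ (by rw [Subgroup.card_map_of_injective (MulAut.conj g).injective])
      rintro _ ⟨_, ⟨w, rfl⟩, rfl⟩
      exact hgen (V.comap (MulAut.conj g).toMonoidHom) hg w
    refine Subgroup.mem_normalizer_iff.2 fun v => ⟨fun hv => himg.le ⟨v, hv, rfl⟩, fun hv => ?_⟩
    obtain ⟨b, hb, e⟩ := himg.ge hv
    rwa [← mul_left_cancel (mul_right_cancel (show g * b * g⁻¹ = g * v * g⁻¹ from e))]
  -- the action on the plane
  have hfex : ∀ (n : ↥L) (w : Fin 3 → ZMod 2), ∃ v, ι v = (n : G) * ι w * (n : G)⁻¹ := fun n w =>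
    (Subgroup.mem_normalizer_iff.1 n.2 _).1 (hV w)
  choose f hf using hfex
  let T : ↥L → ((Fin 3 → ZMod 2) →ₗ[ZMod 2] (Fin 3 → ZMod 2)) := fun n =>
    (AddMonoidHom.mk' (f n) fun v w => hιinj (by rw [hιadd, hf, hf, hf, hιadd]; group)).toZModLinearMap 2
  have hTf : ∀ n w, T n w = f n w := fun n w => rfl
  have hTmul : ∀ n m, T (n * m) = (T n).comp (T m) := fun n m => LinearMap.ext fun w => hιinj (by
    rw [LinearMap.comp_apply, hTf, hTf, hTf, hf, hf, hf, Subgroup.coe_mul]; group)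
  have hT1 : T 1 = LinearMap.id := LinearMap.ext fun w => hιinj (by
    rw [LinearMap.id_apply, hTf, hf, OneMemClass.coe_one]; group)
  have hdet : ∀ n, (LinearMap.toMatrix' (T n)).det = 1 := fun n => by
    have h : LinearMap.toMatrix' (T n) * LinearMap.toMatrix' (T n⁻¹) = 1 := by
      rw [← LinearMap.toMatrix'_comp, ← hTmul, mul_inv_cancel, hT1, LinearMap.toMatrix'_id]
    have h' := congrArg Matrix.det h
    rw [Matrix.det_mul, Matrix.det_one] at h'
    exact (show ∀ a b : ZMod 2, a * b = 1 → a = 1 by decide) _ _ h'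
  let Θ : ↥L →* Matrix.SpecialLinearGroup (Fin 3) (ZMod 2) := MonoidHom.mk' (fun n => ⟨_, hdet n⟩) fun n m =>
    Subtype.ext (by
      show LinearMap.toMatrix' (T (n * m)) = LinearMap.toMatrix' (T n) * LinearMap.toMatrix' (T m)
      rw [hTmul, LinearMap.toMatrix'_comp])
  have hcol : ∀ n p q, (Θ n : Matrix (Fin 3) (Fin 3) (ZMod 2)) p q = f n (Pi.single q 1) p := fun n p q => by
    show LinearMap.toMatrix' (T n) p q = _
    rw [LinearMap.toMatrix'_apply, hTf]
  have hΘ1 : ∀ n, Θ n = 1 ↔ ∀ w, (n : G) * ι w = ι w * n := fun n => by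
    constructor
    · intro h w
      have h1 : LinearMap.toMatrix' (T n) = LinearMap.toMatrix' (LinearMap.id : (Fin 3 → ZMod 2) →ₗ[ZMod 2] _) := by
        rw [LinearMap.toMatrix'_id]; exact congrArg Subtype.val h
      have h2 : f n w = w := by rw [← hTf, LinearMap.toMatrix'.injective h1]; rfl
      have h3 := hf n w
      rw [h2] at h3
      exact (eq_mul_inv_iff_mul_eq.1 h3).symm
    · intro h
      refine Subtype.ext ?_
      show LinearMap.toMatrix' (T n) = 1
      rw [← LinearMap.toMatrix'_id]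
      congr 1
      exact LinearMap.ext fun w => hιinj (by rw [LinearMap.id_apply, hTf, hf, h, mul_inv_cancel_right])
  have hΘsur : Function.Surjective Θ := by
    let P : Matrix (Fin 3) (Fin 3) (ZMod 2) → Prop := fun A => ∃ n : ↥L, (Θ n : Matrix (Fin 3) (Fin 3) (ZMod 2)) = A
    have hall : ∀ A, A.det ≠ 0 → P A := fun A hA => by
      refine Matrix.diagonal_transvection_induction_of_det_ne_zero P A hA ?_ ?_ ?_
      · intro E hE
        refine ⟨1, ?_⟩
        rw [map_one, Matrix.SpecialLinearGroup.coe_one, ← Matrix.diagonal_one]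
        refine congrArg Matrix.diagonal (funext fun i => ?_)
        rw [Matrix.det_diagonal, Finset.prod_ne_zero_iff] at hE
        exact ((show ∀ a : ZMod 2, a ≠ 0 → a = 1 by decide) _ (hE i (Finset.mem_univ _))).symm
      · rintro ⟨i, j, hij, c⟩
        show P (Matrix.transvection i j c)
        rcases (show ∀ a : ZMod 2, a = 0 ∨ a = 1 by decide) c with rfl | rfl
        · exact ⟨1, by rw [map_one, Matrix.SpecialLinearGroup.coe_one, Matrix.transvection_zero]⟩
        obtain ⟨σ, hσ, hσe⟩ := plane_moves i j hij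
        obtain ⟨m, hm⟩ := hsurM ⟨σ, hσ⟩
        have hψ0 : R.ψ 0 = 1 := mul_eq_left.1 (show R.ψ 0 * R.ψ 0 = R.ψ 0 by rw [← R.hom, add_zero])
        have hl : ∀ l : List (Fin 24), (m : G) * R.ψ (l.map fun a => pt (Compute.e24 a) + pt none).sum * (m : G)⁻¹ =
            R.ψ (l.map fun a => pt (σ (Compute.e24 a)) + pt (σ none)).sum := by
          intro l
          induction l with
          | nil => simp [hψ0]
          | cons a l ih =>
            have h1 := hθM m (Compute.e24 a) none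
            rw [hm] at h1
            rw [List.map_cons, List.map_cons, List.sum_cons, List.sum_cons, R.hom (pt (Compute.e24 a) + pt none),
              R.hom (pt (σ (Compute.e24 a)) + pt (σ none)), ← ih,
              show R.ψ (pt (σ (Compute.e24 a)) + pt (σ none)) =
                (m : G) * R.ψ (pt (Compute.e24 a) + pt none) * (m : G)⁻¹ from h1.symm]
            group
        have himg : ∀ k, (m : G) * ι (Pi.single k 1) * (m : G)⁻¹ =
            ι (if k = j then Pi.single j 1 + Pi.single i 1 else Pi.single k 1) := fun k => by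
          show (m : G) * R.ψ _ * (m : G)⁻¹ = R.ψ _
          rw [wsum_single, el3_sum, hl, hσe]
        have hmL : (m : G) ∈ L := hnorm _ fun k => by rw [himg]; exact hV _
        refine ⟨⟨_, hmL⟩, ?_⟩
        ext p q
        rw [hcol, ← transvection_cols]
        exact congrFun (hιinj ((hf ⟨_, hmL⟩ _).trans (himg q))) p
      · rintro A B - - ⟨a, ha⟩ ⟨b, hb⟩
        exact ⟨a * b, by rw [map_mul, Matrix.SpecialLinearGroup.coe_mul, ha, hb]⟩
    intro A
    obtain ⟨n, hn⟩ := hall _ A.det_ne_zero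
    exact ⟨n, Subtype.ext hn⟩
  have hmove : ∀ j, ∃ n : ↥L, (n : G) * z * (n : G)⁻¹ = ι (Pi.single j 1) := fun j => by
    obtain ⟨A, hA⟩ := sl32_moves j
    obtain ⟨n, rfl⟩ := hΘsur A
    refine ⟨n, ?_⟩
    rw [← hιz, ← hf]
    exact congrArg ι (funext fun p => (hcol n p 0).symm.trans (hA p))
  -- the centraliser of the plane
  let X0 : Subgroup (Subgroup.centralizer ({z} : Set G)) := Subgroup.centralizer
    ({(aQ : Subgroup.centralizer ({z} : Set G)), (bQ : Subgroup.centralizer ({z} : Set G))} :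
      Set (Subgroup.centralizer ({z} : Set G)))
  have hmemX : ∀ h, h ∈ X0 ↔ h * (aQ : Subgroup.centralizer ({z} : Set G)) = aQ * h ∧
      h * (bQ : Subgroup.centralizer ({z} : Set G)) = bQ * h := fun h => by
    show h ∈ Subgroup.centralizer _ ↔ _
    rw [Subgroup.mem_centralizer_iff]
    simp only [Set.mem_insert_iff, Set.mem_singleton_iff, forall_eq_or_imp, forall_eq]
    exact ⟨fun ⟨h1, h2⟩ => ⟨h1.symm, h2.symm⟩, fun ⟨h1, h2⟩ => ⟨h1.symm, h2.symm⟩⟩
  have hkz : ∀ k : ↥Θ.ker, ((k : ↥L) : G) ∈ Subgroup.centralizer ({z} : Set G) := fun k =>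
    Subgroup.mem_centralizer_singleton_iff.2 (by rw [← hιz]; exact (hΘ1 _).1 k.2 _)
  have hkX : ∀ k : ↥Θ.ker, (⟨_, hkz k⟩ : Subgroup.centralizer ({z} : Set G)) ∈ X0 := fun k =>
    (hmemX _).2 ⟨Subtype.ext (by rw [Subgroup.coe_mul, Subgroup.coe_mul, ← hιa]; exact (hΘ1 _).1 k.2 _),
      Subtype.ext (by rw [Subgroup.coe_mul, Subgroup.coe_mul, ← hιb]; exact (hΘ1 _).1 k.2 _)⟩
  let ρ : ↥Θ.ker →* ↥X0 := MonoidHom.mk' (fun k => ⟨⟨_, hkz k⟩, hkX k⟩) fun _ _ => rfl
  have hρG : ∀ k, (((ρ k : ↥X0) : Subgroup.centralizer ({z} : Set G)) : G) = ((k : ↥L) : G) := fun k => rfl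
  have hcomm : ∀ h ∈ X0, ∀ w, (h : G) * ι w = ι w * (h : G) := fun h hh w => by
    refine (Subgroup.mem_centralizer_singleton_iff.1 (hgen (Subgroup.centralizer ({(h : G)} : Set G)) (fun j => ?_) w)).symm
    refine Subgroup.mem_centralizer_singleton_iff.2 ?_
    rcases (show ∀ j : Fin 3, j = 0 ∨ j = 1 ∨ j = 2 by decide) j with rfl | rfl | rfl
    · rw [hιz]; exact (Subgroup.mem_centralizer_singleton_iff.1 h.2).symm
    · rw [hιa]; exact (congrArg Subtype.val ((hmemX h).1 hh).1).symm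
    · rw [hιb]; exact (congrArg Subtype.val ((hmemX h).1 hh).2).symm
  have hρ : Function.Bijective ρ := by
    refine ⟨fun k k' e => Subtype.ext (Subtype.ext
      (congrArg (fun h : ↥X0 => ((h : Subgroup.centralizer ({z} : Set G)) : G)) e)), fun h => ?_⟩
    have hL : ((h : Subgroup.centralizer ({z} : Set G)) : G) ∈ L := hnorm _ fun j => by
      rw [hcomm _ h.2, mul_inv_cancel_right]; exact hV _
    exact ⟨⟨⟨_, hL⟩, (hΘ1 ⟨_, hL⟩).2 (hcomm _ h.2)⟩, Subtype.ext (Subtype.ext rfl)⟩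
  let ψA : ↥Θ.ker →* ↥(alternatingGroup (Fin 6)) := θ.comp ρ
  have hψA : Function.Surjective ψA := hθs.comp hρ.2
  have hψc : Nat.card ↥ψA.ker = 2 ^ 15 := by
    have h1 := ψA.ker.card_mul_index
    rw [Subgroup.index_ker, MonoidHom.range_eq_top.2 hψA, Subgroup.card_top, card_alt6,
      Nat.card_congr (Equiv.ofBijective ρ hρ)] at h1
    have h2 := θ.ker.card_mul_index
    rw [Subgroup.index_ker, MonoidHom.range_eq_top.2 hθs, Subgroup.card_top, card_alt6, hθc, ← h1] at h2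
    omega
  haveI : Fact (Nat.Prime 2) := ⟨Nat.prime_two⟩
  obtain ⟨hcore, ⟨e⟩⟩ := (prod_of_kernel Θ hΘsur ψA hψA alt_not_comm).2 (IsPGroup.of_card hψc)
  set Rg := (pCore 2 ↥L).map L.subtype with hRg
  have hRmem : ∀ r, r ∈ Rg ↔ ∃ k : ↥Θ.ker, ψA k = 1 ∧ ((k : ↥L) : G) = r := fun r => by
    rw [hRg, hcore, Subgroup.map_map]
    exact Iff.rfl
  have hsub : Rg.subgroupOf L = pCore 2 ↥L := by
    rw [hRg, Subgroup.subgroupOf, Subgroup.comap_map_eq_self_of_injective L.subtype_injective]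
  have hRc : Nat.card ↥Rg = 2 ^ 15 := by
    rw [hRg, Subgroup.card_map_of_injective L.subtype_injective, hcore,
      Subgroup.card_map_of_injective Θ.ker.subtype_injective, hψc]
  have hRconj : ∀ (n : ↥L), ∀ r ∈ Rg, (n : G) * r * (n : G)⁻¹ ∈ Rg := by
    rintro n _ ⟨r, hr, rfl⟩
    exact ⟨n * r * n⁻¹, (inferInstance : (pCore 2 ↥L).Normal).conj_mem r hr n, rfl⟩
  have hRV : ∀ r ∈ Rg, ∀ w, r * ι w = ι w * r := fun r hr w => by
    obtain ⟨k, -, rfl⟩ := (hRmem r).1 hr
    exact (hΘ1 _).1 k.2 w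
  have hQR : ∀ (q : Q) (u : Vec6), (q : ↥Q ⧸ Subgroup.center ↥Q) = D.F.co u → bp v1 u = 0 → bp (sm 1 v1) u = 0 →
      (((q : Subgroup.centralizer ({z} : Set G))) : G) ∈ Rg := fun q u hq h0 h1 => by
    have hX : (q : Subgroup.centralizer ({z} : Set G)) ∈ X0 := by
      refine (hmemX _).2 ⟨?_, ?_⟩
      · have h := mul_inv_eq_iff_eq_mul.1 (D.conj_sign hq ha1)
        rwa [bp_symm, h0, zp_zero, mul_one] at h
      · have h := mul_inv_eq_iff_eq_mul.1 (D.conj_sign hq hb1)
        rwa [bp_symm, h1, zp_zero, mul_one] at h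
    obtain ⟨k, hk'⟩ := hρ.2 ⟨_, hX⟩
    refine (hRmem _).2 ⟨k, by_contra fun hne => hθQ _ hne ?_, ?_⟩
    · rw [hk']; exact q.2
    · rw [← hρG, hk']
  -- membership in the plane
  have hU1V : ∀ (q : Q) (u : Vec6), (q : ↥Q ⧸ Subgroup.center ↥Q) = D.F.co u → u ∈ U1 →
      (((q : Subgroup.centralizer ({z} : Set G))) : G) ∈ V := by
    intro q u hq hu
    have hzpV : ∀ e, ((zp z e : Subgroup.centralizer ({z} : Set G)) : G) ∈ V := fun e => by
      rcases (z2_cases e) with rfl | rfl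
      · rw [zp_zero]; exact V.one_mem
      · rw [zp_one]; exact hzV
    have hfin : ∀ w : Q, (w : ↥Q ⧸ Subgroup.center ↥Q) = D.F.co u →
        (((w : Subgroup.centralizer ({z} : Set G))) : G) ∈ V → (((q : Subgroup.centralizer ({z} : Set G))) : G) ∈ V :=
      fun w hw hwV => by
        obtain ⟨e, he⟩ := D.exists_zp hw hq
        rw [he, Subgroup.coe_mul]
        exact mul_mem hwV (hzpV e)
    rcases hu with rfl | ⟨k, rfl⟩
    · exact hfin 1 (by rw [co_zero D.b D.F]; rfl) V.one_mem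
    rcases (show ∀ k : ZMod 3, k = 0 ∨ k = 1 ∨ k = 2 by decide) k with rfl | rfl | rfl
    · exact hfin aQ (by rw [ha1, sm_zero]) ⟨_, hιa⟩
    · exact hfin bQ hb1 ⟨_, hιb⟩
    · refine hfin (aQ * bQ) ?_ (mul_mem ⟨_, hιa⟩ ⟨_, hιb⟩)
      rw [QuotientGroup.mk_mul, ha1, hb1, ← D.F.map_add, add_eq_zero6 (sm_sum v1)]
  -- squares
  have hsq : ∀ r ∈ Rg, r * r ∈ V := by
    have hoc : ∀ r ∈ Rg, r * r ∈ LargeExtra.oc z := fun r hr => by
      obtain ⟨k, hk1, rfl⟩ := (hRmem r).1 hr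
      exact D.mem_oc_iff.2 ⟨⟨_, (hθ1 (ρ k) hk1).1⟩, rfl⟩
    have hall : ∀ j, ∀ r ∈ Rg, r * r ∈ LargeExtra.oc (ι (Pi.single j 1)) := fun j r hr => by
      obtain ⟨n, hn⟩ := hmove j
      have h := LargeExtra.conj_mem_oc (g := (n : G)) (hoc _ (hRconj n⁻¹ r hr))
      rw [hn, Subgroup.coe_inv, inv_inv] at h
      rwa [show (n : G) * ((n : G)⁻¹ * r * n * ((n : G)⁻¹ * r * n)) * (n : G)⁻¹ = r * r by group] at h
    intro r hr
    obtain ⟨q, hqe⟩ := D.mem_oc_iff.1 (hoc r hr)
    obtain ⟨g, hg⟩ := hmove 1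
    rw [hιa] at hg
    obtain ⟨-, -, h6⟩ := D.img_eq hk (aQ : Subgroup.centralizer ({z} : Set G)).2 aQ.2 (ha1.trans (by rw [hsr])) hg
    obtain ⟨u, hu, hqu⟩ := h6 q (by rw [hqe, ← hιa]; exact hall 1 r hr)
    have hxb : ((bQ : Subgroup.centralizer ({z} : Set G)) : G) = (x : G) * ((aQ : Subgroup.centralizer ({z} : Set G)) : G) * (x : G)⁻¹ := by
      show ((D.W x (sm 1 v1) : Subgroup.centralizer ({z} : Set G)) : G) = _
      rw [← D.W_smul hx v1, MulAut.conjNormal_apply]
      rfl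
    have hq' : (((MulAut.conjNormal x⁻¹ q : Q) : Subgroup.centralizer ({z} : Set G)) : G) ∈
        LargeExtra.oc ((aQ : Subgroup.centralizer ({z} : Set G)) : G) := by
      rw [MulAut.conjNormal_apply]
      have h := LargeExtra.conj_mem_oc (g := (x : G)⁻¹) (hall 2 r hr)
      rw [hιb, hxb, ← hqe] at h
      rw [show (x : G)⁻¹ * ((x : G) * ((aQ : Subgroup.centralizer ({z} : Set G)) : G) * (x : G)⁻¹) * (x : G)⁻¹⁻¹ =
        ((aQ : Subgroup.centralizer ({z} : Set G)) : G) by group] at h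
      simpa using h
    obtain ⟨u', hu', hqu'⟩ := h6 _ hq'
    rw [D.conj_coord hqu] at hqu'
    have hu2 : u' = sm 2 u := cact_inj D.F x (by
      rw [← D.F.bij.1 hqu', ← cact_mul, mul_inv_cancel, cact_one, hx, sm_sm,
        show (1 : ZMod 3) + 2 = 0 from rfl, sm_zero])
    obtain ⟨N, rfl⟩ := vecN_surjective u
    obtain ⟨N', hN', hNe⟩ : ∃ N' ∈ Finset.range 4096, vecN N' = vecN N := by
      refine ⟨N % 4096, Finset.mem_range.2 (Nat.mod_lt _ (by norm_num)), funext fun i => ?_⟩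
      have hmod : ∀ j < 12, (N % 4096).testBit j = N.testBit j := fun j hj => by
        rw [show (4096 : ℕ) = 2 ^ 12 from rfl, Nat.testBit_mod_two_pow]; simp [hj]
      simp only [vecN]
      rw [hmod _ (by omega), hmod _ (by omega)]
    rw [← hqe]
    refine hU1V q _ hqu ?_
    rw [hu2, hc] at hu'
    rw [hc] at hu
    rw [← hNe] at hu hu' ⊢
    rcases u6_inter_range 1 2 hbr N' hN' 2 (by decide) hu hu' with e | ⟨i, e⟩
    · exact Or.inl e
    · exact Or.inr ⟨i, by rw [← hsr]; exact e⟩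
  have hcom : ∀ p ∈ Rg, ∀ q ∈ Rg, p * q * p⁻¹ * q⁻¹ ∈ V := fun p hp q hq => by
    rw [commutator_squares]
    refine mul_mem (mul_mem (hsq _ (mul_mem hp hq)) ?_) (inv_mem (hsq q hq))
    obtain ⟨w, hw⟩ := inv_mem (hsq p hp)
    rw [← hw, mul_assoc, ← hRV q hq w, inv_mul_cancel_left]
    exact hV w
  have hVR : V ≤ Rg := by
    have hp : IsPGroup 2 ↥(V.subgroupOf L) := fun a => ⟨1, Subtype.ext (Subtype.ext (by
      simpa using hVel.2 _ a.2))⟩
    haveI : (V.subgroupOf L).Normal := Subgroup.normal_in_normalizer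
    have h := Subgroup.map_mono (f := L.subtype) (Core.le_pCore hp)
    rwa [Subgroup.subgroupOf_map_subtype, inf_eq_left.2 Subgroup.le_normalizer] at h
  -- the centre
  have hcen : Subgroup.center ↥Rg = V.subgroupOf Rg := by
    refine le_antisymm (fun r hr => ?_) fun r hr => ?_
    · rw [Subgroup.mem_subgroupOf]
      obtain ⟨k, hk1, hkr⟩ := (hRmem r).1 r.2
      obtain ⟨-, p, hp⟩ := hθ1 (ρ k) hk1
      have hcomY : ∀ (q : Q) (u : Vec6), (q : ↥Q ⧸ Subgroup.center ↥Q) = D.F.co u → bp v1 u = 0 → bp (sm 1 v1) u = 0 →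
          ((ρ k : ↥X0) : Subgroup.centralizer ({z} : Set G)) * q = q * ((ρ k : ↥X0) : Subgroup.centralizer ({z} : Set G)) := by
        intro q u hq h0 h1
        refine Subtype.ext ?_
        rw [Subgroup.coe_mul, Subgroup.coe_mul, hρG, hkr]
        exact (congrArg Subtype.val (Subgroup.mem_center_iff.1 hr ⟨_, hQR q u hq h0 h1⟩)).symm
      have hp0 : p = 0 := by
        by_contra hne
        obtain ⟨i, j, m, h0, h1, hmv⟩ := plane_es p hne
        refine hmv ?_
        rw [← hp]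
        refine cact_eq D.F ?_
        rw [← mk_lift D.F, actV_mk]
        congr 1
        exact Subtype.ext (by
          rw [MulAut.conjNormal_apply]; exact mul_inv_eq_iff_eq_mul.2 (hcomY _ _ (mk_lift D.F _) h0 h1))
      subst hp0
      have hQ' : ((ρ k : ↥X0) : Subgroup.centralizer ({z} : Set G)) ∈ Q := D.mem_Q_of_act fun c => (hp c).trans (es_zero c)
      obtain ⟨u, hu⟩ := D.F.bij.2 ((⟨_, hQ'⟩ : Q) : ↥Q ⧸ Subgroup.center ↥Q)
      rw [← hkr, ← hρG]
      refine hU1V ⟨_, hQ'⟩ u hu.symm (perp_perp_U1 fun y hy => ?_)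
      obtain ⟨h0, h1⟩ := mem_perp_U1.1 hy
      exact (D.comm_bp (mk_lift D.F y) hu.symm).1 (Subtype.ext (hcomY _ _ (mk_lift D.F y) h0 h1).symm)
    · obtain ⟨w, hw⟩ := hr
      refine Subgroup.mem_center_iff.2 fun t => Subtype.ext ?_
      show (t : G) * (r : G) = (r : G) * t
      rw [show (r : G) = ι w from hw.symm]
      exact hRV t t.2 w
  have hder : commutator ↥Rg = V.subgroupOf Rg := by
    refine le_antisymm ?_ ?_
    · rw [commutator_def, Subgroup.commutator_le]
      intro p _ q _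
      rw [Subgroup.mem_subgroupOf, commutatorElement_def]
      exact hcom p p.2 q q.2
    · have hK : ∀ j, ι (Pi.single j 1) ∈ (commutator ↥Rg).map Rg.subtype := by
        have hz' : z ∈ (commutator ↥Rg).map Rg.subtype := by
          obtain ⟨y, y', h0, h1, h0', h1', hyy⟩ := plane_pair
          let r : ↥Rg := ⟨_, hQR _ _ (mk_lift D.F y) h0 h1⟩
          let r' : ↥Rg := ⟨_, hQR _ _ (mk_lift D.F y') h0' h1'⟩
          refine ⟨⁅r, r'⁆, by rw [commutator_def]; exact Subgroup.commutator_mem_commutator (Subgroup.mem_top _) (Subgroup.mem_top _), ?_⟩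
          have h := congrArg Subtype.val (D.conj_sign (mk_lift D.F y) (mk_lift D.F y'))
          rw [hyy, zp_one] at h
          simp only [Subgroup.coe_mul, Subgroup.coe_inv] at h
          show (r : G) * (r' : G) * (r : G)⁻¹ * (r' : G)⁻¹ = z
          rw [h, show ((zc z : Subgroup.centralizer ({z} : Set G)) : G) = z from rfl,
            Subgroup.mem_centralizer_singleton_iff.1 (LargeFischer.lift D.F y' : Subgroup.centralizer ({z} : Set G)).2]
          exact mul_inv_cancel_right z _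
        intro j
        obtain ⟨n, hn⟩ := hmove j
        obtain ⟨c, hc', hce⟩ := hz'
        let β : ↥Rg →* ↥Rg := MonoidHom.mk' (fun r => ⟨(n : G) * r * (n : G)⁻¹, hRconj n r r.2⟩) fun a b =>
          Subtype.ext (by simp [mul_assoc])
        have hβ : (commutator ↥Rg).map β ≤ commutator ↥Rg := by
          rw [commutator_def, Subgroup.map_commutator]
          exact Subgroup.commutator_mono le_top le_top
        refine ⟨β c, hβ ⟨c, hc', rfl⟩, ?_⟩
        rw [← hn, ← hce]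
        rfl
      intro r hr
      obtain ⟨w, hw⟩ := hr
      obtain ⟨c, hc', hce⟩ := hgen _ hK w
      rwa [show r = c from Subtype.ext (hw.symm.trans hce.symm)]
  have hpg : IsPGroup 2 ↥Rg := IsPGroup.of_card hRc
  haveI := hpg.isNilpotent
  refine ⟨Rg, rfl, ⟨hpg, ?_, hder.trans hcen.symm⟩, hRc, ?_, ?_, ?_⟩
  · rw [hcen]
    refine le_antisymm (Fusion.frattini_le_of_elementary (p := 2) _ hder.le fun r => ?_) (hder ▸ Core.commutator_le_frattini)
    rw [Subgroup.mem_subgroupOf, pow_two]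
    exact hsq r r.2
  · rw [hcen, Subgroup.subgroupOf_map_subtype, inf_eq_left.2 hVR]
  · rw [hsub]; infer_instance
  · haveI : (Rg.subgroupOf L).Normal := by rw [hsub]; infer_instance
    exact ⟨(QuotientGroup.quotientMulEquivOfEq hsub).trans e⟩

end MaxData
end Data

theorem eight_local {G : Type*} [Group G] [Finite G] (z : G)
    (Q : Subgroup (Subgroup.centralizer ({z} : Set G))) [Q.Normal] (hF : IsOfLargeFischerTypeAt z Q) :
    ∃ V : Subgroup G, IsElementaryAbelian 2 V ∧ Nat.card V = 8 ∧ z ∈ V ∧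
      ∃ R : Subgroup G, R = (pCore 2 ↥(Subgroup.normalizer (V : Set G))).map (Subgroup.normalizer (V : Set G)).subtype ∧
        IsSpecial 2 ↥R ∧ Nat.card R = 2 ^ 15 ∧ (Subgroup.center ↥R).map R.subtype = V ∧
        ∃ _ : (R.subgroupOf (Subgroup.normalizer (V : Set G))).Normal,
          Nonempty (↥(Subgroup.normalizer (V : Set G)) ⧸ R.subgroupOf (Subgroup.normalizer (V : Set G)) ≃*
            Matrix.SpecialLinearGroup (Fin 3) (ZMod 2) × ↥(alternatingGroup (Fin 6))) := by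
  obtain ⟨D, hc⟩ := exists_data_param hF 1
  obtain ⟨MD⟩ := D.exists_maxData hF hc
  exact MD.eight_local hF hc

end Cfsg.Agent.LargeFischer
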