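import Cfsg.Agent.LargeFischer.CodeModelMap
import Cfsg.Agent.LargeFischer.PlaneData
import Cfsg.Agent.LargeFischer.StabB

/-! The centraliser of a pure plane. -/

set_option autoImplicit false
set_option maxRecDepth 20000
set_option Elab.async false

open Finset Cfsg Cfsg.Agent

namespace Cfsg.Agent.LargeFischer

theorem plane_es : ∀ p : Fin 16, p ≠ 0 → ∃ i j : Fin 6, ∃ k : ZMod 3,
    bp v1 (sm k (e6 i + e6 j)) = 0 ∧ bp (sm 1 v1) (sm k (e6 i + e6 j)) = 0 ∧
    es (pr p) (sm k (e6 i + e6 j)) ≠ sm k (e6 i + e6 j) := by decide +kernel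

theorem plane_split : ∃ y : Vec6, bp y v1 = 0 ∧ bp y (sm 1 v1) = 1 := ⟨Pi.single 0 (1, 0), by decide +kernel⟩

/-- the span of a point -/
def U1 : AddSubgroup Vec6 where
  carrier := {u | u = 0 ∨ ∃ k, u = sm k v1}
  zero_mem' := Or.inl rfl
  add_mem' := fun {a b} ha hb => by
    have h : ∀ u, (u = 0 ∨ ∃ k, u = sm k v1) ↔ ∃ p : W4, u = fun _ => p := fun u => by
      constructor
      · rintro (rfl | ⟨k, rfl⟩)
        · exact ⟨0, rfl⟩
        · exact ⟨omk k (1, 0), rfl⟩
      · rintro ⟨p, rfl⟩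
        rcases w4_sm p with rfl | ⟨k, rfl⟩
        · exact Or.inl rfl
        · exact Or.inr ⟨k, rfl⟩
    simp only [Set.mem_ofPred_eq, h] at ha hb ⊢
    obtain ⟨p, rfl⟩ := ha
    obtain ⟨q, rfl⟩ := hb
    exact ⟨p + q, rfl⟩
  neg_mem' := fun {a} ha => by rwa [show -a = a from funext fun _ => (show ∀ p : W4, -p = p by decide) _]

theorem card_U1 : Nat.card ↥U1 = 4 := by
  have e : ↥U1 ≃ W4 :=
    { toFun := fun u => u.1 0
      invFun := fun p => ⟨fun _ => p, by
        rcases w4_sm p with rfl | ⟨k, rfl⟩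
        · exact Or.inl rfl
        · exact Or.inr ⟨k, rfl⟩⟩
      left_inv := fun ⟨u, hu⟩ => by
        rcases hu with rfl | ⟨k, rfl⟩ <;> exact Subtype.ext (funext fun _ => rfl)
      right_inv := fun p => rfl }
  rw [Nat.card_congr e, Nat.card_eq_fintype_card]
  rfl

theorem mem_perp_U1 {y : Vec6} : y ∈ perpSub U1 ↔ bp v1 y = 0 ∧ bp (sm 1 v1) y = 0 := by
  constructor
  · intro h
    exact ⟨h v1 (Or.inr ⟨0, (sm_zero _).symm⟩), h _ (Or.inr ⟨1, rfl⟩)⟩
  · rintro ⟨h0, h1⟩ u (rfl | ⟨k, rfl⟩)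
    · exact (bp_symm 0 y).trans (bp_zero_right y)
    rcases (show ∀ k : ZMod 3, k = 0 ∨ k = 1 ∨ k = 2 by decide) k with rfl | rfl | rfl
    · rw [sm_zero]; exact h0
    · exact h1
    · rw [show sm 2 v1 = v1 + sm 1 v1 from (add_eq_zero6 (sm_sum v1)).symm, bp_add_left, h0, h1, add_zero]

theorem perp_perp_U1 {c : Vec6} (h : ∀ y ∈ perpSub U1, bp y c = 0) : c ∈ U1 := by
  have h1 := card_perpSub U1
  have h2 := card_perpSub (perpSub U1)
  have hle : U1 ≤ perpSub (perpSub U1) := fun u hu y hy => (bp_symm y u).trans (hy u hu)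
  rw [card_U1] at h1
  have hc : Nat.card ↥(perpSub (perpSub U1)) = 4 := by
    have : Nat.card ↥(perpSub U1) = 1024 := by omega
    rw [this] at h2
    omega
  have e := AddSubgroup.eq_of_le_of_card_ge hle (by rw [hc, card_U1])
  exact e.ge h

namespace Data
namespace MaxData

variable {G : Type*} [Group G] [Finite G] {z : G}
  {Q : Subgroup (Subgroup.centralizer ({z} : Set G))} [Q.Normal] {D : Data z Q} (M : D.MaxData)
include M

/-- the centraliser of the plane inside the centraliser of the involution -/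
theorem plane_stab (hF : IsOfLargeFischerTypeAt z Q) (hc : D.c = 1) {x : Subgroup.centralizer ({z} : Set G)}
    (hx : ∀ c, cact D.F x c = sm 1 c) :
    ∃ θ : ↥(Subgroup.centralizer ({(D.W x v1 : Subgroup.centralizer ({z} : Set G)),
        (D.W x (sm 1 v1) : Subgroup.centralizer ({z} : Set G))} : Set (Subgroup.centralizer ({z} : Set G)))) →*
        ↥(alternatingGroup (Fin 6)),
      Function.Surjective θ ∧ Nat.card ↥θ.ker = 2 ^ 15 ∧
      (∀ h, θ h ≠ 1 → (h : Subgroup.centralizer ({z} : Set G)) ∉ Q) ∧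
      (∀ h, θ h = 1 → (h : Subgroup.centralizer ({z} : Set G)) * h ∈ Q ∧
        ∃ p, ∀ c, cact D.F (h : Subgroup.centralizer ({z} : Set G)) c = es (pr p) c) := by
  classical
  have S := D.setting
  obtain ⟨hsr, hbr, hU6, hv0, hvp, -, -, -⟩ := srep_two
  have hk : BRep D.c 2 := hc ▸ hbr
  have hvA : ¬InA D.c v1 := hc ▸ u6_f0_large.2.2.1
  set aQ := D.W x v1 with haQ
  set bQ := D.W x (sm 1 v1) with hbQ
  have ha1 : (aQ : ↥Q ⧸ Subgroup.center ↥Q) = D.F.co v1 := D.W_coord hx v1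
  have hb1 : (bQ : ↥Q ⧸ Subgroup.center ↥Q) = D.F.co (sm 1 v1) := D.W_coord hx _
  set a : Subgroup.centralizer ({z} : Set G) := (aQ : Subgroup.centralizer ({z} : Set G)) with ha
  set b : Subgroup.centralizer ({z} : Set G) := (bQ : Subgroup.centralizer ({z} : Set G)) with hb
  set X0 := Subgroup.centralizer ({a, b} : Set (Subgroup.centralizer ({z} : Set G))) with hX0
  have hmem : ∀ h, h ∈ X0 ↔ h * a = a * h ∧ h * b = b * h := fun h => by
    rw [hX0, Subgroup.mem_centralizer_iff]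
    simp only [Set.mem_insert_iff, Set.mem_singleton_iff, forall_eq_or_imp, forall_eq]
    exact ⟨fun ⟨h1, h2⟩ => ⟨h1.symm, h2.symm⟩, fun ⟨h1, h2⟩ => ⟨h1.symm, h2.symm⟩⟩
  have hfix : ∀ (q : Q) (u : Vec6), (q : ↥Q ⧸ Subgroup.center ↥Q) = D.F.co u →
      ∀ h : Subgroup.centralizer ({z} : Set G), h * q = q * h → cact D.F h u = u := fun q u hq h hh => by
    refine cact_eq D.F ?_
    rw [← hq, actV_mk]
    congr 1
    exact Subtype.ext (by rw [MulAut.conjNormal_apply]; exact mul_inv_eq_iff_eq_mul.2 hh)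
  have hXlin : ∀ h ∈ X0, h ∈ D.Lin ∧ cact D.F h v1 = v1 := fun h hh => by
    have h1 := hfix aQ v1 ha1 h ((hmem h).1 hh).1
    have h2 := hfix bQ _ hb1 h ((hmem h).1 hh).2
    refine ⟨by_contra fun hne => ?_, h1⟩
    rw [D.sm_two hne, h1] at h2
    exact absurd (congrFun h2 0) (by decide +kernel)
  -- a conjugate of the central involution
  have hconj : IsConj z (a : G) := D.conj_of_not_inA hF ha1 hv0 hvp hvA
  obtain ⟨g, hg⟩ := isConj_iff.1 hconj
  have hg' : g * z * g⁻¹ = (a : G) := hg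
  have hne : (a : G) ≠ z := fun e => D.notMem_center ha1 hv0 ((center_iff D.b).2 (Or.inr (Subtype.ext e)))
  obtain ⟨-, -, hEX, -, hEel, hEc, hEn, ⟨eA⟩⟩ := D.stab_structure hg' a.2 aQ.2 hne _ _ rfl rfl
  obtain ⟨-, himg, -⟩ := D.img_eq hk a.2 aQ.2 (ha1.trans (by rw [hsr])) hg'
  set X := ((Subgroup.centralizer ({z} : Set G) ⊓ Subgroup.centralizer ({(a : G)} : Set G)).subgroupOf
    (Subgroup.centralizer ({z} : Set G))).map (QuotientGroup.mk' Q) with hX
  set E := (((LargeExtra.oc z).map (MulAut.conj g).toMonoidHom ⊓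
      Subgroup.centralizer ({z} : Set G)).subgroupOf (Subgroup.centralizer ({z} : Set G))).map (QuotientGroup.mk' Q) with hE
  have hX0X : ∀ h ∈ X0, (h : _ ⧸ Q) ∈ X := fun h hh =>
    ⟨h, ⟨h.2, Subgroup.mem_centralizer_singleton_iff.2 (congrArg Subtype.val ((hmem h).1 hh).1)⟩, rfl⟩
  let ψ : ↥X0 →* ↥(alternatingGroup (Fin 6)) := eA.toMonoidHom.comp ((QuotientGroup.mk' (E.subgroupOf X)).comp
    (((QuotientGroup.mk' Q).comp X0.subtype).codRestrict X fun h => hX0X h h.2))
  have hψ : ∀ h : ↥X0, ψ h = 1 ↔ ((h : Subgroup.centralizer ({z} : Set G)) : _ ⧸ Q) ∈ E := fun h => by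
    show eA _ = 1 ↔ _
    rw [MulEquiv.map_eq_one_iff]
    exact (QuotientGroup.eq_one_iff _).trans Subgroup.mem_subgroupOf
  -- kernel elements are shears
  have hmove : ∀ h : ↥X0, ψ h = 1 → (h : Subgroup.centralizer ({z} : Set G)) * h ∈ Q ∧
      ∃ p, ∀ c, cact D.F (h : Subgroup.centralizer ({z} : Set G)) c = es (pr p) c := by
    intro h hh
    have hE1 := (hψ h).1 hh
    refine ⟨?_, ?_⟩
    · refine (QuotientGroup.eq_one_iff _).1 ?_
      rw [QuotientGroup.mk_mul, ← pow_two]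
      exact hEel.2 _ hE1
    obtain ⟨k, hk', hkh⟩ := hE1
    have hkoc : (k : G) ∈ LargeExtra.oc (a : G) := by
      have := hk'.1
      rwa [oc_map_conj, hg'] at this
    have hact : ∀ c, cact D.F (h : Subgroup.centralizer ({z} : Set G)) c = cact D.F k c := fun c =>
      D.act_congr hkh.symm c
    obtain ⟨hlin, hv1⟩ := hXlin h h.2
    refine D.pin hc hlin hv1 fun j => ?_
    simp only [hact]
    obtain ⟨t', ht0, htc'⟩ := (himg (uu j)).2 (hc ▸ hU6 j)
    have ht' : ((t' : Subgroup.centralizer ({z} : Set G)) : G) ∈ LargeExtra.oc (a : G) := ht0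
    rw [← hg', ← oc_map_conj] at ht' hkoc
    obtain ⟨q', hq', hq'e⟩ := ht'
    obtain ⟨q, hq, hqe⟩ := hkoc
    have hq'e' : g * q' * g⁻¹ = ((t' : Subgroup.centralizer ({z} : Set G)) : G) := hq'e
    have hqe' : (k : G) = g * q * g⁻¹ := hqe.symm
    rcases S.commutator_cases hq hq' with c0 | c0
    · left
      refine cact_eq D.F ?_
      rw [← htc', actV_mk]
      congr 1
      refine Subtype.ext (Subtype.ext ?_)
      rw [MulAut.conjNormal_apply]
      show (k : G) * ((t' : Subgroup.centralizer ({z} : Set G)) : G) * (k : G)⁻¹ = _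
      rw [hqe', ← hq'e']
      calc g * q * g⁻¹ * (g * q' * g⁻¹) * (g * q * g⁻¹)⁻¹ = g * (q * q' * q⁻¹ * q'⁻¹) * q' * g⁻¹ := by group
        _ = g * q' * g⁻¹ := by rw [c0, mul_one]
    · right
      refine cact_eq D.F ?_
      rw [← htc', actV_mk, add_comm, D.F.map_add, ← ha1, ← htc', ← QuotientGroup.mk_mul]
      congr 1
      refine Subtype.ext (Subtype.ext ?_)
      rw [MulAut.conjNormal_apply]
      show (k : G) * ((t' : Subgroup.centralizer ({z} : Set G)) : G) * (k : G)⁻¹ =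
        (a : G) * ((t' : Subgroup.centralizer ({z} : Set G)) : G)
      rw [hqe', ← hq'e', ← hg']
      calc g * q * g⁻¹ * (g * q' * g⁻¹) * (g * q * g⁻¹)⁻¹ = g * (q * q' * q⁻¹ * q'⁻¹) * q' * g⁻¹ := by group
        _ = g * z * g⁻¹ * (g * q' * g⁻¹) := by rw [c0]; group
  have hQ : ∀ h : ↥X0, (h : Subgroup.centralizer ({z} : Set G)) ∈ Q → ψ h = 1 := fun h hh =>
    (hψ h).2 (by rw [(QuotientGroup.eq_one_iff _).2 hh]; exact E.one_mem)
  -- the image in the quotient
  have hbig : 5760 ≤ Nat.card ↥(X0.map (QuotientGroup.mk' Q)) := by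
    let St : Subgroup (Subgroup.centralizer ({z} : Set G)) :=
      { carrier := {h | cact D.F h v1 = v1}
        one_mem' := cact_one D.F v1
        mul_mem' := fun {a c} (ha : cact D.F a v1 = v1) (hc : cact D.F c v1 = v1) =>
          show cact D.F (a * c) v1 = v1 by rw [cact_mul, hc, ha]
        inv_mem' := fun {a} (ha : cact D.F a v1 = v1) => show cact D.F a⁻¹ v1 = v1 by
          conv_lhs => rw [← ha, ← cact_mul, inv_mul_cancel, cact_one] }
    have hSt := D.card_class_stab hv0 hvp hvA St fun _ => Iff.rfl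
    obtain ⟨y, hy0, hy1⟩ := plane_split
    have hlift : ∀ h ∈ St, h ∈ D.Lin → ∃ q : Q, (q : Subgroup.centralizer ({z} : Set G)) * h ∈ X0 := by
      intro h hh hl
      have h1 : ((MulAut.conjNormal h aQ : Q) : ↥Q ⧸ Subgroup.center ↥Q) = D.F.co v1 := by
        rw [D.conj_coord ha1, show cact D.F h v1 = v1 from hh]
      obtain ⟨r, hr⟩ := D.class_conj (D.notMem_center h1 hv0) (h1.trans ha1.symm)
      have hra : (r : Subgroup.centralizer ({z} : Set G)) * h * a * ((r : Subgroup.centralizer ({z} : Set G)) * h)⁻¹ = a := by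
        have := congrArg Subtype.val hr
        simp only [Subgroup.coe_mul, Subgroup.coe_inv, MulAut.conjNormal_apply] at this
        calc _ = (r : Subgroup.centralizer ({z} : Set G)) * (h * a * h⁻¹) * (r : Subgroup.centralizer ({z} : Set G))⁻¹ := by group
          _ = a := this
      have h2 : ((MulAut.conjNormal ((r : Subgroup.centralizer ({z} : Set G)) * h) bQ : Q) : ↥Q ⧸ Subgroup.center ↥Q) =
          D.F.co (sm 1 v1) := by
        rw [D.conj_coord hb1, cact_mul, D.cact_Q r.2, (D.mem_Lin).1 hl, show cact D.F h v1 = v1 from hh]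
      obtain ⟨e, he⟩ := D.exists_zp hb1 h2
      rw [MulAut.conjNormal_apply] at he
      rcases (show ∀ e : ZMod 2, e = 0 ∨ e = 1 by decide) e with rfl | rfl
      · refine ⟨r, (hmem _).2 ⟨mul_inv_eq_iff_eq_mul.1 hra, mul_inv_eq_iff_eq_mul.1 ?_⟩⟩
        rw [he, zp_zero, mul_one]
      · set q := LargeFischer.lift D.F y with hqd
        refine ⟨q * r, (hmem _).2 ⟨mul_inv_eq_iff_eq_mul.1 ?_, mul_inv_eq_iff_eq_mul.1 ?_⟩⟩
        · rw [Subgroup.coe_mul, show (q : Subgroup.centralizer ({z} : Set G)) * r * h * a * ((q : Subgroup.centralizer ({z} : Set G)) * r * h)⁻¹ =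
            (q : Subgroup.centralizer ({z} : Set G)) * ((r : Subgroup.centralizer ({z} : Set G)) * h * a * ((r : Subgroup.centralizer ({z} : Set G)) * h)⁻¹) *
              (q : Subgroup.centralizer ({z} : Set G))⁻¹ by group, hra, ha, D.conj_sign (mk_lift D.F y) ha1, hy0, zp_zero, mul_one]
        · rw [Subgroup.coe_mul, show (q : Subgroup.centralizer ({z} : Set G)) * r * h * b * ((q : Subgroup.centralizer ({z} : Set G)) * r * h)⁻¹ =
            (q : Subgroup.centralizer ({z} : Set G)) * ((r : Subgroup.centralizer ({z} : Set G)) * h * b * ((r : Subgroup.centralizer ({z} : Set G)) * h)⁻¹) *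
              (q : Subgroup.centralizer ({z} : Set G))⁻¹ by group, he]
          have e1 := D.conj_sign (mk_lift D.F y) hb1
          rw [hy1] at e1
          calc (q : Subgroup.centralizer ({z} : Set G)) * (b * zp z 1) * (q : Subgroup.centralizer ({z} : Set G))⁻¹
              = (q : Subgroup.centralizer ({z} : Set G)) * b * (zp z 1 * (q : Subgroup.centralizer ({z} : Set G))⁻¹) := by group
            _ = ((q : Subgroup.centralizer ({z} : Set G)) * b * (q : Subgroup.centralizer ({z} : Set G))⁻¹) * zp z 1 := by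
              rw [← zp_comm]; group
            _ = b * (zp z 1 * zp z 1) := by rw [hb, e1]; group
            _ = b := by rw [← D.zp_add, show (1 : ZMod 2) + 1 = 0 from rfl, zp_zero, mul_one]
    have hle : (St ⊓ D.Lin).map (QuotientGroup.mk' Q) ≤ X0.map (QuotientGroup.mk' Q) := by
      rintro _ ⟨h, hh, rfl⟩
      obtain ⟨q, hq⟩ := hlift h hh.1 hh.2
      exact ⟨_, hq, by rw [QuotientGroup.mk'_apply, QuotientGroup.mk_mul, (QuotientGroup.eq_one_iff _).2 q.2, one_mul]; rfl⟩
    refine le_trans ?_ (Nat.card_le_card_of_injective _ (Subgroup.inclusion_injective hle))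
    by_cases hex : ∃ h ∈ St, h ∉ D.Lin
    · obtain ⟨h0, h0s, h0l⟩ := hex
      have h' : Nat.card ↥(St.map (QuotientGroup.mk' Q)) ≤ Nat.card (ZMod 2 × ↥((St ⊓ D.Lin).map (QuotientGroup.mk' Q))) := by
        have hsur : ∀ y : ↥(St.map (QuotientGroup.mk' Q)), ∃ p : ZMod 2 × ↥((St ⊓ D.Lin).map (QuotientGroup.mk' Q)),
            (if p.1 = 0 then (1 : _ ⧸ Q) else (h0 : _ ⧸ Q)) * p.2.1 = y.1 := by
          rintro ⟨_, h, hh, rfl⟩
          by_cases hl : h ∈ D.Lin
          · exact ⟨(0, ⟨_, h, ⟨hh, hl⟩, rfl⟩), by simp⟩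
          · have hl' : h0⁻¹ ∉ D.Lin := fun e => h0l (by simpa using D.Lin.inv_mem e)
            refine ⟨(1, ⟨_, h0⁻¹ * h, ⟨St.mul_mem (St.inv_mem h0s) hh, D.mul_Lin hl' hl⟩, rfl⟩), ?_⟩
            simp
        choose f hf using hsur
        exact Nat.card_le_card_of_injective f fun y y' e => Subtype.ext (by rw [← hf y, ← hf y', e])
      rw [hSt, Nat.card_prod, Nat.card_zmod] at h'
      omega
    · push Not at hex
      rw [inf_eq_left.2 hex, hSt]
      norm_num
  -- counting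
  set Kb := X0.map (QuotientGroup.mk' Q) with hKb
  let κ : ↥X0 →* ↥Kb := (QuotientGroup.mk' Q).subgroupMap X0
  have hκ : Function.Surjective κ := MonoidHom.subgroupMap_surjective _ _
  have hKX : Kb ≤ X := by rintro _ ⟨h, hh, rfl⟩; exact hX0X h hh
  let π : ↥Kb →* ↥(alternatingGroup (Fin 6)) := eA.toMonoidHom.comp ((QuotientGroup.mk' (E.subgroupOf X)).comp (Subgroup.inclusion hKX))
  have hψπ : ψ = π.comp κ := rfl
  have hπker : Nat.card ↥π.ker ≤ 16 := by
    have hch : ∀ y : ↥π.ker, ∃ p, ∀ c, D.qact ((y : ↥Kb) : _ ⧸ Q) c = es (pr p) c := fun y => by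
      obtain ⟨h, hy⟩ := hκ y.1
      have h1 : ψ h = 1 := by rw [hψπ, MonoidHom.comp_apply, hy]; exact y.2
      obtain ⟨p, hp⟩ := (hmove h h1).2
      exact ⟨p, fun c => by rw [← hy]; exact (D.qact_mk _ c).trans (hp c)⟩
    choose p hp using hch
    have := Nat.card_le_card_of_injective p fun y y' e => Subtype.ext (Subtype.ext (D.qact_ext fun c => by rw [hp, hp, e]))
    rwa [Nat.card_fin] at this
  have hA6 : Nat.card ↥(alternatingGroup (Fin 6)) = 360 := by
    rw [Nat.card_eq_fintype_card, card_alternatingGroup, Fintype.card_fin]; rfl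
  have hcnt := π.ker.card_mul_index
  rw [Subgroup.index_ker] at hcnt
  have hr : Nat.card ↥π.range ≤ 360 := hA6 ▸ Subgroup.card_le_card_group _
  have hk16 : Nat.card ↥π.ker = 16 ∧ Nat.card ↥π.range = 360 := by
    have hb' : 5760 ≤ Nat.card ↥π.ker * Nat.card ↥π.range := hcnt ▸ hbig
    constructor <;> nlinarith
  have hsur : Function.Surjective ψ := by
    rw [hψπ]
    exact (MonoidHom.range_eq_top.1 (Subgroup.eq_top_of_card_eq _ (hk16.2.trans hA6.symm))).comp hκ
  refine ⟨ψ, hsur, ?_, fun h h1 h2 => h1 (hQ h h2), hmove⟩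
  -- the order of the kernel
  have hQpart : Nat.card ↥κ.ker = 2 ^ 11 := by
    have hp : Nat.card ↥(perpSub U1) = 1024 := by
      have h1 := card_perpSub U1
      rw [card_U1] at h1
      omega
    have hin : ∀ (p : ↥(perpSub U1) × ZMod 2),
        ((LargeFischer.lift D.F p.1.1 : Q) : Subgroup.centralizer ({z} : Set G)) * zp z p.2 ∈ X0 := by
      rintro ⟨⟨y, hy⟩, e⟩
      obtain ⟨h0, h1⟩ := mem_perp_U1.1 hy
      refine (hmem _).2 ⟨?_, ?_⟩
      · have h := mul_inv_eq_iff_eq_mul.1 (D.conj_sign (mk_lift D.F y) ha1)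
        rw [bp_symm, h0, zp_zero, mul_one] at h
        rw [mul_assoc, ← zp_comm, ← mul_assoc, h, mul_assoc]
      · have h := mul_inv_eq_iff_eq_mul.1 (D.conj_sign (mk_lift D.F y) hb1)
        rw [bp_symm, h1, zp_zero, mul_one] at h
        rw [mul_assoc, ← zp_comm, ← mul_assoc, h, mul_assoc]
    let f : ↥(perpSub U1) × ZMod 2 → ↥κ.ker := fun p => ⟨⟨_, hin p⟩, Subtype.ext
      ((QuotientGroup.eq_one_iff _).2 (mul_mem (LargeFischer.lift D.F p.1.1).2 (D.zp_mem_Q p.2)))⟩
    have hf : Function.Bijective f := by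
      have hz : ∀ e : ZMod 2, ((⟨_, D.zp_mem_Q e⟩ : Q) : ↥Q ⧸ Subgroup.center ↥Q) = 1 := fun e =>
        (QuotientGroup.eq_one_iff _).2 ((center_iff D.b).2 (by
          rcases (show ∀ a : ZMod 2, a = 0 ∨ a = 1 by decide) e with rfl | rfl
          · exact Or.inl (Subtype.ext zp_zero)
          · exact Or.inr zp_one))
      constructor
      · rintro ⟨y, e⟩ ⟨y', e'⟩ h
        have h' : ((LargeFischer.lift D.F y.1 : Q) : Subgroup.centralizer ({z} : Set G)) * zp z e =
            ((LargeFischer.lift D.F y'.1 : Q) : Subgroup.centralizer ({z} : Set G)) * zp z e' :=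
          congrArg (fun k : ↥κ.ker => ((k : ↥X0) : Subgroup.centralizer ({z} : Set G))) h
        have hq : LargeFischer.lift D.F y.1 * ⟨_, D.zp_mem_Q e⟩ = LargeFischer.lift D.F y'.1 * ⟨_, D.zp_mem_Q e'⟩ := Subtype.ext h'
        have hc := congrArg (fun q : Q => (q : ↥Q ⧸ Subgroup.center ↥Q)) hq
        simp only [QuotientGroup.mk_mul, mk_lift, hz, mul_one] at hc
        obtain rfl : y = y' := Subtype.ext (D.F.bij.1 hc)
        exact Prod.ext rfl (D.zp_inj (mul_left_cancel h'))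
      · rintro ⟨⟨h, hh⟩, hk⟩
        have hQ : h ∈ Q := (QuotientGroup.eq_one_iff _).1 (congrArg Subtype.val hk :)
        obtain ⟨y, hy⟩ := D.F.bij.2 ((⟨h, hQ⟩ : Q) : ↥Q ⧸ Subgroup.center ↥Q)
        have hy' : y ∈ perpSub U1 := by
          refine mem_perp_U1.2 ⟨?_, ?_⟩
          · rw [bp_symm]; exact (D.comm_bp hy.symm ha1).1 (Subtype.ext ((hmem h).1 hh).1)
          · rw [bp_symm]; exact (D.comm_bp hy.symm hb1).1 (Subtype.ext ((hmem h).1 hh).2)
        obtain ⟨e, he⟩ := D.exists_zp (mk_lift D.F y) hy.symm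
        exact ⟨(⟨y, hy'⟩, e), Subtype.ext (Subtype.ext he.symm)⟩
    rw [← Nat.card_congr (Equiv.ofBijective f hf), Nat.card_prod, hp, Nat.card_zmod]
    norm_num
  have e1 := κ.ker.card_mul_index
  rw [Subgroup.index_ker, MonoidHom.range_eq_top.2 hκ, Subgroup.card_top, hQpart] at e1
  have e2 := ψ.ker.card_mul_index
  rw [Subgroup.index_ker, MonoidHom.range_eq_top.2 hsur, Subgroup.card_top, hA6, ← e1] at e2
  rw [hk16.1, hk16.2] at hcnt
  rw [← hcnt] at e2
  omega

end MaxData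
end Data
end Cfsg.Agent.LargeFischer
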