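import Cfsg.Agent.LargeFischer.Shear

/-! A Sylow group of the centraliser and its elementary subgroups. -/

set_option autoImplicit false
set_option maxRecDepth 20000
set_option Elab.async false

open Finset Cfsg Cfsg.Agent
open scoped commutatorElement

namespace Cfsg.Agent.LargeFischer

theorem dp_inv : ∀ a, ∃ b, dp b * dp a = 1 := by decide +kernel

theorem dp_eq : ∀ a b, dp a = dp b → a = b := by decide +kernel

theorem dp_v1 : ∀ t, pm (dp t) v1 = v1 := fun _ => rfl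

theorem dp_zero : dp 0 = 1 ∧ pr 0 = (0, 0) := by decide +kernel

theorem es_zero (x : Vec6) : es (pr 0) x = x := by rw [dp_zero.2]; rfl

namespace Data

variable {G : Type*} [Group G] [Finite G] {z : G}
  {Q : Subgroup (Subgroup.centralizer ({z} : Set G))} [Q.Normal] (D : Data z Q)
include D

/-- the action of the quotient -/
noncomputable def qact (y : Subgroup.centralizer ({z} : Set G) ⧸ Q) (x : Vec6) : Vec6 := cact D.F y.out x

theorem qact_mk (h : Subgroup.centralizer ({z} : Set G)) (x : Vec6) : D.qact (h : _ ⧸ Q) x = cact D.F h x :=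
  D.act_congr (QuotientGroup.out_eq' _) x

theorem qact_mul (a b : Subgroup.centralizer ({z} : Set G) ⧸ Q) (x : Vec6) :
    D.qact (a * b) x = D.qact a (D.qact b x) := by
  obtain ⟨a, rfl⟩ := QuotientGroup.mk_surjective a
  obtain ⟨b, rfl⟩ := QuotientGroup.mk_surjective b
  rw [← QuotientGroup.mk_mul, qact_mk, qact_mk, qact_mk, cact_mul]

theorem qact_ext {a b : Subgroup.centralizer ({z} : Set G) ⧸ Q} (h : ∀ x, D.qact a x = D.qact b x) : a = b := by
  obtain ⟨a, rfl⟩ := QuotientGroup.mk_surjective a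
  obtain ⟨b, rfl⟩ := QuotientGroup.mk_surjective b
  refine QuotientGroup.eq.2 (D.mem_Q_of_act fun c => cact_inj D.F a ?_)
  rw [← cact_mul, mul_inv_cancel_left, ← qact_mk, ← qact_mk, h]

theorem qact_one (x : Vec6) : D.qact 1 x = x := by
  rw [← QuotientGroup.mk_one, qact_mk, cact_one]

/-- the image of the linear elements -/
def Lbar : Subgroup (Subgroup.centralizer ({z} : Set G) ⧸ Q) := D.Lin.map (QuotientGroup.mk' Q)

theorem mk_mem_Lbar {h : Subgroup.centralizer ({z} : Set G)} : (h : _ ⧸ Q) ∈ D.Lbar ↔ h ∈ D.Lin := by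
  refine ⟨fun hh => ?_, fun hh => ⟨h, hh, rfl⟩⟩
  obtain ⟨a, ha, e⟩ := hh
  have h1 := D.Lin.mul_mem ha (D.Q_le_Lin (QuotientGroup.eq.1 e))
  rwa [mul_inv_cancel_left] at h1

theorem exists_tbar (hF : IsOfLargeFischerTypeAt z Q) (hc : D.c = 1) :
    ∃ P : Sylow 2 ↥(Subgroup.centralizer ({z} : Set G)), Q ≤ P ∧
      (∀ h ∈ P, h ∈ D.Lin → ∃ c, ∀ x, cact D.F h x = cd c x) ∧
      (∀ p, ∃ h : Subgroup.centralizer ({z} : Set G), h ∈ P ∧ h ∈ D.Lin ∧ ∀ x, cact D.F h x = es (pr p) x) ∧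
      (∀ t, ∃ h : Subgroup.centralizer ({z} : Set G), h ∈ P ∧ h ∈ D.Lin ∧ ∀ x, cact D.F h x = pm (dp t) x) ∧
      (∀ c c', (∀ x, cd c x = cd c' x) → c = c') ∧
      ∀ B : Subgroup (Subgroup.centralizer ({z} : Set G) ⧸ Q),
        B ≤ (P : Subgroup (Subgroup.centralizer ({z} : Set G))).map (QuotientGroup.mk' Q) → B ≤ D.Lbar →
        IsElementaryAbelian 2 B → Nat.card B ≤ 16 ∧
          (5 ≤ Nat.card B → ∃ p ≠ 0, ∃ y ∈ B, ∀ x, D.qact y x = es (pr p) x) ∧
          (Nat.card B = 16 → (∃ y ∈ B, ∀ x, D.qact y x = es (pr 1) x) ∧ ∃ y ∈ B, ∀ x, D.qact y x = es (pr 10) x) := by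
  classical
  obtain ⟨E, hEab, hEc, hnorm, hmove, hsh⟩ := D.exists_shears hF hc
  have hm : ∀ t, ∃ h : Subgroup.centralizer ({z} : Set G), h ∈ D.Lin ∧ ∀ x, cact D.F h x = pm (dp t) x := fun t => by
    obtain ⟨m, hm, h⟩ := D.F.perm (dp t) (dp_sign t)
    exact ⟨m, D.M_le_Lin hm, fun x => cact_eq D.F (h x)⟩
  choose m hmL hmc using hm
  have hmfix : ∀ t, cact D.F (m t) v1 = v1 := fun t => by rw [hmc, dp_v1]
  have hmmul : ∀ a b c, dp a * dp b = dp c → (m a : _ ⧸ Q) * (m b : _ ⧸ Q) = (m c : _ ⧸ Q) := fun a b c e =>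
    D.qact_ext fun x => by rw [D.qact_mul, D.qact_mk, D.qact_mk, D.qact_mk, hmc, hmc, hmc, ← pm_pm, e]
  have hm0 : (m 0 : _ ⧸ Q) = 1 := D.qact_ext fun x => by
    rw [D.qact_mk, hmc, D.qact_one, dp_zero.1]; rfl
  have hmE : ∀ t, (m t : _ ⧸ Q) ∈ E → t = 0 := fun t ht =>
    dp_inj t fun j => by rw [← hmc]; exact (hmove _ ht).2 j
  let T : Subgroup (Subgroup.centralizer ({z} : Set G) ⧸ Q) :=
    { carrier := {y | ∃ e ∈ E, ∃ t, y = e * (m t : _ ⧸ Q)}
      one_mem' := ⟨1, E.one_mem, 0, by rw [hm0, mul_one]⟩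
      mul_mem' := by
        rintro _ _ ⟨e, he, t, rfl⟩ ⟨e', he', t', rfl⟩
        obtain ⟨c, hc'⟩ := dp_mul t t'
        refine ⟨e * ((m t : _ ⧸ Q) * e' * (m t : _ ⧸ Q)⁻¹), E.mul_mem he (hnorm _ (hmfix t) _ he'), c, ?_⟩
        rw [← hmmul t t' c hc']
        group
      inv_mem' := by
        rintro _ ⟨e, he, t, rfl⟩
        obtain ⟨b, hb⟩ := dp_inv t
        have hb' : (m b : _ ⧸ Q) = (m t : _ ⧸ Q)⁻¹ :=
          eq_inv_of_mul_eq_one_left ((hmmul b t 0 (by rw [hb, dp_zero.1])).trans hm0)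
        refine ⟨(m b : _ ⧸ Q) * e⁻¹ * (m b : _ ⧸ Q)⁻¹, hnorm _ (hmfix b) _ (E.inv_mem he), b, ?_⟩
        rw [hb']
        group }
  have huniq : ∀ e ∈ E, ∀ e' ∈ E, ∀ t t', e * (m t : _ ⧸ Q) = e' * (m t' : _ ⧸ Q) → t = t' ∧ e = e' := by
    intro e he e' he' t t' h
    obtain ⟨b, hb⟩ := dp_inv t'
    obtain ⟨c, hc'⟩ := dp_mul t b
    have hb' : (m b : _ ⧸ Q) = (m t' : _ ⧸ Q)⁻¹ :=
      eq_inv_of_mul_eq_one_left ((hmmul b t' 0 (by rw [hb, dp_zero.1])).trans hm0)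
    have h2 : (m c : _ ⧸ Q) ∈ E := by
      rw [← hmmul t b c hc', hb', show (m t : _ ⧸ Q) * (m t' : _ ⧸ Q)⁻¹ = e⁻¹ * (e * (m t : _ ⧸ Q)) * (m t' : _ ⧸ Q)⁻¹ by group,
        h, show e⁻¹ * (e' * (m t' : _ ⧸ Q)) * (m t' : _ ⧸ Q)⁻¹ = e⁻¹ * e' by group]
      exact E.mul_mem (E.inv_mem he) he'
    have h3 := hmE c h2
    rw [h3, dp_zero.1] at hc'
    have : t = t' := dp_eq _ _ (by
      calc dp t = dp t * (dp b * dp t') := by rw [hb, mul_one]
        _ = dp t * dp b * dp t' := by rw [mul_assoc]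
        _ = dp t' := by rw [hc', one_mul])
    subst this
    exact ⟨rfl, mul_right_cancel h⟩
  have hTc : Nat.card ↥T = 256 := by
    rw [← Nat.card_congr (Equiv.ofBijective (fun et : ↥E × Fin 8 =>
      (⟨(et.1 : _ ⧸ Q) * (m et.2 : _ ⧸ Q), _, et.1.2, _, rfl⟩ : ↥T)) ⟨fun a b h => by
        obtain ⟨h1, h2⟩ := huniq _ a.1.2 _ b.1.2 _ _ (congrArg Subtype.val h)
        exact Prod.ext (Subtype.ext h2) h1, fun y => by
        obtain ⟨y, e, he, t, rfl⟩ := y
        exact ⟨(⟨e, he⟩, t), rfl⟩⟩), Nat.card_prod, hEc, Nat.card_eq_fintype_card, Fintype.card_fin]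
  have hQc : Nat.card ↥Q = 2 ^ 13 := by
    rw [← D.card_oc, D.oc_eq, Subgroup.card_map_of_injective (Subgroup.centralizer ({z} : Set G)).subtype_injective]
  set P0 := T.comap (QuotientGroup.mk' Q) with hP0
  have hTi : T.index = 76545 := by
    have h := T.card_mul_index
    rw [hTc, ← Subgroup.index_eq_card, D.hind] at h
    omega
  have hP0c : Nat.card ↥P0 = 2 ^ 21 := by
    have h := P0.card_mul_index
    have h' := Q.card_mul_index
    rw [hP0, T.index_comap_of_surjective (QuotientGroup.mk'_surjective Q), hTi, ← h', hQc, D.hind] at h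
    rw [hP0]
    omega
  haveI : Fact (Nat.Prime 2) := ⟨Nat.prime_two⟩
  let P : Sylow 2 ↥(Subgroup.centralizer ({z} : Set G)) :=
    (IsPGroup.of_card hP0c).toSylow (by
      rw [hP0, T.index_comap_of_surjective (QuotientGroup.mk'_surjective Q), hTi]; norm_num)
  have hPT : ∀ h, h ∈ P ↔ (h : _ ⧸ Q) ∈ T := fun h => Iff.rfl
  have hmap : (P : Subgroup (Subgroup.centralizer ({z} : Set G))).map (QuotientGroup.mk' Q) = T :=
    Subgroup.map_comap_eq_self_of_surjective (QuotientGroup.mk'_surjective Q) T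
  have hEcode : ∀ y ∈ E, y ∈ D.Lbar → ∃ p, ∀ x, D.qact y x = es (pr p) x := by
    rintro y hy ⟨h, hh, rfl⟩
    obtain ⟨h1, h2⟩ := hmove h hy
    obtain ⟨p, hp⟩ := D.pin hc hh h1 h2
    exact ⟨p, fun x => (D.qact_mk h x).trans (hp x)⟩
  refine ⟨P, fun q hq => (hPT q).2 (by rw [(QuotientGroup.eq_one_iff _).2 hq]; exact T.one_mem),
    fun h hh hL => ?_, fun p => ?_, fun t => ⟨m t, (hPT _).2 ⟨1, E.one_mem, t, (one_mul _).symm⟩, hmL t, hmc t⟩,
    ?_, ?_⟩
  · obtain ⟨e, he, t, het⟩ := (hPT h).1 hh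
    have heL : e ∈ D.Lbar := by
      rw [show e = (h : _ ⧸ Q) * (m t : _ ⧸ Q)⁻¹ by rw [het]; group]
      exact D.Lbar.mul_mem (D.mk_mem_Lbar.2 hL) (D.Lbar.inv_mem (D.mk_mem_Lbar.2 (hmL t)))
    obtain ⟨p, hp⟩ := hEcode e he heL
    exact ⟨(p, t), fun x => by rw [← D.qact_mk, het, D.qact_mul, hp, D.qact_mk, hmc]; rfl⟩
  · obtain ⟨h, hh, hL, hp⟩ := hsh p
    exact ⟨h, (hPT h).2 ⟨_, hh, 0, by rw [hm0, mul_one]⟩, hL, hp⟩
  · rintro ⟨p, t⟩ ⟨p', t'⟩ h
    obtain ⟨a, ha, -, ha'⟩ := hsh p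
    obtain ⟨a', hb, -, hb'⟩ := hsh p'
    obtain ⟨h1, h2⟩ := huniq _ ha _ hb t t' (D.qact_ext fun x => by
      rw [D.qact_mul, D.qact_mul, D.qact_mk, D.qact_mk, D.qact_mk, D.qact_mk, hmc, hmc, ha', hb']
      exact h x)
    refine Prod.ext ?_ h1
    have key : ∀ x, es (pr p) x = es (pr p') x := fun x => by
      rw [← ha', ← hb', ← D.qact_mk, ← D.qact_mk, h2]
    exact (show ∀ p p' : Fin 16, (∀ i, es (pr p) (e6 i) = es (pr p') (e6 i)) → p = p' by decide +kernel) p p'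
      fun i => key _
  · intro B hBP hBL hB
    rw [hmap] at hBP
    have hex : ∀ y : ↥B, ∃ t, ∃ e ∈ E, (y : _ ⧸ Q) = e * (m t : _ ⧸ Q) := fun y => by
      obtain ⟨e, he, t, h⟩ := hBP y.2
      exact ⟨t, e, he, h⟩
    choose τ ε hε hτ using hex
    have τmul : ∀ a b : ↥B, dp (τ a) * dp (τ b) = dp (τ (a * b)) := fun a b => by
      obtain ⟨c, hc'⟩ := dp_mul (τ a) (τ b)
      have e : (((a * b : ↥B)) : _ ⧸ Q) = ε a * ((m (τ a) : _ ⧸ Q) * ε b * (m (τ a) : _ ⧸ Q)⁻¹) * (m c : _ ⧸ Q) := by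
        rw [Subgroup.coe_mul, hτ a, hτ b, ← hmmul _ _ c hc']
        group
      rw [hc', (huniq _ (hε _) _ (E.mul_mem (hε a) (hnorm _ (hmfix _) _ (hε b))) _ _ ((hτ _).symm.trans e)).1]
    have hcomm : ∀ a b : ↥B, a * b = b * a := fun a b => hB.1.is_comm.comm a b
    have hsq : ∀ a : ↥B, a * a = 1 := fun a => Subtype.ext (by
      have := hB.2 _ a.2
      rw [sq] at this
      exact this)
    have τ1 : τ 1 = 0 := (huniq _ (hε 1) 1 E.one_mem _ 0 (by rw [← hτ 1, hm0, mul_one]; rfl)).1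
    haveI := Fintype.ofFinite ↥B
    set sI : Finset (Fin 8) := univ.image τ
    have h0s : insert 0 sI = sI := insert_eq_of_mem (mem_image.2 ⟨1, mem_univ _, τ1⟩)
    have hinv : ∀ a ∈ sI, dp a * dp a = 1 ∧ ∀ b ∈ sI, dp a * dp b = dp b * dp a := by
      simp only [sI, mem_image, mem_univ, true_and]
      rintro _ ⟨a, rfl⟩
      refine ⟨by rw [τmul, hsq, τ1, dp_zero.1], ?_⟩
      rintro _ ⟨b, rfl⟩
      rw [τmul, τmul, hcomm]
    obtain ⟨hb1, hb2⟩ := proj_bound sI hinv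
    have hb3 := proj_small sI hinv
    rw [h0s] at hb1 hb2 hb3
    set F := univ.filter fun p => ∀ t ∈ sI, p ∈ fixp t
    have hdiv : ∀ a b : ↥B, τ a = τ b → ((a * b : ↥B) : _ ⧸ Q) ∈ E := fun a b e => by
      have h : τ (a * b) = 0 := dp_eq _ _ (by
        rw [← τmul, e, (hinv _ (mem_image.2 ⟨b, mem_univ _, rfl⟩)).1, dp_zero.1])
      rw [hτ, h, hm0, mul_one]
      exact hε _
    let r : Fin 8 → ↥B := fun t => if h : ∃ b, τ b = t then h.choose else 1
    have hr : ∀ a, τ (r (τ a)) = τ a := fun a => by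
      have hh : ∃ b, τ b = τ a := ⟨a, rfl⟩
      simp only [r, dif_pos hh]
      exact hh.choose_spec
    choose π hπ using fun a : ↥B => hEcode _ (hdiv a (r (τ a)) (hr a).symm) (hBL (a * r (τ a)).2)
    have hmem : ∀ a, π a ∈ F := by
      intro a
      refine mem_filter.2 ⟨mem_univ _, fun t ht => mem_filter.2 ⟨mem_univ _, fun i => ?_⟩⟩
      obtain ⟨b, -, rfl⟩ := mem_image.1 ht
      set k : ↥B := a * r (τ a)
      have hk : (k : _ ⧸ Q) ∈ E := hdiv a (r (τ a)) (hr a).symm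
      have h1 := congrArg Subtype.val (hcomm b k)
      simp only [Subgroup.coe_mul, hτ b] at h1
      have h2 : ε b * (k : _ ⧸ Q) = (k : _ ⧸ Q) * ε b := congrArg Subtype.val (hEab.1.is_comm.comm (⟨_, hε b⟩ : ↥E) ⟨_, hk⟩)
      have h3 : (m (τ b) : _ ⧸ Q) * (k : _ ⧸ Q) = (k : _ ⧸ Q) * (m (τ b) : _ ⧸ Q) := by
        refine mul_left_cancel (a := ε b) ?_
        rw [← mul_assoc, h1, ← mul_assoc, ← mul_assoc, h2]
      have h4 := congrArg (fun y => D.qact y (e6 i)) h3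
      simp only [D.qact_mul, D.qact_mk, hmc] at h4
      rwa [hπ, hπ] at h4
    let Φ : ↥B → ↥(F ×ˢ sI) := fun a => ⟨(π a, τ a), mem_product.2 ⟨hmem a, mem_image.2 ⟨a, mem_univ _, rfl⟩⟩⟩
    have hΦ : Function.Injective Φ := fun a b h => by
      obtain ⟨h1, h2⟩ := Prod.mk.injEq _ _ _ _ ▸ congrArg Subtype.val h
      have : a * r (τ a) = b * r (τ b) := Subtype.ext (D.qact_ext fun x => by rw [hπ, hπ, h1])
      rw [h2] at this
      exact mul_right_cancel this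
    have hle : Nat.card ↥B ≤ F.card * sI.card := by
      rw [← card_product, ← Nat.card_eq_finsetCard (F ×ˢ sI)]
      exact Nat.card_le_card_of_injective Φ hΦ
    refine ⟨hle.trans hb1, fun h5 => ?_, fun h16 => ?_⟩
    · -- two elements with one image
      obtain ⟨a, b, hab, e⟩ : ∃ a b : ↥B, a ≠ b ∧ τ a = τ b := by
        by_contra h
        push Not at h
        have hi : Function.Injective τ := fun a b e => by
          by_contra hne
          exact h a b hne e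
        have h1 : Fintype.card ↥B ≤ 4 := by
          rw [← card_univ, ← card_image_of_injective _ hi]
          exact hb3
        rw [← Nat.card_eq_fintype_card] at h1
        omega
      obtain ⟨p, hp⟩ := hEcode _ (hdiv a b e) (hBL (a * b).2)
      refine ⟨p, fun hp0 => hab ?_, _, (a * b).2, hp⟩
      subst hp0
      have h1 : a * b = 1 := Subtype.ext (D.qact_ext fun x => by
        rw [hp, es_zero]; exact (D.qact_one x).symm)
      calc a = a * (b * b) := by rw [hsq, mul_one]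
        _ = b := by rw [← mul_assoc, h1, one_mul]
    · have heq : F.card * sI.card = 16 := le_antisymm hb1 (h16.symm.le.trans hle)
      have hcard : Nat.card ↥B = Nat.card ↥(F ×ˢ sI) := by
        rw [h16, Nat.card_eq_finsetCard, card_product, heq]
      have hsurj := ((Nat.bijective_iff_injective_and_card Φ).2 ⟨hΦ, hcard⟩).2
      obtain ⟨hF1, hF10⟩ := hb2 heq (π 1) (hmem 1)
      have get : ∀ p ∈ F, ∃ y ∈ B, ∀ x, D.qact y x = es (pr p) x := by
        intro p hp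
        obtain ⟨a, ha⟩ := hsurj ⟨(p, 0), mem_product.2 ⟨hp, mem_image.2 ⟨1, mem_univ _, τ1⟩⟩⟩
        exact ⟨_, (a * r (τ a)).2, fun x => by
          rw [hπ, show π a = p from congrArg (fun u : ↥(F ×ˢ sI) => u.1.1) ha]⟩
      exact ⟨get 1 hF1, get 10 hF10⟩

end Data
end Cfsg.Agent.LargeFischer
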