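import Cfsg.Agent.LargeFischer.Ubar

/-! The centraliser of a subgroup of order three covering the normal one. -/

set_option autoImplicit false
set_option maxRecDepth 20000
set_option Elab.async false

open Finset Cfsg Cfsg.Agent
open scoped commutatorElement

namespace Cfsg.Agent.LargeFischer
namespace Data

variable {G : Type*} [Group G] [Finite G] {z : G}
  {Q : Subgroup (Subgroup.centralizer ({z} : Set G))} [Q.Normal] (D : Data z Q)
include D

theorem cact_Q {q : Subgroup.centralizer ({z} : Set G)} (hq : q ∈ Q) (c : Vec6) : cact D.F q c = c :=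
  cact_eq D.F (by rw [show actV Q q = 1 from MonoidHom.mem_ker.1 (by rw [actV_ker D.b]; exact hq)]; rfl)

theorem mem_Q_of_act {h : Subgroup.centralizer ({z} : Set G)} (hh : ∀ c, cact D.F h c = c) : h ∈ Q := by
  refine (actV_ker D.b).le (MonoidHom.mem_ker.2 (MulEquiv.ext fun x => ?_))
  obtain ⟨c, rfl⟩ := D.F.bij.2 x
  rw [← co_cact, hh]
  rfl

theorem act_congr {a b : Subgroup.centralizer ({z} : Set G)} (h : (a : _ ⧸ Q) = (b : _ ⧸ Q)) (c : Vec6) :
    cact D.F a c = cact D.F b c := by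
  rw [show b = a * (a⁻¹ * b) by group, cact_mul, D.cact_Q (QuotientGroup.eq.1 h)]

theorem sq_mem_Lin (a : Subgroup.centralizer ({z} : Set G)) : a * a ∈ D.Lin := by
  by_cases h : a ∈ D.Lin
  · exact D.Lin.mul_mem h h
  · exact D.mul_Lin h h

/-- what generates a normal subgroup of order three of the quotient acts as a scalar -/
theorem scalar_of_conj {y : Subgroup.centralizer ({z} : Set G)} (hy3 : y * y * y ∈ Q)
    (hy : ∀ h : Subgroup.centralizer ({z} : Set G), (∀ c, cact D.F (h * y * h⁻¹) c = cact D.F y c) ∨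
      ∀ c, cact D.F (h * y * h⁻¹) c = cact D.F y (cact D.F y c)) :
    ∃ k, ∀ c, cact D.F y c = sm k c := by
  have hsq : ∀ h : Subgroup.centralizer ({z} : Set G), ∀ c,
      cact D.F y (cact D.F (h * h) c) = cact D.F (h * h) (cact D.F y c) := by
    intro h c
    have hcomm : ∀ c, cact D.F (h * h * y * (h * h)⁻¹) c = cact D.F y c := by
      intro c
      rw [show h * h * y * (h * h)⁻¹ = h * (h * y * h⁻¹) * h⁻¹ by group, cact_mul, cact_mul]
      rcases hy h with e | e
      · rw [e, ← cact_mul, ← cact_mul, e]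
      · rw [e, ← cact_mul D.F y y, ← cact_mul, ← cact_mul,
          show h * (y * y) * h⁻¹ = (h * y * h⁻¹) * (h * y * h⁻¹) by group, cact_mul, e, e, ← cact_mul D.F y y,
          ← cact_mul D.F (y * y) y, D.cact_Q hy3]
    have h2 := hcomm (cact D.F (h * h) c)
    rw [← cact_mul, show h * h * y * (h * h)⁻¹ * (h * h) = h * h * y by group, cact_mul] at h2
    exact h2.symm
  let f : Vec6 →+ Vec6 := AddMonoidHom.mk' (cact D.F y) (cact_add D.F y)
  refine scalar_of_commute f (cact_inj D.F y) (fun d hd c => ?_) fun i => ?_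
  · obtain ⟨m, -, hm⟩ := D.F.diag (fun i => d i + d i) (by rw [sum_add_distrib, hd, add_zero])
    have e : ∀ c, cact D.F (m * m) c = dg d c := fun c => by
      rw [cact_mul, cact_eq D.F (hm c), cact_eq D.F (hm _)]
      funext i
      simp only [dg, omk_facts.2.2.1]
      congr 1
      exact (show ∀ a : ZMod 3, a + a + (a + a) = a by decide) _
    show cact D.F y (dg d c) = dg d (cact D.F y c)
    rw [← e, hsq, e]
  · obtain ⟨π, hπ0, hπs, hπ4⟩ : ∃ π : Equiv.Perm (Fin 6),
        π 0 = i ∧ Equiv.Perm.sign π = 1 ∧ π * π * (π * π) = π := by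
      revert i; decide +kernel
    obtain ⟨m, -, hm⟩ := D.F.perm (π * π) (by rw [map_mul, hπs, mul_one])
    have e : ∀ c, cact D.F (m * m) c = pm π c := fun c => by
      rw [cact_mul, cact_eq D.F (hm c), cact_eq D.F (hm _), ← pm_pm, hπ4]
    refine ⟨π, hπ0, fun c => ?_⟩
    show cact D.F y (pm π c) = pm π (cact D.F y c)
    rw [← e, hsq, e]

theorem exists_gen {X : Subgroup (Subgroup.centralizer ({z} : Set G))} (hX : Nat.card X = 3)
    (hXQ : (X ⊔ Q).Normal) :
    ∃ x : Subgroup.centralizer ({z} : Set G), x * x * x = 1 ∧ X = Subgroup.zpowers x ∧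
      ∀ c, cact D.F x c = sm 1 c := by
  have hX3 : ∀ a ∈ X, a * a * a = 1 := fun a ha => by
    have := pow_card_eq_one' (G := ↥X) (x := ⟨a, ha⟩)
    rw [hX] at this
    have := congrArg Subtype.val this
    simpa [pow_succ] using this
  obtain ⟨a, ha, ha1⟩ : ∃ a ∈ X, a ≠ 1 := by
    by_contra h
    push Not at h
    rw [show X = ⊥ from (Subgroup.eq_bot_iff_forall _).2 h, Subgroup.card_bot] at hX
    omega
  have hgen : ∀ b ∈ X, b ≠ 1 → X = Subgroup.zpowers b := fun b hb hb1 => by
    refine (Subgroup.eq_of_le_of_card_ge (Subgroup.zpowers_le.2 hb) ?_).symm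
    rw [hX, Nat.card_zpowers, orderOf_eq_prime (p := 3) (by rw [pow_succ, sq]; exact hX3 b hb) hb1]
  have hmem : ∀ b ∈ X, b = 1 ∨ b = a ∨ b = a * a := fun b hb => by
    rw [hgen a ha ha1, ← (isOfFinOrder_of_finite a).mem_powers_iff_mem_zpowers, Submonoid.mem_powers_iff] at hb
    obtain ⟨n, rfl⟩ := hb
    rw [pow_eq_pow_mod n (show a ^ 3 = 1 by rw [pow_succ, sq]; exact hX3 a ha)]
    have : n % 3 < 3 := Nat.mod_lt _ (by norm_num)
    interval_cases n % 3 <;> simp [sq]
  have haQ : a ∉ Q := fun h => by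
    obtain ⟨j, hj⟩ := D.b.es.1.1 ⟨a, h⟩
    have h3 : orderOf a = 3 := orderOf_eq_prime (by rw [pow_succ, sq]; exact hX3 a ha) ha1
    have hd : orderOf a ∣ 2 ^ j := orderOf_dvd_of_pow_eq_one (by simpa using congrArg Subtype.val hj)
    rw [h3] at hd
    exact absurd (Nat.Prime.dvd_of_dvd_pow Nat.prime_three hd) (by norm_num)
  obtain ⟨k, hk⟩ := D.scalar_of_conj (y := a) (by rw [hX3 a ha]; exact Q.one_mem) (fun h => by
    obtain ⟨y, hy, q, hq, e⟩ := Subgroup.mem_sup_of_normal_right.1
      (hXQ.conj_mem a (le_sup_left (b := Q) ha) h)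
    rcases hmem y hy with rfl | rfl | rfl
    · exfalso
      refine haQ ?_
      rw [one_mul] at e
      rw [show a = h⁻¹ * q * h⁻¹⁻¹ by rw [e]; group]
      exact (inferInstance : Q.Normal).conj_mem q hq h⁻¹
    · exact Or.inl fun c => by rw [← e, cact_mul, D.cact_Q hq]
    · exact Or.inr fun c => by rw [← e, cact_mul, cact_mul, D.cact_Q hq])
  rcases (show ∀ k : ZMod 3, k = 0 ∨ k = 1 ∨ k = 2 by decide) k with rfl | rfl | rfl
  · exact absurd (D.mem_Q_of_act fun c => (hk c).trans (sm_zero c)) haQ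
  · exact ⟨a, hX3 a ha, hgen a ha ha1, hk⟩
  · refine ⟨a * a, hX3 _ (X.mul_mem ha ha), hgen _ (X.mul_mem ha ha) (fun e => ha1 ?_), fun c => ?_⟩
    · have := hX3 a ha
      rwa [e, one_mul] at this
    · rw [cact_mul, hk, hk, sm_sm]
      rfl

section
variable {x : Subgroup.centralizer ({z} : Set G)} (hx3 : x * x * x = 1) (hx : ∀ c, cact D.F x c = sm 1 c)

omit D in
theorem mem_cent_gen {c : Subgroup.centralizer ({z} : Set G)} :
    c ∈ Subgroup.centralizer ((Subgroup.zpowers x : Subgroup _) : Set (Subgroup.centralizer ({z} : Set G))) ↔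
      c * x = x * c := by
  rw [Subgroup.mem_centralizer_iff]
  constructor
  · exact fun h => (h x (Subgroup.mem_zpowers x)).symm
  · intro h y hy
    obtain ⟨i, rfl⟩ := Subgroup.mem_zpowers_iff.1 hy
    exact ((show Commute c x from h).zpow_right i).eq.symm

include hx in
theorem comm_Lin {c : Subgroup.centralizer ({z} : Set G)} (hc : c * x = x * c) : c ∈ D.Lin := fun a => by
  rw [← hx, ← cact_mul, hc, cact_mul, hx]

include hx in
theorem comm_Q {q : Q} (hc : (q : Subgroup.centralizer ({z} : Set G)) * x = x * q) :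
    q = 1 ∨ (q : Subgroup.centralizer ({z} : Set G)) = zc z := by
  obtain ⟨a, ha⟩ := D.F.bij.2 (q : ↥Q ⧸ Subgroup.center ↥Q)
  have h1 : MulAut.conjNormal x q = q := Subtype.ext (by
    rw [MulAut.conjNormal_apply]; exact mul_inv_eq_iff_eq_mul.2 hc.symm)
  have h2 : sm 1 a = a := by
    rw [← hx]; exact cact_eq D.F (by rw [ha, actV_mk, h1])
  have : a = 0 := by
    by_contra h0
    exact sm_ne h0 h2
  refine (center_iff D.b).1 ((QuotientGroup.eq_one_iff _).1 ?_)
  rw [← ha, this, co_zero D.b D.F]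

theorem zc_comm (c : Subgroup.centralizer ({z} : Set G)) : c * zc z = zc z * c :=
  Subtype.ext (Subgroup.mem_centralizer_singleton_iff.1 c.2)

include hx hx3 in
theorem lift_comm {h : Subgroup.centralizer ({z} : Set G)} (hh : h ∈ D.Lin) :
    ∃ q : Q, ((q : Subgroup.centralizer ({z} : Set G)) * h) * x = x * ((q : Subgroup.centralizer ({z} : Set G)) * h) := by
  have hr : h * x * h⁻¹ * x⁻¹ ∈ Q := D.mem_Q_of_act fun c => by
    have hxi : ∀ c, cact D.F x⁻¹ c = sm 2 c := fun c => by
      refine cact_inj D.F x ?_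
      rw [← cact_mul, mul_inv_cancel, cact_one, hx, sm_sm, show (1 : ZMod 3) + 2 = 0 from rfl, sm_zero]
    rw [cact_mul, cact_mul, cact_mul, hxi, hx, ← D.mem_Lin.1 (D.Lin.inv_mem hh), ← cact_mul,
      mul_inv_cancel, cact_one, sm_sm, show (1 : ZMod 3) + 2 = 0 from rfl, sm_zero]
  obtain ⟨b, hb⟩ := D.F.bij.2 ((⟨_, hr⟩ : Q) : ↥Q ⧸ Subgroup.center ↥Q)
  set q := lift D.F (sm 1 b) with hq
  set r' : Q := q * (MulAut.conjNormal x q)⁻¹ with hr'
  have e1 : (r' : ↥Q ⧸ Subgroup.center ↥Q) = D.F.co b := by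
    have h1 : ((MulAut.conjNormal x q : Q) : ↥Q ⧸ Subgroup.center ↥Q) = D.F.co (sm 2 b) := by
      rw [← actV_mk, mk_lift, ← co_cact, hx, sm_sm]; rfl
    have hinv : (D.F.co (sm 2 b))⁻¹ = D.F.co (sm 2 b) := inv_eq_of_mul_eq_one_right (by
      rw [← D.F.map_add, show sm 2 b + sm 2 b = 0 from funext fun i => (show ∀ p : W4, p + p = 0 by decide) _,
        co_zero D.b D.F])
    rw [hr', QuotientGroup.mk_mul, QuotientGroup.mk_inv, h1, hq, mk_lift, hinv, ← D.F.map_add]
    congr 1
    funext i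
    exact (show ∀ p : W4, omk 1 p + omk 2 p = p by decide) _
  obtain ⟨u, hu, hru⟩ : ∃ u ∈ Subgroup.center ↥Q, (⟨_, hr⟩ : Q) = r' * u :=
    ⟨r'⁻¹ * ⟨_, hr⟩, QuotientGroup.eq.1 (e1.trans hb), by group⟩
  set qx := (q : Subgroup.centralizer ({z} : Set G)) * x * (q : Subgroup.centralizer ({z} : Set G))⁻¹ with hqx
  have hr'x : (r' : Subgroup.centralizer ({z} : Set G)) * x = qx := by
    simp only [hr', Subgroup.coe_mul, Subgroup.coe_inv, MulAut.conjNormal_apply, hqx]
    group
  have hconj : h * x * h⁻¹ = (u : Subgroup.centralizer ({z} : Set G)) * qx := by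
    have h1 := congrArg Subtype.val hru
    simp only [Subgroup.coe_mul] at h1
    have hcen : (r' : Subgroup.centralizer ({z} : Set G)) * (u : Subgroup.centralizer ({z} : Set G)) =
        (u : Subgroup.centralizer ({z} : Set G)) * r' := congrArg Subtype.val (Subgroup.mem_center_iff.1 hu r')
    rw [← hr'x, ← mul_assoc, ← hcen, ← h1]
    group
  have hu1 : u = 1 := by
    rcases (center_iff D.b).1 hu with e | e
    · exact e
    exfalso
    rw [e] at hconj
    have hc := D.zc_comm qx
    have h3 : (h * x * h⁻¹) * (h * x * h⁻¹) * (h * x * h⁻¹) = 1 := by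
      rw [show h * x * h⁻¹ * (h * x * h⁻¹) * (h * x * h⁻¹) = h * (x * x * x) * h⁻¹ by group, hx3]; group
    have h4 : qx * qx * qx = 1 := by
      rw [hqx]
      calc _ = (q : Subgroup.centralizer ({z} : Set G)) * (x * x * x) * (q : Subgroup.centralizer ({z} : Set G))⁻¹ := by group
        _ = 1 := by rw [hx3]; group
    rw [hconj] at h3
    refine zc_ne_one D.b ?_
    calc zc z = zc z * zc z * zc z * (qx * qx * qx) := by rw [zc_sq D.b, one_mul, h4, mul_one]
      _ = zc z * qx * (zc z * qx) * (zc z * qx) := by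
        have hC : Commute (zc z) qx := hc.symm
        simp only [mul_assoc]
        congr 1
        rw [← mul_assoc qx (zc z), ← hC.eq, mul_assoc (zc z) qx]
        congr 1
        rw [← mul_assoc qx qx (zc z * qx)] at *
        simp only [← mul_assoc]
        rw [show qx * qx * zc z = zc z * qx * qx by
          rw [mul_assoc, ← hC.eq, ← mul_assoc, ← hC.eq]]
      _ = 1 := h3
  rw [hu1, OneMemClass.coe_one, one_mul] at hconj
  refine ⟨q⁻¹, ?_⟩
  rw [Subgroup.coe_inv]
  have : h * x = qx * h := mul_inv_eq_iff_eq_mul.1 hconj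
  calc (q : Subgroup.centralizer ({z} : Set G))⁻¹ * h * x
      = (q : Subgroup.centralizer ({z} : Set G))⁻¹ * (qx * h) := by rw [mul_assoc, this]
    _ = x * ((q : Subgroup.centralizer ({z} : Set G))⁻¹ * h) := by rw [hqx]; group

end

end Data
end Cfsg.Agent.LargeFischer
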