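import Cfsg.Agent.LargeFischer.ThreeCore
import Cfsg.Agent.LargeFischer.StabAIso

/-! The central involution is a commutator in the centraliser of the group of order three. -/

set_option autoImplicit false
set_option maxRecDepth 20000
set_option Elab.async false

open Finset Cfsg Cfsg.Agent
open scoped commutatorElement

namespace Cfsg.Agent.LargeFischer

theorem tw_mul (k : Fin 5) (π τ : Equiv.Perm (Fin 6)) (u : Vec6) : tw k (π * τ) u = tw k π (tw k τ u) := by
  funext i
  simp only [tw, dg, pm, mul_inv_rev, Equiv.Perm.mul_apply, omk_facts.2.2.1]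
  congr 1
  ring

theorem sm_cancel {i : ZMod 3} {v : Vec6} (hv : v ≠ 0) (h : sm i v = v) : i = 0 := by
  rcases (show ∀ i : ZMod 3, i = 0 ∨ i = 1 ∨ i = 1 + 1 by decide) i with rfl | rfl | rfl
  · rfl
  · exact absurd h (sm_ne hv)
  · exfalso
    refine sm_ne hv ?_
    have e := congrArg (sm 1) h
    rw [sm_sm, show (1 : ZMod 3) + (1 + 1) = 0 from rfl, sm_zero] at e
    exact e.symm

theorem vec_add_self (u : Vec6) : u + u = 0 := funext fun _ => (show ∀ p : W4, p + p = 0 by decide) _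

namespace Data

variable {G : Type*} [Group G] [Finite G] {z : G}
  {Q : Subgroup (Subgroup.centralizer ({z} : Set G))} [Q.Normal] (D : Data z Q)
include D

theorem zc_derived (hF : IsOfLargeFischerTypeAt z Q) {x : Subgroup.centralizer ({z} : Set G)}
    (hx3 : x * x * x = 1) (hx : ∀ c, cact D.F x c = sm 1 c)
    (C : Subgroup (Subgroup.centralizer ({z} : Set G))) (hC : ∀ c, c ∈ C ↔ c * x = x * c) :
    zc z ∈ ⁅C, C⁆ := by
  classical
  have S := D.setting
  have hz2 : z * z = 1 := S.sq_one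
  have hzz : z⁻¹ = z := inv_eq_of_mul_eq_one_right hz2
  obtain ⟨k, hk⟩ := exists_brep D.c
  obtain ⟨hv, hvp, hvA⟩ := D.brep_props hk
  set v := srep k with hvdef
  -- the three conjugates
  obtain ⟨sQ, hsmk, hprod⟩ : ∃ sQ : Q, (sQ : ↥Q ⧸ Subgroup.center ↥Q) = D.F.co v ∧
      sQ * MulAut.conjNormal x sQ * MulAut.conjNormal (x * x) sQ = 1 := by
    set s0 := lift D.F v
    set w := s0 * MulAut.conjNormal x s0 * MulAut.conjNormal (x * x) s0 with hw
    have hw0 : (w : ↥Q ⧸ Subgroup.center ↥Q) = 1 := by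
      rw [hw, QuotientGroup.mk_mul, QuotientGroup.mk_mul, ← actV_mk, ← actV_mk, mk_lift, ← co_cact, ← co_cact,
        cact_mul, hx, hx, sm_sm, ← D.F.map_add, ← D.F.map_add, show (1 : ZMod 3) + 1 = 2 from rfl, sm_sum,
        co_zero D.b D.F]
    rcases (center_iff D.b).1 ((QuotientGroup.eq_one_iff _).1 hw0) with e | e
    · exact ⟨s0, mk_lift D.F v, e⟩
    refine ⟨s0 * ⟨zc z, zc_mem D.b⟩, ?_, ?_⟩
    · rw [QuotientGroup.mk_mul, mk_lift,
        (QuotientGroup.eq_one_iff _).2 ((center_iff D.b).2 (Or.inr rfl)), mul_one]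
    · set ζ : Q := ⟨zc z, zc_mem D.b⟩ with hζ
      have hfix : ∀ h : Subgroup.centralizer ({z} : Set G), MulAut.conjNormal h ζ = ζ := fun h => Subtype.ext (by
        rw [MulAut.conjNormal_apply]
        exact mul_inv_eq_iff_eq_mul.2 (D.zc_comm h))
      have hcen : ∀ q : Q, q * ζ = ζ * q := fun q => Subtype.ext (D.zc_comm _)
      have hζ2 : ζ * ζ = 1 := Subtype.ext (zc_sq D.b)
      rw [map_mul, map_mul, hfix, hfix]
      have hwζ : w = ζ := Subtype.ext e
      calc s0 * ζ * (MulAut.conjNormal x s0 * ζ) * (MulAut.conjNormal (x * x) s0 * ζ)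
          = w * (ζ * ζ * ζ) := by
            rw [hw]
            have hc1 : Commute ζ (MulAut.conjNormal x s0) := (hcen _).symm
            have hc2 : Commute ζ (MulAut.conjNormal (x * x) s0) := (hcen _).symm
            rw [(hc1.mul_mul_mul_comm s0 ζ), (((hc2.mul_left hc2)).mul_mul_mul_comm _ ζ)]
        _ = 1 := by rw [hwζ, hζ2, one_mul, hζ2]
  set s : G := ((sQ : Subgroup.centralizer ({z} : Set G)) : G) with hs
  have hsc : s ∈ Subgroup.centralizer ({z} : Set G) := sQ.1.2
  have hsQ : (⟨s, hsc⟩ : Subgroup.centralizer ({z} : Set G)) ∈ Q := sQ.2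
  set s2 : G := (x : G) * s * (x : G)⁻¹ with hs2
  set s3 : G := (x : G) * s2 * (x : G)⁻¹ with hs3
  have hx3' : (x : G) * x * x = 1 := congrArg Subtype.val hx3
  have hxs3 : (x : G) * s3 * (x : G)⁻¹ = s := by
    rw [hs3, hs2, show (x : G) * ((x : G) * ((x : G) * s * (x : G)⁻¹) * (x : G)⁻¹) * (x : G)⁻¹ =
      ((x : G) * x * x) * s * ((x : G) * x * x)⁻¹ by group, hx3']
    group
  have hsprod : s * s2 * s3 = 1 := by
    have e := congrArg (fun q : Q => ((q : Subgroup.centralizer ({z} : Set G)) : G)) hprod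
    simp only [Subgroup.coe_mul, Subgroup.coe_inv, MulAut.conjNormal_apply, OneMemClass.coe_one, mul_inv_rev] at e
    rw [hs3, hs2, hs]
    rw [← e]
    group
  have hsmk' : ((⟨⟨s, hsc⟩, hsQ⟩ : Q) : ↥Q ⧸ Subgroup.center ↥Q) = D.F.co v := hsmk
  have hs1 : s ≠ z := fun e => D.notMem_center hsmk hv ((center_iff D.b).2 (Or.inr (Subtype.ext e)))
  have hs2' : s * s = 1 := congrArg (fun q : Q => ((q : Subgroup.centralizer ({z} : Set G)) : G))
    ((sq_iff D.b D.F hsmk).2 hvp)
  obtain ⟨g0, hg0'⟩ := isConj_iff.1 (D.conj_of_not_inA hF hsmk hv hvp hvA)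
  have hg0 : g0 * z * g0⁻¹ = s := hg0'
  obtain ⟨hUc, himg, hUcls⟩ := D.img_eq hk hsc hsQ hsmk' hg0
  -- the second one lies in the conjugate
  have hs2Q : ((MulAut.conjNormal x sQ : Q) : Subgroup.centralizer ({z} : Set G)).1 = s2 := by
    rw [MulAut.conjNormal_apply]; rfl
  have hs2mk : ((MulAut.conjNormal x sQ : Q) : ↥Q ⧸ Subgroup.center ↥Q) = D.F.co (sm 1 v) := by
    rw [← actV_mk, hsmk, ← co_cact, hx]
  have hxP : g0 * z * g0⁻¹ ∈ LargeExtra.oc z := D.mem_oc_iff.2 ⟨sQ, hg0.symm⟩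
  have hzs : z ∈ LargeExtra.oc s := by
    have := S.symm hxP
    rwa [hg0] at this
  have hs2s : s2 ∈ LargeExtra.oc s := by
    obtain ⟨t, ht, htc⟩ := (himg (sm 1 v)).2 (u6_mult D.c k hk 1)
    rcases (center_iff D.b).1 (QuotientGroup.eq.1 (htc.trans hs2mk.symm)) with e | e
    · have h : t = MulAut.conjNormal x sQ := inv_mul_eq_one.1 e
      rw [← hs2Q, ← h]
      exact ht
    · have h' := congrArg Subtype.val e
      simp only [Subgroup.coe_mul, Subgroup.coe_inv, zc] at h'
      rw [← hs2Q, inv_mul_eq_iff_eq_mul.1 h']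
      exact mul_mem ht hzs
  have hs2ne : s2 ≠ s := fun e => sm_ne hv (D.F.bij.1 (by
    rw [← hs2mk, ← hsmk]
    congr 1
    exact Subtype.ext (Subtype.ext (hs2Q.trans e))))
  -- the base change
  obtain ⟨g, hg, hgs⟩ : ∃ g : G, g * z * g⁻¹ = s ∧ g⁻¹ * s2 * g = s := by
    set s' := g0⁻¹ * s2 * g0 with hs'
    have hs'P : s' ∈ LargeExtra.oc z := by
      have h := LargeExtra.conj_mem_oc (g := g0⁻¹) hs2s
      rwa [inv_inv, show g0⁻¹ * s * g0 = z by rw [← hg0]; group] at h
    obtain ⟨q', hq'⟩ := D.mem_oc_iff.1 hs'P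
    have hs2sq : s2 * s2 = 1 := by rw [hs2, LargeExtra.conjm, hs2']; group
    have h2 : ((q' : Subgroup.centralizer ({z} : Set G)) : G) * q' = 1 := by
      rw [hq', hs']
      calc _ = g0⁻¹ * (s2 * s2) * g0 := by group
        _ = 1 := by rw [hs2sq]; group
    have hne1 : ((q' : Subgroup.centralizer ({z} : Set G)) : G) ≠ 1 := by
      rw [hq', hs']
      intro e
      have : s2 = 1 := by
        calc s2 = g0 * (g0⁻¹ * s2 * g0) * g0⁻¹ := by group
          _ = 1 := by rw [e]; group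
      refine hv (D.F.bij.1 ?_)
      rw [← hsmk, co_zero D.b D.F, show sQ = 1 from Subtype.ext (Subtype.ext (by
        show s = 1
        calc s = (x : G)⁻¹ * s2 * x := by rw [hs2]; group
          _ = 1 := by rw [this]; group))]
      rfl
    have hnez : ((q' : Subgroup.centralizer ({z} : Set G)) : G) ≠ z := by
      rw [hq', hs']
      intro e
      refine hs2ne ?_
      rw [← hg0]
      calc s2 = g0 * (g0⁻¹ * s2 * g0) * g0⁻¹ := by group
        _ = g0 * z * g0⁻¹ := by rw [e]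
    obtain ⟨u, hu, hup, humk⟩ := D.mem_class q'.2 h2 hne1 hnez
    have hconj : IsConj z ((q' : Subgroup.centralizer ({z} : Set G)) : G) := by
      rw [hq', hs', hs2]
      refine isConj_iff.2 ⟨g0⁻¹ * x * g0, ?_⟩
      rw [← hg0]
      group
    have hB := D.not_inA (x := q') humk hu hup hconj
    obtain ⟨h, hh⟩ := D.orbit_conj ((D.orb_iff v hv hvp u).2 ⟨hu, hup, iff_of_false hB hvA⟩) hu hsmk humk
    refine ⟨g0 * (h : G), ?_, ?_⟩
    · rw [← hg0]
      calc g0 * (h : G) * z * (g0 * (h : G))⁻¹ = g0 * ((h : G) * z * (h : G)⁻¹) * g0⁻¹ := by group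
        _ = g0 * z * g0⁻¹ := by rw [Subgroup.mem_centralizer_singleton_iff.1 h.2, mul_inv_cancel_right]
    · have e : (h : G) * s * (h : G)⁻¹ = s' := by rw [← hq']; exact congrArg Subtype.val hh
      rw [hs'] at e
      calc (g0 * (h : G))⁻¹ * s2 * (g0 * (h : G)) = (h : G)⁻¹ * (g0⁻¹ * s2 * g0) * h := by group
        _ = s := by rw [← e]; group
  have hgs' : g * s * g⁻¹ = s2 := by rw [← hgs]; group
  obtain ⟨hU, -, hEX, hconjE, hEab, hEc, hnE, ⟨eA⟩⟩ := D.stab_structure hg hsc hsQ hs1 _ _ rfl rfl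
  have hoc : (LargeExtra.oc z).map (MulAut.conj g).toMonoidHom = LargeExtra.oc s := by rw [oc_map_conj, hg]
  rw [hoc] at hU
  set U := LargeExtra.oc z ⊓ LargeExtra.oc s with hUdef
  set T := LargeExtra.oc s ⊓ LargeExtra.oc s2 with hTdef
  have hTU : ∀ t, g * t * g⁻¹ ∈ T ↔ t ∈ U := by
    intro t
    have e1 := oc_conj_iff g (x := z) (t := t)
    have e2 := oc_conj_iff g (x := s) (t := t)
    rw [hg] at e1
    rw [hgs'] at e2
    exact and_congr e1 e2
  have hTU' : ∀ t ∈ T, g⁻¹ * t * g ∈ U := fun t ht =>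
    (hTU _).1 (by rwa [show g * (g⁻¹ * t * g) * g⁻¹ = t by group])
  have hTcomm : ∀ a ∈ T, ∀ a' ∈ T, a * a' = a' * a := fun a ha a' ha' => by
    have e := congrArg Subtype.val (hU.1.is_comm.comm (⟨_, hTU' a ha⟩ : ↥U) ⟨_, hTU' a' ha'⟩)
    simp only [Subgroup.coe_mul] at e
    calc a * a' = g * (g⁻¹ * a * g * (g⁻¹ * a' * g)) * g⁻¹ := by group
      _ = g * (g⁻¹ * a' * g * (g⁻¹ * a * g)) * g⁻¹ := by rw [e]
      _ = a' * a := by group
  have hTsq : ∀ a ∈ T, a * a = 1 := fun a ha => by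
    have e := hU.2 _ (hTU' a ha)
    rw [sq] at e
    calc a * a = g * (g⁻¹ * a * g * (g⁻¹ * a * g)) * g⁻¹ := by group
      _ = 1 := by rw [e]; group
  have hzs2 : z ∈ LargeExtra.oc s2 := by
    have h := LargeExtra.conj_mem_oc (g := (x : G)) hzs
    rwa [show (x : G) * z * (x : G)⁻¹ = z from
      mul_inv_eq_iff_eq_mul.2 (Subgroup.mem_centralizer_singleton_iff.1 x.2)] at h
  have hzT : z ∈ T := ⟨hzs, hzs2⟩
  have hTH : ∀ t ∈ T, t ∈ Subgroup.centralizer ({z} : Set G) := fun t ht =>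
    Subgroup.mem_centralizer_singleton_iff.2 (hTcomm t ht z hzT)
  have hss : s ∈ LargeExtra.oc s := by rw [← hg]; exact LargeExtra.conj_mem_oc (LargeExtra.mem_oc_self S.ord)
  have hsP : s ∈ LargeExtra.oc z := D.mem_oc_iff.2 ⟨sQ, rfl⟩
  have hss2 : s ∈ LargeExtra.oc s2 := by
    have h := LargeExtra.conj_mem_oc (g := g) hzs
    rwa [hg, hgs'] at h
  have hs2T : s2 ∈ T := ⟨hs2s, by
    have h := LargeExtra.conj_mem_oc (g := g) hss
    rwa [hgs'] at h⟩
  have hsT : s ∈ T := ⟨hss, hss2⟩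
  have hs2sq : s2 * s2 = 1 := hTsq _ hs2T
  have hs3eq : s3 = s * s2 := by
    calc s3 = (s * s2) * (s * s2) * s3 := by rw [hTsq _ (mul_mem hsT hs2T), one_mul]
      _ = (s * s2) * (s * s2 * s3) := by group
      _ = s * s2 := by rw [hsprod, mul_one]
  -- shifting
  have hshift : ∀ t ∈ U, t ∈ LargeExtra.oc (z * s) := by
    intro t ht
    have hs1' : s ≠ 1 := fun e => hv (D.F.bij.1 (by
      rw [← hsmk, co_zero D.b D.F, show sQ = 1 from Subtype.ext (Subtype.ext e)]; rfl))
    obtain ⟨q, hq, hqs⟩ := S.exists_mover hsP hs1' hs1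
    have hzc : z * s = s * z := (S.comm_z hsP).eq.symm
    rw [hzc, ← hqs]
    have h : q⁻¹ * t * q ∈ LargeExtra.oc s := by
      rcases S.commutator_cases (inv_mem hq) ht.1 with e | e
      · rw [show q⁻¹ * t * q = q⁻¹ * t * q⁻¹⁻¹ * t⁻¹ * t by group, e, one_mul]; exact ht.2
      · rw [show q⁻¹ * t * q = q⁻¹ * t * q⁻¹⁻¹ * t⁻¹ * t by group, e]; exact mul_mem hzs ht.2
    have h2 := LargeExtra.conj_mem_oc (g := q) h
    rwa [show q * (q⁻¹ * t * q) * q⁻¹ = t by group] at h2
  have hT3 : ∀ t ∈ T, t ∈ LargeExtra.oc s3 := by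
    intro t ht
    have h := LargeExtra.conj_mem_oc (g := g) (hshift _ (hTU' t ht))
    rwa [show g * (g⁻¹ * t * g) * g⁻¹ = t by group,
      show g * (z * s) * g⁻¹ = (g * z * g⁻¹) * (g * s * g⁻¹) by group, hg, hgs', ← hs3eq] at h
  have hxT : ∀ t ∈ T, (x : G) * t * (x : G)⁻¹ ∈ T := fun t ht => by
    refine ⟨?_, LargeExtra.conj_mem_oc ht.1⟩
    have h := LargeExtra.conj_mem_oc (g := (x : G)) (hT3 t ht)
    rwa [hxs3] at h
  -- the part inside `Q`
  have hTQ : ∀ t : Q, ((t : Subgroup.centralizer ({z} : Set G)) : G) ∈ T →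
      ∃ r, (r = 1 ∨ r = s ∨ r = s2 ∨ r = s3) ∧
        (((t : Subgroup.centralizer ({z} : Set G)) : G) = r ∨ ((t : Subgroup.centralizer ({z} : Set G)) : G) = r * z) := by
    intro t ht
    obtain ⟨u, hu, htc⟩ := hUcls t ht.1
    have ht' : ((MulAut.conjNormal x⁻¹ t : Q) : Subgroup.centralizer ({z} : Set G)).1 ∈ LargeExtra.oc s := by
      rw [MulAut.conjNormal_apply]
      have h := LargeExtra.conj_mem_oc (g := (x : G)⁻¹) ht.2
      rw [show (x : G)⁻¹ * s2 * (x : G)⁻¹⁻¹ = s by rw [hs2]; group] at h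
      simpa using h
    obtain ⟨u', hu', htc'⟩ := hUcls _ ht'
    have hu'' : u' = sm 2 u := D.F.bij.1 (by
      rw [← htc', ← actV_mk, htc, ← co_cact]
      congr 1
      refine cact_inj D.F x ?_
      rw [← cact_mul, mul_inv_cancel, cact_one, hx, sm_sm, show (1 : ZMod 3) + 2 = 0 from rfl, sm_zero])
    obtain ⟨N, hN, rfl⟩ : ∃ N ∈ Finset.range 4096, vecN N = u := by
      have himg' : (Finset.range 4096).image vecN = univ := by
        refine eq_univ_of_card _ ?_
        rw [card_image_of_injOn vecN_inj]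
        simp
      have := himg'.ge (mem_univ u)
      rwa [mem_image] at this
    have fin : ∀ (r : Q), (r : ↥Q ⧸ Subgroup.center ↥Q) = (t : ↥Q ⧸ Subgroup.center ↥Q) →
        ((t : Subgroup.centralizer ({z} : Set G)) : G) = ((r : Subgroup.centralizer ({z} : Set G)) : G) ∨
        ((t : Subgroup.centralizer ({z} : Set G)) : G) = ((r : Subgroup.centralizer ({z} : Set G)) : G) * z := by
      intro r e
      rcases (center_iff D.b).1 (QuotientGroup.eq.1 e) with h | h
      · exact Or.inl (congrArg (fun q : Q => ((q : Subgroup.centralizer ({z} : Set G)) : G)) (inv_mul_eq_one.1 h).symm)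
      · have h' := congrArg Subtype.val h
        simp only [Subgroup.coe_mul, Subgroup.coe_inv, zc] at h'
        exact Or.inr (inv_mul_eq_iff_eq_mul.1 h')
    rcases u6_inter_range D.c k hk N hN 2 (by decide) hu (hu'' ▸ hu') with e | ⟨i, e⟩
    · exact ⟨1, Or.inl rfl, fin 1 (by rw [htc, e, co_zero D.b D.F, QuotientGroup.mk_one])⟩
    rcases (show ∀ i : ZMod 3, i = 0 ∨ i = 1 ∨ i = 2 by decide) i with rfl | rfl | rfl
    · exact ⟨s, Or.inr (Or.inl rfl), fin sQ (by rw [htc, e, sm_zero, hsmk])⟩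
    · refine ⟨s2, Or.inr (Or.inr (Or.inl rfl)), ?_⟩
      rw [← hs2Q]
      exact fin _ (by rw [htc, e, hs2mk])
    · refine ⟨s3, Or.inr (Or.inr (Or.inr rfl)), ?_⟩
      have h3 : ((MulAut.conjNormal x (MulAut.conjNormal x sQ) : Q) : Subgroup.centralizer ({z} : Set G)).1 = s3 := by
        rw [MulAut.conjNormal_apply, hs3, ← hs2Q]; rfl
      rw [← h3]
      refine fin _ ?_
      rw [htc, e, ← actV_mk, hs2mk, ← co_cact, hx, sm_sm]
      rfl
  -- decomposition
  have hdec : ∀ t ∈ T, ∃ r, (r = 1 ∨ r = s ∨ r = s2 ∨ r = s3) ∧ (x : G) * (r * t) = (r * t) * x := by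
    intro t ht
    set th : Subgroup.centralizer ({z} : Set G) := ⟨t, hTH t ht⟩ with hth
    have hq'T : (x : G) * t * (x : G)⁻¹ * t⁻¹ ∈ T := mul_mem (hxT t ht) (inv_mem ht)
    have hlin : th ∈ D.Lin := by
      by_contra hl
      have hti : ∀ c, cact D.F th⁻¹ (sm 1 c) = sm 2 (cact D.F th⁻¹ c) := fun c =>
        D.sm_two (fun e => hl (by simpa using D.Lin.inv_mem e)) c
      have hsq : (x * th * x⁻¹ * th⁻¹) * (x * th * x⁻¹ * th⁻¹) = 1 := Subtype.ext (hTsq _ hq'T)
      have hact : ∀ c, cact D.F (x * th * x⁻¹ * th⁻¹) c = sm 2 c := by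
        intro c
        refine cact_inj D.F (x * th * x⁻¹ * th⁻¹)⁻¹ ?_
        rw [← cact_mul, inv_mul_cancel, cact_one,
          show (x * th * x⁻¹ * th⁻¹)⁻¹ = th * x * th⁻¹ * x⁻¹ by group, cact_mul, cact_mul, cact_mul]
        have hxi : ∀ c, cact D.F x⁻¹ c = sm 2 c := fun c => by
          refine cact_inj D.F x ?_
          rw [← cact_mul, mul_inv_cancel, cact_one, hx, sm_sm, show (1 : ZMod 3) + 2 = 0 from rfl, sm_zero]
        rw [hxi, sm_sm, show (2 : ZMod 3) + 2 = 1 from rfl, hx, hti, sm_sm,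
          show (1 : ZMod 3) + 2 = 0 from rfl, sm_zero, ← cact_mul, mul_inv_cancel, cact_one]
      have h := hact (cact D.F (x * th * x⁻¹ * th⁻¹) v)
      rw [← cact_mul, hsq, cact_one, hact, sm_sm] at h
      exact absurd (sm_cancel hv h.symm) (by decide)
    have hq : x * th * x⁻¹ * th⁻¹ ∈ Q := D.mem_Q_of_act fun c => by
      have hxi : ∀ c, cact D.F x⁻¹ c = sm 2 c := fun c => by
        refine cact_inj D.F x ?_
        rw [← cact_mul, mul_inv_cancel, cact_one, hx, sm_sm, show (1 : ZMod 3) + 2 = 0 from rfl, sm_zero]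
      have hl2 : ∀ c, cact D.F th (sm 2 c) = sm 2 (cact D.F th c) := fun c => by
        rw [show sm 2 c = sm 1 (sm 1 c) from (sm_sm 1 1 c).symm, D.mem_Lin.1 hlin, D.mem_Lin.1 hlin, sm_sm]
        rfl
      rw [cact_mul, cact_mul, cact_mul, hxi, hl2, hx, sm_sm, show (1 : ZMod 3) + 2 = 0 from rfl, sm_zero,
        ← cact_mul, mul_inv_cancel, cact_one]
    obtain ⟨r0, hr0, hr0'⟩ := hTQ ⟨_, hq⟩ hq'T
    simp only [Subgroup.coe_mul, Subgroup.coe_inv] at hr0'
    set c0 : G := (x : G) * t * (x : G)⁻¹ * t⁻¹ with hc0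
    have htel : ((x : G) * ((x : G) * c0 * (x : G)⁻¹) * (x : G)⁻¹) * ((x : G) * c0 * (x : G)⁻¹) * c0 = 1 := by
      rw [hc0]
      calc _ = ((x : G) * x * x) * t * ((x : G) * x * x)⁻¹ * t⁻¹ := by group
        _ = 1 := by rw [hx3']; group
    have hr0T : r0 ∈ T := by
      rcases hr0 with rfl | rfl | rfl | rfl
      · exact one_mem _
      · exact hsT
      · exact hs2T
      · rw [hs3eq]; exact mul_mem hsT hs2T
    have hstel : ((x : G) * ((x : G) * r0 * (x : G)⁻¹) * (x : G)⁻¹) * ((x : G) * r0 * (x : G)⁻¹) * r0 = 1 := by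
      have e1 : s3 * s2 * s = 1 := by
        rw [hs3eq, mul_assoc s s2 s2, hs2sq, mul_one, hs2']
      rcases hr0 with rfl | rfl | rfl | rfl
      · simp
      · rw [← hs2, ← hs3]; exact e1
      · rw [← hs3, hxs3, hs3eq, ← mul_assoc s s s2, hs2', one_mul, hs2sq]
      · rw [hxs3, ← hs2, hs3eq, hTcomm s2 hs2T s hsT, hTsq _ (mul_mem hsT hs2T)]
    have hc0r : c0 = r0 := by
      rcases hr0' with e | e
      · exact e
      exfalso
      rw [e] at htel
      have hfix : ∀ a, (x : G) * (a * z) * (x : G)⁻¹ = (x : G) * a * (x : G)⁻¹ * z := fun a => by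
        have := Subgroup.mem_centralizer_singleton_iff.1 x.2
        rw [show (x : G) * (a * z) * (x : G)⁻¹ = (x : G) * a * (z * (x : G)⁻¹) by group,
          show z * (x : G)⁻¹ = (x : G)⁻¹ * z from by
            rw [eq_inv_mul_iff_mul_eq, ← mul_assoc, this, mul_inv_cancel_right]]
        group
      rw [hfix, hfix] at htel
      have hA := hTcomm z hzT _ (hxT _ hr0T)
      have hB := hTcomm z hzT _ hr0T
      set A := (x : G) * r0 * (x : G)⁻¹
      set A2 := (x : G) * A * (x : G)⁻¹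
      have h3 : A2 * A * r0 * (z * z * z) = 1 := by
        calc A2 * A * r0 * (z * z * z) = A2 * A * (r0 * z) * z * z := by group
          _ = A2 * A * z * r0 * z * z := by rw [← hB]; group
          _ = A2 * A * z * z * (r0 * z) := by
              rw [mul_assoc (A2 * A * z) r0 z, ← hB]
              simp only [mul_assoc]
              rw [← hB]
          _ = A2 * (A * z) * z * (r0 * z) := by group
          _ = A2 * (z * A) * z * (r0 * z) := by rw [hA]
          _ = A2 * z * (A * z) * (r0 * z) := by group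
          _ = 1 := htel
      rw [hstel, one_mul, hz2, one_mul] at h3
      exact S.ne_one h3
    have hxe : ∀ a, (x : G) * a = ((x : G) * a * (x : G)⁻¹) * x := fun a => by group
    obtain ⟨r, hr, hxr, hrT⟩ : ∃ r, (r = 1 ∨ r = s ∨ r = s2 ∨ r = s3) ∧ (x : G) * r * (x : G)⁻¹ = r0 * r ∧ r ∈ T := by
      rcases hr0 with rfl | rfl | rfl | rfl
      · exact ⟨1, Or.inl rfl, by simp, one_mem _⟩
      · refine ⟨s2, Or.inr (Or.inr (Or.inl rfl)), ?_, hs2T⟩
        rw [← hs3, hs3eq]
      · refine ⟨s3, Or.inr (Or.inr (Or.inr rfl)), ?_, by rw [hs3eq]; exact mul_mem hsT hs2T⟩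
        rw [hxs3, hs3eq, ← mul_assoc, hTcomm s2 hs2T s hsT, mul_assoc, hs2sq, mul_one]
      · refine ⟨s, Or.inr (Or.inl rfl), ?_, hsT⟩
        rw [← hs2, hs3eq, hTcomm s hsT s2 hs2T, mul_assoc, hs2', mul_one]
    refine ⟨r, hr, ?_⟩
    rw [hxe (r * t), show (x : G) * (r * t) * (x : G)⁻¹ = ((x : G) * r * (x : G)⁻¹) * ((x : G) * t * (x : G)⁻¹) by group,
      hxr, show (x : G) * t * (x : G)⁻¹ = c0 * t by rw [hc0]; group, hc0r]
    congr 1
    rw [hTcomm r0 hr0T r hrT, mul_assoc r r0, ← mul_assoc r0 r0, hTsq _ hr0T, one_mul]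
  -- the stabiliser
  set X : Subgroup (Subgroup.centralizer ({z} : Set G) ⧸ Q) := ((Subgroup.centralizer ({z} : Set G) ⊓
    Subgroup.centralizer ({s} : Set G)).subgroupOf (Subgroup.centralizer ({z} : Set G))).map (QuotientGroup.mk' Q) with hX
  set E : Subgroup (Subgroup.centralizer ({z} : Set G) ⧸ Q) := (((LargeExtra.oc z).map (MulAut.conj g).toMonoidHom ⊓
    Subgroup.centralizer ({z} : Set G)).subgroupOf (Subgroup.centralizer ({z} : Set G))).map (QuotientGroup.mk' Q) with hE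
  haveI := hnE
  have hXmem : ∀ h : Subgroup.centralizer ({z} : Set G), (h : G) ∈ Subgroup.centralizer ({s} : Set G) →
      (h : _ ⧸ Q) ∈ X := fun h hh => ⟨h, ⟨h.2, hh⟩, rfl⟩
  -- twisted permutations
  have htw : ∀ π : alternatingGroup (Fin 6), ∃ h : Subgroup.centralizer ({z} : Set G), h * x = x * h ∧
      (h : G) ∈ Subgroup.centralizer ({s} : Set G) ∧ ∀ u, cact D.F h u = tw k (π : Equiv.Perm (Fin 6)) u := by
    intro π
    obtain ⟨m, hm, hmc⟩ := D.exists_tw k _ (Equiv.Perm.mem_alternatingGroup.1 π.2)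
    obtain ⟨q, hq⟩ := D.lift_comm hx3 hx (D.M_le_Lin hm)
    set h : Subgroup.centralizer ({z} : Set G) := (q : Subgroup.centralizer ({z} : Set G)) * m with hh
    have hact : ∀ u, cact D.F h u = tw k (π : Equiv.Perm (Fin 6)) u := fun u => by
      rw [hh, cact_mul, D.cact_Q q.2, hmc]
    refine ⟨h, hq, ?_, hact⟩
    have h1 : ((MulAut.conjNormal h sQ : Q) : ↥Q ⧸ Subgroup.center ↥Q) = D.F.co v := by
      rw [← actV_mk, hsmk, ← co_cact, hact, D.tw_rep hk]
    rw [Subgroup.mem_centralizer_singleton_iff]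
    refine mul_inv_eq_iff_eq_mul.1 ?_
    rcases (center_iff D.b).1 (QuotientGroup.eq.1 (hsmk.trans h1.symm)) with e | e
    · have e' := congrArg (fun q : Q => ((q : Subgroup.centralizer ({z} : Set G)) : G)) (inv_mul_eq_one.1 e).symm
      simpa using e'
    exfalso
    have e' := congrArg Subtype.val e
    simp only [Subgroup.coe_mul, Subgroup.coe_inv, MulAut.conjNormal_apply, zc] at e'
    have hsz : (h : G) * s * (h : G)⁻¹ = s * z := inv_mul_eq_iff_eq_mul.1 e'
    have hxh : (h : G) * x = x * h := congrArg Subtype.val hq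
    have hzh : (h : G) * z * (h : G)⁻¹ = z :=
      mul_inv_eq_iff_eq_mul.2 (Subgroup.mem_centralizer_singleton_iff.1 h.2)
    have hxz : (x : G) * z * (x : G)⁻¹ = z :=
      mul_inv_eq_iff_eq_mul.2 (Subgroup.mem_centralizer_singleton_iff.1 x.2)
    have hs2z : (h : G) * s2 * (h : G)⁻¹ = s2 * z := by
      rw [hs2]
      calc (h : G) * ((x : G) * s * (x : G)⁻¹) * (h : G)⁻¹
          = ((h : G) * x) * s * ((h : G) * x)⁻¹ := by group
        _ = (x : G) * ((h : G) * s * (h : G)⁻¹) * (x : G)⁻¹ := by rw [hxh]; group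
        _ = (x : G) * s * (x : G)⁻¹ * ((x : G) * z * (x : G)⁻¹) := by rw [hsz]; group
        _ = _ := by rw [hxz]
    have hs3z : (h : G) * s3 * (h : G)⁻¹ = s3 * z := by
      rw [hs3]
      calc (h : G) * ((x : G) * s2 * (x : G)⁻¹) * (h : G)⁻¹
          = ((h : G) * x) * s2 * ((h : G) * x)⁻¹ := by group
        _ = (x : G) * ((h : G) * s2 * (h : G)⁻¹) * (x : G)⁻¹ := by rw [hxh]; group
        _ = (x : G) * s2 * (x : G)⁻¹ * ((x : G) * z * (x : G)⁻¹) := by rw [hs2z]; group
        _ = _ := by rw [hxz]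
    rw [hs3eq] at hs3z
    refine S.ne_one (mul_left_cancel (a := s * s2) ?_)
    rw [mul_one, ← hs3z]
    calc (h : G) * (s * s2) * (h : G)⁻¹ = (h : G) * s * (h : G)⁻¹ * ((h : G) * s2 * (h : G)⁻¹) := by group
      _ = s * z * (s2 * z) := by rw [hsz, hs2z]
      _ = s * s2 := by rw [mul_assoc, ← mul_assoc z, hTcomm z hzT s2 hs2T, mul_assoc s2 z z, hz2, mul_one]
  choose f hfx hfs hf using htw
  have hA6 : Nat.card (alternatingGroup (Fin 6)) = 360 := by
    rw [Nat.card_eq_fintype_card, card_alternatingGroup, Fintype.card_fin]; rfl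
  have hQ4 : ∀ q : Q, q * q * (q * q) = 1 := fun q => by
    rcases (center_iff D.b).1 (sq_mem D.b q) with e | e
    · rw [e, one_mul]
    · exact Subtype.ext (by rw [Subgroup.coe_mul, e, zc_sq D.b]; rfl)
  obtain ⟨Φ, hΦ, hΦh⟩ := D.exists_faithful
  let ψ : alternatingGroup (Fin 6) →* Subgroup.centralizer ({z} : Set G) ⧸ Q :=
    MonoidHom.mk' (fun π => (f π : _ ⧸ Q)) fun π τ => by
      refine hΦ (MulEquiv.ext fun y => ?_)
      obtain ⟨c, rfl⟩ := D.F.bij.2 y
      rw [← QuotientGroup.mk_mul, hΦh, hΦh, ← co_cact, ← co_cact, cact_mul, hf, hf, hf, Subgroup.coe_mul, tw_mul]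
  have hψX : ∀ π, ψ π ∈ X := fun π => hXmem _ (hfs π)
  have hψinj : Function.Injective ψ := (injective_iff_map_eq_one ψ).2 fun π hπ => Subtype.ext (pm_injective fun c => by
    have h0 : ∀ c, tw k (π : Equiv.Perm (Fin 6)) c = c := fun c => by
      rw [← hf]; exact D.cact_Q ((QuotientGroup.eq_one_iff _).1 hπ) c
    funext i
    have h2 := congrFun (h0 (fun _ => (1, 0))) i
    have h1 := congrFun (h0 c) i
    simp only [tw, dg, pm] at h1 h2
    rw [w4_facts.1 _ 0 (h2.trans (omk_facts.2.2.2 _).symm), omk_facts.2.2.2] at h1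
    exact h1)
  let φ : alternatingGroup (Fin 6) →* ↥X ⧸ E.subgroupOf X :=
    (QuotientGroup.mk' (E.subgroupOf X)).comp (ψ.codRestrict X hψX)
  have hsimp : IsSimpleGroup (alternatingGroup (Fin 6)) := alternatingGroup.isSimpleGroup (by simp)
  have hcardXE : Nat.card (↥X ⧸ E.subgroupOf X) = 360 := by rw [Nat.card_congr eA.toEquiv, hA6]
  have hφbij : Function.Bijective φ := by
    refine (Nat.bijective_iff_injective_and_card φ).2 ⟨(MonoidHom.ker_eq_bot_iff φ).1 ?_, by rw [hA6, hcardXE]⟩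
    rcases (MonoidHom.normal_ker φ).eq_bot_or_eq_top with h | h
    · exact h
    exfalso
    obtain ⟨a, c, hac⟩ := alt_not_comm
    refine hac (hψinj ?_)
    rw [map_mul, map_mul]
    have mem : ∀ a, ψ a ∈ E := fun a => Subgroup.mem_subgroupOf.1
      ((QuotientGroup.eq_one_iff (ψ.codRestrict X hψX a)).1 (MonoidHom.mem_ker.1 (h ▸ Subgroup.mem_top a)))
    exact congrArg Subtype.val (hEab.1.is_comm.comm (⟨ψ a, mem a⟩ : ↥E) ⟨ψ c, mem c⟩)
  -- the two maps
  let L : Subgroup (Subgroup.centralizer ({z} : Set G)) :=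
    C ⊓ (Subgroup.centralizer ({s} : Set G)).subgroupOf (Subgroup.centralizer ({z} : Set G))
  have hLx : ∀ l : L, ((l : Subgroup.centralizer ({z} : Set G)) : G) * x = x * ((l : Subgroup.centralizer ({z} : Set G)) : G) :=
    fun l => congrArg Subtype.val ((hC _).1 l.2.1)
  have hLs : ∀ l : L, ((l : Subgroup.centralizer ({z} : Set G)) : G) * s = s * ((l : Subgroup.centralizer ({z} : Set G)) : G) :=
    fun l => Subgroup.mem_centralizer_singleton_iff.1 l.2.2
  have hLz : ∀ l : L, ((l : Subgroup.centralizer ({z} : Set G)) : G) * z = z * ((l : Subgroup.centralizer ({z} : Set G)) : G) :=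
    fun l => Subgroup.mem_centralizer_singleton_iff.1 l.1.2
  have hLs2 : ∀ l : L, ((l : Subgroup.centralizer ({z} : Set G)) : G) * s2 = s2 * ((l : Subgroup.centralizer ({z} : Set G)) : G) :=
    fun l => ((show Commute _ (x : G) from hLx l).mul_right (show Commute _ s from hLs l)).mul_right
      (show Commute _ (x : G) from hLx l).inv_right
  set gl : L → G := fun l => g⁻¹ * ((l : Subgroup.centralizer ({z} : Set G)) : G) * g with hgl
  have hgH : ∀ l, gl l ∈ Subgroup.centralizer ({z} : Set G) := fun l => by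
    rw [Subgroup.mem_centralizer_singleton_iff, hgl]
    have e := hLs l
    rw [← hg] at e
    calc g⁻¹ * ((l : Subgroup.centralizer ({z} : Set G)) : G) * g * z
        = g⁻¹ * (((l : Subgroup.centralizer ({z} : Set G)) : G) * (g * z * g⁻¹)) * g := by group
      _ = g⁻¹ * (g * z * g⁻¹ * ((l : Subgroup.centralizer ({z} : Set G)) : G)) * g := by rw [e]
      _ = z * (g⁻¹ * ((l : Subgroup.centralizer ({z} : Set G)) : G) * g) := by group
  have hgS : ∀ l, gl l ∈ Subgroup.centralizer ({s} : Set G) := fun l => by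
    rw [Subgroup.mem_centralizer_singleton_iff, hgl]
    have e := hLs2 l
    rw [← hgs']  at e
    calc g⁻¹ * ((l : Subgroup.centralizer ({z} : Set G)) : G) * g * s
        = g⁻¹ * (((l : Subgroup.centralizer ({z} : Set G)) : G) * (g * s * g⁻¹)) * g := by group
      _ = g⁻¹ * (g * s * g⁻¹ * ((l : Subgroup.centralizer ({z} : Set G)) : G)) * g := by rw [e]
      _ = s * (g⁻¹ * ((l : Subgroup.centralizer ({z} : Set G)) : G) * g) := by group
  let α : L →* ↥X ⧸ E.subgroupOf X := (QuotientGroup.mk' (E.subgroupOf X)).comp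
    (MonoidHom.mk' (fun l : L => (⟨((l : Subgroup.centralizer ({z} : Set G)) : _ ⧸ Q), hXmem _ l.2.2⟩ : ↥X))
      fun a c => rfl)
  let β : L →* ↥X ⧸ E.subgroupOf X := (QuotientGroup.mk' (E.subgroupOf X)).comp
    (MonoidHom.mk' (fun l : L => (⟨((⟨gl l, hgH l⟩ : Subgroup.centralizer ({z} : Set G)) : _ ⧸ Q), hXmem _ (hgS l)⟩ : ↥X))
      fun a c => Subtype.ext (by
        show ((⟨gl (a * c), hgH _⟩ : Subgroup.centralizer ({z} : Set G)) : _ ⧸ Q) =
          ((⟨gl a, hgH a⟩ : Subgroup.centralizer ({z} : Set G)) : _ ⧸ Q) * ((⟨gl c, hgH c⟩ : Subgroup.centralizer ({z} : Set G)) : _ ⧸ Q)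
        rw [← QuotientGroup.mk_mul]
        congr 1
        refine Subtype.ext ?_
        simp only [hgl, Subgroup.coe_mul]
        group))
  have hαsurj : Function.Surjective α := fun y => by
    obtain ⟨π, hπ⟩ := hφbij.2 y
    exact ⟨⟨f π, (hC _).2 (hfx π), hfs π⟩, hπ⟩
  have hker16 : ∀ l, β l = 1 → l ^ 16 = 1 := by
    intro l hl
    obtain ⟨kk, hkk, e⟩ := Subgroup.mem_subgroupOf.1 ((QuotientGroup.eq_one_iff _).1 hl)
    have hk4 : kk * kk * (kk * kk) = 1 := by
      obtain ⟨p, hp, hpe⟩ := hkk.1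
      obtain ⟨qq, rfl⟩ := D.mem_oc_iff.1 hp
      have h4 := congrArg (fun q : Q => ((q : Subgroup.centralizer ({z} : Set G)) : G)) (hQ4 qq)
      simp only [Subgroup.coe_mul, OneMemClass.coe_one] at h4
      refine Subtype.ext ?_
      simp only [Subgroup.coe_mul, OneMemClass.coe_one]
      rw [show ((kk : G)) = MulAut.conj g ((qq : Subgroup.centralizer ({z} : Set G)) : G) from hpe.symm,
        ← map_mul, ← map_mul, h4, map_one]
    set lh : Subgroup.centralizer ({z} : Set G) := ⟨gl l, hgH l⟩ with hlh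
    have hq : lh * lh * (lh * lh) ∈ Q := by
      refine (QuotientGroup.eq_one_iff _).1 ?_
      have e' : ((kk : Subgroup.centralizer ({z} : Set G)) : _ ⧸ Q) = (lh : _ ⧸ Q) := e
      simp only [QuotientGroup.mk_mul, ← e']
      rw [← QuotientGroup.mk_mul, ← QuotientGroup.mk_mul, hk4, QuotientGroup.mk_one]
    have h16 := congrArg (fun q : Q => ((q : Subgroup.centralizer ({z} : Set G)) : G)) (hQ4 ⟨_, hq⟩)
    simp only [Subgroup.coe_mul, OneMemClass.coe_one] at h16
    refine Subtype.ext (Subtype.ext ?_)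
    simp only [SubmonoidClass.coe_pow, OneMemClass.coe_one]
    set a := ((l : Subgroup.centralizer ({z} : Set G)) : G) with ha
    have hla : (lh : G) = g⁻¹ * a * g := rfl
    rw [hla] at h16
    have hb : (g⁻¹ * a * g) ^ 16 = 1 := by
      rw [← h16]
      simp only [pow_succ, pow_zero, one_mul, mul_assoc]
    calc a ^ 16 = (g * (g⁻¹ * a * g) * g⁻¹) ^ 16 := by congr 1; group
      _ = 1 := by rw [conj_pow, hb]; group
  have hkerle : β.ker ≤ α.ker := by
    have hn : (β.ker.map α).Normal := (MonoidHom.normal_ker β).map α hαsurj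
    haveI : IsSimpleGroup (↥X ⧸ E.subgroupOf X) := eA.isSimpleGroup
    rcases hn.eq_bot_or_eq_top with h | h
    · exact (Subgroup.map_eq_bot_iff _).1 h
    exfalso
    have h3 : ∀ y : ↥X ⧸ E.subgroupOf X, y ^ 16 = 1 := fun y => by
      obtain ⟨l, hl, rfl⟩ := h.ge (Subgroup.mem_top y)
      rw [← map_pow, hker16 l hl, map_one]
    haveI : Fact (Nat.Prime 3) := ⟨Nat.prime_three⟩
    obtain ⟨y, hy⟩ := exists_prime_orderOf_dvd_card' (G := ↥X ⧸ E.subgroupOf X) 3 (by rw [hcardXE]; norm_num)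
    have := orderOf_dvd_of_pow_eq_one (h3 y)
    rw [hy] at this
    norm_num at this
  have hβsurj : Function.Surjective β := by
    have h1 := Nat.le_of_dvd (Nat.pos_of_ne_zero Subgroup.index_ne_zero_of_finite) (Subgroup.index_dvd_of_le hkerle)
    rw [Subgroup.index_ker, Subgroup.index_ker, MonoidHom.range_eq_top.2 hαsurj, Subgroup.card_top] at h1
    exact MonoidHom.range_eq_top.1 (Subgroup.eq_top_of_le_card _ h1)
  -- their effect on classes
  have hUel : ∀ u, U6 D.c k u → ∃ t : Q, ((t : Subgroup.centralizer ({z} : Set G)) : G) ∈ U ∧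
      (t : ↥Q ⧸ Subgroup.center ↥Q) = D.F.co u := fun u hu => by
    obtain ⟨t, ht, htc⟩ := (himg u).2 hu
    exact ⟨t, ⟨D.mem_oc_iff.2 ⟨t, rfl⟩, ht⟩, htc⟩
  have hcommz : ∀ a ∈ LargeExtra.oc s, ∀ a' ∈ LargeExtra.oc s, a * a' = a' * a ∨ a * a' * a⁻¹ = s * a' := by
    intro a ha a' ha'
    rw [← hoc, Subgroup.mem_map] at ha ha'
    obtain ⟨p, hp, rfl⟩ := ha
    obtain ⟨p', hp', rfl⟩ := ha'
    rcases S.commutator_cases hp hp' with h | h
    · left
      show MulAut.conj g p * MulAut.conj g p' = MulAut.conj g p' * MulAut.conj g p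
      rw [← map_mul, ← map_mul, commutatorElement_eq_one_iff_mul_comm.1 h]
    · right
      show MulAut.conj g p * MulAut.conj g p' * (MulAut.conj g p)⁻¹ = s * MulAut.conj g p'
      rw [← hg, ← map_inv, ← map_mul, ← map_mul]
      show _ = MulAut.conj g z * MulAut.conj g p'
      rw [← map_mul, show p * p' * p⁻¹ = z * p' from mul_inv_eq_iff_eq_mul.1 h]
  have hmove : ∀ (π : Equiv.Perm (Fin 6)), Equiv.Perm.sign π = 1 → ∃ l : L, ∀ u, U6 D.c k u →
      cact D.F ⟨gl l, hgH l⟩ u = tw k π u ∨ cact D.F ⟨gl l, hgH l⟩ u = tw k π u + v := by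
    intro π hπ
    set π' : alternatingGroup (Fin 6) := ⟨π, Equiv.Perm.mem_alternatingGroup.2 hπ⟩ with hπ'
    obtain ⟨l, hl⟩ := hβsurj (φ π')
    refine ⟨l, fun u hu => ?_⟩
    obtain ⟨kk, hkk, e⟩ := Subgroup.mem_subgroupOf.1 (QuotientGroup.eq.1 hl.symm)
    have e' : ((kk : Subgroup.centralizer ({z} : Set G)) : _ ⧸ Q) =
        (ψ π')⁻¹ * ((⟨gl l, hgH l⟩ : Subgroup.centralizer ({z} : Set G)) : _ ⧸ Q) := e
    have hmk : ((f π' * kk : Subgroup.centralizer ({z} : Set G)) : _ ⧸ Q) =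
        ((⟨gl l, hgH l⟩ : Subgroup.centralizer ({z} : Set G)) : _ ⧸ Q) := by
      rw [QuotientGroup.mk_mul, e']
      exact mul_inv_cancel_left _ _
    rw [← D.act_congr hmk, cact_mul]
    obtain ⟨t, ht, htc⟩ := hUel u hu
    have hkoc : (kk : G) ∈ LargeExtra.oc s := hoc ▸ hkk.1
    rcases hcommz _ hkoc _ ht.2 with h | h
    · left
      rw [cact_eq D.F (h := (kk : Subgroup.centralizer ({z} : Set G))) (a := u) (a' := u) (by
        rw [← htc, actV_mk, show MulAut.conjNormal kk t = t from Subtype.ext (Subtype.ext (by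
          simp only [MulAut.conjNormal_apply, Subgroup.coe_mul, Subgroup.coe_inv]
          exact mul_inv_eq_iff_eq_mul.2 h))]), hf]
    · right
      rw [cact_eq D.F (h := (kk : Subgroup.centralizer ({z} : Set G))) (a := u) (a' := u + v) (by
        rw [← htc, actV_mk, show MulAut.conjNormal kk t = ⟨⟨s, hsc⟩, hsQ⟩ * t from Subtype.ext (Subtype.ext (by
          simpa using h)), QuotientGroup.mk_mul, hsmk', htc, add_comm, D.F.map_add]), hf]
      have hadd : ∀ a c : Vec6, tw k π (a + c) = tw k π a + tw k π c := fun a c =>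
        funext fun i => omk_facts.2.1 _ _ _
      show tw k π (u + v) = _
      rw [hadd, D.tw_rep hk]
  -- the image of `z`
  have hwU : g⁻¹ * z * g ∈ U := hTU' z hzT
  obtain ⟨wQ, hwQ⟩ := D.mem_oc_iff.1 hwU.1
  obtain ⟨uw, huw, hwc⟩ := hUcls wQ (by rw [hwQ]; exact hwU.2)
  have hfixw : ∀ l : L, cact D.F ⟨gl l, hgH l⟩ uw = uw := fun l => cact_eq D.F (by
    rw [← hwc, actV_mk]
    congr 1
    refine Subtype.ext (Subtype.ext ?_)
    simp only [MulAut.conjNormal_apply, Subgroup.coe_mul, Subgroup.coe_inv, hwQ, hgl]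
    calc _ = g⁻¹ * (((l : Subgroup.centralizer ({z} : Set G)) : G) * z * ((l : Subgroup.centralizer ({z} : Set G)) : G)⁻¹) * g := by group
      _ = _ := by rw [mul_inv_eq_iff_eq_mul.2 (hLz l)])
  have huw0 : uw ≠ 0 := fun e => by
    rcases (center_iff D.b).1 ((QuotientGroup.eq_one_iff _).1 (by rw [hwc, e, co_zero D.b D.F])) with h | h
    · rw [h] at hwQ
      simp only [OneMemClass.coe_one] at hwQ
      exact S.ne_one (by
        calc z = g * (g⁻¹ * z * g) * g⁻¹ := by group
          _ = 1 := by rw [← hwQ]; group)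
    · have h' : g⁻¹ * z * g = z := hwQ.symm.trans (congrArg Subtype.val h)
      exact hs1 (by
        calc s = g * z * g⁻¹ := hg.symm
          _ = g * (g⁻¹ * z * g) * g⁻¹ := by rw [h']
          _ = z := by group)
  have huwv : uw ≠ v := fun e => by
    have hsl : ((MulAut.conjNormal x (MulAut.conjNormal x sQ) : Q) : Subgroup.centralizer ({z} : Set G)).1 = s3 := by
      rw [MulAut.conjNormal_apply, hs3, ← hs2Q]; rfl
    rcases (center_iff D.b).1 (QuotientGroup.eq.1 ((hsmk.trans (e ▸ hwc.symm : D.F.co v = _)) : (sQ : ↥Q ⧸ Subgroup.center ↥Q) = wQ)) with h | h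
    · have h' : s = g⁻¹ * z * g :=
        (congrArg (fun q : Q => ((q : Subgroup.centralizer ({z} : Set G)) : G)) (inv_mul_eq_one.1 h)).trans hwQ
      have : s2 = z := by rw [← hgs', h']; group
      exact hs1 (by
        calc s = (x : G)⁻¹ * s2 * x := by rw [hs2]; group
          _ = (x : G)⁻¹ * (z * x) := by rw [this]; group
          _ = z := by rw [← Subgroup.mem_centralizer_singleton_iff.1 x.2]; group)
    · have h' := congrArg Subtype.val h
      simp only [Subgroup.coe_mul, Subgroup.coe_inv, zc] at h'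
      have hw2 : g⁻¹ * z * g = s * z := hwQ.symm.trans (inv_mul_eq_iff_eq_mul.1 h')
      have hz3 : z = s2 * s := by
        calc z = g * (g⁻¹ * z * g) * g⁻¹ := by group
          _ = g * s * g⁻¹ * (g * z * g⁻¹) := by rw [hw2]; group
          _ = s2 * s := by rw [hgs', hg]
      have : s3 = z := by rw [hs3eq, hTcomm s hsT s2 hs2T, ← hz3]
      have hxz : (x : G) * z * (x : G)⁻¹ = z :=
        mul_inv_eq_iff_eq_mul.2 (Subgroup.mem_centralizer_singleton_iff.1 x.2)
      exact hs1 (by rw [← hxs3, this, hxz])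
  have hvv : ∀ a c : Vec6, a + c = 0 ↔ a = c := fun a c =>
    ⟨fun h => funext fun i => (show ∀ p q : W4, p + q = 0 → p = q by decide) _ _ (congrFun h i),
      fun h => h ▸ vec_add_self _⟩
  obtain ⟨i, hi, hiw⟩ : ∃ i : ZMod 3, i ≠ 0 ∧ uw = sm i v := by
    obtain ⟨N, hN, rfl⟩ : ∃ N ∈ Finset.range 4096, vecN N = uw := by
      have himg' : (Finset.range 4096).image vecN = univ := by
        refine eq_univ_of_card _ ?_
        rw [card_image_of_injOn vecN_inj]
        simp
      have := himg'.ge (mem_univ uw)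
      rwa [mem_image] at this
    rcases u6_fixed_range D.c k hk N hN huw (fun b => by
      obtain ⟨l, hl⟩ := hmove (tp b) (tp_sign b)
      rcases hl _ huw with e | e <;> rw [hfixw] at e
      · exact Or.inl ((hvv _ _).2 e)
      · right
        conv_lhs => arg 1; rw [e]
        rw [add_right_comm, vec_add_self, zero_add]) with e | ⟨i, e⟩
    · exact absurd e huw0
    · exact ⟨i, fun hi => huwv (by rw [e, hi, sm_zero]), e⟩
  obtain ⟨hsu, hsum, hj⟩ := su_facts D.c k hk
  choose tn htn htnc using fun n => hUel _ (hsu n)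
  choose ln hln using fun n => hmove (sp n) (sp_sign n)
  let cn : Fin 3 → Q := fun n => MulAut.conjNormal (⟨gl (ln n), hgH _⟩ : Subgroup.centralizer ({z} : Set G)) (tn n) * tn n
  have hcn : ∀ n, ∃ ε : Bool, (cn n : ↥Q ⧸ Subgroup.center ↥Q) =
      D.F.co (su D.c k n + tw k (sp n) (su D.c k n) + if ε then v else 0) := by
    intro n
    have e : (cn n : ↥Q ⧸ Subgroup.center ↥Q) =
        D.F.co (cact D.F ⟨gl (ln n), hgH _⟩ (su D.c k n) + su D.c k n) := by
      rw [QuotientGroup.mk_mul, ← actV_mk, htnc, ← co_cact, D.F.map_add]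
    rcases hln n _ (hsu n) with h | h
    · exact ⟨false, by rw [e, h]; simp [add_comm]⟩
    · refine ⟨true, ?_⟩
      rw [e, h]
      congr 1
      simp only [if_true]
      abel
  choose ε hε using hcn
  have hP3 : ∃ b : Bool, ((cn 0 * cn 1 * cn 2 : Q) : ↥Q ⧸ Subgroup.center ↥Q) =
      D.F.co (uw + if b then v else 0) := by
    have hbase : sm (jj D.c k) v = uw ∨ sm (jj D.c k) v = uw + v := by
      rw [hiw]
      rcases (show ∀ i j : ZMod 3, i ≠ 0 → j ≠ 0 → j = i ∨ j = i + i by decide) i _ hi hj with e | e <;> rw [e]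
      · exact Or.inl rfl
      · refine Or.inr (funext fun l => ?_)
        exact (show ∀ (i : ZMod 3) (p : W4), i ≠ 0 → omk (i + i) p = omk i p + p by decide) i _ hi
    have hprod : ((cn 0 * cn 1 * cn 2 : Q) : ↥Q ⧸ Subgroup.center ↥Q) = D.F.co (sm (jj D.c k) v +
        ((if ε 0 then v else 0) + (if ε 1 then v else 0) + if ε 2 then v else 0)) := by
      rw [QuotientGroup.mk_mul, QuotientGroup.mk_mul, hε, hε, hε, ← D.F.map_add, ← D.F.map_add, ← hsum]
      congr 1
      abel
    have hbool : ∀ p q r : Bool, ∀ a : Vec6, (a = 0 ∨ a = v) →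
        ((a + ((if p then v else 0) + (if q then v else 0) + if r then v else 0)) = 0 ∨
         (a + ((if p then v else 0) + (if q then v else 0) + if r then v else 0)) = v) := by
      intro p q r a ha
      rcases ha with rfl | rfl <;> cases p <;> cases q <;> cases r <;> simp [vec_add_self]
    rcases hbase with e | e
    · rw [e] at hprod
      rcases hbool (ε 0) (ε 1) (ε 2) 0 (Or.inl rfl) with h | h
      · rw [zero_add] at h; exact ⟨false, by rw [hprod, h]; simp⟩
      · rw [zero_add] at h; exact ⟨true, by rw [hprod, h]; simp⟩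
    · rw [e, add_assoc] at hprod
      rcases hbool (ε 0) (ε 1) (ε 2) v (Or.inr rfl) with h | h
      · exact ⟨false, by rw [hprod, h]; simp⟩
      · exact ⟨true, by rw [hprod, h]; simp⟩
  obtain ⟨bb, hbb⟩ := hP3
  set P3 : Q := cn 0 * cn 1 * cn 2
  have hrest : ∃ r, (r = 1 ∨ r = z ∨ r = s ∨ r = s * z) ∧
      g⁻¹ * z * g = ((P3 : Subgroup.centralizer ({z} : Set G)) : G) * r := by
    have hcls : ∀ (r : Q), (r : ↥Q ⧸ Subgroup.center ↥Q) = D.F.co (if bb then v else 0) →
        g⁻¹ * z * g = ((P3 : Subgroup.centralizer ({z} : Set G)) : G) * ((r : Subgroup.centralizer ({z} : Set G)) : G) ∨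
        g⁻¹ * z * g = ((P3 : Subgroup.centralizer ({z} : Set G)) : G) * ((r : Subgroup.centralizer ({z} : Set G)) : G) * z := by
      intro r hr
      have e : ((P3 * r : Q) : ↥Q ⧸ Subgroup.center ↥Q) = (wQ : ↥Q ⧸ Subgroup.center ↥Q) := by
        rw [QuotientGroup.mk_mul, hbb, hr, hwc, ← D.F.map_add, add_assoc]
        congr 1
        cases bb <;> simp [vec_add_self]
      rcases (center_iff D.b).1 (QuotientGroup.eq.1 e) with h | h
      · left
        rw [← hwQ, ← inv_mul_eq_one.1 h]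
        simp
      · right
        have h' := congrArg Subtype.val h
        simp only [Subgroup.coe_mul, Subgroup.coe_inv, zc] at h'
        rw [← hwQ]
        exact inv_mul_eq_iff_eq_mul.1 h'
    cases bb
    · rcases hcls 1 (by simp [co_zero D.b D.F]) with h | h
      · exact ⟨1, Or.inl rfl, by simpa using h⟩
      · exact ⟨z, Or.inr (Or.inl rfl), by simpa using h⟩
    · rcases hcls sQ (by simpa using hsmk) with h | h
      · exact ⟨s, Or.inr (Or.inr (Or.inl rfl)), h⟩
      · exact ⟨s * z, Or.inr (Or.inr (Or.inr rfl)), by rw [h]; group; rfl⟩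
  obtain ⟨r, hr, hzr⟩ := hrest
  -- transporting back
  have hfactor : ∀ n, ∃ a : Subgroup.centralizer ({z} : Set G), a ∈ C ∧
      g * ((cn n : Subgroup.centralizer ({z} : Set G)) : G) * g⁻¹ =
        ((⁅(ln n : Subgroup.centralizer ({z} : Set G)), a⁆ : Subgroup.centralizer ({z} : Set G)) : G) := by
    intro n
    set t := g * ((tn n : Subgroup.centralizer ({z} : Set G)) : G) * g⁻¹ with ht
    have htT : t ∈ T := (hTU _).2 (htn n)
    obtain ⟨r', hr', hrx⟩ := hdec t htT
    have hr'T : r' ∈ T := by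
      rcases hr' with rfl | rfl | rfl | rfl
      · exact one_mem _
      · exact hsT
      · exact hs2T
      · rw [hs3eq]; exact mul_mem hsT hs2T
    set a : Subgroup.centralizer ({z} : Set G) := ⟨r' * t, hTH _ (mul_mem hr'T htT)⟩ with ha
    refine ⟨a, (hC a).2 (Subtype.ext hrx.symm), ?_⟩
    set l := ((ln n : Subgroup.centralizer ({z} : Set G)) : G) with hl
    have hlr : Commute l r' := by
      rcases hr' with rfl | rfl | rfl | rfl
      · exact Commute.one_right _
      · exact hLs _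
      · exact hLs2 _
      · rw [hs3eq]; exact (show Commute l s from hLs _).mul_right (hLs2 _)
    have hsq : t * t = 1 := hTsq t htT
    have hrr : r' * r' = 1 := hTsq r' hr'T
    have hrt : (r' * t)⁻¹ = r' * t := inv_eq_of_mul_eq_one_right (hTsq _ (mul_mem hr'T htT))
    simp only [cn, commutatorElement_def, Subgroup.coe_mul, Subgroup.coe_inv, MulAut.conjNormal_apply, ha, hgl,
      ← hl]
    rw [hrt, ht]
    set p := ((tn n : Subgroup.centralizer ({z} : Set G)) : G)
    symm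
    calc l * (r' * (g * p * g⁻¹)) * l⁻¹ * (r' * (g * p * g⁻¹))
        = l * (t * r') * l⁻¹ * (r' * t) := by rw [← hTcomm r' hr'T t htT, ht]
      _ = l * t * (r' * l⁻¹) * r' * t := by group
      _ = l * t * (l⁻¹ * r') * r' * t := by rw [hlr.symm.inv_right.eq]
      _ = l * t * l⁻¹ * (r' * r') * t := by group
      _ = l * t * l⁻¹ * t := by rw [hrr, mul_one]
      _ = g * (g⁻¹ * l * g * p * (g⁻¹ * l * g)⁻¹ * p) * g⁻¹ := by rw [ht]; group
  choose a haC hafac using hfactor
  set Pz : Subgroup.centralizer ({z} : Set G) := ⁅(ln 0 : Subgroup.centralizer ({z} : Set G)), a 0⁆ *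
    ⁅(ln 1 : Subgroup.centralizer ({z} : Set G)), a 1⁆ * ⁅(ln 2 : Subgroup.centralizer ({z} : Set G)), a 2⁆ with hPz
  have hcomm : ∀ n, ⁅(ln n : Subgroup.centralizer ({z} : Set G)), a n⁆ ∈ ⁅C, C⁆ := fun n =>
    Subgroup.commutator_mem_commutator (ln n).2.1 (haC n)
  have hPmem : Pz ∈ ⁅C, C⁆ := mul_mem (mul_mem (hcomm 0) (hcomm 1)) (hcomm 2)
  have hcommC : ∀ n, ⁅(ln n : Subgroup.centralizer ({z} : Set G)), a n⁆ ∈ C := fun n => by
    rw [commutatorElement_def]
    exact mul_mem (mul_mem (mul_mem (ln n).2.1 (haC n)) (inv_mem (ln n).2.1)) (inv_mem (haC n))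
  have hPC : (Pz : G) * x = x * (Pz : G) :=
    congrArg Subtype.val ((hC Pz).1 (mul_mem (mul_mem (hcommC 0) (hcommC 1)) (hcommC 2)))
  set R : G := g * r * g⁻¹ with hR
  have hzPR : z = (Pz : G) * R := by
    calc z = g * (g⁻¹ * z * g) * g⁻¹ := by group
      _ = g * ((P3 : Subgroup.centralizer ({z} : Set G)) : G) * g⁻¹ * R := by rw [hzr, hR]; group
      _ = (Pz : G) * R := by
        congr 1
        simp only [hPz, P3, Subgroup.coe_mul, ← hafac]
        group
  have hRx : (x : G) * R * (x : G)⁻¹ = R := by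
    rw [show R = (Pz : G)⁻¹ * z from eq_inv_mul_of_mul_eq hzPR.symm]
    exact mul_inv_eq_iff_eq_mul.2 (((show Commute (x : G) (Pz : G) from hPC.symm).inv_right.mul_right
      (show Commute (x : G) z from Subgroup.mem_centralizer_singleton_iff.1 x.2)).eq)
  have hs1' : s ≠ 1 := fun e => hv (D.F.bij.1 (by
    rw [← hsmk, co_zero D.b D.F, show sQ = 1 from Subtype.ext (Subtype.ext e)]; rfl))
  have hR1 : R = 1 := by
    rcases hr with e | e | e | e
    · rw [hR, e]; group
    · exfalso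
      rw [show R = s by rw [hR, e, hg], ← hs2] at hRx
      exact hs2ne hRx
    · exfalso
      rw [show R = s2 by rw [hR, e, hgs'], ← hs3, hs3eq] at hRx
      exact hs1' (mul_eq_right.1 hRx)
    · exfalso
      rw [show R = s3 by
        rw [hR, e, hs3eq, hTcomm s hsT s2 hs2T, ← hgs', ← hg]; group, hxs3, hs3eq] at hRx
      have h2 : s2 = 1 := mul_eq_left.1 hRx.symm
      exact hs1' (by
        calc s = (x : G)⁻¹ * s2 * x := by rw [hs2]; group
          _ = 1 := by rw [h2]; group)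
  rw [show zc z = Pz from Subtype.ext (by rw [hR1, mul_one] at hzPR; exact hzPR)]
  exact hPmem

end Data
end Cfsg.Agent.LargeFischer
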