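import Cfsg.Agent.LargeFischer.Semi

/-! The candidates for the intersection of two conjugates of `Q`, in coordinates. -/

set_option autoImplicit false
set_option maxRecDepth 20000
set_option Elab.async false

open Finset

namespace Cfsg.Agent.LargeFischer

/-- twisted permutation fixing a representative -/
def tw (k : Fin 5) (π : Equiv.Perm (Fin 6)) (u : Vec6) : Vec6 :=
  dg (fun i => lg (srep k i) - lg (srep k (π⁻¹ i))) (pm π u)

/-- the two test permutations -/
def tp (b : Bool) : Equiv.Perm (Fin 6) :=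
  if b then Equiv.swap 0 1 * Equiv.swap 1 3 else Equiv.swap 1 5 * Equiv.swap 5 2

theorem tp_sign : ∀ b, Equiv.Perm.sign (tp b) = 1 := by decide +kernel

/-- the necessary condition -/
def Good (c : ZMod 3) (k : Fin 5) (u : Vec6) : Prop :=
  par u = 0 ∧ par (u + srep k) = 0 ∧ (u = 0 ∨ u = srep k ∨ (InA c u ↔ InA c (u + srep k)))

instance (c : ZMod 3) (k : Fin 5) (u : Vec6) : Decidable (Good c k u) := by unfold Good; infer_instance

/-- the scalar of the even sets -/
def jj (c : ZMod 3) (k : Fin 5) : ZMod 3 := c - (sc k).2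

/-- coordinates relative to the representative -/
def rel (k : Fin 5) (b : Bool) (u : Vec6) : Vec6 := fun i =>
  omk (-lg (srep k i)) (u i) + if b then (1, 0) else 0

/-- the sixty-four candidates -/
def U6 (c : ZMod 3) (k : Fin 5) (u : Vec6) : Prop :=
  ∃ b : Bool, (∀ i, rel k b u i = 0 ∨ rel k b u i = omk (jj c k) (1, 0)) ∧ par (rel k b u) = 0

instance (c : ZMod 3) (k : Fin 5) (u : Vec6) : Decidable (U6 c k u) := by unfold U6; infer_instance

/-- representatives of weight six outside the first orbit -/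
def BRep (c : ZMod 3) (k : Fin 5) : Prop := halfA c k = false ∧ (sc k).1 = 6

instance (c : ZMod 3) (k : Fin 5) : Decidable (BRep c k) := by unfold BRep; infer_instance

theorem good_range : ∀ (c : ZMod 3) (k : Fin 5), BRep c k → ∀ N ∈ Finset.range 4096,
    Good c k (vecN N) → (∀ b, Good c k (vecN N + tw k (tp b) (vecN N))) → U6 c k (vecN N) := by
  decide +kernel

theorem u6_range : ∀ (c : ZMod 3) (k : Fin 5), BRep c k →
    ((Finset.range 4096).filter fun N => U6 c k (vecN N)).card ≤ 64 := by decide +kernel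

theorem u6_inter_range : ∀ (c : ZMod 3) (k : Fin 5), BRep c k → ∀ N ∈ Finset.range 4096, ∀ j : ZMod 3, j ≠ 0 →
    U6 c k (vecN N) → U6 c k (sm j (vecN N)) → vecN N = 0 ∨ ∃ i, vecN N = sm i (srep k) := by
  decide +kernel

theorem u6_fixed_range : ∀ (c : ZMod 3) (k : Fin 5), BRep c k → ∀ N ∈ Finset.range 4096,
    U6 c k (vecN N) → (∀ b, vecN N + tw k (tp b) (vecN N) = 0 ∨ vecN N + tw k (tp b) (vecN N) = srep k) →
      vecN N = 0 ∨ ∃ i, vecN N = sm i (srep k) := by decide +kernel

theorem u6_mult : ∀ (c : ZMod 3) (k : Fin 5), BRep c k → ∀ i, U6 c k (sm i (srep k)) := by decide +kernel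

/-- three even permutations -/
def sp : Fin 3 → Equiv.Perm (Fin 6) :=
  ![Equiv.swap 0 1 * Equiv.swap 3 4, Equiv.swap 2 3 * Equiv.swap 4 5, Equiv.swap 4 5 * Equiv.swap 1 2]

/-- three sets of size two -/
def su (c : ZMod 3) (k : Fin 5) (n : Fin 3) : Vec6 := fun i =>
  if (i = 0 ∧ n = 0) ∨ (i = 2 ∧ n = 0) ∨ (i = 2 ∧ n = 1) ∨ (i = 0 ∧ n = 1) ∨ (i = 4 ∧ n = 2) ∨ (i = 0 ∧ n = 2)
  then omk (lg (srep k i)) (omk (jj c k) (1, 0)) else 0

theorem sp_sign : ∀ n, Equiv.Perm.sign (sp n) = 1 := by decide +kernel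

theorem su_facts : ∀ (c : ZMod 3) (k : Fin 5), BRep c k → (∀ n, U6 c k (su c k n)) ∧
    su c k 0 + tw k (sp 0) (su c k 0) + (su c k 1 + tw k (sp 1) (su c k 1)) +
      (su c k 2 + tw k (sp 2) (su c k 2)) = sm (jj c k) (srep k) ∧ jj c k ≠ 0 := by decide +kernel

theorem exists_brep : ∀ c : ZMod 3, ∃ k, BRep c k := by decide +kernel

end Cfsg.Agent.LargeFischer
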