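import Cfsg.Agent.U33.Field
import Mathlib.Tactic.NormNum
import Mathlib.LinearAlgebra.Matrix.SpecialLinearGroup

/-! An elementary abelian subgroup of order 81 of `PSU₄(3)` normalised by an image of `SL₂(9)`. -/

set_option autoImplicit false
set_option maxRecDepth 20000
set_option Elab.async false

open Cfsg.Agent.Classical Cfsg.Agent.Classical.Herm
open scoped Matrix

namespace Cfsg.Agent.LargeFischer

open Cfsg.Agent.U33 (F9)

/-- A field element from its parts. -/
def fx (a b : Fin 3) : F9 := ⟨a, b⟩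

/-- The change of basis to two totally isotropic planes. -/
def Pm : Matrix (Fin 4) (Fin 4) F9 :=
  !![fx 1 0, fx 0 0, fx 2 0, fx 0 0;
     fx 1 1, fx 0 0, fx 1 1, fx 0 0;
     fx 0 0, fx 1 0, fx 0 0, fx 2 0;
     fx 0 0, fx 1 1, fx 0 0, fx 1 1]

/-- Its inverse. -/
def Pi' : Matrix (Fin 4) (Fin 4) F9 :=
  !![fx 2 0, fx 1 2, fx 0 0, fx 0 0;
     fx 0 0, fx 0 0, fx 2 0, fx 1 2;
     fx 1 0, fx 1 2, fx 0 0, fx 0 0;
     fx 0 0, fx 0 0, fx 1 0, fx 1 2]

theorem Pi_mul_P : Pi' * Pm = 1 := by decide +kernel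

theorem P_mul_Pi : Pm * Pi' = 1 := by decide +kernel

/-- Coordinates of the abelian subgroup. -/
abbrev Vec : Type := Fin 4 → ZMod 3

/-- The unipotent block matrix. -/
def uBlock (v : Vec) : Matrix (Fin 4) (Fin 4) F9 :=
  !![fx 1 0, fx 0 0, fx 0 (v 0), fx (v 2) (v 3);
     fx 0 0, fx 1 0, fx (-(v 2)) (v 3), fx 0 (v 1);
     fx 0 0, fx 0 0, fx 1 0, fx 0 0;
     fx 0 0, fx 0 0, fx 0 0, fx 1 0]

/-- The Levi block matrix. -/
def lBlock (A : Matrix (Fin 2) (Fin 2) F9) : Matrix (Fin 4) (Fin 4) F9 :=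
  !![A 0 0, A 0 1, 0, 0;
     A 1 0, A 1 1, 0, 0;
     0, 0, F9.frob (A 1 1), -F9.frob (A 1 0);
     0, 0, -F9.frob (A 0 1), F9.frob (A 0 0)]

theorem uBlock_add : ∀ v w : Vec, uBlock (v + w) = uBlock v * uBlock w := by
  have fin_three : ∀ a b c d : Fin 3, fx a b + fx c d = fx (a + c) (b + d) := fun _ _ _ _ => rfl
  intro v w
  have h0 : fx 0 0 = (0 : F9) := rfl
  have h1 : fx 1 0 = (1 : F9) := rfl
  ext i j
  fin_cases i <;> fin_cases j <;>
    simp [uBlock, Matrix.mul_apply, Fin.sum_univ_four, h0, h1, add_comm]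
  all_goals exact ((fin_three _ _ _ _).trans (by rfl)).symm

theorem lBlock_mul (A B : Matrix (Fin 2) (Fin 2) F9) : lBlock (A * B) = lBlock A * lBlock B := by
  ext i j
  fin_cases i <;> fin_cases j <;>
    simp [lBlock, Matrix.mul_apply, Fin.sum_univ_four, Fin.sum_univ_two, add_comm]

theorem lBlock_one : lBlock 1 = 1 := by decide +kernel

/-- The unipotent matrix in the standard basis. -/
def uMat (v : Vec) : Matrix (Fin 4) (Fin 4) F9 := Pm * uBlock v * Pi'

/-- The Levi matrix in the standard basis. -/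
def lMat (A : Matrix (Fin 2) (Fin 2) F9) : Matrix (Fin 4) (Fin 4) F9 := Pm * lBlock A * Pi'

theorem conj_mul (X Y : Matrix (Fin 4) (Fin 4) F9) : Pm * X * Pi' * (Pm * Y * Pi') = Pm * (X * Y) * Pi' := by
  rw [show Pm * X * Pi' * (Pm * Y * Pi') = Pm * X * (Pi' * Pm) * Y * Pi' by noncomm_ring, Pi_mul_P]
  noncomm_ring

/-- A matrix is unitary. -/
def IsU (M : Matrix (Fin 4) (Fin 4) F9) : Prop := (M.map F9.frob)ᵀ * M = 1

instance (M : Matrix (Fin 4) (Fin 4) F9) : Decidable (IsU M) := by unfold IsU; infer_instance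

/-- The form in the new basis. -/
def Jm : Matrix (Fin 4) (Fin 4) F9 := (Pm.map F9.frob)ᵀ * Pm

theorem Jm_eq : Jm = !![0, 0, 1, 0; 0, 0, 0, 1; 1, 0, 0, 0; 0, 1, 0, 0] := by decide +kernel

theorem isU_conj {X : Matrix (Fin 4) (Fin 4) F9} (h : (X.map F9.frob)ᵀ * Jm * X = Jm) :
    IsU (Pm * X * Pi') := by
  unfold IsU
  rw [Matrix.map_mul, Matrix.map_mul, Matrix.transpose_mul, Matrix.transpose_mul]
  calc (Pi'.map F9.frob)ᵀ * ((X.map F9.frob)ᵀ * (Pm.map F9.frob)ᵀ) * (Pm * X * Pi')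
      = (Pi'.map F9.frob)ᵀ * ((X.map F9.frob)ᵀ * Jm * X) * Pi' := by
        rw [Jm]; simp only [Matrix.mul_assoc]
    _ = ((Pm * Pi').map F9.frob)ᵀ * (Pm * Pi') := by
        rw [h, Jm, Matrix.map_mul, Matrix.transpose_mul]; simp only [Matrix.mul_assoc]
    _ = 1 := by rw [P_mul_Pi, Matrix.map_one _ (map_zero _) (map_one _), Matrix.transpose_one, mul_one]

theorem frob_frob : ∀ x : F9, F9.frob (F9.frob x) = x := by decide +kernel

theorem uBlock_form : ∀ v : Vec, ((uBlock v).map F9.frob)ᵀ * Jm * uBlock v = Jm := by decide +kernel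

theorem uMat_ok (v : Vec) : IsU (uMat v) := isU_conj (uBlock_form v)

theorem lMat_ok (a b c d : F9) (h : a * d - b * c = 1) : IsU (lMat !![a, b; c, d]) := by
  have h' : F9.frob a * F9.frob d - F9.frob b * F9.frob c = 1 := by
    rw [← map_mul, ← map_mul, ← map_sub, h, map_one]
  refine isU_conj ?_
  rw [Jm_eq]
  ext i j
  fin_cases i <;> fin_cases j <;>
    simp [lBlock, Matrix.mul_apply, Fin.sum_univ_four, frob_frob, map_neg]
  all_goals grind

theorem det_P : Pm.det * Pi'.det = 1 := by rw [← Matrix.det_mul, P_mul_Pi, Matrix.det_one]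

theorem uBlock_det : ∀ v : Vec, (uBlock v).det = 1 := by decide +kernel

theorem lBlock_det (a b c d : F9) (h : a * d - b * c = 1) : (lBlock !![a, b; c, d]).det = 1 := by
  have h' : F9.frob a * F9.frob d - F9.frob b * F9.frob c = 1 := by
    rw [← map_mul, ← map_mul, ← map_sub, h, map_one]
  rw [Matrix.det_succ_row_zero]
  simp [lBlock, Fin.sum_univ_four, Matrix.det_fin_three, Fin.succAbove]
  grind

theorem det_conj {X : Matrix (Fin 4) (Fin 4) F9} (h : X.det = 1) : (Pm * X * Pi').det = 1 := by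
  rw [Matrix.det_mul, Matrix.det_mul, h, mul_one, det_P]

/-- An element of `SU₄(3)` from a matrix. -/
def mk4 (M : Matrix (Fin 4) (Fin 4) F9) (hd : M.det = 1) (h : IsU M) : Cfsg.SU 4 F9 3 :=
  ⟨⟨M, hd⟩, (mem_SU_iff F9.frob_pow _).2 ((preserves_iff_cols M).2 fun i j => by
    simp only [Matrix.mulVec_single_one, hermB_apply]
    have := congrFun (congrFun h i) j
    rw [Matrix.one_apply] at this
    exact this)⟩

/-- The abelian subgroup. -/
def uHom : Multiplicative Vec →* Cfsg.SU 4 F9 3 :=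
  MonoidHom.mk' (fun v => mk4 (uMat v.toAdd) (det_conj (uBlock_det _)) (uMat_ok _)) fun v w =>
    Subtype.ext (Subtype.ext (by
      show uMat (v.toAdd + w.toAdd) = uMat v.toAdd * uMat w.toAdd
      rw [uMat, uMat, uMat, uBlock_add, conj_mul]))

/-- The Levi subgroup. -/
def lHom : Matrix.SpecialLinearGroup (Fin 2) F9 →* Cfsg.SU 4 F9 3 :=
  MonoidHom.mk' (fun A => mk4 (lMat A.1)
    (det_conj (by
      have h := A.2
      rw [Matrix.det_fin_two] at h
      rw [Matrix.eta_fin_two A.1]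
      exact lBlock_det _ _ _ _ h))
    (by
      have h := A.2
      rw [Matrix.det_fin_two] at h
      rw [Matrix.eta_fin_two A.1]
      exact lMat_ok _ _ _ _ h)) fun A B =>
    Subtype.ext (Subtype.ext (by
      show lMat (A.1 * B.1) = lMat A.1 * lMat B.1
      rw [lMat, lMat, lMat, lBlock_mul, conj_mul]))

/-- The elements normalise the abelian subgroup: action on the coordinates. -/
def act (a b c d : F9) (v : Vec) : Vec :=
  let X := uBlock v
  let M : Matrix (Fin 2) (Fin 2) F9 := !![X 0 2, X 0 3; X 1 2, X 1 3]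
  let R := !![a, b; c, d] * M * !![F9.frob a, F9.frob c; F9.frob b, F9.frob d]
  ![(R 0 0).im, (R 1 1).im, (R 0 1).re, (R 0 1).im]

theorem skew_diag : ∀ x : F9, F9.frob x = -x → fx 0 x.im = x := by decide +kernel

theorem skew_off : ∀ x y : F9, y = -F9.frob x → fx (-x.re) x.im = y := by decide +kernel

theorem uBlock_skew : ∀ v : Vec, F9.frob (uBlock v 0 2) = -uBlock v 0 2 ∧
    F9.frob (uBlock v 1 3) = -uBlock v 1 3 ∧ uBlock v 1 2 = -F9.frob (uBlock v 0 3) := by decide +kernel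

theorem act_block (a b c d : F9) (h : a * d - b * c = 1) (v : Vec) :
    lBlock !![a, b; c, d] * uBlock v = uBlock (act a b c d v) * lBlock !![a, b; c, d] := by
  have h' : F9.frob a * F9.frob d - F9.frob b * F9.frob c = 1 := by
    rw [← map_mul, ← map_mul, ← map_sub, h, map_one]
  obtain ⟨s0, s1, s2⟩ := uBlock_skew v
  set p := uBlock v 0 2 with hp
  set q := uBlock v 0 3 with hq
  set t := uBlock v 1 3 with ht
  have hM : uBlock v = !![1, 0, p, q; 0, 1, -F9.frob q, t; 0, 0, 1, 0; 0, 0, 0, 1] := by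
    rw [← s2]
    ext i j
    fin_cases i <;> fin_cases j <;> rfl
  set R00 := (a * p + b * (-F9.frob q)) * F9.frob a + (a * q + b * t) * F9.frob b with h00
  set R01 := (a * p + b * (-F9.frob q)) * F9.frob c + (a * q + b * t) * F9.frob d with h01
  set R10 := (c * p + d * (-F9.frob q)) * F9.frob a + (c * q + d * t) * F9.frob b with h10
  set R11 := (c * p + d * (-F9.frob q)) * F9.frob c + (c * q + d * t) * F9.frob d with h11
  have e : act a b c d v = ![R00.im, R11.im, R01.re, R01.im] := by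
    simp [act, hM, Matrix.mul_apply, Fin.sum_univ_two, h00, h01, h11]
    rfl
  have k00 : fx 0 R00.im = R00 := skew_diag _ (by
    rw [h00]; simp only [map_add, map_mul, map_neg, frob_frob, s0, s1]; ring)
  have k11 : fx 0 R11.im = R11 := skew_diag _ (by
    rw [h11]; simp only [map_add, map_mul, map_neg, frob_frob, s0, s1]; ring)
  have k10 : fx (-R01.re) R01.im = R10 := skew_off _ _ (by
    rw [h10, h01]; simp only [map_add, map_mul, map_neg, frob_frob, s0, s1]; ring)
  have e' : uBlock (act a b c d v) = !![1, 0, R00, R01; 0, 1, R10, R11; 0, 0, 1, 0; 0, 0, 0, 1] := by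
    rw [e, ← k10]
    conv_rhs => rw [← k00, ← k11]
    rfl
  rw [hM, e']
  ext i j
  fin_cases i <;> fin_cases j <;>
    simp [lBlock, Matrix.mul_apply, Fin.sum_univ_four, h00, h01, h10, h11]
  all_goals grind

end Cfsg.Agent.LargeFischer
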