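import Cfsg.Agent.LargeFischer.Idem
import Mathlib.GroupTheory.SpecificGroups.Alternating

/-! Exactly six weights occur, permuted by the alternating group. -/

set_option autoImplicit false
set_option maxRecDepth 20000
set_option Elab.async false

open Finset

namespace Cfsg.Agent.LargeFischer

open Cfsg.Agent.U33 (F9)

/-- The group `SL₂(9)`. -/
abbrev SL9 : Type := Matrix.SpecialLinearGroup (Fin 2) F9

theorem line_orbit : ∀ c ∈ Lines, 7 ≤ (Finset.univ.image fun jk : Fin 7 × Fin 7 =>
    nrm fun i : Fin 4 => fval (nrm fun l : Fin 4 => fval c (imgB jk.1 l)) (imgB jk.2 i)).card := by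
  decide +kernel

theorem nrm_facts : ∀ c : Vec, c ≠ 0 → nrm c ∈ Lines ∧ ∀ v : Vec, fval (nrm c) v = 0 ↔ fval c v = 0 := by
  decide +kernel

theorem imgB_single : ∀ (j : Fin 7) (i : Fin 4), actJ j (Pi.single i 1) = imgB j i := by decide +kernel

theorem fval_single : ∀ (c : Vec) (i : Fin 4), fval c (Pi.single i 1) = c i := by decide +kernel

/-- The data of the normalised group of order 243. -/
structure WData (Γ V : Type*) [Group Γ] [AddCommGroup V] where
  /-- the group of order 243 -/
  D : Act243 V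
  inj : Function.Injective D.del
  /-- the ambient action -/
  ρ : Γ →* AddMonoid.End V
  /-- lifts -/
  L : SL9 → Γ
  /-- the linear part -/
  T : SL9 → Vec → Vec
  /-- the shift -/
  φ : SL9 → Vec → ZMod 3
  conj : ∀ A v k, ρ (L A) * D.del (v, k) = D.del (T A v, k + φ A v) * ρ (L A)
  mulL : ∀ A B, ∃ k, ρ (L (A * B)) = D.del (0, k) * ρ (L A) * ρ (L B)
  gens : ∀ j, T (gen j) = actJ j
  card : Nat.card V = 2 ^ 12

namespace WData

variable {Γ V : Type*} [Group Γ] [AddCommGroup V] (W : WData Γ V)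
include W

/-- the action of a lift -/
def R (A : SL9) : AddMonoid.End V := W.ρ (W.L A)

theorem conjR (A : SL9) (v : Vec) (k : ZMod 3) :
    W.R A * W.D.del (v, k) = W.D.del (W.T A v, k + W.φ A v) * W.R A := W.conj A v k

theorem inv_R (A : SL9) : W.ρ (W.L A)⁻¹ * W.R A = 1 := by rw [R, ← map_mul, inv_mul_cancel, map_one]

theorem R_inv (A : SL9) : W.R A * W.ρ (W.L A)⁻¹ = 1 := by rw [R, ← map_mul, mul_inv_cancel, map_one]

theorem cancel_right {A : SL9} {f g : AddMonoid.End V} (h : f * W.R A = g * W.R A) : f = g := by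
  have := congrArg (fun y => y * W.ρ (W.L A)⁻¹) h
  simpa only [mul_assoc, W.R_inv, mul_one] using this

theorem cancel_left {A : SL9} {f g : AddMonoid.End V} (h : W.R A * f = W.R A * g) : f = g := by
  have := congrArg (fun y => W.ρ (W.L A)⁻¹ * y) h
  simpa only [← mul_assoc, W.inv_R, one_mul] using this

theorem T_add (A : SL9) (u v : Vec) :
    W.T A (u + v) = W.T A u + W.T A v ∧ W.φ A (u + v) = W.φ A u + W.φ A v := by
  have h : W.D.del (W.T A (u + v), 0 + W.φ A (u + v)) = W.D.del (W.T A u + W.T A v, W.φ A u + W.φ A v) := by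
    refine W.cancel_right (A := A) ?_
    rw [← W.conjR, show ((u + v, 0) : DVec) = (u, 0) + (v, 0) by simp, W.D.del_add, ← mul_assoc,
      W.conjR, mul_assoc, W.conjR, ← mul_assoc, ← W.D.del_add]
    simp
  have := W.inj h
  rw [Prod.mk.injEq, zero_add] at this
  exact this

/-- the linear part as a homomorphism -/
def Th (A : SL9) : Vec →+ Vec := AddMonoidHom.mk' (W.T A) fun u v => (W.T_add A u v).1

/-- the shift as a homomorphism -/
def φh (A : SL9) : Vec →+ ZMod 3 := AddMonoidHom.mk' (W.φ A) fun u v => (W.T_add A u v).2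

theorem scalar_comm (A : SL9) (k : ZMod 3) : W.R A * W.D.del (0, k) = W.D.del (0, k) * W.R A := by
  rw [W.conjR, show W.T A 0 = 0 from map_zero (W.Th A), show W.φ A 0 = 0 from map_zero (W.φh A), add_zero]

theorem T_bij (A : SL9) : Function.Bijective (W.T A) := by
  refine ⟨(injective_iff_map_eq_zero (W.Th A)).2 fun v hv => ?_, ?_⟩
  · have hv' : W.T A v = 0 := hv
    have h : W.D.del (v, 0) = W.D.del (0, W.φ A v) := by
      refine W.cancel_left (A := A) ?_
      rw [W.conjR, hv', zero_add, W.scalar_comm]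
    exact (Prod.mk.injEq _ _ _ _ ▸ W.inj h).1
  · exact Finite.surjective_of_injective ((injective_iff_map_eq_zero (W.Th A)).2 fun v hv => by
      have hv' : W.T A v = 0 := hv
      have h : W.D.del (v, 0) = W.D.del (0, W.φ A v) := by
        refine W.cancel_left (A := A) ?_
        rw [W.conjR, hv', zero_add, W.scalar_comm]
      exact (Prod.mk.injEq _ _ _ _ ▸ W.inj h).1)

omit W in
theorem hom_fval (g : Vec →+ ZMod 3) (v : Vec) : fval (fun i => g (Pi.single i 1)) v = g v := by
  have hv : v = v 0 • Pi.single 0 1 + v 1 • Pi.single 1 1 + v 2 • Pi.single 2 1 +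
      v 3 • Pi.single 3 1 := by
    funext i
    fin_cases i <;> simp
  have hg : ∀ (a : ZMod 3) (w : Vec), g (a • w) = a • g w := fun a w =>
    map_smul (g.toZModLinearMap 3) a w
  conv_rhs => rw [hv]
  simp only [map_add, hg, fval, smul_eq_mul]
  ring

/-- action on the weights -/
def pull (A : SL9) (χ : Vec) : Vec := fun i => fval χ (W.T A (Pi.single i 1)) + W.φ A (Pi.single i 1)

theorem fval_pull (A : SL9) (χ v : Vec) : fval (W.pull A χ) v = fval χ (W.T A v) + W.φ A v :=
  hom_fval ((AddMonoidHom.mk' (fval χ) (fval_add χ)).comp (W.Th A) + W.φh A) v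

/-- action on the functionals -/
def pl (A : SL9) (c : Vec) : Vec := fun i => fval c (W.T A (Pi.single i 1))

theorem fval_pl (A : SL9) (c v : Vec) : fval (W.pl A c) v = fval c (W.T A v) :=
  hom_fval ((AddMonoidHom.mk' (fval c) (fval_add c)).comp (W.Th A)) v

theorem n_R (A : SL9) : W.D.n * W.R A = W.R A * W.D.n := by
  simp only [Act243.n, add_mul, mul_add, W.scalar_comm]

theorem e_R (A : SL9) : W.D.e * W.R A = W.R A * W.D.e := by
  simp only [Act243.e, add_mul, mul_add, W.scalar_comm]

theorem S_R (A : SL9) (χ : Vec) : W.D.S χ * W.R A = W.R A * W.D.S (W.pull A χ) := by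
  simp only [Act243.S, sum_mul, mul_sum]
  refine (Fintype.sum_equiv (Equiv.ofBijective _ (W.T_bij A)) _ _ fun v => ?_).symm
  rw [W.conjR, W.fval_pull]
  congr 3
  simp

theorem p_R (A : SL9) (χ : Vec) : W.D.p χ * W.R A = W.R A * W.D.p (W.pull A χ) := by
  rw [Act243.p, Act243.p, mul_assoc, W.S_R, ← mul_assoc, W.e_R, mul_assoc]

theorem q_R (A : SL9) (c : Vec) : W.D.q c * W.R A = W.R A * W.D.q (W.pl A c) := by
  have hU : (∑ v : Vec, if fval c v ≠ 0 then W.D.del (v, 0) else 0) * W.R A * W.D.n =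
      W.R A * (∑ v : Vec, if fval (W.pl A c) v ≠ 0 then W.D.del (v, 0) else 0) * W.D.n := by
    simp only [sum_mul, mul_sum]
    refine (Fintype.sum_equiv (Equiv.ofBijective _ (W.T_bij A)) _ _ fun v => ?_).symm
    simp only [Equiv.ofBijective_apply, W.fval_pl]
    split_ifs
    · rw [W.conjR, zero_add, mul_assoc, mul_assoc, ← W.n_R, ← mul_assoc, ← mul_assoc,
        show W.D.del (W.T A v, W.φ A v) = W.D.del (W.T A v, 0) * W.D.del (0, W.φ A v) by
          rw [← W.D.del_add]; simp,
        mul_assoc (W.D.del (W.T A v, 0)), ← W.D.n_comm, W.D.n_scalar, mul_assoc, W.n_R, ← mul_assoc]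
    · simp
  simp only [Act243.q, Act243.U, Finset.sum_filter] at hU ⊢
  calc W.D.n * (∑ v : Vec, if fval c v ≠ 0 then W.D.del (v, 0) else 0) * W.R A
      = (∑ v : Vec, if fval c v ≠ 0 then W.D.del (v, 0) else 0) * W.D.n * W.R A := by
        rw [← Finset.sum_filter, W.D.n_sum]
    _ = _ := by
      rw [mul_assoc, W.n_R, ← mul_assoc, hU, mul_assoc]
      congr 1
      rw [← Finset.sum_filter, W.D.n_sum]

theorem q_nrm {c : Vec} (hc : c ≠ 0) : W.D.q (nrm c) = W.D.q c := by
  rw [Act243.q, Act243.q, Act243.U, Act243.U]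
  congr 2
  ext v
  simp only [mem_filter, mem_univ, true_and, ne_eq, (nrm_facts c hc).2]

theorem pl_ne_zero (A : SL9) {c : Vec} (hc : c ≠ 0) : W.pl A c ≠ 0 := fun h => hc (funext fun i => by
  obtain ⟨v, hv⟩ := (W.T_bij A).2 (Pi.single i 1)
  have := W.fval_pl A c v
  rw [h, hv, fval_single] at this
  rw [← this]
  simp [fval])

variable [Finite V]

theorem q_zero {c : Vec} (hc : c ∈ Lines) : W.D.q c = 0 := by
  classical
  by_contra hne
  set s := Lines.filter fun d => W.D.q d ≠ 0 with hs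
  have hstep : ∀ d ∈ s, ∀ j, nrm (W.pl (gen j) d) ∈ s := by
    intro d hd j
    obtain ⟨hdL, hd0⟩ := mem_filter.1 hd
    have h0 := W.pl_ne_zero (gen j) (mem_filter.1 hdL).2.1
    refine mem_filter.2 ⟨(nrm_facts _ h0).1, ?_⟩
    rw [W.q_nrm h0]
    intro hq
    refine hd0 (W.cancel_right (A := gen j) ?_)
    rw [W.q_R, hq, mul_zero, zero_mul]
  have h7 : 7 ≤ s.card := by
    refine (line_orbit c hc).trans (card_le_card ?_)
    intro d hd
    obtain ⟨⟨j, k⟩, -, rfl⟩ := mem_image.1 hd
    have e : ∀ (j : Fin 7) (d : Vec), (fun l : Fin 4 => fval d (imgB j l)) = W.pl (gen j) d := fun j d =>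
      funext fun l => by rw [pl, W.gens, imgB_single]
    simp only [e]
    exact hstep _ (hstep c (mem_filter.2 ⟨hc, hne⟩) j) k
  have hle := card_ranges_le (fun d : s => W.D.q (d : Vec))
    (fun i j hij => by
      rw [W.D.q_q (mem_filter.1 i.2).1 (mem_filter.1 j.2).1, if_neg fun h => hij (Subtype.ext h)])
    (fun i => by rw [W.D.q_q (mem_filter.1 i.2).1 (mem_filter.1 i.2).1, if_pos rfl])
  have h4 : ∀ d : s, 4 ≤ Nat.card ↥(AddMonoidHom.range (W.D.q (d : Vec))) := by
    rintro ⟨d, hd⟩
    obtain ⟨hdL, hd0⟩ := mem_filter.1 hd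
    obtain ⟨u, hu⟩ : ∃ u, fval d u ≠ 0 := by
      by_contra h
      push Not at h
      exact (mem_filter.1 hdL).2.1 (funext fun i => by rw [← fval_single d i, h]; rfl)
    refine four_le_range W.D.two _ (W.D.del (u, 0)) (fun a => ⟨W.D.del (u, 0) a, ?_⟩) ?_ (fun a ha => ?_) hd0
    · show (W.D.q d * W.D.del (u, 0)) a = (W.D.del (u, 0) * W.D.q d) a
      rw [Act243.q, Act243.U, mul_assoc, sum_mul]
      simp only [W.D.comm _ (u, 0)]
      rw [← mul_sum, ← mul_assoc, W.D.n_comm, mul_assoc]
    · intro a b hab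
      have := congrArg (W.D.del (-u, 0)) hab
      change (W.D.del (-u, 0) * W.D.del (u, 0)) a = (W.D.del (-u, 0) * W.D.del (u, 0)) b at this
      rw [← W.D.del_add, show ((-u, 0) : DVec) + (u, 0) = 0 by simp, W.D.del_zero] at this
      exact this
    · have h := W.D.q_moves (mem_filter.1 hdL).2.1 hu a
      have h2 : W.D.del (u + u, 0) (W.D.q d a) = W.D.q d a := by
        rw [show ((u + u, 0) : DVec) = (u, 0) + (u, 0) by simp, W.D.del_add]
        show W.D.del (u, 0) (W.D.del (u, 0) (W.D.q d a)) = _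
        rw [ha, ha]
      rw [h2, ha, W.D.two, zero_add] at h
      exact h
  have hp := Finset.prod_le_prod' (s := (univ : Finset s)) fun d _ => h4 d
  rw [prod_const, card_univ, Fintype.card_coe] at hp
  have := (Nat.pow_le_pow_right (show 0 < 4 by norm_num) h7).trans (hp.trans hle)
  rw [W.card] at this
  norm_num at this

theorem one_eq : (1 : AddMonoid.End V) = (∑ χ : Vec, W.D.p χ) + W.D.N := by
  rw [W.D.one_sum, Finset.sum_eq_zero (fun c hc => W.q_zero hc), add_zero]

omit [Finite V] in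
theorem pull_mul (A B : SL9) (χ : Vec) : W.pull (A * B) χ = W.pull B (W.pull A χ) := by
  obtain ⟨k, hk⟩ := W.mulL A B
  funext i
  set v : Vec := Pi.single i 1 with hv
  have h : W.D.del (W.T (A * B) v, 0 + W.φ (A * B) v) =
      W.D.del (W.T A (W.T B v), W.φ B v + W.φ A (W.T B v)) := by
    refine W.cancel_right (A := A * B) ?_
    rw [← W.conjR]
    show W.ρ (W.L (A * B)) * _ = _
    rw [hk]
    calc W.D.del (0, k) * W.R A * W.R B * W.D.del (v, 0)
        = W.D.del (0, k) * (W.R A * W.D.del (W.T B v, 0 + W.φ B v)) * W.R B := by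
          rw [mul_assoc _ (W.R B), W.conjR]; simp only [mul_assoc]
      _ = W.D.del (0, k) * W.D.del (W.T A (W.T B v), W.φ B v + W.φ A (W.T B v)) * W.R A * W.R B := by
          rw [zero_add, W.conjR]; simp only [mul_assoc]
      _ = _ := by
          rw [W.D.comm]
          simp only [R, hk, mul_assoc]
  rw [zero_add] at h
  obtain ⟨h1, h2⟩ := Prod.mk.injEq _ _ _ _ ▸ W.inj h
  show fval χ (W.T (A * B) v) + W.φ (A * B) v = fval (W.pull A χ) (W.T B v) + W.φ B v
  rw [W.fval_pull, h1, h2]
  ring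

omit [Finite V] in
theorem pull_one (χ : Vec) : W.pull 1 χ = χ := by
  have hinj : Function.Injective (W.pull 1) := fun a b h => funext fun i => by
    obtain ⟨v, hv⟩ := (W.T_bij 1).2 (Pi.single i 1)
    have h1 := W.fval_pull 1 a v
    rw [h, W.fval_pull, add_left_inj, hv, fval_single, fval_single] at h1
    exact h1.symm
  apply hinj
  rw [← W.pull_mul, one_mul]

/-- weights that occur -/
def Supp : Set Vec := {χ | W.D.p χ ≠ 0}

omit [Finite V] in
theorem pull_mem (A : SL9) {χ : Vec} (h : χ ∈ W.Supp) : W.pull A χ ∈ W.Supp := fun h0 => h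
  (W.cancel_right (A := A) (by rw [W.p_R, h0, mul_zero, zero_mul]))

/-- the permutation action on the weights that occur -/
def suppHom : SL9 →* Equiv.Perm ↥W.Supp :=
  MonoidHom.mk' (fun A =>
    { toFun := fun χ => ⟨W.pull A⁻¹ χ, W.pull_mem _ χ.2⟩
      invFun := fun χ => ⟨W.pull A χ, W.pull_mem _ χ.2⟩
      left_inv := fun χ => Subtype.ext (by
        show W.pull A (W.pull A⁻¹ χ) = χ
        rw [← W.pull_mul, inv_mul_cancel, W.pull_one])
      right_inv := fun χ => Subtype.ext (by
        show W.pull A⁻¹ (W.pull A χ) = χ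
        rw [← W.pull_mul, mul_inv_cancel, W.pull_one]) }) fun A B =>
    Equiv.ext fun χ => Subtype.ext (by
      show W.pull (A * B)⁻¹ χ = W.pull A⁻¹ (W.pull B⁻¹ χ)
      rw [mul_inv_rev, W.pull_mul])

theorem four_le_p {χ : Vec} (h : χ ∈ W.Supp) : 4 ≤ Nat.card ↥(AddMonoidHom.range (W.D.p χ)) := by
  have hx3 : W.D.x * (W.D.x * W.D.x) = 1 := by
    simp only [Act243.x, ← W.D.del_add]
    exact W.D.del_zero
  refine four_le_range W.D.two _ W.D.x (fun a => ⟨W.D.x a, ?_⟩) ?_ (fun a ha => ?_) h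
  · show (W.D.p χ * W.D.x) a = (W.D.x * W.D.p χ) a
    rw [Act243.p, Act243.S, mul_assoc, sum_mul]
    simp only [Act243.x, W.D.comm _ ((0 : Vec), (1 : ZMod 3))]
    rw [← mul_sum, ← mul_assoc, W.D.e_comm, mul_assoc]
  · intro a b hab
    have e : ∀ a, (W.D.x * (W.D.x * W.D.x)) a = W.D.x (W.D.x (W.D.x a)) := fun _ => rfl
    have := congrArg (fun w => W.D.x (W.D.x w)) hab
    simp only [← e, hx3] at this
    exact this
  · have h0 := congrArg (fun f : AddMonoid.End V => f a) (W.D.n_p χ)
    simp only [Act243.n, add_mul, W.D.del00, one_mul] at h0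
    change W.D.p χ a + W.D.del (0, 1) (W.D.p χ a) + W.D.del (0, 2) (W.D.p χ a) = 0 at h0
    have ha' : W.D.del (0, 1) (W.D.p χ a) = W.D.p χ a := ha
    have h2 : W.D.del (0, 2) (W.D.p χ a) = W.D.p χ a := by
      rw [show ((0, 2) : DVec) = (0, 1) + (0, 1) from rfl, W.D.del_add]
      show W.D.del (0, 1) (W.D.del (0, 1) (W.D.p χ a)) = _
      rw [ha', ha']
    rw [ha', h2, W.D.two, zero_add] at h0
    exact h0

/-- Six weights. -/
theorem exists_six : ∃ χ : Fin 6 → Vec, Function.Injective χ ∧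
    (∀ i, Nat.card ↥(AddMonoidHom.range (W.D.p (χ i))) = 4) ∧
    (1 : AddMonoid.End V) = ∑ i, W.D.p (χ i) ∧ W.D.n = 0 ∧
    ∃ σ : SL9 →* Equiv.Perm (Fin 6), 360 ≤ Nat.card ↥σ.range ∧
      ∀ A i, W.pull A (χ (σ A i)) = χ i := by
  classical
  set S : Finset Vec := univ.filter fun χ => W.D.p χ ≠ 0 with hS
  have hSmem : ∀ χ, χ ∈ S ↔ χ ∈ W.Supp := fun χ => by simp [hS, Supp]
  have hsum : (1 : AddMonoid.End V) = (∑ χ ∈ S, W.D.p χ) + W.D.N := by
    rw [hS, Finset.sum_filter_ne_zero, W.one_eq]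
  have horth : ∀ a b : Vec, a ≠ b → W.D.p a * W.D.p b = 0 := fun a b h => by rw [W.D.p_p, if_neg h]
  have hidem : ∀ a : Vec, W.D.p a * W.D.p a = W.D.p a := fun a => by rw [W.D.p_p, if_pos rfl]
  have hprod : ∀ χ ∈ S, 4 ≤ Nat.card ↥(AddMonoidHom.range (W.D.p χ)) := fun χ h => W.four_le_p ((hSmem χ).1 h)
  have hbound := card_ranges_le (fun a : S => W.D.p (a : Vec))
    (fun i j h => horth _ _ fun e => h (Subtype.ext e)) fun i => hidem _
  rw [Finset.prod_coe_sort S fun χ => Nat.card ↥(AddMonoidHom.range (W.D.p χ)), W.card] at hbound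
  have h46 : S.card ≤ 6 := by
    have := (Finset.prod_le_prod' hprod).trans hbound
    rw [prod_const, show (2 : ℕ) ^ 12 = 4 ^ 6 from rfl] at this
    exact (Nat.pow_le_pow_iff_right (by norm_num)).1 this
  have hnt : W.suppHom ≠ 1 := by
    intro h1
    have hfix : ∀ A χ, χ ∈ S → W.pull A χ = χ := fun A χ h => by
      have := congrArg Subtype.val (DFunLike.congr_fun (DFunLike.congr_fun h1 A⁻¹) ⟨χ, (hSmem χ).1 h⟩)
      simpa [suppHom] using this
    have hone : ∀ a ∈ S, ∀ b ∈ S, a = b := by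
      intro a ha b hb
      by_contra hne
      have h7 := orbit_seven (a - b) (sub_ne_zero.2 hne)
      have himg : (Finset.univ.image fun j : Fin 7 => (fun i : Fin 4 => fval (a - b) (imgB j i))) ⊆ {a - b} := by
        intro c hc
        obtain ⟨j, -, rfl⟩ := mem_image.1 hc
        refine mem_singleton.2 (funext fun i => ?_)
        have ea := congrFun (hfix (gen j) a ha) i
        have eb := congrFun (hfix (gen j) b hb) i
        simp only [pull, W.gens, imgB_single] at ea eb
        rw [fval_sub, Pi.sub_apply, ← ea, ← eb]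
        ring
      have := card_le_card himg
      rw [card_singleton] at this
      omega
    obtain ⟨χ0, hχ0⟩ : ∃ χ0 : Vec, ∀ a ∈ S, a = χ0 := by
      rcases S.eq_empty_or_nonempty with h | ⟨a, ha⟩
      · exact ⟨0, fun a ha => absurd ha (h ▸ notMem_empty a)⟩
      · exact ⟨a, fun b hb => hone b hb a ha⟩
    have hu : ∀ u : Vec, W.D.del (u, -fval χ0 u) = 1 := by
      intro u
      conv_rhs => rw [hsum]
      conv_lhs => rw [← mul_one (W.D.del (u, -fval χ0 u)), hsum, mul_add, mul_sum]
      congr 1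
      · refine Finset.sum_congr rfl fun a ha => ?_
        rw [hχ0 a ha, W.D.del_p, neg_add_cancel, W.D.del00, one_mul]
      · rw [Act243.N, ← mul_assoc, ← W.D.n_comm, mul_assoc,
          show (u, -fval χ0 u) = ((0 : Vec), -fval χ0 u) + (u, 0) by simp, W.D.del_add, mul_assoc,
          ← mul_assoc W.D.n, W.D.n_scalar, mul_sum]
        congr 1
        refine Fintype.sum_equiv (Equiv.addLeft u) _ _ fun v => ?_
        rw [← W.D.del_add]; simp
    have h := W.inj ((hu (Pi.single 0 1)).trans W.D.del_zero.symm)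
    have h0 := congrFun (congrArg Prod.fst h) 0
    simp at h0
  have hSupp : Nat.card ↥W.Supp = S.card := by
    rw [← Nat.card_eq_finsetCard]
    exact Nat.card_congr (Equiv.subtypeEquivRight fun χ => (hSmem χ).symm)
  have h360 := sl_image W.suppHom hnt
  have h6 : S.card = 6 := by
    refine le_antisymm h46 ?_
    have := h360.trans (Subgroup.card_le_card_group _)
    rw [Nat.card_perm, hSupp] at this
    by_contra hlt
    have : (S.card).factorial ≤ Nat.factorial 5 := Nat.factorial_le (by omega)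
    rw [show Nat.factorial 5 = 120 from rfl] at this
    omega
  have hN : W.D.N = 0 := by
    by_contra hN
    have hNN : W.D.N * W.D.N = W.D.N := by
      rw [Act243.N, mul_sum, sum_mul, Finset.sum_congr rfl fun v _ => by
        rw [mul_assoc, mul_sum, Fintype.sum_equiv (Equiv.addLeft v) (fun w => W.D.del (v, 0) * (W.D.n * W.D.del (w, 0)))
          (fun w => W.D.n * W.D.del (w, 0)) fun w => by
            rw [← mul_assoc, ← W.D.n_comm, mul_assoc, ← W.D.del_add]; simp]]
      rw [← mul_sum, sum_const, card_univ, W.D.odd_nsmul (by decide), ← mul_sum, ← mul_assoc, W.D.n_n]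
    have hNp : ∀ a, W.D.N * W.D.p a = 0 ∧ W.D.p a * W.D.N = 0 := by
      intro a
      constructor
      · rw [Act243.N, W.D.n_sum, mul_assoc, W.D.n_p, mul_zero]
      · rw [Act243.p, Act243.N, W.D.e_S, mul_assoc, ← mul_assoc W.D.e, W.D.e_n, zero_mul, mul_zero]
    have h2 : 2 ≤ Nat.card ↥(AddMonoidHom.range W.D.N) := by
      obtain ⟨a, ha⟩ : ∃ a, W.D.N a ≠ 0 := by
        by_contra h; push Not at h; exact hN (AddMonoidHom.ext h)
      have : Nontrivial ↥(AddMonoidHom.range W.D.N) :=
        ⟨⟨⟨W.D.N a, a, rfl⟩, 0, fun e => ha (congrArg Subtype.val e)⟩⟩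
      exact Finite.one_lt_card
    have hb := card_ranges_le (fun o : Option S => o.elim W.D.N fun a => W.D.p (a : Vec)) (by
      rintro (_ | i) (_ | j) h
      · exact absurd rfl h
      · exact (hNp _).1
      · exact (hNp _).2
      · exact horth _ _ fun e => h (congrArg some (Subtype.ext e))) (by
      rintro (_ | i)
      · exact hNN
      · exact hidem _)
    rw [Fintype.prod_option, W.card] at hb
    simp only [Option.elim] at hb
    rw [Finset.prod_coe_sort S fun χ => Nat.card ↥(AddMonoidHom.range (W.D.p χ))] at hb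
    have h4 := Finset.prod_le_prod' hprod
    rw [prod_const, h6] at h4
    have := (Nat.mul_le_mul h2 h4).trans hb
    norm_num at this
  rw [hN, add_zero] at hsum
  let eS : Fin 6 ≃ ↥W.Supp := (Finite.equivFinOfCardEq (by rw [hSupp, h6])).symm
  refine ⟨fun i => (eS i : Vec), Subtype.val_injective.comp eS.injective, fun i => ?_, ?_, ?_,
    ((eS.symm.permCongrHom).toMonoidHom).comp W.suppHom, ?_, ?_⟩
  · have hall : ∀ χ ∈ S, Nat.card ↥(AddMonoidHom.range (W.D.p χ)) = 4 := by
      intro χ hχ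
      refine le_antisymm ?_ (hprod χ hχ)
      by_contra hlt
      have h := Finset.prod_lt_prod (s := S) (f := fun _ => 4)
        (g := fun χ => Nat.card ↥(AddMonoidHom.range (W.D.p χ))) (fun _ _ => by norm_num) hprod ⟨χ, hχ, by omega⟩
      rw [prod_const, h6] at h
      omega
    exact hall _ ((hSmem _).2 (eS i).2)
  · rw [hsum]
    symm
    refine Finset.sum_bij (fun i _ => (eS i : Vec)) (fun i _ => (hSmem _).2 (eS i).2)
      (fun _ _ _ _ h => eS.injective (Subtype.ext h)) (fun χ hχ => ⟨eS.symm ⟨χ, (hSmem χ).1 hχ⟩, mem_univ _, by simp⟩)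
      fun _ _ => rfl
  · rw [← mul_one W.D.n, hsum, mul_sum]
    exact Finset.sum_eq_zero fun a _ => W.D.n_p a
  · rw [MonoidHom.range_comp, Subgroup.card_map_of_injective (MulEquiv.injective _)]
    exact h360
  · intro A i
    simp [suppHom, Equiv.permCongr_apply]
    rw [← W.pull_mul, inv_mul_cancel, W.pull_one]

end WData

end Cfsg.Agent.LargeFischer
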